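import Mathlib
import Groth.Agent.FunFldLib.Place

/-! Degree over `k(y)`, independence over `k(y)`, valuation subrings are places. -/

set_option autoImplicit false

open WithZero IntermediateField Polynomial

namespace Groth.Agent.FunFldLib

open FunFld

variable {k K : Type*} [Field k] [Field K] [Algebra k K]

theorem finite_adjoin (hK : IsFF k K) {y : K} (hy : Transcendental k y) :
    FiniteDimensional (IntermediateField.adjoin k ({y} : Set K)) K := by
  obtain ⟨x, hx, hfin⟩ := hK
  haveI := hfin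
  haveI : Algebra.IsAlgebraic (Algebra.adjoin k ({x} : Set K)) K :=
    IntermediateField.isAlgebraic_adjoin_iff_top.1 (Algebra.IsAlgebraic.of_finite _ _)
  have h1 : Algebra.trdeg k K ≤ 1 := (Algebra.IsAlgebraic.trdeg_le_cardinalMk k ({x} : Set K)).trans (by simp)
  have hb : IsTranscendenceBasis k (fun _ : PUnit.{1} => y) :=
    AlgebraicIndependent.isTranscendenceBasis_of_lift_trdeg_le_of_finite
      (algebraicIndependent_unique_type_iff.2 hy) (by simpa using h1)
  have halg := hb.isAlgebraic_field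
  rw [Set.range_const] at halg
  haveI := halg
  haveI : Algebra.EssFiniteType k K := by
    haveI : Algebra.EssFiniteType k (IntermediateField.adjoin k ({x} : Set K)) :=
      IntermediateField.essFiniteType_iff.2 (IntermediateField.fg_def.2 ⟨{x}, Set.finite_singleton x, rfl⟩)
    exact Algebra.EssFiniteType.comp k (IntermediateField.adjoin k ({x} : Set K)) K
  haveI : Algebra.EssFiniteType (IntermediateField.adjoin k ({y} : Set K)) K :=
    Algebra.EssFiniteType.of_comp k _ K
  exact Algebra.finite_of_essFiniteType_of_isAlgebraic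

theorem val_aeval_le_one {Γ : Type*} [LinearOrderedCommGroupWithZero Γ] (v : Valuation K Γ)
    (hk : ∀ c : k, v (algebraMap k K c) ≤ 1) {y : K} (hy : v y ≤ 1) (f : k[X]) : v (aeval y f) ≤ 1 := by
  induction f using Polynomial.induction_on' with
  | add p q hp hq => rw [map_add]; exact Valuation.map_add_le _ hp hq
  | monomial n c => rw [aeval_monomial, map_mul, map_pow]; exact mul_le_one' (hk c) (pow_le_one₀ zero_le hy)

/-- If no `k`-combination of the `e i` is `y` times a `k[y]`-combination, they are independent over `k(y)`. -/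
theorem linearIndependent_adjoin {ι : Type*} {y : K} (hy : Transcendental k y) (e : ι → K)
    (H : ∀ (s : Finset ι) (c : ι → k) (f : ι → k[X]),
      ∑ i ∈ s, c i • e i = y * ∑ i ∈ s, aeval y (f i) * e i → ∀ i ∈ s, c i = 0) :
    LinearIndependent (IntermediateField.adjoin k ({y} : Set K)) e := by
  classical
  have hinj : Function.Injective (aeval (R := k) y) := transcendental_iff_injective.1 hy
  have hy0 : y ≠ 0 := fun h => hy (h ▸ isAlgebraic_zero)
  have main : ∀ (m : ℕ) (s : Finset ι) (g : ι → k[X]), (∑ i ∈ s, (g i).natDegree ≤ m) →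
      ∑ i ∈ s, aeval y (g i) * e i = 0 → ∀ i ∈ s, g i = 0 := by
    intro m
    induction m using Nat.strong_induction_on with
    | _ m ih =>
      intro s g hm hg
      have hsplit : ∀ i, aeval y (g i) = y * aeval y (g i).divX + algebraMap k K ((g i).coeff 0) := fun i => by
        have h := congrArg (aeval y) (X_mul_divX_add (g i)).symm
        rwa [map_add, map_mul, aeval_X, aeval_C] at h
      have hc : ∀ i ∈ s, (g i).coeff 0 = 0 := by
        refine H s (fun i => (g i).coeff 0) (fun i => -(g i).divX) ?_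
        rw [← sub_eq_zero, Finset.mul_sum, ← Finset.sum_sub_distrib]
        refine Eq.trans ?_ hg
        refine Finset.sum_congr rfl fun i _ => ?_
        rw [hsplit i, map_neg, Algebra.smul_def]; ring
      have hg' : ∑ i ∈ s, aeval y (g i).divX * e i = 0 := by
        refine (mul_eq_zero.1 ?_).resolve_left hy0
        rw [Finset.mul_sum, ← hg]
        refine Finset.sum_congr rfl fun i hi => ?_
        rw [hsplit i, hc i hi, map_zero]; ring
      by_cases hall : ∑ i ∈ s, (g i).natDegree = 0
      · intro i hi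
        rw [eq_C_of_natDegree_eq_zero (Finset.sum_eq_zero_iff.1 hall i hi), hc i hi, map_zero]
      · have hlt : ∑ i ∈ s, (g i).divX.natDegree < ∑ i ∈ s, (g i).natDegree := by
          obtain ⟨j, hj, hj'⟩ := Finset.exists_ne_zero_of_sum_ne_zero hall
          refine Finset.sum_lt_sum (fun i _ => ?_) ⟨j, hj, ?_⟩ <;> rw [natDegree_divX_eq_natDegree_tsub_one] <;> omega
        intro i hi
        have := ih _ (hlt.trans_le hm) s (fun i => (g i).divX) le_rfl hg' i hi
        rw [← X_mul_divX_add (g i), this, hc i hi]; simp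
  rw [linearIndependent_iff']
  intro s g hg i hi
  have hg' : ∀ i, ∃ p q : k[X], (g i : K) = aeval y p / aeval y q :=
    fun i => (IntermediateField.mem_adjoin_simple_iff k _).1 (g i).2
  choose p q hpq using hg'
  let q' : ι → k[X] := fun i => if aeval y (q i) = 0 then 1 else q i
  let p' : ι → k[X] := fun i => if aeval y (q i) = 0 then 0 else p i
  have hq' : ∀ i, aeval y (q' i) ≠ 0 := fun i => by simp only [q']; split_ifs with h <;> simp [h]
  have hpq' : ∀ i, (g i : K) * aeval y (q' i) = aeval y (p' i) := fun i => by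
    simp only [q', p', hpq i]; split_ifs with h
    · simp [h]
    · rw [div_mul_cancel₀ _ h]
  have hr : ∀ i ∈ s, aeval y (p' i * ∏ j ∈ s.erase i, q' j) = (g i : K) * ∏ j ∈ s, aeval y (q' j) := fun i hi => by
    rw [← Finset.mul_prod_erase s _ hi, ← mul_assoc, hpq', map_mul, map_prod]
  have := main _ s (fun i => p' i * ∏ j ∈ s.erase i, q' j) le_rfl (by
    have hg0 : ∑ i ∈ s, (g i : K) * e i = 0 := by simpa [IntermediateField.smul_def] using hg
    calc ∑ i ∈ s, aeval y (p' i * ∏ j ∈ s.erase i, q' j) * e i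
        = (∑ i ∈ s, (g i : K) * e i) * ∏ j ∈ s, aeval y (q' j) := by
          rw [Finset.sum_mul]; refine Finset.sum_congr rfl fun i hi => ?_
          rw [hr i hi]; ring
      _ = 0 := by rw [hg0, zero_mul]) i hi
  have h := hr i hi
  rw [this, map_zero, eq_comm, mul_eq_zero] at h
  exact Subtype.ext (h.resolve_right (Finset.prod_ne_zero_iff.2 fun j _ => hq' j))

theorem card_le_finrank {ι : Type*} [Fintype ι] (hK : IsFF k K) {y : K} (hy : Transcendental k y)
    (e : ι → K) (H : ∀ (s : Finset ι) (c : ι → k) (f : ι → k[X]),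
      ∑ i ∈ s, c i • e i = y * ∑ i ∈ s, aeval y (f i) * e i → ∀ i ∈ s, c i = 0) :
    Fintype.card ι ≤ Module.finrank (IntermediateField.adjoin k ({y} : Set K)) K :=
  haveI := finite_adjoin hK hy
  (linearIndependent_adjoin hy e H).fintype_card_le_finrank

/-- valuation rings of `K` containing `k`, other than `K`, are places -/
theorem exists_place (hK : IsFF k K) (V : ValuationSubring K)
    (hk : ∀ c : k, algebraMap k K c ∈ V) {y : K} (hy0 : y ≠ 0) (hy : y⁻¹ ∉ V) :
    ∃ P : Place k K, P.O = V := by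
  classical
  let v := V.valuation
  have hvk : ∀ c : k, v (algebraMap k K c) ≤ 1 := fun c => (V.valuation_le_one_iff _).2 (hk c)
  have hconst : ∀ c : k, c ≠ 0 → v (algebraMap k K c) = 1 := fun c hc =>
    le_antisymm (hvk c) ((inv_le_one₀ (zero_lt_iff.2 ((_root_.map_ne_zero v).2 ((_root_.map_ne_zero _).2 hc)))).1
      (by rw [← map_inv₀, ← map_inv₀]; exact hvk _))
  have hyv : v y < 1 := by
    refine not_le.1 fun h => hy ((V.valuation_le_one_iff _).1 ?_)
    rw [map_inv₀]; exact inv_le_one_of_one_le₀ h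
  have htr : ∀ z : K, z ≠ 0 → v z < 1 → Transcendental k z := fun z hz h halg => by
    exact h.ne (val_eq_one_of_isAlgebraic v hvk hz halg)
  have hbound : ∀ z : K, z ≠ 0 → v z < 1 → {γ : V.ValueGroup | v z ≤ γ ∧ γ < 1}.Finite := by
    intro z hz hz1
    by_contra hinf
    have hT := htr z hz hz1
    obtain ⟨T, hT1, hT2⟩ := Set.Infinite.exists_subset_card_eq hinf (Module.finrank (IntermediateField.adjoin k ({z} : Set K)) K + 1)
    choose e he using fun γ : T => V.valuation_surjective γ.1
    have := card_le_finrank hK hT e ?_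
    · simp [hT2] at this
    intro s c f hsum i hi
    by_contra hci
    obtain ⟨j, hj, hjmax⟩ := (s.filter (c · ≠ 0)).exists_max_image (fun γ : T => γ.1) ⟨i, by simp [hi, hci]⟩
    rw [Finset.mem_filter] at hj
    have hvs : v (∑ i ∈ s, c i • e i) = (j : V.ValueGroup) := by
      rw [Valuation.map_sum_eq_of_lt v hj.1, Algebra.smul_def, map_mul, hconst _ hj.2, one_mul, he]
      intro l hl
      rw [Finset.mem_sdiff, Finset.mem_singleton] at hl
      rw [Algebra.smul_def, map_mul, Algebra.smul_def, map_mul, hconst _ hj.2, one_mul, he, he]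
      rcases eq_or_ne (c l) 0 with h0 | h0
      · rw [h0, map_zero, map_zero, zero_mul]
        exact lt_of_lt_of_le (zero_lt_iff.2 ((_root_.map_ne_zero v).2 hz)) (hT1 j.2).1
      · rw [hconst _ h0, one_mul]
        exact lt_of_le_of_ne (hjmax l (Finset.mem_filter.2 ⟨hl.1, h0⟩)) fun h => hl.2 (Subtype.ext h)
    have hvr : v (z * ∑ i ∈ s, aeval z (f i) * e i) < v z := by
      rw [map_mul]
      refine mul_lt_of_lt_one_right (zero_lt_iff.2 ((_root_.map_ne_zero v).2 hz)) (Valuation.map_sum_lt _ one_ne_zero fun l _ => ?_)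
      rw [map_mul, he]
      exact mul_lt_one_of_nonneg_of_lt_one_right (val_aeval_le_one v hvk hz1.le (f l)) zero_le (hT1 l.2).2
    rw [← hsum, hvs] at hvr
    exact not_le.2 hvr (hT1 j.2).1
  obtain ⟨γ, ⟨hyγ, hγ1⟩, hγmax⟩ := Set.exists_max_image _ id (hbound y hy0 hyv) ⟨v y, le_rfl, hyv⟩
  simp only [id] at hγmax
  have hγ0 : 0 < γ := (zero_lt_iff.2 ((_root_.map_ne_zero v).2 hy0)).trans_le hyγ
  have hmax : ∀ z : K, v z < 1 → v z ≤ γ := fun z hz => by
    by_contra hlt
    exact hlt (hγmax _ ⟨hyγ.trans (not_le.1 hlt).le, hz⟩)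
  have hanti : StrictAnti fun n : ℤ => γ ^ n := zpow_right_strictAnti₀ hγ0 hγ1
  have hlt1 : ∀ z : K, z ≠ 0 → v z < 1 → ∃ n : ℤ, v z = γ ^ n := by
    intro z hz hz1
    obtain ⟨N, hN⟩ : ∃ N : ℕ, γ ^ N < v z := by
      by_contra! hall
      refine (hbound z hz hz1).not_infinite (Set.infinite_of_injective_forall_mem
        (f := fun N : ℕ => γ ^ (N + 1)) (fun a b h => ?_) fun N => ⟨hall _, pow_lt_one₀ hγ0.le hγ1 (by omega)⟩)
      have := (pow_right_strictAnti₀ hγ0 hγ1).injective h
      omega
    let M := Nat.find (p := fun N => γ ^ N < v z) ⟨N, hN⟩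
    have hM : γ ^ M < v z := Nat.find_spec (p := fun N => γ ^ N < v z) ⟨N, hN⟩
    obtain ⟨m, hm⟩ : ∃ m, M = m + 1 := by
      refine Nat.exists_eq_succ_of_ne_zero fun h0 => ?_
      rw [h0, pow_zero] at hM; exact lt_asymm hM hz1
    have hm' : v z ≤ γ ^ m := not_lt.1 (Nat.find_min (p := fun N => γ ^ N < v z) ⟨N, hN⟩ (show m < M by omega))
    obtain ⟨t, ht⟩ := V.valuation_surjective γ
    refine ⟨m, ?_⟩
    rw [zpow_natCast]
    refine le_antisymm hm' (not_lt.1 fun hlt => ?_)
    have h1 : v (z / t ^ m) < 1 := by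
      rw [map_div₀, map_pow, show v t = γ from ht, div_lt_one₀ (pow_pos hγ0 _)]; exact hlt
    have h2 := hmax _ h1
    rw [map_div₀, map_pow, show v t = γ from ht, div_le_iff₀ (pow_pos hγ0 _), ← pow_succ', ← hm] at h2
    exact not_lt.2 h2 hM
  have hall : ∀ z : K, z ≠ 0 → ∃ n : ℤ, v z = γ ^ n := by
    intro z hz
    rcases lt_trichotomy (v z) 1 with h | h | h
    · exact hlt1 z hz h
    · exact ⟨0, by rw [h, zpow_zero]⟩
    · obtain ⟨n, hn⟩ := hlt1 z⁻¹ (inv_ne_zero hz) (by rw [map_inv₀]; exact inv_lt_one_of_one_lt₀ h)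
      exact ⟨-n, by rw [zpow_neg, ← hn, map_inv₀, inv_inv]⟩
  choose! N hN using hall
  have hmul : ∀ z w : K, z ≠ 0 → w ≠ 0 → N (z * w) = N z + N w := fun z w hz hw => by
    apply hanti.injective
    simp only [zpow_add₀ hγ0.ne', ← hN _ hz, ← hN _ hw, ← hN _ (mul_ne_zero hz hw), map_mul]
  have hle : ∀ z w : K, z ≠ 0 → w ≠ 0 → (v z ≤ v w ↔ N w ≤ N z) := fun z w hz hw => by
    rw [hN z hz, hN w hw]; exact hanti.le_iff_ge
  let f : K → WithZero (Multiplicative ℤ) := fun z => if z = 0 then 0 else exp (-N z)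
  have hN1 : N 1 = 0 := by
    have := hmul 1 1 one_ne_zero one_ne_zero
    rw [mul_one] at this; omega
  have hfle : ∀ z w : K, v z ≤ v w → f z ≤ f w := by
    intro z w h
    rcases eq_or_ne z 0 with rfl | hz
    · simp [f]
    rcases eq_or_ne w 0 with rfl | hw
    · simp [hz] at h
    simp only [f, if_neg hz, if_neg hw, exp_le_exp, neg_le_neg_iff]
    exact (hle z w hz hw).1 h
  let val : Valuation K (WithZero (Multiplicative ℤ)) :=
    { toFun := f
      map_zero' := by simp [f]
      map_one' := by simp [f, hN1]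
      map_mul' := fun z w => by
        rcases eq_or_ne z 0 with rfl | hz
        · simp [f]
        rcases eq_or_ne w 0 with rfl | hw
        · simp [f]
        simp only [f, if_neg hz, if_neg hw, if_neg (mul_ne_zero hz hw), hmul z w hz hw, ← exp_add]
        rw [neg_add]
      map_add_le_max' := fun z w => by
        rcases le_max_iff.1 (v.map_add z w) with h | h
        · exact (hfle _ _ h).trans (le_max_left _ _)
        · exact (hfle _ _ h).trans (le_max_right _ _) }
  have hO : ∀ z : K, f z ≤ 1 ↔ v z ≤ 1 := by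
    intro z
    rcases eq_or_ne z 0 with rfl | hz
    · simp [f]
    have h := hle z 1 hz one_ne_zero
    rw [map_one, hN1] at h
    rw [h]; simp only [f, if_neg hz, ← exp_zero, exp_le_exp, neg_nonpos]
  obtain ⟨t, ht⟩ := V.valuation_surjective γ
  have ht0 : t ≠ 0 := fun h => hγ0.ne' (by rw [← ht, h, map_zero])
  have hNt : N t = 1 := hanti.injective (by simp only [← hN t ht0, zpow_one]; exact ht)
  refine ⟨⟨val, fun c => (hO _).2 (hvk c), fun u => ?_⟩, ?_⟩
  · rcases eq_or_ne u 0 with rfl | hu
    · exact ⟨0, map_zero val⟩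
    refine ⟨t ^ (-log u), ?_⟩
    have hz : t ^ (-log u) ≠ 0 := zpow_ne_zero _ ht0
    have : N (t ^ (-log u)) = -log u := by
      apply hanti.injective
      simp only [← hN _ hz, map_zpow₀, show v t = γ from ht]
    show f _ = u
    simp only [f, if_neg hz, this, neg_neg, exp_log hu]
  · ext z
    exact (hO z).trans (V.valuation_le_one_iff z)

/-- places exist where a given element has a zero -/
theorem exists_place_val_lt_one (hK : IsFF k K) {y : K} (hy : Transcendental k y) :
    ∃ P : Place k K, P.1 y < 1 := by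
  have hy0 : y ≠ 0 := fun h => hy (h ▸ isAlgebraic_zero)
  let A : Subring K := (aeval (R := k) y).toRingHom.range
  let I : Ideal A := Ideal.span {⟨y, X, aeval_X y⟩}
  obtain ⟨V, hAV, hIV⟩ := Ideal.image_subset_nonunits_valuationSubring I fun htop => by
    obtain ⟨⟨_, f, rfl⟩, h⟩ := Ideal.mem_span_singleton'.1 (htop ▸ Submodule.mem_top : (1 : A) ∈ I)
    have h1 : aeval y (f * X) = aeval y (1 : k[X]) := by simpa using congrArg Subtype.val h
    have := congrArg (coeff · 0) (transcendental_iff_injective.1 hy h1)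
    simp at this
  have hyn : y ∈ V.nonunits := hIV ⟨⟨y, X, aeval_X y⟩, Ideal.subset_span rfl, rfl⟩
  have hy' : y⁻¹ ∉ V := fun hyi => by
    have h1 : V.valuation y < 1 := (V.mem_nonunits_iff).1 hyn
    have h2 := (V.valuation_le_one_iff _).2 hyi
    rw [map_inv₀] at h2
    exact not_le.2 h1 ((inv_le_one₀ (zero_lt_iff.2 ((_root_.map_ne_zero _).2 hy0))).1 h2)
  obtain ⟨P, hP⟩ := exists_place hK V (fun c => hAV ⟨C c, aeval_C y c⟩) hy0 hy'
  refine ⟨P, not_le.1 fun h => hy' ?_⟩
  rw [← hP]
  show P.1 y⁻¹ ≤ 1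
  rw [map_inv₀]; exact inv_le_one_of_one_le₀ h

end Groth.Agent.FunFldLib
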