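import Mathlib

/-! Relative quotients of submodules. -/

set_option autoImplicit false

namespace Groth.Agent.FunFldLib

variable {k M N : Type*} [Field k] [AddCommGroup M] [Module k M] [AddCommGroup N] [Module k N]

/-- `B / (A ⊓ B)` -/
abbrev RQ (A B : Submodule k M) : Type _ := B ⧸ A.submoduleOf B

/-- its dimension -/
noncomputable abbrev rd (A B : Submodule k M) : ℕ := Module.finrank k (RQ A B)

theorem rq_equiv_of_ker (A B : Submodule k M) (φ : B →ₗ[k] N) (hker : ∀ z : B, φ z = 0 ↔ (z : M) ∈ A)
    (hs : Function.Surjective φ) : Nonempty (RQ A B ≃ₗ[k] N) := by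
  have : A.submoduleOf B = LinearMap.ker φ := Submodule.ext fun z => (hker z).symm
  exact ⟨(Submodule.quotEquivOfEq _ _ this).trans (φ.quotKerEquivOfSurjective hs)⟩

theorem rd_trans {A B C : Submodule k M} (hAB : A ≤ B) (hBC : B ≤ C)
    (h1 : FiniteDimensional k (RQ A B)) (h2 : FiniteDimensional k (RQ B C)) :
    FiniteDimensional k (RQ A C) ∧ rd A C = rd A B + rd B C := by
  let f : RQ A B →ₗ[k] RQ A C := Submodule.mapQ _ _ (Submodule.inclusion hBC) (fun z hz => hz)
  let g : RQ A C →ₗ[k] RQ B C := Submodule.mapQ _ _ LinearMap.id (fun z hz => hAB hz)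
  have hf : Function.Injective f := by
    rw [injective_iff_map_eq_zero]
    intro z
    obtain ⟨z, rfl⟩ := Submodule.Quotient.mk_surjective _ z
    intro h
    have h' : (Submodule.Quotient.mk (Submodule.inclusion hBC z) : RQ A C) = 0 := h
    exact (Submodule.Quotient.mk_eq_zero _).2 ((Submodule.Quotient.mk_eq_zero (A.submoduleOf C)).1 h' :)
  have hg : Function.Surjective g := fun z => by
    obtain ⟨z, rfl⟩ := Submodule.Quotient.mk_surjective _ z
    exact ⟨Submodule.Quotient.mk z, rfl⟩
  have hex : Function.Exact f g := by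
    intro z
    obtain ⟨z, rfl⟩ := Submodule.Quotient.mk_surjective _ z
    constructor
    · intro h
      have h' : (Submodule.Quotient.mk z : RQ B C) = 0 := h
      exact ⟨Submodule.Quotient.mk ⟨(z : M), ((Submodule.Quotient.mk_eq_zero (B.submoduleOf C)).1 h' :)⟩, rfl⟩
    · rintro ⟨w, hw⟩
      obtain ⟨w, rfl⟩ := Submodule.Quotient.mk_surjective _ w
      rw [← hw]
      exact (Submodule.Quotient.mk_eq_zero _).2 w.2
  haveI : FiniteDimensional k (LinearMap.range f) := inferInstance
  haveI : Module.Finite k (RQ A C) := by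
    refine Module.finite_def.2 (Submodule.fg_of_fg_map_of_fg_inf_ker g ?_ ?_)
    · exact Module.Finite.iff_fg.1 inferInstance
    · rw [top_inf_eq, hex.linearMap_ker_eq]; exact Module.Finite.iff_fg.1 inferInstance
  refine ⟨this, ?_⟩
  show Module.finrank k _ = _
  rw [← LinearMap.finrank_range_add_finrank_ker g, LinearMap.range_eq_top.2 hg, finrank_top, hex.linearMap_ker_eq,
    LinearMap.finrank_range_of_inj hf, add_comm]

theorem rd_self (A : Submodule k M) : FiniteDimensional k (RQ A A) ∧ rd A A = 0 := by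
  haveI : Subsingleton (RQ A A) := Submodule.Quotient.subsingleton_iff.2 (Submodule.eq_top_iff'.2 fun z => z.2)
  exact ⟨Module.Finite.of_finite, Module.finrank_zero_of_subsingleton⟩

/-- comap along a linear map gives an injection of relative quotients -/
theorem rd_comap_le (φ : N →ₗ[k] M) (A B : Submodule k M) (h : FiniteDimensional k (RQ A B)) :
    FiniteDimensional k (RQ (A.comap φ) (B.comap φ)) ∧ rd (A.comap φ) (B.comap φ) ≤ rd A B := by
  let f : RQ (A.comap φ) (B.comap φ) →ₗ[k] RQ A B :=
    Submodule.mapQ _ _ (φ.restrict (p := B.comap φ) (q := B) fun z hz => hz) (fun z hz => hz)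
  have hf : Function.Injective f := by
    rw [injective_iff_map_eq_zero]
    intro z
    obtain ⟨z, rfl⟩ := Submodule.Quotient.mk_surjective _ z
    intro h
    have h' : (Submodule.Quotient.mk (φ.restrict (p := B.comap φ) (q := B) (fun z hz => hz) z) : RQ A B) = 0 := h
    exact (Submodule.Quotient.mk_eq_zero _).2 ((Submodule.Quotient.mk_eq_zero (A.submoduleOf B)).1 h' :)
  haveI := FiniteDimensional.of_injective f hf
  exact ⟨this, LinearMap.finrank_le_finrank_of_injective hf⟩

theorem finrank_eq_add_rd {A B : Submodule k M} (hAB : A ≤ B) (h1 : FiniteDimensional k A)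
    (h2 : FiniteDimensional k (RQ A B)) :
    FiniteDimensional k B ∧ Module.finrank k B = Module.finrank k A + rd A B := by
  haveI : FiniteDimensional k (A.submoduleOf B) := (Submodule.submoduleOfEquivOfLe hAB).symm.finiteDimensional
  haveI : FiniteDimensional k B := Module.Finite.of_submodule_quotient (A.submoduleOf B)
  refine ⟨this, ?_⟩
  show _ = _ + Module.finrank k (B ⧸ A.submoduleOf B)
  rw [← Submodule.finrank_quotient_add_finrank (A.submoduleOf B),
    (Submodule.submoduleOfEquivOfLe hAB).finrank_eq, add_comm]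

/-- coordinates on a finite product of relative quotients -/
theorem exists_coord {ι : Type*} [Fintype ι] (A B : ι → Submodule k M) (hfin : ∀ i, FiniteDimensional k (RQ (A i) (B i)))
    (C : Submodule k N) (f : ι → (C →ₗ[k] M)) (hf : ∀ i z, f i z ∈ B i)
    (happ : ∀ b : ι → M, (∀ i, b i ∈ B i) → ∃ z : C, ∀ i, f i z - b i ∈ A i) :
    ∃ Ψ : C →ₗ[k] (Fin (∑ i, rd (A i) (B i)) → k), Function.Surjective Ψ ∧ ∀ z, Ψ z = 0 ↔ ∀ i, f i z ∈ A i := by
  let Φ : C →ₗ[k] ((i : ι) → RQ (A i) (B i)) :=
    LinearMap.pi fun i => (Submodule.mkQ _).comp ((f i).codRestrict (B i) (hf i))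
  have hn : Module.finrank k ((i : ι) → RQ (A i) (B i)) = ∑ i, rd (A i) (B i) := Module.finrank_pi_fintype k
  let e := (Module.finBasisOfFinrankEq k ((i : ι) → RQ (A i) (B i)) hn).equivFun
  refine ⟨e.toLinearMap.comp Φ, e.surjective.comp fun q => ?_, fun z => ?_⟩
  · choose b hb using fun i => Submodule.Quotient.mk_surjective _ (q i)
    obtain ⟨z, hz⟩ := happ (fun i => (b i : M)) fun i => (b i).2
    exact ⟨z, funext fun i => (hb i) ▸ (Submodule.Quotient.eq _).2 (hz i)⟩
  · rw [LinearMap.comp_apply, LinearEquiv.coe_toLinearMap, e.map_eq_zero_iff, funext_iff]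
    exact forall_congr' fun i => Submodule.Quotient.mk_eq_zero _

end Groth.Agent.FunFldLib
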