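import Mathlib
import Groth.Agent.FunFldLib.Finite
import Groth.Agent.FunFldLib.Quot

/-! Divisors of a function field: local quotients, degrees, `L(D)`, degree of principal divisors. -/

set_option autoImplicit false

open WithZero IsLocalRing Polynomial

namespace Groth.Agent.FunFldLib

open FunFld

variable {k K : Type*} [Field k] [Field K] [Algebra k K]

/-- `{z | v_P z ≤ exp n}` -/
def F (P : Place k K) (n : ℤ) : Submodule k K where
  carrier := {z | P.1 z ≤ exp n}
  add_mem' {a b} ha hb := show P.1 (a + b) ≤ exp n from Valuation.map_add_le _ ha hb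
  zero_mem' := by simp
  smul_mem' c a ha := show P.1 _ ≤ exp n from (val_smul_le P c a).trans ha

theorem mem_F {P : Place k K} {n : ℤ} {z : K} : z ∈ F P n ↔ P.1 z ≤ exp n := Iff.rfl

theorem F_mono (P : Place k K) {a b : ℤ} (h : a ≤ b) : F P a ≤ F P b :=
  fun _ hz => mem_F.2 (le_trans (mem_F.1 hz) (exp_le_exp.2 h))

theorem lt_exp_iff_le (P : Place k K) (z : K) (n : ℤ) : P.1 z < exp n ↔ P.1 z ≤ exp (n - 1) := by
  rcases eq_or_ne z 0 with rfl | hz
  · simp
  rw [val_lt_exp_iff P hz, val_le_exp_iff P hz]; omega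

theorem residue_smul (P : Place k K) (c : k) (z : P.O) : residue P.O (c • z) = c • residue P.O z := by
  rw [Algebra.smul_def, map_mul, Algebra.smul_def]; rfl

theorem exists_uniformizer (P : Place k K) : ∃ t : K, t ≠ 0 ∧ P.1 t < 1 ∧ P.ord t = 1 := by
  obtain ⟨t, ht, hP⟩ := exists_ord_eq P 1
  exact ⟨t, ht, (val_lt_one_iff P ht).2 (by omega), hP⟩

theorem finite_residue (hK : IsFF k K) (P : Place k K) :
    Module.Finite k (ResidueField P.O) := by
  classical
  obtain ⟨t, ht0, ht, -⟩ := exists_uniformizer P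
  have hT : Transcendental k t := transcendental_of_val_lt_one P ht0 ht.ne
  refine Module.rank_lt_aleph0_iff.1 (lt_of_le_of_lt (rank_le fun s hs => ?_) (Cardinal.natCast_lt_aleph0
    (n := Module.finrank (IntermediateField.adjoin k ({t} : Set K)) K)))
  choose e he using fun i : s => residue_surjective (i : ResidueField P.O)
  have := card_le_finrank hK hT (fun i : s => ((e i : P.O) : K)) fun s' c f h i hi => ?_
  · simpa using this
  have h1 : residue P.O (∑ i ∈ s', c i • e i) = 0 := by
    rw [residue_eq_zero_iff_val]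
    have : ((∑ i ∈ s', c i • e i : P.O) : K) = ∑ i ∈ s', c i • ((e i : P.O) : K) := by
      simp only [AddSubmonoidClass.coe_finsetSum, Algebra.smul_def]; rfl
    rw [this, h, map_mul]
    exact mul_lt_one_of_nonneg_of_lt_one_left zero_le ht (Valuation.map_sum_le _ fun j _ => by
      rw [map_mul]; exact mul_le_one' (val_aeval_le_one P.1 P.2.1 ht.le _) (e j).2)
  simp only [map_sum, residue_smul, he] at h1
  exact linearIndependent_iff'.1 hs s' c h1 i hi

theorem deg_pos (hK : IsFF k K) (P : Place k K) : 0 < P.deg :=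
  haveI := finite_residue hK P
  Module.finrank_pos

theorem rd_F_step (P : Place k K) (n : ℤ) :
    Nonempty (RQ (F P (n - 1)) (F P n) ≃ₗ[k] ResidueField P.O) := by
  obtain ⟨u, hu0, hu⟩ := exists_val_eq P n
  have hmem : ∀ z : F P n, P.1 ((z : K) / u) ≤ 1 := fun z => by
    rw [map_div₀, hu, div_le_one₀ (zero_lt_iff.2 exp_ne_zero)]; exact mem_F.1 z.2
  let φ : F P n →ₗ[k] ResidueField P.O :=
    { toFun := fun z => residue P.O ⟨(z : K) / u, hmem z⟩
      map_add' := fun a b => by
        rw [← map_add]; congr 1; exact Subtype.ext (add_div (a : K) b u)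
      map_smul' := fun c a => by
        rw [RingHom.id_apply]
        have h : (⟨((c • a : F P n) : K) / u, hmem _⟩ : P.O) = c • ⟨(a : K) / u, hmem a⟩ :=
          Subtype.ext (smul_div_assoc c (a : K) u |>.trans (Algebra.smul_def _ _))
        exact (congrArg (residue P.O) h).trans (residue_smul P c _) }
  refine rq_equiv_of_ker _ _ φ (fun z => ?_) (fun r => ?_)
  · show residue P.O _ = 0 ↔ _
    rw [residue_eq_zero_iff_val, mem_F, ← lt_exp_iff_le]
    show P.1 ((z : K) / u) < 1 ↔ _
    rw [map_div₀, hu, div_lt_one₀ (zero_lt_iff.2 exp_ne_zero)]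
  · obtain ⟨⟨y, hy⟩, rfl⟩ := residue_surjective r
    refine ⟨⟨y * u, ?_⟩, ?_⟩
    · rw [mem_F, map_mul, hu]; exact mul_le_of_le_one_left' hy
    · show residue P.O _ = _
      congr 1; exact Subtype.ext (mul_div_cancel_right₀ y hu0)

theorem rd_F (hK : IsFF k K) (P : Place k K) (n : ℤ) (e : ℕ) :
    FiniteDimensional k (RQ (F P (n - e)) (F P n)) ∧ rd (F P (n - e)) (F P n) = e * P.deg := by
  induction e with
  | zero => rw [Nat.cast_zero, sub_zero, zero_mul]; exact rd_self _
  | succ e ih =>
    obtain ⟨ψ⟩ := rd_F_step P (n - e)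
    haveI := finite_residue hK P
    haveI := ψ.symm.finiteDimensional
    have h := rd_trans (F_mono P (show (n - e : ℤ) - 1 ≤ n - e by omega)) (F_mono P (show n - e ≤ n by omega)) this ih.1
    rw [show n - ((e + 1 : ℕ) : ℤ) = n - e - 1 by push_cast; ring]
    refine ⟨h.1, ?_⟩
    rw [h.2, ih.2, show rd (F P (n - e - 1)) (F P (n - e)) = P.deg from ψ.finrank_eq]
    ring

theorem rd_F' (hK : IsFF k K) (P : Place k K) {a b : ℤ} (h : a ≤ b) :
    FiniteDimensional k (RQ (F P a) (F P b)) ∧ (rd (F P a) (F P b) : ℤ) = (b - a) * P.deg := by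
  have := rd_F hK P b (b - a).toNat
  rw [Int.toNat_of_nonneg (by omega), sub_sub_cancel] at this
  refine ⟨this.1, ?_⟩
  rw [this.2, Nat.cast_mul, Int.toNat_of_nonneg (by omega)]

theorem finrank_le_of_surjective (hK : IsFF k K) {x : K} (hx : Transcendental k x) (I : Submodule k K)
    (hI : ∀ (f : k[X]), ∀ e ∈ I, aeval x f * e ∈ I) {V : Type*} [AddCommGroup V] [Module k V] [FiniteDimensional k V]
    (Ψ : I →ₗ[k] V) (hs : Function.Surjective Ψ) (H : ∀ z : I, ∀ w ∈ I, (z : K) = x * w → Ψ z = 0) :
    Module.finrank k V ≤ Module.finrank (IntermediateField.adjoin k ({x} : Set K)) K := by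
  let b := Module.finBasis k V
  choose e he using fun i => hs (b i)
  have hcard := card_le_finrank hK hx (fun i => (e i : K)) fun s c f h i hi => by
    refine linearIndependent_iff'.1 b.linearIndependent s c ?_ i hi
    calc ∑ i ∈ s, c i • b i = Ψ (∑ i ∈ s, c i • e i) := by simp only [map_sum, map_smul, he]
      _ = 0 := by
        refine H _ (∑ i ∈ s, aeval x (f i) * (e i : K)) (I.sum_mem fun i _ => hI (f i) _ (e i).2) ?_
        rw [Submodule.coe_sum]; exact h
  rwa [Fintype.card_fin] at hcard

set_option maxHeartbeats 1000000 in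
/-- zeros of `x` with multiplicity number at most the degree -/
theorem sum_ord_le (hK : IsFF k K) {x : K} (hx : Transcendental k x) (S : Finset (Place k K))
    (hS : ∀ P ∈ S, 0 < P.ord x) :
    ∑ P ∈ S, P.ord x * P.deg ≤ (Module.finrank (IntermediateField.adjoin k ({x} : Set K)) K : ℤ) := by
  classical
  have hx0 : x ≠ 0 := fun h => hx (h ▸ isAlgebraic_zero)
  let I : Submodule k K := ⨅ P ∈ S, F P 0
  have hI : ∀ P : S, I ≤ F P.1 0 := fun P => iInf₂_le P.1 P.2
  obtain ⟨Ψ, hΨ, hker⟩ := exists_coord (fun P : S => F P.1 (0 - (P.1.ord x).toNat)) (fun P : S => F P.1 0)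
    (fun P => (rd_F hK P.1 0 _).1) I (fun _ => I.subtype) (fun P z => hI P z.2) fun a ha => by
      obtain ⟨z, hz⟩ := exists_approx S (fun P => if h : P ∈ S then a ⟨P, h⟩ else 0) (fun P => -((P.ord x).toNat : ℤ))
      have hzI : z ∈ I := by
        simp only [I, Submodule.mem_iInf]
        intro P hP
        have h1 := hz P hP
        rw [dif_pos hP] at h1
        have h2 : P.1 (z - a ⟨P, hP⟩) ≤ exp 0 := h1.trans (exp_le_exp.2 (by omega))
        have h3 := Valuation.map_add_le P.1 h2 (mem_F.1 (ha ⟨P, hP⟩))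
        rw [sub_add_cancel] at h3
        exact mem_F.2 h3
      refine ⟨⟨z, hzI⟩, fun P => ?_⟩
      have h1 := hz P.1 P.2
      rw [dif_pos P.2] at h1
      show z - a P ∈ F P.1 _
      rw [mem_F, zero_sub]; exact h1
  have hxle : ∀ P : S, P.1.1 x ≤ exp (-((P.1.ord x).toNat : ℤ)) := fun P => by
    rw [val_le_exp_iff _ hx0]; have := hS P.1 P.2; omega
  have hcard := finrank_le_of_surjective hK hx I (fun f e he => by
      simp only [I, Submodule.mem_iInf] at he ⊢
      intro P hP
      rw [mem_F, exp_zero, map_mul]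
      exact mul_le_one' (val_aeval_le_one P.1 P.2.1 ((val_le_one_iff P hx0).2 (hS P hP).le) f)
        (by simpa [mem_F] using he P hP)) Ψ hΨ
    fun z w hw h => (hker z).2 fun P => by
      show (z : K) ∈ F P.1 _
      rw [h, mem_F, map_mul, zero_sub]
      refine (mul_le_of_le_one_right' ?_).trans (hxle P)
      have := hI P hw; rwa [mem_F, exp_zero] at this
  rw [Module.finrank_fin_fun] at hcard
  refine le_of_eq_of_le ?_ (Int.ofNat_le.2 hcard)
  rw [← Finset.sum_coe_sort, Nat.cast_sum]
  refine Finset.sum_congr rfl fun P _ => ?_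
  rw [(rd_F hK P.1 0 _).2, Nat.cast_mul, Int.toNat_of_nonneg (hS P.1 P.2).le]

theorem finite_zeros (hK : IsFF k K) (x : K) : {P : Place k K | 0 < P.ord x}.Finite := by
  by_cases hx : Transcendental k x
  · by_contra hinf
    obtain ⟨T, hT, hcard⟩ := Set.Infinite.exists_subset_card_eq hinf
      (Module.finrank (IntermediateField.adjoin k ({x} : Set K)) K + 1)
    have h := sum_ord_le hK hx T fun P hP => hT hP
    have h1 : (T.card : ℤ) ≤ ∑ P ∈ T, P.ord x * P.deg := by
      rw [Finset.card_eq_sum_ones, Nat.cast_sum]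
      refine Finset.sum_le_sum fun P hP => ?_
      have := deg_pos hK P
      have : 0 < P.ord x := hT hP
      push_cast
      nlinarith
    omega
  · simp [ord_eq_zero_of_isAlgebraic _ (not_not.1 hx)]

theorem finite_support_ord' (hK : IsFF k K) (x : K) :
    (Function.support fun P : Place k K => P.ord x).Finite := by
  refine ((finite_zeros hK x).union (finite_zeros hK x⁻¹)).subset fun P hP => ?_
  simp only [Function.mem_support] at hP
  simp only [Set.mem_union, Set.mem_ofPred_eq, ord_inv]
  omega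

theorem div_apply (hK : IsFF k K) (x : K) (P : Place k K) : div k x P = P.ord x := by
  rw [FunFld.div, dif_pos (finite_support_ord' hK x)]; rfl

theorem div_mul (hK : IsFF k K) {x y : K} (hx : x ≠ 0) (hy : y ≠ 0) :
    div k (x * y) = div k x + div k y :=
  Finsupp.ext fun P => by rw [Finsupp.add_apply, div_apply hK, div_apply hK, div_apply hK, ord_mul P hx hy]

theorem div_inv (hK : IsFF k K) (x : K) : div k x⁻¹ = -div k x :=
  Finsupp.ext fun P => by rw [Finsupp.neg_apply, div_apply hK, div_apply hK, ord_inv]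

theorem div_algebraMap (hK : IsFF k K) (c : k) : div k (algebraMap k K c) = 0 :=
  Finsupp.ext fun P => by rw [div_apply hK, ord_algebraMap]; rfl

theorem deg_add (D E : Divisor k K) : (D + E).deg = D.deg + E.deg :=
  Finsupp.sum_add_index' (fun _ => zero_mul _) fun _ _ _ => add_mul _ _ _

theorem deg_zero : (0 : Divisor k K).deg = 0 := rfl

theorem deg_neg (D : Divisor k K) : (-D).deg = -D.deg := by
  have := deg_add D (-D); rw [add_neg_cancel, deg_zero] at this; omega

theorem deg_sub (D E : Divisor k K) : (D - E).deg = D.deg - E.deg := by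
  rw [sub_eq_add_neg, deg_add, deg_neg, sub_eq_add_neg]

theorem deg_nsmul (n : ℕ) (D : Divisor k K) : (n • D).deg = n * D.deg := by
  induction n with
  | zero => simp [deg_zero]
  | succ n ih => rw [succ_nsmul, deg_add, ih]; push_cast; ring

theorem deg_single (P : Place k K) (n : ℤ) : Divisor.deg (Finsupp.single P n) = n * P.deg :=
  Finsupp.sum_single_index (zero_mul _)

theorem deg_eq_sum (D : Divisor k K) (S : Finset (Place k K)) (h : D.support ⊆ S) :
    D.deg = ∑ P ∈ S, D P * P.deg :=
  Finsupp.sum_of_support_subset _ h _ fun _ _ => zero_mul _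

theorem deg_nonneg {D : Divisor k K} (h : 0 ≤ D) : 0 ≤ D.deg :=
  Finset.sum_nonneg fun P _ => mul_nonneg (h P) (by positivity)

theorem deg_mono {D E : Divisor k K} (h : D ≤ E) : D.deg ≤ E.deg := by
  have := deg_nonneg (D := E - D) (fun P => by simpa using h P)
  rw [deg_sub] at this; omega

theorem eq_zero_of_deg_nonpos (hK : IsFF k K) {D : Divisor k K} (h : 0 ≤ D) (hd : D.deg ≤ 0) : D = 0 := by
  by_contra hne
  obtain ⟨P, hP⟩ := Finsupp.ne_iff.1 hne
  have h1 : Finsupp.single P (D P) ≤ D := fun Q => by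
    classical
    rw [Finsupp.single_apply]; split_ifs with hQ
    · rw [hQ]
    · exact h Q
  have h2 := deg_mono h1
  rw [deg_single] at h2
  have := deg_pos hK P
  have h3 : 0 ≤ D P := h P
  simp only [Finsupp.zero_apply] at hP
  have : 0 < D P * P.deg := by positivity
  omega

theorem AD_mono {D E : Divisor k K} (h : D ≤ E) : AD D ≤ AD E :=
  fun _ ha P => (ha P).trans (exp_le_exp.2 (h P))

theorem rd_AD (hK : IsFF k K) {D E : Divisor k K} (h : D ≤ E) :
    FiniteDimensional k (RQ (AD D) (AD E)) ∧ (rd (AD D) (AD E) : ℤ) = (E - D).deg := by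
  classical
  let S := (E - D).support
  obtain ⟨Ψ, hΨ, hker⟩ := exists_coord (fun P : S => F P.1 (D P.1)) (fun P : S => F P.1 (E P.1))
    (fun P => (rd_F' hK P.1 (h P.1)).1) (AD E) (fun P => (LinearMap.proj P.1).comp (AD E).subtype)
    (fun P a => mem_F.2 (a.2 P.1)) fun b hb => by
      refine ⟨⟨fun P => if h : P ∈ S then b ⟨P, h⟩ else 0, fun P => ?_⟩, fun P => ?_⟩
      · dsimp only; split_ifs with h
        · exact mem_F.1 (hb ⟨P, h⟩)
        · simp
      · show (if h : P.1 ∈ S then b ⟨P.1, h⟩ else 0) - b P ∈ F P.1 _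
        rw [dif_pos P.2, sub_self]; exact zero_mem _
  have hker' : ∀ a : AD E, Ψ a = 0 ↔ (a : Place k K → K) ∈ AD D := fun a => by
    rw [hker]
    refine ⟨fun ha P => ?_, fun ha P => mem_F.2 (ha P.1)⟩
    by_cases hP : P ∈ S
    · exact mem_F.1 (ha ⟨P, hP⟩)
    · rw [Finsupp.notMem_support_iff, Finsupp.sub_apply, sub_eq_zero] at hP
      rw [← hP]; exact a.2 P
  obtain ⟨ψ⟩ := rq_equiv_of_ker (AD D) (AD E) Ψ hker' hΨ
  haveI := ψ.symm.finiteDimensional
  refine ⟨this, ?_⟩
  rw [show rd (AD D) (AD E) = _ from ψ.finrank_eq, Module.finrank_fin_fun, Nat.cast_sum,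
    deg_eq_sum (E - D) S subset_rfl, ← Finset.sum_coe_sort S]
  exact Finset.sum_congr rfl fun P _ => (rd_F' hK P.1 (h P.1)).2

theorem L_eq_comap (D : Divisor k K) : L D = (AD D).comap (diag k K) := rfl

theorem mem_L_iff {D : Divisor k K} {x : K} (hx : x ≠ 0) : x ∈ L D ↔ ∀ P, -D P ≤ P.ord x :=
  forall_congr' fun P => val_le_exp_iff P hx (D P)

theorem L_mono {D E : Divisor k K} (h : D ≤ E) : L D ≤ L E := fun _ hx P => (hx P).trans (exp_le_exp.2 (h P))

theorem L_zero' (hK : IsFunctionField k K) :
    L (0 : Divisor k K) = LinearMap.range (Algebra.linearMap k K) := by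
  refine le_antisymm (fun x hx => ?_) (fun x hx P => ?_)
  · refine hK.2 x (not_not.1 fun hT => ?_)
    have hT' : Transcendental k x⁻¹ := fun h => hT (IsAlgebraic.inv_iff.1 h)
    obtain ⟨P, hP⟩ := exists_place_val_lt_one hK.1 hT'
    have h1 : P.1 x ≤ 1 := by simpa using hx P
    have hx0 : x ≠ 0 := fun h => hT (h ▸ isAlgebraic_zero)
    rw [map_inv₀] at hP
    exact not_le.2 hP (one_le_inv₀ (zero_lt_iff.2 (val_ne_zero P hx0)) |>.2 h1)
  · obtain ⟨c, rfl⟩ := hx
    simpa using P.2.1 c

theorem ell_zero (hK : IsFunctionField k K) : FiniteDimensional k (L (0 : Divisor k K)) ∧ ell (0 : Divisor k K) = 1 := by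
  rw [ell, L_zero' hK]
  refine ⟨inferInstance, ?_⟩
  rw [LinearMap.finrank_range_of_inj (algebraMap k K).injective, Module.finrank_self]

theorem isAlgebraic_of_mem_L_zero (hK : IsFF k K) {x : K} (hx : x ∈ L (0 : Divisor k K)) : IsAlgebraic k x := by
  refine not_not.1 fun hT => ?_
  obtain ⟨P, hP⟩ := exists_place_val_lt_one hK (y := x⁻¹) fun h => hT (IsAlgebraic.inv_iff.1 h)
  have h1 : P.1 x ≤ 1 := by simpa using hx P
  have hx0 : x ≠ 0 := fun h => hT (h ▸ isAlgebraic_zero)
  rw [map_inv₀] at hP
  exact not_le.2 hP (one_le_inv₀ (zero_lt_iff.2 (val_ne_zero P hx0)) |>.2 h1)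

/-- the field of constants is finite over `k` -/
theorem finite_L_zero (hK : IsFF k K) : FiniteDimensional k (L (0 : Divisor k K)) := by
  obtain ⟨y, hy, -⟩ := id hK
  obtain ⟨P, -⟩ := exists_place_val_lt_one hK hy
  haveI := finite_residue hK P
  have hle : ∀ z : L (0 : Divisor k K), (z : K) ∈ P.O := fun z => show P.1 (z : K) ≤ 1 by simpa using z.2 P
  let f : L (0 : Divisor k K) →ₗ[k] ResidueField P.O :=
    { toFun := fun z => residue P.O ⟨(z : K), hle z⟩
      map_add' := fun a b => by rw [← map_add]; rfl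
      map_smul' := fun c a => by
        rw [RingHom.id_apply]
        have h : (⟨((c • a : L (0 : Divisor k K)) : K), hle _⟩ : P.O) = c • ⟨(a : K), hle a⟩ :=
          Subtype.ext (Algebra.smul_def c (a : K))
        exact (congrArg (residue P.O) h).trans (residue_smul P c _) }
  refine Module.Finite.of_injective f ((injective_iff_map_eq_zero f).2 fun z hz => ?_)
  have h1 : P.1 (z : K) < 1 := (residue_eq_zero_iff_val P _).1 hz
  refine Subtype.ext (not_not.1 fun hne => ?_)
  exact h1.ne (val_eq_one_of_isAlgebraic P.1 P.2.1 hne (isAlgebraic_of_mem_L_zero hK z.2))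

theorem finite_L (hK : IsFF k K) (D : Divisor k K) : FiniteDimensional k (L D) := by
  classical
  let E : Divisor k K := D ⊔ 0
  have hE : (0 : Divisor k K) ≤ E := le_sup_right
  haveI : FiniteDimensional k (L E) := (finrank_eq_add_rd (L_mono hE) (finite_L_zero hK)
    (rd_comap_le (diag k K) _ _ (rd_AD hK hE).1).1).1
  exact Submodule.finiteDimensional_of_le (L_mono (le_sup_left : D ≤ E))

theorem ell_mono_le (hK : IsFF k K) {D E : Divisor k K} (h : D ≤ E) :
    ell D ≤ ell E ∧ (ell E : ℤ) - ell D ≤ E.deg - D.deg := by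
  haveI := finite_L hK E
  refine ⟨Submodule.finrank_mono (L_mono h), ?_⟩
  have hc := rd_comap_le (diag k K) _ _ (rd_AD hK h).1
  have := (finrank_eq_add_rd (L_mono h) (finite_L hK D) hc.1).2
  have h2 := (rd_AD hK h).2
  rw [deg_sub] at h2
  have h3 : rd (L D) (L E) ≤ rd (AD D) (AD E) := hc.2
  simp only [ell]; omega

theorem ell_le_deg_add_one (hK : IsFF k K) {D : Divisor k K} (h : 0 ≤ D) : (ell D : ℤ) ≤ D.deg + ell (0 : Divisor k K) := by
  have := (ell_mono_le hK h).2
  rw [deg_zero] at this; omega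

theorem linearIndependent_pow {x : K} (hx : Transcendental k x) (l : ℕ) :
    LinearIndependent k fun j : Fin l => (⟨x, IntermediateField.mem_adjoin_simple_self k x⟩ : IntermediateField.adjoin k ({x} : Set K)) ^ (j : ℕ) := by
  rw [Fintype.linearIndependent_iff]
  intro g hg j
  have h1 : aeval x (∑ j : Fin l, C (g j) * X ^ (j : ℕ)) = 0 := by
    have := congrArg Subtype.val hg
    simpa [Algebra.smul_def] using this
  have h2 := transcendental_iff_injective.1 hx (h1.trans (map_zero _).symm)
  have := congrArg (coeff · (j : ℕ)) h2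
  simpa [coeff_X_pow, Fin.val_inj] using this

/-- `k`-independent family `x^j b_i` inside `L(l A + C)` -/
theorem ell_lower (hK : IsFF k K) {x : K} (hx : Transcendental k x) :
    ∃ C : Divisor k K, 0 ≤ C ∧ ∀ (A : Divisor k K), (∀ P, -A P ≤ P.ord x) → 0 ≤ A → ∀ l : ℕ,
      (Module.finrank (IntermediateField.adjoin k ({x} : Set K)) K : ℤ) * (l + 1) ≤ ell (l • A + C) := by
  classical
  haveI := finite_adjoin hK hx
  let b := Module.finBasis (IntermediateField.adjoin k ({x} : Set K)) K
  refine ⟨∑ i, (-div k (b i)) ⊔ 0, Finset.sum_nonneg fun i _ => le_sup_right, fun A hA hA0 l => ?_⟩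
  have hli : LinearIndependent k (fun p : Fin (l+1) × Fin (Module.finrank (IntermediateField.adjoin k ({x} : Set K)) K) =>
      x ^ (p.1 : ℕ) * b p.2) := by
    have h := linearIndependent_smul (linearIndependent_pow hx (l + 1)) b.linearIndependent
    convert h using 2 with p
    simp [IntermediateField.smul_def]
  haveI := finite_L hK (l • A + ∑ i, (-div k (b i)) ⊔ 0)
  have hx0 : x ≠ 0 := fun h => hx (h ▸ isAlgebraic_zero)
  have hmem : ∀ p : Fin (l+1) × Fin (Module.finrank (IntermediateField.adjoin k ({x} : Set K)) K),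
      x ^ (p.1 : ℕ) * b p.2 ∈ L (l • A + ∑ i, (-div k (b i)) ⊔ 0) := by
    intro p
    rw [mem_L_iff (mul_ne_zero (pow_ne_zero _ hx0) (b.ne_zero _))]
    intro P
    rw [ord_mul P (pow_ne_zero _ hx0) (b.ne_zero _), ord_pow, Finsupp.add_apply, Finsupp.smul_apply,
      Finsupp.finsetSum_apply]
    have h1 : -P.ord (b p.2) ≤ ∑ i, ((-div k (b i)) ⊔ 0 : Divisor k K) P := by
      refine le_trans ?_ (Finset.single_le_sum (f := fun i => ((-div k (b i)) ⊔ 0 : Divisor k K) P)
        (fun i _ => by simp) (Finset.mem_univ p.2))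
      simp [div_apply hK]
    have h2 := hA P
    have h3 : 0 ≤ A P := hA0 P
    have h4 : ((p.1 : ℕ) : ℤ) ≤ l := by exact_mod_cast Nat.lt_succ_iff.1 p.1.2
    rw [nsmul_eq_mul]
    nlinarith
  have := (LinearIndependent.of_comp (L _).subtype (v := fun p => (⟨_, hmem p⟩ : L (l • A + ∑ i, (-div k (b i)) ⊔ 0))) hli).fintype_card_le_finrank
  rw [Fintype.card_prod, Fintype.card_fin, Fintype.card_fin, mul_comm] at this
  unfold ell; exact_mod_cast this

theorem deg_poles (hK : IsFF k K) {x : K} (hx : Transcendental k x) :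
    ((-div k x) ⊔ 0).deg = (Module.finrank (IntermediateField.adjoin k ({x} : Set K)) K : ℤ) := by
  classical
  have hx' : Transcendental k x⁻¹ := fun h => hx (IsAlgebraic.inv_iff.1 h)
  refine le_antisymm ?_ ?_
  · have h := sum_ord_le hK hx' ((finite_zeros hK x⁻¹).toFinset) fun P hP =>
      (show P ∈ {Q : Place k K | 0 < Q.ord x⁻¹} from (finite_zeros hK x⁻¹).mem_toFinset.1 hP)
    have hadj : IntermediateField.adjoin k ({x⁻¹} : Set K) = IntermediateField.adjoin k ({x} : Set K) := by
      apply le_antisymm <;> rw [IntermediateField.adjoin_simple_le_iff]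
      · exact inv_mem (IntermediateField.mem_adjoin_simple_self k x)
      · simpa using inv_mem (IntermediateField.mem_adjoin_simple_self k x⁻¹)
    rw [hadj] at h
    rw [deg_eq_sum _ (finite_zeros hK x⁻¹).toFinset]
    · refine le_trans (le_of_eq (Finset.sum_congr rfl fun P hP => ?_)) h
      have hpos : 0 < P.ord x⁻¹ :=
        (show P ∈ {Q : Place k K | 0 < Q.ord x⁻¹} from (finite_zeros hK x⁻¹).mem_toFinset.1 hP)
      rw [ord_inv] at hpos ⊢
      simp [div_apply hK, max_eq_left hpos.le]
    · intro P hP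
      rw [Finsupp.mem_support_iff] at hP
      rw [Set.Finite.mem_toFinset, Set.mem_ofPred_eq, ord_inv]
      by_contra hc
      rw [not_lt] at hc
      exact hP (by simp [div_apply hK, max_eq_right hc])
  · obtain ⟨C, hC, hCl⟩ := ell_lower hK hx
    set A := (-div k x) ⊔ 0 with hA
    have hA0 : 0 ≤ A := le_sup_right
    have key : ∀ l : ℕ, (Module.finrank (IntermediateField.adjoin k ({x} : Set K)) K : ℤ) * (l + 1) ≤ l * A.deg + C.deg + ell (0 : Divisor k K) := by
      intro l
      refine (hCl A (fun P => ?_) hA0 l).trans ?_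
      · simp [hA, div_apply hK]
        omega
      · have := ell_le_deg_add_one hK (D := l • A + C) (add_nonneg (nsmul_nonneg hA0 l) hC)
        rwa [deg_add, deg_nsmul] at this
    by_contra hlt
    rw [not_le] at hlt
    have := key (C.deg + ell (0 : Divisor k K)).toNat
    have h1 := Int.self_le_toNat (C.deg + ell (0 : Divisor k K))
    have h2 : ((C.deg + ell (0 : Divisor k K)).toNat : ℤ) * (A.deg + 1) ≤ ((C.deg + ell (0 : Divisor k K)).toNat : ℤ) * _ :=
      mul_le_mul_of_nonneg_left (Int.add_one_le_iff.2 hlt) (Int.natCast_nonneg _)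
    have h3 := deg_nonneg hA0
    nlinarith

theorem deg_div (hK : IsFF k K) (x : K) : (div k x).deg = 0 := by
  classical
  by_cases hx : Transcendental k x
  · have hx' : Transcendental k x⁻¹ := fun h => hx (IsAlgebraic.inv_iff.1 h)
    have h1 := deg_poles hK hx
    have h2 := deg_poles hK hx'
    have hadj : IntermediateField.adjoin k ({x⁻¹} : Set K) = IntermediateField.adjoin k ({x} : Set K) := by
      apply le_antisymm <;> rw [IntermediateField.adjoin_simple_le_iff]
      · exact inv_mem (IntermediateField.mem_adjoin_simple_self k x)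
      · simpa using inv_mem (IntermediateField.mem_adjoin_simple_self k x⁻¹)
    rw [hadj, div_inv hK, neg_neg] at h2
    have : div k x = (div k x ⊔ 0) - ((-div k x) ⊔ 0) := Finsupp.ext fun P => by
      simp only [Finsupp.sub_apply, Finsupp.sup_apply, Finsupp.neg_apply, Finsupp.zero_apply]
      omega
    rw [this, deg_sub, h1, h2, sub_self]
  · have : div k x = 0 := Finsupp.ext fun P => by
      rw [div_apply hK, ord_eq_zero_of_isAlgebraic P (not_not.1 hx)]; rfl
    rw [this, deg_zero]

end Groth.Agent.FunFldLib
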