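import Mathlib
import Groth.Agent.FunFldLib.Divisor

/-! Riemann inequality, index of speciality, Weil differentials, Riemann-Roch. -/

set_option autoImplicit false

open WithZero IntermediateField

namespace Groth.Agent.FunFldLib

open FunFld

variable {k K : Type*} [Field k] [Field K] [Algebra k K]

/-- `δ(D) = deg D + 1 - ℓ(D)` -/
noncomputable def delta (D : Divisor k K) : ℤ := D.deg + 1 - ell D

theorem delta_mono (hK : IsFunctionField k K) {D E : Divisor k K} (h : D ≤ E) : delta D ≤ delta E := by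
  have := (ell_mono_le hK.1 h).2
  simp only [delta]; omega

theorem mulRight_mem_L (hK : IsFunctionField k K) {z : K} (hz : z ≠ 0) (D : Divisor k K) {y : K} :
    y * z ∈ L D ↔ y ∈ L (D + div k z) := by
  refine forall_congr' fun P => ?_
  rw [map_mul, Finsupp.add_apply, div_apply hK.1, val_eq_exp P hz, exp_add]
  rw [← le_div_iff₀ (zero_lt_iff.2 exp_ne_zero), div_eq_mul_inv, ← exp_neg, neg_neg]

theorem ell_add_div (hK : IsFunctionField k K) {z : K} (hz : z ≠ 0) (D : Divisor k K) :
    ell (D + div k z) = ell D := by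
  let e : L (D + div k z) ≃ₗ[k] L D :=
    { toFun := fun y => ⟨(y : K) * z, (mulRight_mem_L hK hz D).2 y.2⟩
      invFun := fun y => ⟨(y : K) * z⁻¹, (mulRight_mem_L hK hz D).1 (by rw [inv_mul_cancel_right₀ hz]; exact y.2)⟩
      map_add' := fun a b => Subtype.ext (add_mul (a : K) b z)
      map_smul' := fun c a => Subtype.ext (smul_mul_assoc c (a : K) z)
      left_inv := fun y => Subtype.ext (mul_inv_cancel_right₀ hz _)
      right_inv := fun y => Subtype.ext (inv_mul_cancel_right₀ hz _) }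
  exact e.finrank_eq

theorem delta_add_div (hK : IsFunctionField k K) {z : K} (hz : z ≠ 0) (D : Divisor k K) :
    delta (D + div k z) = delta D := by
  simp only [delta, ell_add_div hK hz, deg_add, deg_div hK.1, add_zero]

theorem exists_le_add_div (hK : IsFunctionField k K) {D E : Divisor k K} (h : 1 ≤ ell (E - D)) :
    ∃ z : K, z ≠ 0 ∧ D ≤ E + div k z := by
  have hne : L (E - D) ≠ ⊥ := fun h0 => by rw [ell, h0, finrank_bot] at h; omega
  obtain ⟨z, hz, hz0⟩ := Submodule.exists_mem_ne_zero_of_ne_bot hne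
  refine ⟨z, hz0, fun P => ?_⟩
  have := (mem_L_iff hz0).1 hz P
  rw [Finsupp.sub_apply] at this
  rw [Finsupp.add_apply, div_apply hK.1]; omega

theorem exists_transcendental (hK : IsFunctionField k K) : ∃ x : K, Transcendental k x :=
  let ⟨x, hx, _⟩ := hK.1; ⟨x, hx⟩

theorem delta_bounded (hK : IsFunctionField k K) : ∃ γ : ℤ, ∀ D : Divisor k K, delta D ≤ γ := by
  classical
  obtain ⟨x, hx⟩ := exists_transcendental hK
  obtain ⟨C, hC, hCl⟩ := ell_lower hK.1 hx
  set A : Divisor k K := (-div k x) ⊔ 0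
  have hA0 : 0 ≤ A := le_sup_right
  have hAdeg := deg_poles hK.1 hx
  haveI := finite_adjoin hK.1 hx
  set n := Module.finrank (IntermediateField.adjoin k ({x} : Set K)) K
  have hn : 0 < n := Module.finrank_pos
  have hl : ∀ l : ℕ, (n : ℤ) * (l + 1) - C.deg ≤ ell (l • A) := by
    intro l
    have h1 := hCl A (fun P => by simp [A, div_apply hK.1]; omega) hA0 l
    have h2 := (ell_mono_le hK.1 (le_add_of_nonneg_right hC : l • A ≤ l • A + C)).2
    rw [deg_add] at h2
    omega
  refine ⟨C.deg + 1 - n, fun D => ?_⟩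
  set D' := D ⊔ 0
  set l := (C.deg + D'.deg).toNat + 1
  obtain ⟨z, hz, hle⟩ : ∃ z : K, z ≠ 0 ∧ D' ≤ l • A + div k z := by
    refine exists_le_add_div hK ?_
    have h2 := (ell_mono_le hK.1 (sub_le_self _ (le_sup_right : (0 : Divisor k K) ≤ D') : l • A - D' ≤ l • A)).2
    rw [deg_sub] at h2
    have h1 := hl l
    have h3 : (l : ℤ) ≤ n * l := le_mul_of_one_le_left (Int.natCast_nonneg _) (by omega)
    have h4 := Int.self_le_toNat (C.deg + D'.deg)
    rw [mul_add, mul_one] at h1
    omega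
  have h5 := (delta_mono hK (le_sup_left : D ≤ D')).trans ((delta_mono hK hle).trans (delta_add_div hK hz _).le)
  refine h5.trans ?_
  have h1 := hl l
  simp only [delta, deg_nsmul, A, hAdeg] at *
  rw [mul_add, mul_one, mul_comm] at h1
  omega

theorem bddAbove_genus (hK : IsFunctionField k K) :
    BddAbove (Set.range fun D : Divisor k K => (D.deg + 1 - (ell D : ℤ)).toNat) := by
  obtain ⟨γ, hγ⟩ := delta_bounded hK
  exact ⟨γ.toNat, by rintro _ ⟨D, rfl⟩; exact Int.toNat_le_toNat (hγ D)⟩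

theorem delta_le_genus (hK : IsFunctionField k K) (D : Divisor k K) : delta D ≤ genus k K := by
  have := le_csSup (bddAbove_genus hK) (Set.mem_range_self D)
  simp only [delta, genus] at *; omega

theorem exists_delta_eq_genus (hK : IsFunctionField k K) : ∃ D : Divisor k K, delta D = genus k K := by
  obtain ⟨D, hD⟩ := Nat.sSup_mem (Set.range_nonempty _) (bddAbove_genus hK)
  change (delta D).toNat = genus k K at hD
  by_cases h : 0 ≤ delta D
  · exact ⟨D, by omega⟩
  · refine ⟨0, ?_⟩
    simp only [delta, (ell_zero hK).2, deg_zero]; omega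

theorem exists_delta_large (hK : IsFunctionField k K) :
    ∃ N : ℤ, ∀ D : Divisor k K, N ≤ D.deg → delta D = genus k K := by
  obtain ⟨D₀, hD₀⟩ := exists_delta_eq_genus hK
  refine ⟨D₀.deg + genus k K, fun D hD => ?_⟩
  have h1 := delta_le_genus hK (D - D₀)
  simp only [delta, deg_sub] at h1
  obtain ⟨z, hz, hle⟩ := exists_le_add_div hK (D := D₀) (E := D) (by omega)
  refine le_antisymm (delta_le_genus hK D) ?_
  rw [← hD₀]
  exact (delta_mono hK hle).trans (delta_add_div hK hz D).le

theorem exists_effective_deg_ge (hK : IsFunctionField k K) (N : ℤ) : ∃ E : Divisor k K, 0 ≤ E ∧ N ≤ E.deg := by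
  obtain ⟨x, hx⟩ := exists_transcendental hK
  obtain ⟨P, -⟩ := exists_place_val_lt_one hK.1 hx
  refine ⟨Finsupp.single P (N.toNat : ℤ), Finsupp.single_nonneg.2 (Int.natCast_nonneg _), ?_⟩
  rw [deg_single]
  have := deg_pos hK.1 P
  nlinarith [Int.self_le_toNat N]

/-- the diagonal subspace -/
abbrev KK : Submodule k (Place k K → K) := LinearMap.range (diag k K)

theorem rd_ADsup (hK : IsFunctionField k K) {D E : Divisor k K} (h : D ≤ E) :
    FiniteDimensional k (RQ (AD D ⊔ KK) (AD E ⊔ KK)) ∧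
      (rd (AD D ⊔ KK) (AD E ⊔ KK) : ℤ) = delta E - delta D := by
  classical
  haveI := (rd_AD hK.1 h).1
  haveI := finite_L hK.1 E
  let ι' : RQ (AD D) (AD E) →ₗ[k] RQ (AD D ⊔ KK) (AD E ⊔ KK) :=
    Submodule.mapQ _ _ (Submodule.inclusion le_sup_left) (fun z hz => Submodule.mem_sup_left (T := KK) hz)
  have hι : Function.Surjective ι' := by
    intro q
    obtain ⟨⟨a, ha⟩, rfl⟩ := Submodule.Quotient.mk_surjective _ q
    obtain ⟨b, hb, c, hc, rfl⟩ := Submodule.mem_sup.1 ha
    refine ⟨Submodule.Quotient.mk ⟨b, hb⟩, ?_⟩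
    show Submodule.Quotient.mk _ = Submodule.Quotient.mk _
    refine (Submodule.Quotient.eq _).2 ?_
    show b - (b + c) ∈ AD D ⊔ KK
    rw [sub_add_cancel_left]
    exact Submodule.neg_mem _ (Submodule.mem_sup_right hc)
  let g : L E →ₗ[k] RQ (AD D) (AD E) := (Submodule.mkQ _).comp ((diag k K).restrict fun x hx => hx)
  have hg : LinearMap.ker g = (L D).submoduleOf (L E) := Submodule.ext fun z => Submodule.Quotient.mk_eq_zero _
  have hr : LinearMap.range g = LinearMap.ker ι' := by
    refine le_antisymm ?_ fun q hq => ?_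
    · rintro _ ⟨z, rfl⟩
      refine LinearMap.mem_ker.2 ((Submodule.Quotient.mk_eq_zero _).2 (Submodule.mem_sup_right ?_ : _ ∈ AD D ⊔ KK))
      exact LinearMap.mem_range_self (diag k K) (z : K)
    · obtain ⟨⟨a, ha⟩, rfl⟩ := Submodule.Quotient.mk_surjective _ q
      have h0 : a ∈ AD D ⊔ KK := ((Submodule.Quotient.mk_eq_zero _).1 (LinearMap.mem_ker.1 hq) :)
      obtain ⟨b, hb, c, ⟨x, rfl⟩, rfl⟩ := Submodule.mem_sup.1 h0
      have hx : x ∈ L E := by
        have := (AD E).sub_mem ha (AD_mono h hb)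
        rwa [add_sub_cancel_left] at this
      refine ⟨⟨x, hx⟩, (Submodule.Quotient.eq _).2 ?_⟩
      show diag k K x - (b + diag k K x) ∈ AD D
      rw [sub_add_cancel_right]; exact (AD D).neg_mem hb
  haveI := Module.Finite.of_surjective ι' hι
  refine ⟨this, ?_⟩
  have h1 := LinearMap.finrank_range_add_finrank_ker ι'
  rw [LinearMap.range_eq_top.2 hι, finrank_top, ← hr] at h1
  have h2 := LinearMap.finrank_range_add_finrank_ker g
  rw [hg, (Submodule.submoduleOfEquivOfLe (L_mono h)).finrank_eq] at h2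
  have h3 := (rd_AD hK.1 h).2
  rw [deg_sub] at h3
  simp only [delta, ell] at h2 ⊢
  change Module.finrank k (RQ (AD D ⊔ KK) (AD E ⊔ KK)) + _ = _ at h1
  simp only [rd] at h3 ⊢
  omega

theorem diag_mem_adele (hK : IsFunctionField k K) (x : K) : diag k K x ∈ adele k K := by
  show ∀ᶠ P : Place k K in Filter.cofinite, P.1 x ≤ 1
  rw [Filter.eventually_cofinite]
  refine (finite_zeros hK.1 x⁻¹).subset fun P (hP : ¬ P.1 x ≤ 1) => ?_
  show 0 < P.ord x⁻¹
  have hx : x ≠ 0 := fun h => hP (by simp [h])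
  rw [val_le_one_iff P hx] at hP
  rw [ord_inv]; omega

theorem AD_le_adele (D : Divisor k K) : AD D ≤ adele k K := by
  intro a ha
  show ∀ᶠ P : Place k K in Filter.cofinite, P.1 (a P) ≤ 1
  rw [Filter.eventually_cofinite]
  refine D.support.finite_toSet.subset fun P (hP : ¬ P.1 (a P) ≤ 1) => ?_
  refine Finset.mem_coe.2 (Finsupp.mem_support_iff.2 fun h0 => hP ?_)
  have := ha P
  rwa [h0, exp_zero] at this

theorem exists_mem_AD (a : Place k K → K) (ha : a ∈ adele k K) : ∃ D : Divisor k K, 0 ≤ D ∧ a ∈ AD D := by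
  classical
  have hs : (Function.support fun P : Place k K => max (-P.ord (a P)) 0).Finite := by
    refine (Filter.eventually_cofinite.1 (show ∀ᶠ P : Place k K in Filter.cofinite, P.1 (a P) ≤ 1 from ha)).subset fun P hP hle => ?_
    rcases eq_or_ne (a P) 0 with h0 | h0
    · simp [h0] at hP
    · have := (val_le_one_iff P h0).1 hle
      simp only [Function.mem_support] at hP; omega
  refine ⟨Finsupp.ofSupportFinite _ hs, fun P => ?_, fun P => ?_⟩
  · rw [Finsupp.ofSupportFinite_coe]; exact le_max_right _ _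
  · rw [Finsupp.ofSupportFinite_coe]
    rcases eq_or_ne (a P) 0 with h0 | h0
    · simp [h0]
    · rw [val_le_exp_iff P h0]; omega

theorem ADsup_le_adele (hK : IsFunctionField k K) (D : Divisor k K) : AD D ⊔ KK ≤ adele k K :=
  sup_le (AD_le_adele D) (by rintro _ ⟨x, rfl⟩; exact diag_mem_adele hK x)

theorem exists_ADsup_eq_adele (hK : IsFunctionField k K) (D : Divisor k K) :
    ∃ E : Divisor k K, D ≤ E ∧ delta E = genus k K ∧ AD E ⊔ KK = adele k K := by
  classical
  obtain ⟨N, hN⟩ := exists_delta_large hK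
  obtain ⟨G, hG, hGd⟩ := exists_effective_deg_ge hK (N - (D ⊔ 0).deg)
  refine ⟨(D ⊔ 0) + G, (le_sup_left).trans (le_add_of_nonneg_right hG), hN _ (by rw [deg_add]; omega), ?_⟩
  refine le_antisymm (ADsup_le_adele hK _) fun a ha => ?_
  obtain ⟨F', -, hF'⟩ := exists_mem_AD a ha
  set E := (D ⊔ 0) + G
  have hle : E ≤ E ⊔ F' := le_sup_left
  have hd : delta (E ⊔ F') = delta E := le_antisymm
    ((delta_le_genus hK _).trans (hN E (by simp only [E, deg_add]; omega)).ge) (delta_mono hK hle)
  obtain ⟨hfin, hrd⟩ := rd_ADsup hK hle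
  rw [hd, sub_self, Int.natCast_eq_zero] at hrd
  haveI := hfin
  have hsub : Subsingleton (RQ (AD E ⊔ KK) (AD (E ⊔ F') ⊔ KK)) := Module.finrank_zero_iff.1 hrd
  have hmem : a ∈ AD (E ⊔ F') ⊔ KK := Submodule.mem_sup_left (AD_mono le_sup_right hF')
  exact ((Submodule.Quotient.mk_eq_zero _).1 (Subsingleton.elim
    (Submodule.Quotient.mk ⟨a, hmem⟩ : RQ (AD E ⊔ KK) (AD (E ⊔ F') ⊔ KK)) 0) :)

theorem adele_quot (hK : IsFunctionField k K) (D : Divisor k K) :
    FiniteDimensional k (↥(adele k K) ⧸ ADK D) ∧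
    (Module.finrank k (↥(adele k K) ⧸ ADK D) : ℤ) = genus k K - delta D := by
  obtain ⟨E, hDE, hE, heq⟩ := exists_ADsup_eq_adele hK D
  obtain ⟨hfin, hrd⟩ := rd_ADsup hK hDE
  rw [heq] at hfin hrd
  exact ⟨hfin, by rw [← hE]; exact hrd⟩

theorem finrank_WD' (hK : IsFunctionField k K) (D : Divisor k K) :
    FiniteDimensional k (WD D) ∧ (Module.finrank k (WD D) : ℤ) = genus k K - delta D := by
  obtain ⟨hfin, hd⟩ := adele_quot hK D
  haveI := hfin
  let e := (ADK D).dualQuotEquivDualAnnihilator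
  haveI := Module.Finite.equiv e
  refine ⟨this, ?_⟩
  show (Module.finrank k (ADK D).dualAnnihilator : ℤ) = _
  rw [← e.finrank_eq, Subspace.dual_finrank_eq, hd]

end Groth.Agent.FunFldLib
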