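import Mathlib
import Groth.Agent.FunFldLib.Riemann

/-! Weil differentials and the Riemann-Roch theorem. -/

set_option autoImplicit false

open WithZero

namespace Groth.Agent.FunFldLib

open FunFld

variable {k K : Type*} [Field k] [Field K] [Algebra k K]

theorem AD_smul (hK : IsFunctionField k K) {x : K} (hx : x ≠ 0) {D : Divisor k K} {a : Place k K → K}
    (ha : a ∈ AD D) : x • a ∈ AD (D - div k x) := fun P => by
  rw [Pi.smul_apply, smul_eq_mul, map_mul, Finsupp.sub_apply, div_apply hK.1, val_eq_exp P hx, sub_eq_add_neg, exp_add,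
    mul_comm (exp (D P))]
  exact mul_le_mul_right (ha P) _

theorem smul_mem_adele (hK : IsFunctionField k K) (x : K) : ∀ a ∈ adele k K, x • a ∈ adele k K := by
  intro a ha
  rcases eq_or_ne x 0 with rfl | hx
  · rw [zero_smul]; exact zero_mem _
  obtain ⟨D, -, hD⟩ := exists_mem_AD a ha
  exact AD_le_adele _ (AD_smul hK hx hD)

theorem mem_WD_iff {D : Divisor k K} {ω : Module.Dual k (adele k K)} :
    ω ∈ WD D ↔ ∀ a : adele k K, (a : Place k K → K) ∈ AD D ⊔ KK → ω a = 0 :=
  (Submodule.mem_dualAnnihilator ω).trans (forall_congr' fun _ => Iff.rfl)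

theorem WD_anti {D E : Divisor k K} (h : D ≤ E) : WD E ≤ WD D := fun _ hω =>
  mem_WD_iff.2 fun a ha => mem_WD_iff.1 hω a ((sup_le_sup_right (AD_mono h) KK : AD D ⊔ KK ≤ AD E ⊔ KK) ha)

theorem mulW_apply (x : K) (hx) (ω : Module.Dual k (adele k K)) (a : adele k K) :
    mulW x hx ω a = ω ⟨x • (a : Place k K → K), hx _ a.2⟩ := rfl

theorem mulW_mem (hK : IsFunctionField k K) {x : K} (hx : x ≠ 0) {ω : Module.Dual k (adele k K)} {D : Divisor k K}
    (hω : ω ∈ WD D) : mulW x (smul_mem_adele hK x) ω ∈ WD (D + div k x) := by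
  refine mem_WD_iff.2 fun a ha => ?_
  rw [mulW_apply]
  refine mem_WD_iff.1 hω _ ?_
  obtain ⟨b, hb, c, ⟨z, rfl⟩, hbc⟩ := Submodule.mem_sup.1 ha
  show x • (a : Place k K → K) ∈ AD D ⊔ KK
  rw [← hbc, smul_add]
  refine Submodule.add_mem _ (Submodule.mem_sup_left ?_) (Submodule.mem_sup_right ⟨x * z, rfl⟩)
  simpa using AD_smul hK hx hb

theorem exists_isDivOf' (hK : IsFunctionField k K) {ω : Module.Dual k (adele k K)} (hω : ω ≠ 0) (hW : IsWeil ω) :
    ∃ C : Divisor k K, IsDivOf ω C := by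
  classical
  obtain ⟨N, hN⟩ := exists_delta_large hK
  have hbd : ∀ E : Divisor k K, ω ∈ WD E → E.deg < N := fun E hE => by
    by_contra! h
    obtain ⟨hf, hd⟩ := finrank_WD' hK E
    haveI := hf
    rw [hN E h, sub_self, Int.natCast_eq_zero] at hd
    exact hω ((Submodule.mem_bot k).1 (Submodule.finrank_eq_zero.1 hd ▸ hE))
  obtain ⟨d, ⟨C, hC, rfl⟩, hmax⟩ := Int.exists_greatest_of_bdd (P := fun d => ∃ E : Divisor k K, ω ∈ WD E ∧ E.deg = d)
    ⟨N, fun d ⟨E, hE, hd⟩ => hd ▸ (hbd E hE).le⟩ (let ⟨D, hD⟩ := hW; ⟨_, D, hD, rfl⟩)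
  refine ⟨C, fun E => ⟨fun hE => ?_, fun hle => WD_anti hle hC⟩⟩
  have hsup : ω ∈ WD (C ⊔ E) := by
    refine mem_WD_iff.2 fun a ha => ?_
    obtain ⟨b, hb, c, hc, hbc⟩ := Submodule.mem_sup.1 ha
    let b1 : Place k K → K := fun P => if E P ≤ C P then b P else 0
    have hb1 : b1 ∈ AD C := fun P => by
      simp only [b1]; split_ifs with h
      · exact (hb P).trans (exp_le_exp.2 (by rw [Finsupp.sup_apply]; exact (sup_le le_rfl h)))
      · simp
    have hb2 : b - b1 ∈ AD E := fun P => by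
      simp only [Pi.sub_apply, b1]; split_ifs with h
      · simp
      · rw [sub_zero]
        exact (hb P).trans (exp_le_exp.2 (by rw [Finsupp.sup_apply]; exact (sup_le (not_le.1 h).le le_rfl)))
    have hcA : c ∈ adele k K := by obtain ⟨z, rfl⟩ := hc; exact diag_mem_adele hK z
    have e : a = (⟨b1, AD_le_adele _ hb1⟩ : adele k K) + ⟨(b - b1) + c, add_mem (AD_le_adele _ hb2) hcA⟩ :=
      Subtype.ext (by show (a : Place k K → K) = b1 + ((b - b1) + c); rw [← hbc]; abel)
    rw [e, map_add, mem_WD_iff.1 hC ⟨b1, AD_le_adele _ hb1⟩ (Submodule.mem_sup_left hb1),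
      mem_WD_iff.1 hE ⟨(b - b1) + c, add_mem (AD_le_adele _ hb2) hcA⟩
        (add_mem (Submodule.mem_sup_left hb2) (Submodule.mem_sup_right hc)), add_zero]
  have h1 := hmax _ ⟨_, hsup, rfl⟩
  have h2 : (C ⊔ E - C) = 0 := eq_zero_of_deg_nonpos hK.1 (fun P => by simp) (by rw [deg_sub]; omega)
  rw [sub_eq_zero] at h2
  exact h2 ▸ le_sup_right

theorem mulW_one (hK : IsFunctionField k K) (ω : Module.Dual k (adele k K)) :
    mulW 1 (smul_mem_adele hK 1) ω = ω :=
  LinearMap.ext fun a => by rw [mulW_apply]; congr 1; exact Subtype.ext (one_smul _ _)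

theorem mulW_mulW (hK : IsFunctionField k K) (x y : K) (ω : Module.Dual k (adele k K)) :
    mulW x (smul_mem_adele hK x) (mulW y (smul_mem_adele hK y) ω) = mulW (x * y) (smul_mem_adele hK _) ω :=
  LinearMap.ext fun a => by
    simp only [mulW_apply]; congr 1; exact Subtype.ext (by simp only [smul_smul]; rw [mul_comm])

/-- `x ↦ x ω` -/
noncomputable def mulWLin (hK : IsFunctionField k K) (ω : Module.Dual k (adele k K)) : K →ₗ[k] Module.Dual k (adele k K) where
  toFun x := mulW x (smul_mem_adele hK x) ω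
  map_add' x y := LinearMap.ext fun a => by
    simp only [LinearMap.add_apply, mulW_apply, ← map_add]; congr 1; exact Subtype.ext (add_smul x y _)
  map_smul' c x := LinearMap.ext fun a => by
    simp only [RingHom.id_apply, LinearMap.smul_apply, mulW_apply, ← map_smul]; congr 1
    exact Subtype.ext (smul_assoc c x _)

theorem mulW_ne_zero (hK : IsFunctionField k K) {x : K} (hx : x ≠ 0) {ω : Module.Dual k (adele k K)} (hω : ω ≠ 0) :
    mulW x (smul_mem_adele hK x) ω ≠ 0 := fun h => hω (by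
  rw [← mulW_one hK ω]
  have := mulW_mulW hK x⁻¹ x ω
  rw [h] at this
  simp only [inv_mul_cancel₀ hx] at this
  rw [← this]
  ext a; rfl)

theorem mulWLin_mem (hK : IsFunctionField k K) {ω : Module.Dual k (adele k K)} {D E : Divisor k K} (hω : ω ∈ WD D)
    {x : K} (hx : x ∈ L (D - E)) : mulWLin hK ω x ∈ WD E := by
  rcases eq_or_ne x 0 with rfl | hx0
  · rw [map_zero]; exact zero_mem _
  refine WD_anti (fun P => ?_) (mulW_mem hK hx0 hω)
  have := (mem_L_iff hx0).1 hx P
  rw [Finsupp.sub_apply] at this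
  rw [Finsupp.add_apply, div_apply hK.1]; omega

/-- Weil differentials form a one-dimensional `K`-space. -/
theorem exists_mulW_eq' (hK : IsFunctionField k K) {ω η : Module.Dual k (adele k K)} (hω : ω ≠ 0) (hW : IsWeil ω)
    (hη : IsWeil η) : ∃ x : K, mulW x (smul_mem_adele hK x) ω = η := by
  classical
  by_contra! hne
  obtain ⟨C, hC⟩ := hW
  obtain ⟨C', hC'⟩ := hη
  obtain ⟨N, hN⟩ := exists_delta_large hK
  obtain ⟨E, hE, hEd⟩ := exists_effective_deg_ge hK (1 + |N| + |C.deg| + |C'.deg| + 3 * genus k K + 1)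
  obtain ⟨hf, hd⟩ := finrank_WD' hK (-E)
  haveI := hf
  haveI := finite_L hK.1 (C - -E)
  haveI := finite_L hK.1 (C' - -E)
  let Φ : L (C - -E) × L (C' - -E) →ₗ[k] WD (-E) :=
    LinearMap.coprod (((mulWLin hK ω).domRestrict _).codRestrict _ fun x => mulWLin_mem hK hC x.2)
      (((mulWLin hK η).domRestrict _).codRestrict _ fun x => mulWLin_mem hK hC' x.2)
  have hinj : Function.Injective Φ := by
    rw [injective_iff_map_eq_zero]
    rintro ⟨⟨a, ha⟩, ⟨b, hb⟩⟩ h
    have h1 : mulW a (smul_mem_adele hK a) ω + mulW b (smul_mem_adele hK b) η = 0 := congrArg Subtype.val h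
    have hb0 : b = 0 := by
      by_contra hb0
      refine hne (-(b⁻¹ * a)) ?_
      have h2 := congrArg (mulWLin hK · b⁻¹) h1
      have e : ∀ θ : Module.Dual k (adele k K), ∀ y : K, mulWLin hK (mulW y (smul_mem_adele hK y) θ) b⁻¹ =
          mulW (b⁻¹ * y) (smul_mem_adele hK _) θ := fun θ y => mulW_mulW hK _ _ _
      have hadd : ∀ θ θ' : Module.Dual k (adele k K), mulWLin hK (θ + θ') b⁻¹ = mulWLin hK θ b⁻¹ + mulWLin hK θ' b⁻¹ :=
        fun θ θ' => rfl
      rw [hadd, e, e] at h2
      simp only [inv_mul_cancel₀ hb0, mulW_one hK] at h2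
      show mulWLin hK ω (-(b⁻¹ * a)) = η
      rw [map_neg]
      refine neg_eq_of_add_eq_zero_right (h2.trans ?_)
      exact LinearMap.ext fun a => rfl
    have ha0 : a = 0 := by
      by_contra ha0
      refine mulW_ne_zero hK ha0 hω ?_
      subst hb0
      rw [show mulW (0 : K) (smul_mem_adele hK 0) η = mulWLin hK η 0 from rfl, map_zero, add_zero] at h1
      exact h1
    exact Prod.ext (Subtype.ext ha0) (Subtype.ext hb0)
  have h1 := LinearMap.finrank_le_finrank_of_injective hinj
  rw [Module.finrank_prod] at h1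
  have h2 := delta_le_genus hK (C - -E)
  have h3 := delta_le_genus hK (C' - -E)
  have h5 : ell (-E) = 0 := by
    haveI := finite_L hK.1 (-E)
    rw [ell, Submodule.finrank_eq_zero, Submodule.eq_bot_iff]
    intro x hx
    by_contra hx0
    have h6 := deg_nonneg (D := -E + div k x) fun P => by
      have := (mem_L_iff hx0).1 hx P
      rw [Finsupp.zero_apply, Finsupp.add_apply, div_apply hK.1]; omega
    rw [deg_add, deg_neg, deg_div hK.1] at h6
    have := abs_nonneg N; have := abs_nonneg C.deg; have := abs_nonneg C'.deg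
    omega
  simp only [delta, deg_sub, deg_neg, h5] at h2 h3 hd
  simp only [ell] at h2 h3
  have := neg_abs_le C.deg; have := neg_abs_le C'.deg; have := abs_nonneg N
  omega

theorem riemann_roch' (hK : IsFunctionField k K) {C : Divisor k K} (hC : IsCanonical k K C) (D : Divisor k K) :
    (ell (C - D) : ℤ) = genus k K - delta D := by
  obtain ⟨ω, hω, hdiv⟩ := hC
  obtain ⟨hf, hd⟩ := finrank_WD' hK D
  rw [← hd]
  let Φ : L (C - D) →ₗ[k] WD D :=
    ((mulWLin hK ω).domRestrict _).codRestrict _ fun x => mulWLin_mem hK ((hdiv C).2 le_rfl) x.2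
  have hinj : Function.Injective Φ := by
    rw [injective_iff_map_eq_zero]
    intro x hx
    by_contra h0
    exact mulW_ne_zero hK (fun h => h0 (Subtype.ext h)) hω (congrArg Subtype.val hx)
  have hsurj : Function.Surjective Φ := by
    intro η
    obtain ⟨x, hx⟩ := exists_mulW_eq' hK hω ⟨C, (hdiv C).2 le_rfl⟩ ⟨D, η.2⟩
    refine ⟨⟨x, ?_⟩, Subtype.ext hx⟩
    rcases eq_or_ne x 0 with rfl | hx0
    · exact zero_mem _
    have h1 : mulW x⁻¹ (smul_mem_adele hK _) (mulW x (smul_mem_adele hK x) ω) ∈ WD (D + div k x⁻¹) :=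
      mulW_mem hK (inv_ne_zero hx0) (by rw [hx]; exact η.2)
    rw [mulW_mulW hK] at h1
    simp only [inv_mul_cancel₀ hx0, mulW_one hK] at h1
    have h2 := (hdiv _).1 h1
    rw [mem_L_iff hx0]
    intro P
    have := h2 P
    rw [Finsupp.add_apply, div_apply hK.1, ord_inv] at this
    rw [Finsupp.sub_apply]; omega
  rw [ell, (LinearEquiv.ofBijective Φ ⟨hinj, hsurj⟩).finrank_eq]

theorem exists_isCanonical (hK : IsFunctionField k K) : ∃ C : Divisor k K, IsCanonical k K C := by
  obtain ⟨P, -⟩ := exists_place_val_lt_one hK.1 (exists_transcendental hK).choose_spec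
  set D : Divisor k K := Finsupp.single P (-2) with hD
  obtain ⟨hf, hd⟩ := finrank_WD' hK D
  have h5 : delta D ≤ delta (0 : Divisor k K) - 1 := by
    have h1 : ell D = 0 := by
      haveI := finite_L hK.1 D
      rw [ell, Submodule.finrank_eq_zero, Submodule.eq_bot_iff]
      intro x hx
      by_contra hx0
      have h2 := deg_nonneg (D := D + div k x) fun Q => by
        have := (mem_L_iff hx0).1 hx Q
        rw [Finsupp.zero_apply, Finsupp.add_apply, div_apply hK.1]; omega
      rw [deg_add, deg_div hK.1, hD, deg_single] at h2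
      have := deg_pos hK.1 P; omega
    have := deg_pos hK.1 P
    simp only [delta, h1, (ell_zero hK).2, deg_zero, hD, deg_single] at *
    omega
  have h6 := delta_le_genus hK (0 : Divisor k K)
  obtain ⟨ω, hω, hne⟩ := Submodule.exists_mem_ne_zero_of_ne_bot (p := WD D) fun h => by
    rw [h, finrank_bot] at hd; omega
  exact (exists_isDivOf' hK hne ⟨D, hω⟩).imp fun C hC => ⟨ω, hne, hC⟩

theorem deg_canonical (hK : IsFunctionField k K) {C : Divisor k K} (hC : IsCanonical k K C) :
    C.deg = 2 * genus k K - 2 ∧ (ell C : ℤ) = genus k K := by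
  have h1 := riemann_roch' hK hC 0
  have h2 := riemann_roch' hK hC C
  rw [sub_zero] at h1
  rw [sub_self, (ell_zero hK).2] at h2
  simp only [delta, (ell_zero hK).2, deg_zero] at h1 h2
  omega

theorem isCanonical_add_div (hK : IsFunctionField k K) {C : Divisor k K} (hC : IsCanonical k K C) {x : K} (hx : x ≠ 0) :
    IsCanonical k K (C + div k x) := by
  obtain ⟨ω, hω, hdiv⟩ := hC
  refine ⟨mulW x (smul_mem_adele hK x) ω, mulW_ne_zero hK hx hω, fun E => ⟨fun hE => ?_, fun hle => ?_⟩⟩
  · have h1 := mulW_mem hK (inv_ne_zero hx) hE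
    rw [mulW_mulW hK] at h1
    simp only [inv_mul_cancel₀ hx, mulW_one hK] at h1
    rw [div_inv hK.1, ← sub_eq_add_neg] at h1
    exact sub_le_iff_le_add.1 ((hdiv _).1 h1)
  · exact WD_anti hle (mulW_mem hK hx ((hdiv C).2 le_rfl))

end Groth.Agent.FunFldLib
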