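import Mathlib
import Groth.Agent.FunFldLib.RR

/-! First corollaries of Riemann-Roch. -/

set_option autoImplicit false

open WithZero IntermediateField

namespace Groth.Agent.FunFldLib

open FunFld

variable {k K : Type*} [Field k] [Field K] [Algebra k K]

theorem L_eq_bot (hK : IsFunctionField k K) {D : Divisor k K} (h : D.deg < 0) : L D = ⊥ := by
  rw [Submodule.eq_bot_iff]
  intro x hx
  by_contra hx0
  have h2 := deg_nonneg (D := D + div k x) fun Q => by
    have := (mem_L_iff hx0).1 hx Q
    rw [Finsupp.zero_apply, Finsupp.add_apply, div_apply hK.1]; omega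
  rw [deg_add, deg_div hK.1] at h2
  omega

theorem ell_eq_zero (hK : IsFunctionField k K) {D : Divisor k K} (h : D.deg < 0) : ell D = 0 := by
  rw [ell, L_eq_bot hK h, finrank_bot]

theorem ell_large (hK : IsFunctionField k K) {D : Divisor k K} (h : 2 * (genus k K : ℤ) - 1 ≤ D.deg) :
    (ell D : ℤ) = D.deg + 1 - genus k K := by
  obtain ⟨C, hC⟩ := exists_isCanonical hK
  have h1 := riemann_roch' hK hC D
  rw [ell_eq_zero hK (D := C - D) (by rw [deg_sub, (deg_canonical hK hC).1]; omega)] at h1
  simp only [delta] at h1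
  push_cast at h1
  omega

theorem deg_eq_one [IsAlgClosed k] (hK : IsFunctionField k K) (P : Place k K) : P.deg = 1 := by
  haveI := finite_residue hK.1 P
  haveI : Module.Finite k (IsLocalRing.ResidueField P.O) := finite_residue hK.1 P
  haveI : Algebra.IsIntegral k (IsLocalRing.ResidueField P.O) :=
    @Algebra.IsIntegral.of_finite k (IsLocalRing.ResidueField P.O) _ _ _ (finite_residue hK.1 P)
  exact (LinearEquiv.ofBijective (Algebra.linearMap k (IsLocalRing.ResidueField P.O))
    (IsAlgClosed.algebraMap_bijective_of_isIntegral)).finrank_eq.symm.trans (Module.finrank_self k)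

/-- value ±1 elements -/
theorem isCanonical_of (hK : IsFunctionField k K) {C : Divisor k K} (h1 : (ell C : ℤ) = genus k K)
    (h2 : C.deg = 2 * genus k K - 2) : IsCanonical k K C := by
  obtain ⟨W, hW⟩ := exists_isCanonical hK
  have h3 := riemann_roch' hK hW C
  obtain ⟨z, hz, hle⟩ := exists_le_add_div hK (D := C) (E := W) (by simp only [delta] at h3; omega)
  have h4 : W + div k z - C = 0 := eq_zero_of_deg_nonpos hK.1 (sub_nonneg.2 hle)
    (by rw [deg_sub, deg_add, deg_div hK.1, (deg_canonical hK hW).1, h2]; omega)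
  rw [sub_eq_zero] at h4
  exact h4 ▸ isCanonical_add_div hK hW hz

theorem adjoin_eq_top_of_deg_poles (hK : IsFunctionField k K) {x : K} (hx : Transcendental k x)
    (h : ((-div k x) ⊔ 0).deg = 1) : IntermediateField.adjoin k ({x} : Set K) = ⊤ := by
  rw [deg_poles hK.1 hx] at h
  have h1 : Module.finrank (IntermediateField.adjoin k ({x} : Set K)) K = 1 := by exact_mod_cast h
  exact IntermediateField.finrank_eq_one_iff_eq_top.1 h1

theorem transcendental_of_ord_ne_zero (hK : IsFunctionField k K) {x : K} {P : Place k K} (h : P.ord x ≠ 0) :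
    Transcendental k x := fun halg => by
  obtain ⟨c, rfl⟩ := hK.2 x halg
  exact h (ord_algebraMap P c)

theorem adjoin_eq_top_of_simple_pole (hK : IsFunctionField k K) {x : K} {P : Place k K} (hP : P.deg = 1)
    (hx : P.ord x = -1) (h : ∀ Q : Place k K, Q ≠ P → 0 ≤ Q.ord x) :
    IntermediateField.adjoin k ({x} : Set K) = ⊤ := by
  classical
  refine adjoin_eq_top_of_deg_poles hK (transcendental_of_ord_ne_zero hK (P := P) (by omega)) ?_
  have : (-div k x) ⊔ 0 = Finsupp.single P 1 := Finsupp.ext fun Q => by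
    rw [Finsupp.sup_apply, Finsupp.neg_apply, div_apply hK.1, Finsupp.zero_apply, Finsupp.single_apply]
    split_ifs with hQ
    · subst hQ; rw [hx]; rfl
    · have := h Q (Ne.symm hQ); omega
  rw [this, deg_single, hP]; rfl

theorem exists_simple_pole_of_top (hK : IsFunctionField k K) {x : K}
    (h : IntermediateField.adjoin k ({x} : Set K) = ⊤) :
    ∃ P : Place k K, P.deg = 1 ∧ P.ord x = -1 ∧ (∀ Q : Place k K, Q ≠ P → 0 ≤ Q.ord x) ∧ genus k K = 0 := by
  classical
  have hx : Transcendental k x := by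
    intro halg
    obtain ⟨y, hy⟩ := exists_transcendental hK
    obtain ⟨c, rfl⟩ := hK.2 x halg
    have : IntermediateField.adjoin k ({algebraMap k K c} : Set K) = ⊥ :=
      IntermediateField.adjoin_simple_eq_bot_iff.2 (IntermediateField.algebraMap_mem ⊥ c)
    rw [h] at this
    obtain ⟨d, rfl⟩ := IntermediateField.mem_bot.1 (this ▸ IntermediateField.mem_top : y ∈ (⊥ : IntermediateField k K))
    exact hy (isAlgebraic_algebraMap d)
  set A := (-div k x) ⊔ 0 with hA
  have hA1 : A.deg = 1 := by rw [hA, deg_poles hK.1 hx, h, IntermediateField.finrank_top, Nat.cast_one]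
  have hA0 : 0 ≤ A := le_sup_right
  obtain ⟨P, hP⟩ : ∃ P, A P ≠ 0 := by
    by_contra! h0
    rw [show A = 0 from Finsupp.ext h0, deg_zero] at hA1
    omega
  have hPd := deg_pos hK.1 P
  have hle : 0 ≤ A - Finsupp.single P 1 := fun Q => by
    have : 0 ≤ A Q := hA0 Q
    rw [Finsupp.zero_apply, Finsupp.sub_apply, Finsupp.single_apply]
    split_ifs with hQ
    · subst hQ; omega
    · omega
  have hd := deg_nonneg hle
  rw [deg_sub, deg_single, one_mul, hA1] at hd
  have hd1 : P.deg = 1 := by omega
  have hAeq : A = Finsupp.single P 1 := sub_eq_zero.1 (eq_zero_of_deg_nonpos hK.1 hle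
    (by rw [deg_sub, deg_single, one_mul, hA1, hd1]; omega))
  have hev : ∀ Q, max (-Q.ord x) 0 = if P = Q then 1 else 0 := fun Q => by
    have := DFunLike.congr_fun hAeq Q
    rwa [hA, Finsupp.sup_apply, Finsupp.neg_apply, div_apply hK.1, Finsupp.zero_apply, Finsupp.single_apply] at this
  refine ⟨P, hd1, ?_, fun Q hQ => ?_, ?_⟩
  · have := hev P; simp only [if_pos] at this; omega
  · have := hev Q; rw [if_neg (Ne.symm hQ)] at this; omega
  · obtain ⟨N, hN⟩ := exists_delta_large hK
    set l := N.toNat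
    have h1 := hN (l • A) (by rw [deg_nsmul, hA1]; omega)
    have hmem : ∀ j : Fin (l + 1), x ^ (j : ℕ) ∈ L (l • A) := fun j => by
      rw [mem_L_iff (pow_ne_zero _ fun h0 => hx (by subst h0; exact isAlgebraic_zero))]
      intro Q
      rw [ord_pow, Finsupp.smul_apply, nsmul_eq_mul]
      have h2 : -A Q ≤ Q.ord x := by simp [hA, div_apply hK.1]; omega
      have h3 : 0 ≤ A Q := hA0 Q
      have h4 : ((j : ℕ) : ℤ) ≤ l := by exact_mod_cast Nat.lt_succ_iff.1 j.2
      nlinarith
    have hli : LinearIndependent k (fun j : Fin (l + 1) => x ^ (j : ℕ)) := by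
      have := (linearIndependent_pow hx (l + 1)).map' (IntermediateField.adjoin k ({x} : Set K)).val.toLinearMap
        (LinearMap.ker_eq_bot.2 Subtype.val_injective)
      exact this
    haveI := finite_L hK.1 (l • A)
    have h2 := (LinearIndependent.of_comp (L (l • A)).subtype
      (v := fun j => (⟨_, hmem j⟩ : L (l • A))) hli).fintype_card_le_finrank
    rw [Fintype.card_fin] at h2
    simp only [delta, deg_nsmul, hA1, ell] at h1
    omega

theorem exists_top_of_genus_zero (hK : IsFunctionField k K) (hg : genus k K = 0) {P : Place k K} (hP : P.deg = 1) :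
    ∃ x : K, IntermediateField.adjoin k ({x} : Set K) = ⊤ := by
  have h2 : (ell (Finsupp.single P 1) : ℤ) = 2 := by
    rw [ell_large hK (by rw [deg_single, hP, hg]; simp), deg_single, hP, hg]; simp
  obtain ⟨x, hx, hx0⟩ : ∃ x ∈ L (Finsupp.single P (1 : ℤ)), x ∉ L (0 : Divisor k K) := by
    by_contra! h
    haveI := (ell_zero hK).1
    have := Submodule.finrank_mono (show L (Finsupp.single P (1 : ℤ)) ≤ L (0 : Divisor k K) from h)
    have h0 := (ell_zero hK).2
    simp only [ell] at h2 h0
    omega
  classical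
  have hne : x ≠ 0 := fun h => hx0 (h ▸ zero_mem _)
  rw [mem_L_iff hne] at hx hx0
  push Not at hx0
  obtain ⟨Q, hQ⟩ := hx0
  have hoth : ∀ R : Place k K, R ≠ P → 0 ≤ R.ord x := fun R hR => by
    have := hx R; rwa [Finsupp.single_apply, if_neg (Ne.symm hR), neg_zero] at this
  have hQP : Q = P := by
    by_contra h
    have := hoth Q h
    rw [Finsupp.zero_apply] at hQ; omega
  subst hQP
  have := hx Q
  rw [Finsupp.single_eq_same] at this
  rw [Finsupp.zero_apply] at hQ
  exact ⟨x, adjoin_eq_top_of_simple_pole hK hP (by omega) hoth⟩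

/-- orders of the nonzero elements -/
def ordSet (P : Place k K) (V : Submodule k K) : Set ℤ := {o | ∃ x ∈ V, x ≠ 0 ∧ P.ord x = o}

theorem exists_const_sub (P : Place k K) (hP : P.deg = 1) {x y : K} (hx : x ≠ 0) (h : P.1 y ≤ P.1 x) :
    ∃ c : k, P.1 (y - c • x) < P.1 x := by
  have hmem : P.1 (y / x) ≤ 1 := by rw [map_div₀, div_le_one₀ (zero_lt_iff.2 (val_ne_zero P hx))]; exact h
  have h1 : Module.finrank k (IsLocalRing.ResidueField P.O) = 1 := hP
  obtain ⟨c, hc⟩ := (finrank_eq_one_iff_of_nonzero' (1 : IsLocalRing.ResidueField P.O) one_ne_zero).1 h1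
    (IsLocalRing.residue P.O ⟨y / x, hmem⟩)
  refine ⟨c, ?_⟩
  have h2 : IsLocalRing.residue P.O (⟨y / x, hmem⟩ - c • (1 : P.O)) = 0 := by
    rw [map_sub, residue_smul, map_one]; exact sub_eq_zero.2 hc.symm
  rw [residue_eq_zero_iff_val] at h2
  have h3 : P.1 (y / x - algebraMap k K c) < 1 := by
    convert h2 using 3
    show _ = y / x - algebraMap k K c * 1
    rw [mul_one]
  have h4 : y - c • x = (y / x - algebraMap k K c) * x := by
    rw [sub_mul, div_mul_cancel₀ _ hx, Algebra.smul_def]
  rw [h4, map_mul]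
  exact mul_lt_of_lt_one_left (zero_lt_iff.2 (val_ne_zero P hx)) h3

theorem finrank_eq_ncard_ordSet (P : Place k K) (hP : P.deg = 1) (V : Submodule k K) [FiniteDimensional k V] :
    (ordSet P V).Finite ∧ (ordSet P V).ncard = Module.finrank k V := by
  suffices H : ∀ (d : ℕ) (V : Submodule k K), FiniteDimensional k V → Module.finrank k V = d →
      (ordSet P V).Finite ∧ (ordSet P V).ncard = d from H _ V inferInstance rfl
  intro d
  induction d using Nat.strong_induction_on with
  | _ d ih =>
    intro V hV hd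
    rcases eq_or_ne V ⊥ with rfl | hne
    · have : ordSet P (⊥ : Submodule k K) = ∅ := Set.eq_empty_iff_forall_notMem.2 fun o ⟨x, hx, hx0, _⟩ => hx0 ((Submodule.mem_bot k).1 hx)
      rw [this, ← hd, finrank_bot]; simp
    -- orders in a finite-dimensional space are bounded below
    obtain ⟨o, ⟨x, hxV, hx0, hxo⟩, hmin⟩ : ∃ o ∈ ordSet P V, ∀ o' ∈ ordSet P V, o ≤ o' := by
      let b := Module.finBasis k V
      obtain ⟨z, hz, hz0⟩ := Submodule.exists_mem_ne_zero_of_ne_bot hne
      have hb : ∀ o ∈ ordSet P V, -∑ i, |P.ord ((b i : V) : K)| ≤ o := by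
        rintro o ⟨y, hy, hy0, hyo⟩
        have h1 : P.1 y ≤ exp (∑ i, |P.ord ((b i : V) : K)|) := by
          have h2 : y = ∑ i, b.repr ⟨y, hy⟩ i • ((b i : V) : K) := by
            have h3 := congrArg (V.subtype) (b.sum_repr ⟨y, hy⟩)
            simp only [map_sum, map_smul, Submodule.subtype_apply] at h3
            exact h3.symm
          rw [h2]
          refine Valuation.map_sum_le _ fun i _ => (val_smul_le P _ _).trans ?_
          have hbi : ((b i : V) : K) ≠ 0 := fun h => b.ne_zero i (Subtype.ext h)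
          rw [val_le_exp_iff P hbi]
          have := Finset.single_le_sum (f := fun i => |P.ord ((b i : V) : K)|) (fun _ _ => abs_nonneg _) (Finset.mem_univ i)
          have := neg_abs_le (P.ord ((b i : V) : K))
          omega
        rw [val_le_exp_iff P hy0] at h1
        omega
      obtain ⟨o, ho, hle⟩ := Int.exists_least_of_bdd (P := fun o => o ∈ ordSet P V) ⟨_, hb⟩ ⟨_, z, hz, hz0, rfl⟩
      exact ⟨o, ho, hle⟩
    set V' := V ⊓ F P (-o - 1) with hV'
    haveI := hV
    haveI : FiniteDimensional k V' := Submodule.finiteDimensional_of_le inf_le_left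
    have hsup : V = V' ⊔ Submodule.span k {x} := by
      refine le_antisymm (fun y hy => ?_) (sup_le inf_le_left ((Submodule.span_singleton_le_iff_mem x V).2 hxV))
      have hle : P.1 y ≤ P.1 x := by
        rcases eq_or_ne y 0 with rfl | hy0
        · simp
        have := hmin _ ⟨y, hy, hy0, rfl⟩
        rw [val_eq_exp P hy0, val_eq_exp P hx0, exp_le_exp]; omega
      obtain ⟨c, hc⟩ := exists_const_sub P hP hx0 hle
      refine Submodule.mem_sup.2 ⟨y - c • x, ⟨V.sub_mem hy (V.smul_mem c hxV), ?_⟩, c • x,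
        Submodule.smul_mem _ _ (Submodule.mem_span_singleton_self x), by abel⟩
      rw [val_eq_exp P hx0, hxo] at hc
      exact mem_F.2 ((lt_exp_iff_le P _ _).1 hc)
    have hxV' : x ∉ V' := fun h => by
      have := (val_le_exp_iff P hx0 _).1 (mem_F.1 h.2); omega
    have hfr : Module.finrank k V = Module.finrank k V' + 1 := by
      have : V' ⊓ Submodule.span k {x} = ⊥ := (Submodule.disjoint_span_singleton' hx0).2 hxV' |>.eq_bot
      have h1 := Submodule.finrank_sup_add_finrank_inf_eq V' (Submodule.span k {x})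
      rw [this, finrank_bot, finrank_span_singleton hx0, ← hsup] at h1
      omega
    obtain ⟨hfin, hcard⟩ := ih _ (by omega) V' inferInstance rfl
    have hins : ordSet P V = insert o (ordSet P V') := by
      ext o'
      constructor
      · rintro ⟨y, hy, hy0, rfl⟩
        rcases eq_or_lt_of_le (hmin _ ⟨y, hy, hy0, rfl⟩) with h | h
        · exact Or.inl h.symm
        · exact Or.inr ⟨y, ⟨hy, mem_F.2 ((val_le_exp_iff P hy0 _).2 (by omega))⟩, hy0, rfl⟩
      · rintro (rfl | ⟨y, hy, hy0, rfl⟩)
        · exact ⟨x, hxV, hx0, hxo⟩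
        · exact ⟨y, hy.1, hy0, rfl⟩
    have hno : o ∉ ordSet P V' := fun ⟨y, hy, hy0, hyo⟩ => by
      have := (val_le_exp_iff P hy0 _).1 (mem_F.1 hy.2); omega
    rw [hins]
    exact ⟨hfin.insert o, by rw [Set.ncard_insert_of_notMem hno hfin, hcard]; omega⟩

end Groth.Agent.FunFldLib
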