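import Mathlib
import Groth.Agent.FunFldLib.Cor

/-! Gap numbers, rational places, effective representatives. -/

set_option autoImplicit false

open WithZero

namespace Groth.Agent.FunFldLib

open FunFld

variable {k K : Type*} [Field k] [Field K] [Algebra k K]

theorem single_mono (P : Place k K) {a b : ℤ} (h : a ≤ b) : (Finsupp.single P a : Divisor k K) ≤ Finsupp.single P b := by
  classical
  intro Q; simp only [Finsupp.single_apply]; split_ifs <;> simp [h]

/-- consecutive steps -/
theorem ell_step (hK : IsFunctionField k K) {P : Place k K} (hP : P.deg = 1) (m : ℤ) :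
    ell (Finsupp.single P (m - 1)) ≤ ell (Finsupp.single P m) ∧
      ell (Finsupp.single P m) ≤ ell (Finsupp.single P (m - 1)) + 1 ∧
      (L (Finsupp.single P m) = L (Finsupp.single P (m - 1)) ↔ ell (Finsupp.single P m) = ell (Finsupp.single P (m - 1))) := by
  have h := single_mono P (by omega : m - 1 ≤ m)
  obtain ⟨h1, h2⟩ := ell_mono_le hK.1 h
  rw [deg_single, deg_single, hP] at h2
  refine ⟨h1, by omega, fun e => by rw [ell, ell, e], fun e => ?_⟩
  haveI := finite_L hK.1 (Finsupp.single P m)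
  exact (Submodule.eq_of_le_of_finrank_eq (L_mono h) (by simp only [ell] at e; exact e.symm)).symm

theorem exists_mem_ord_eq (hK : IsFunctionField k K) {P : Place k K} (hP : P.deg = 1) (m : ℤ)
    (h : L (Finsupp.single P m) ≠ L (Finsupp.single P (m - 1))) :
    ∃ x ∈ L (Finsupp.single P m), x ≠ 0 ∧ P.ord x = -m := by
  classical
  obtain ⟨x, hx, hx'⟩ : ∃ x ∈ L (Finsupp.single P m), x ∉ L (Finsupp.single P (m - 1)) := by
    by_contra! hc
    exact h (le_antisymm hc (L_mono (single_mono P (by omega))))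
  have hne : x ≠ 0 := fun h => hx' (h ▸ zero_mem _)
  refine ⟨x, hx, hne, ?_⟩
  rw [mem_L_iff hne] at hx'
  push Not at hx'
  obtain ⟨Q, hQ⟩ := hx'
  have h2 := (mem_L_iff hne).1 hx Q
  rw [Finsupp.single_apply] at h2 hQ
  split_ifs at h2 hQ with hPQ
  · subst hPQ; omega
  · omega

theorem mem_L_single_iff (P : Place k K) {x : K} (hx : x ≠ 0) (m : ℤ) :
    x ∈ L (Finsupp.single P m) ↔ -m ≤ P.ord x ∧ ∀ Q : Place k K, Q ≠ P → 0 ≤ Q.ord x := by
  classical
  rw [mem_L_iff hx]
  refine ⟨fun h => ⟨by have := h P; rwa [Finsupp.single_eq_same] at this, fun Q hQ => ?_⟩, fun h Q => ?_⟩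
  · have := h Q; rwa [Finsupp.single_eq_of_ne hQ, neg_zero] at this
  · rcases eq_or_ne Q P with rfl | hQ
    · rw [Finsupp.single_eq_same]; exact h.1
    · rw [Finsupp.single_eq_of_ne hQ, neg_zero]; exact h.2 Q hQ

/-- the gaps in `[1, n]` -/
def gapSet (P : Place k K) (n : ℕ) : Set ℕ :=
  {m | 1 ≤ m ∧ m ≤ n ∧ L (Finsupp.single P (m : ℤ)) = L (Finsupp.single P ((m : ℤ) - 1))}

theorem gapSet_finite (P : Place k K) (n : ℕ) : (gapSet P n).Finite :=
  (Set.finite_Icc 1 n).subset fun _ hm => ⟨hm.1, hm.2.1⟩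

theorem ncard_gapSet (hK : IsFunctionField k K) {P : Place k K} (hP : P.deg = 1) (n : ℕ) :
    (gapSet P n).ncard + ell (Finsupp.single P (n : ℤ)) = n + 1 := by
  classical
  induction n with
  | zero =>
    have : gapSet P 0 = ∅ := Set.eq_empty_iff_forall_notMem.2 fun m hm => by have := hm.1; have := hm.2.1; omega
    rw [this, Set.ncard_empty, Nat.cast_zero, Finsupp.single_zero, (ell_zero hK).2]
  | succ n ih =>
    obtain ⟨h1, h2, h3⟩ := ell_step hK hP ((n + 1 : ℕ) : ℤ)
    have e : ((n + 1 : ℕ) : ℤ) - 1 = (n : ℤ) := by push_cast; ring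
    rw [e] at h1 h2 h3
    by_cases hg : L (Finsupp.single P ((n + 1 : ℕ) : ℤ)) = L (Finsupp.single P (n : ℤ))
    · have hins : gapSet P (n + 1) = insert (n + 1) (gapSet P n) := by
        ext m
        constructor
        · rintro ⟨a, b, c⟩
          rcases Nat.lt_or_ge m (n + 1) with h | h
          · exact Or.inr ⟨a, by omega, c⟩
          · exact Or.inl (by omega)
        · rintro (rfl | ⟨a, b, c⟩)
          · exact ⟨by omega, le_rfl, by rw [e]; exact hg⟩
          · exact ⟨a, by omega, c⟩
      rw [hins, Set.ncard_insert_of_notMem (fun h => by have := h.2.1; omega) (gapSet_finite P n)]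
      have := h3.1 hg
      omega
    · have heq : gapSet P (n + 1) = gapSet P n := by
        ext m
        refine ⟨fun ⟨a, b, c⟩ => ⟨a, ?_, c⟩, fun ⟨a, b, c⟩ => ⟨a, by omega, c⟩⟩
        by_contra hc
        obtain rfl : m = n + 1 := by omega
        rw [e] at c; exact hg c
      have : ell (Finsupp.single P ((n + 1 : ℕ) : ℤ)) ≠ ell (Finsupp.single P (n : ℤ)) := fun h => hg (h3.2 h)
      rw [heq]; omega

/-- a gap `n` has at least `(n-1)/2` gaps below -/
theorem gap_pairs (hK : IsFunctionField k K) {P : Place k K} (hP : P.deg = 1) (n : ℕ)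
    (hgap : L (Finsupp.single P (n : ℤ)) = L (Finsupp.single P ((n : ℤ) - 1))) :
    n - 1 ≤ 2 * (gapSet P (n - 1)).ncard := by
  classical
  set G := gapSet P (n - 1)
  have hsub : Set.Icc 1 (n - 1) ⊆ G ∪ (fun m => n - m) '' G := by
    intro m hm
    rw [Set.mem_Icc] at hm
    by_contra hc
    rw [Set.mem_union, not_or] at hc
    have hm' : L (Finsupp.single P (m : ℤ)) ≠ L (Finsupp.single P ((m : ℤ) - 1)) := fun h => hc.1 ⟨hm.1, hm.2, h⟩
    have hm'' : L (Finsupp.single P ((n - m : ℕ) : ℤ)) ≠ L (Finsupp.single P (((n - m : ℕ) : ℤ) - 1)) :=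
      fun h => hc.2 ⟨n - m, ⟨by omega, by omega, h⟩, by show n - (n - m) = m; omega⟩
    obtain ⟨x, hx, hx0, hxo⟩ := exists_mem_ord_eq hK hP _ hm'
    obtain ⟨y, hy, hy0, hyo⟩ := exists_mem_ord_eq hK hP _ hm''
    rw [mem_L_single_iff P hx0] at hx
    rw [mem_L_single_iff P hy0] at hy
    have hxy : x * y ∈ L (Finsupp.single P (n : ℤ)) := by
      rw [mem_L_single_iff P (mul_ne_zero hx0 hy0)]
      refine ⟨by rw [ord_mul P hx0 hy0]; omega, fun Q hQ => ?_⟩
      rw [ord_mul Q hx0 hy0]
      have := hx.2 Q hQ; have := hy.2 Q hQ; omega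
    rw [hgap, mem_L_single_iff P (mul_ne_zero hx0 hy0), ord_mul P hx0 hy0] at hxy
    omega
  have h1 := Set.ncard_le_ncard hsub ((gapSet_finite P _).union ((gapSet_finite P _).image _))
  have h2 := Set.ncard_union_le G ((fun m => n - m) '' G)
  have h3 := Set.ncard_image_le (f := fun m => n - m) (gapSet_finite P (n - 1))
  rw [← Finset.coe_Icc, Set.ncard_coe_finset, Nat.card_Icc] at h1
  simp only [G] at h1 h2 h3 ⊢
  omega

theorem exists_effective (hK : IsFunctionField k K) {D : Divisor k K} (h : 1 ≤ ell D) :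
    ∃ z : K, z ≠ 0 ∧ 0 ≤ D + div k z :=
  exists_le_add_div hK (by rwa [sub_zero])

theorem exists_eq_single_of_deg_one (hK : IsFunctionField k K) {E : Divisor k K} (h : 0 ≤ E) (hd : E.deg = 1) :
    ∃ P : Place k K, P.deg = 1 ∧ E = Finsupp.single P 1 := by
  classical
  obtain ⟨P, hP⟩ : ∃ P, E P ≠ 0 := by
    by_contra! h0
    rw [show E = 0 from Finsupp.ext h0, deg_zero] at hd; omega
  have hle : 0 ≤ E - Finsupp.single P 1 := fun Q => by
    have : 0 ≤ E Q := h Q
    rw [Finsupp.zero_apply, Finsupp.sub_apply, Finsupp.single_apply]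
    split_ifs with hQ
    · subst hQ; omega
    · omega
  have h1 := deg_nonneg hle
  rw [deg_sub, deg_single, one_mul, hd] at h1
  have := deg_pos hK.1 P
  refine ⟨P, by omega, sub_eq_zero.1 (eq_zero_of_deg_nonpos hK.1 hle (by rw [deg_sub, deg_single, one_mul, hd]; omega))⟩

theorem ell_le_one_of_deg_zero (hK : IsFunctionField k K) {D : Divisor k K} (h : D.deg = 0) : ell D ≤ 1 := by
  by_contra hc
  obtain ⟨z, hz, hle⟩ := exists_effective hK (D := D) (by omega)
  have h0 : D + div k z = 0 := eq_zero_of_deg_nonpos hK.1 hle (by rw [deg_add, deg_div hK.1, h]; rfl)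
  have := ell_add_div hK hz D
  rw [h0, (ell_zero hK).2] at this
  omega

theorem ell_add_single_le (hK : IsFunctionField k K) (D : Divisor k K) {P : Place k K} (hP : P.deg = 1) :
    ell (D + Finsupp.single P 1) ≤ ell D + 1 := by
  have h := (ell_mono_le hK.1 (le_add_of_nonneg_right (Finsupp.single_nonneg.2 (by omega : (0:ℤ) ≤ 1)) :
    D ≤ D + Finsupp.single P 1)).2
  rw [deg_add, deg_single, hP] at h
  omega

/-- elements with pole order at `P` exactly `m ≥ 2g` -/
theorem exists_ord_eq_of_large (hK : IsFunctionField k K) {P : Place k K} (hP : P.deg = 1) {m : ℕ}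
    (hm : 2 * genus k K ≤ m) : ∃ x ∈ L (Finsupp.single P (m : ℤ)), x ≠ 0 ∧ P.ord x = -(m : ℤ) := by
  refine exists_mem_ord_eq hK hP _ fun h => ?_
  have h' := (ell_step hK hP (m : ℤ)).2.2.1 h
  have h1 := ell_large hK (D := Finsupp.single P (m : ℤ)) (by rw [deg_single, hP]; omega)
  have h2 := ell_large hK (D := Finsupp.single P ((m : ℤ) - 1)) (by rw [deg_single, hP]; omega)
  rw [deg_single, hP] at h1 h2
  omega

/-- a function whose only pole is `P` of order `m` has degree `m·deg P` -/
theorem finrank_eq_of_one_pole (hK : IsFunctionField k K) {P : Place k K} {x : K} {m : ℤ} (hm : 0 < m)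
    (h : x ∈ L (Finsupp.single P m)) (ho : P.ord x = -m) :
    (Module.finrank (IntermediateField.adjoin k ({x} : Set K)) K : ℤ) = m * P.deg := by
  classical
  have hx : x ≠ 0 := fun h0 => by rw [h0, ord_zero] at ho; omega
  have hT := transcendental_of_ord_ne_zero hK (P := P) (x := x) (by omega)
  rw [← deg_poles hK.1 hT, ← deg_single]
  congr 1
  rw [mem_L_single_iff P hx] at h
  refine Finsupp.ext fun Q => ?_
  rw [Finsupp.sup_apply, Finsupp.neg_apply, div_apply hK.1, Finsupp.zero_apply, Finsupp.single_apply]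
  split_ifs with hQ
  · subst hQ; rw [ho]; omega
  · have := h.2 Q (Ne.symm hQ); omega

theorem adjoin_pair_eq_top_of_coprime (hK : IsFunctionField k K) {x y : K}
    (hx : Transcendental k x) (hy : Transcendental k y)
    (hc : Nat.Coprime (Module.finrank (IntermediateField.adjoin k ({x} : Set K)) K)
      (Module.finrank (IntermediateField.adjoin k ({y} : Set K)) K)) :
    IntermediateField.adjoin k ({x, y} : Set K) = ⊤ := by
  set F := IntermediateField.adjoin k ({x, y} : Set K)
  have hdvd : ∀ z : K, Transcendental k z → z ∈ F →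
      Module.finrank F K ∣ Module.finrank (IntermediateField.adjoin k ({z} : Set K)) K := by
    intro z hz hzF
    have hle : IntermediateField.adjoin k ({z} : Set K) ≤ F :=
      IntermediateField.adjoin_simple_le_iff.2 hzF
    haveI := finite_adjoin hK.1 hz
    exact ⟨Module.finrank (IntermediateField.adjoin k ({z} : Set K)) (IntermediateField.extendScalars hle),
      (Module.finrank_mul_finrank (IntermediateField.adjoin k ({z} : Set K)) (IntermediateField.extendScalars hle) K).symm.trans
        (mul_comm _ _)⟩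
  have h1 : Module.finrank F K = 1 := Nat.eq_one_of_dvd_coprimes hc
    (hdvd x hx (IntermediateField.subset_adjoin _ _ (Set.mem_insert _ _)))
    (hdvd y hy (IntermediateField.subset_adjoin _ _ (Set.mem_insert_of_mem _ rfl)))
  exact IntermediateField.finrank_eq_one_iff_eq_top.1 h1

end Groth.Agent.FunFldLib

namespace Groth.Agent.FunFldLib

open FunFld

variable {k K : Type*} [Field k] [Field K] [Algebra k K]

/-- `Divisor.deg` as an additive map -/
noncomputable def degAdd : Divisor k K →+ ℤ where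
  toFun := Divisor.deg
  map_zero' := deg_zero
  map_add' := deg_add

theorem degHom_apply (D : Divisor k K) : degAdd D = D.deg := rfl

theorem deg_finsetSum {ι : Type*} (s : Finset ι) (f : ι → Divisor k K) : (∑ i ∈ s, f i).deg = ∑ i ∈ s, (f i).deg :=
  map_sum (degAdd (k := k) (K := K)) f s

end Groth.Agent.FunFldLib

namespace Groth.Agent.FunFldLib

open FunFld

variable {k K : Type*} [Field k] [Field K] [Algebra k K]

theorem exists_div_of_deg_zero (hK : IsFunctionField k K) {D : Divisor k K} (hd : D.deg = 0) (h : 1 ≤ ell D) :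
    ∃ z : K, z ≠ 0 ∧ D + div k z = 0 := by
  obtain ⟨z, hz, hle⟩ := exists_effective hK h
  exact ⟨z, hz, eq_zero_of_deg_nonpos hK.1 hle (by rw [deg_add, deg_div hK.1, hd]; rfl)⟩

theorem exists_div_of_canonical_pair (hK : IsFunctionField k K) {C C' : Divisor k K} (h : IsCanonical k K C) (h' : IsCanonical k K C') :
    ∃ z : K, z ≠ 0 ∧ C' = C + div k z := by
  obtain ⟨w1, hw1, hd1⟩ := h
  obtain ⟨w2, hw2, hd2⟩ := h'
  obtain ⟨x, hx⟩ := exists_mulW_eq' hK hw1 ⟨C, (hd1 C).2 le_rfl⟩ ⟨C', (hd2 C').2 le_rfl⟩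
  have hx0 : x ≠ 0 := by
    rintro rfl
    exact hw2 (hx ▸ (mulWLin hK w1).map_zero)
  refine ⟨x, hx0, le_antisymm ?_ ((hd2 _).1 (hx ▸ mulW_mem hK hx0 ((hd1 C).2 le_rfl)))⟩
  have h1 := mulW_mem hK (inv_ne_zero hx0) ((hd2 C').2 le_rfl)
  rw [← hx, mulW_mulW hK] at h1
  simp only [inv_mul_cancel₀ hx0, mulW_one hK] at h1
  rw [div_inv hK.1, ← sub_eq_add_neg] at h1
  exact sub_le_iff_le_add.1 ((hd1 _).1 h1)

/-- base point: if `ℓ(E) = ℓ(E + P)` then every effective divisor in the class of `E + P` contains `P` -/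
theorem one_le_of_base_point (hK : IsFunctionField k K) {E : Divisor k K} {P : Place k K}
    (hell : ell E = ell (E + Finsupp.single P 1)) {z : K} (hz : z ≠ 0) (h : 0 ≤ E + Finsupp.single P 1 + div k z) :
    1 ≤ (E + Finsupp.single P 1 + div k z : Divisor k K) P := by
  classical
  have hle : E ≤ E + Finsupp.single P 1 := le_add_of_nonneg_right (Finsupp.single_nonneg.2 (by omega))
  haveI := finite_L hK.1 (E + Finsupp.single P 1)
  have heq : L E = L (E + Finsupp.single P 1) := Submodule.eq_of_le_of_finrank_eq (L_mono hle) hell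
  have hz' : z ∈ L E := by
    rw [heq, mem_L_iff hz]
    intro Q
    have := h Q
    rw [Finsupp.zero_apply, Finsupp.add_apply, div_apply hK.1] at this
    omega
  have h1 := (mem_L_iff hz).1 hz' P
  rw [Finsupp.add_apply, div_apply hK.1, Finsupp.add_apply, Finsupp.single_eq_same]
  omega

end Groth.Agent.FunFldLib
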