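import Mathlib
import Groth.Agent.FunFldLib.Gaps
import Groth.Prelude.Def_W4bk4goldsch45

/-! Function fields over finite fields: finiteness of places of bounded degree, divisor classes, counting. -/

set_option autoImplicit false

open WithZero

namespace Groth.Agent.FunFldLib

open FunFld

variable {k K : Type*} [Field k] [Field K] [Algebra k K]

/-- `∑_{deg P ∣ n} deg P` -/
noncomputable def NN (k K : Type*) [Field k] [Field K] [Algebra k K] (n : ℕ) : ℕ :=
  ∑ᶠ P ∈ {P : Place k K | P.deg ∣ n}, P.deg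

theorem mem_prinDivs_iff (hK : IsFF k K) {D : Divisor k K} :
    D ∈ prinDivs k K ↔ ∃ x : K, x ≠ 0 ∧ D = div k x := by
  constructor
  · intro h
    induction h using AddSubgroup.closure_induction with
    | mem x hx =>
      obtain ⟨y, rfl⟩ := hx
      rcases eq_or_ne y 0 with rfl | hy
      · exact ⟨1, one_ne_zero, Finsupp.ext fun P => by
          rw [div_apply hK, div_apply hK, ← map_one (algebraMap k K), ord_algebraMap]; exact ord_zero P⟩
      · exact ⟨y, hy, rfl⟩
    | zero =>
      exact ⟨1, one_ne_zero, Finsupp.ext fun P => by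
        rw [div_apply hK, ← map_one (algebraMap k K), ord_algebraMap]; rfl⟩
    | add a b _ _ iha ihb =>
      obtain ⟨x, hx, rfl⟩ := iha
      obtain ⟨y, hy, rfl⟩ := ihb
      exact ⟨x * y, mul_ne_zero hx hy, (div_mul hK hx hy).symm⟩
    | neg a _ iha =>
      obtain ⟨x, hx, rfl⟩ := iha
      exact ⟨x⁻¹, inv_ne_zero hx, (div_inv hK x).symm⟩
  · rintro ⟨x, -, rfl⟩
    exact AddSubgroup.subset_closure ⟨x, rfl⟩

theorem degHom_eq_deg (D : Divisor k K) : degHom k K D = D.deg := by
  rw [degHom, Finsupp.liftAddHom_apply]; rfl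

/-- the group of divisor classes of degree zero -/
abbrev Cl0 (k K : Type*) [Field k] [Field K] [Algebra k K] : Type _ :=
  (degHom k K).ker ⧸ (prinDivs k K).addSubgroupOf (degHom k K).ker

theorem ell_le_of_deg (hK : IsFunctionField k K) {C : Divisor k K} {n : ℕ} (hC : C.deg = n) : ell C ≤ n + 1 := by
  rcases Nat.eq_zero_or_pos (ell C) with h | h
  · omega
  obtain ⟨z, hz, hle⟩ := exists_effective hK (D := C) h
  have h1 := ell_le_deg_add_one hK.1 hle
  rw [ell_add_div hK hz, deg_add, deg_div hK.1, hC, (ell_zero hK).2] at h1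
  omega

theorem ell_ge (hK : IsFunctionField k K) {C : Divisor k K} {n : ℕ} (hC : C.deg = n) :
    n + 1 ≤ ell C + genus k K := by
  have := delta_le_genus hK C
  simp only [delta, hC] at this
  omega

theorem le_of_deg_eq (hK : IsFF k K) {D : Divisor k K} (h : 0 ≤ D) {n : ℕ} (hd : D.deg = n) (P : Place k K) :
    D P * P.deg ≤ n := by
  classical
  rw [← hd, deg_eq_sum D (insert P D.support) (Finset.subset_insert _ _),
    Finset.sum_insert_of_eq_zero_if_notMem (fun hP => by simp [Finsupp.notMem_support_iff.1 hP])]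
  by_cases hP : P ∈ D.support
  · rw [← Finset.add_sum_erase _ _ hP]
    exact le_add_of_nonneg_right (Finset.sum_nonneg fun Q _ => mul_nonneg (h Q) (by positivity))
  · rw [Finsupp.notMem_support_iff.1 hP, zero_mul]
    exact Finset.sum_nonneg fun Q _ => mul_nonneg (h Q) (by positivity)

section Finite

variable [Finite k]

theorem finite_places_deg_le (hK : IsFF k K) (n : ℕ) : {P : Place k K | P.deg ≤ n}.Finite := by
  classical
  obtain ⟨x, hx, -⟩ := id hK
  have : Finite (Polynomial.degreeLT k (n + 1)) :=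
    Finite.of_equiv _ (Polynomial.degreeLTEquiv k (n + 1)).toEquiv.symm
  let S : Set (Place k K) := {P | 0 < P.ord x⁻¹} ∪
    ⋃ p : {p : Polynomial.degreeLT k (n + 1) // (p : Polynomial k) ≠ 0},
      {P : Place k K | 0 < P.ord (Polynomial.aeval x (p.1 : Polynomial k))}
  have hS : S.Finite := (finite_zeros hK _).union (Set.finite_iUnion fun p => finite_zeros hK _)
  refine hS.subset fun P hP => ?_
  by_cases h1 : P.1 x ≤ 1
  · right
    rw [Set.mem_iUnion]
    haveI hfin : @Module.Finite k (IsLocalRing.ResidueField P.O) _ _ Algebra.toModule := finite_residue hK P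
    set r : IsLocalRing.ResidueField P.O := IsLocalRing.residue P.O ⟨x, h1⟩
    have hint : IsIntegral k r := IsIntegral.of_finite k r
    have hdeg : (minpoly k r).natDegree ≤ n := (minpoly.natDegree_le r).trans hP
    refine ⟨⟨⟨minpoly k r, Polynomial.mem_degreeLT.2 ((Polynomial.degree_le_natDegree).trans_lt
      (by exact_mod_cast Nat.lt_succ_of_le hdeg))⟩, minpoly.ne_zero hint⟩, ?_⟩
    show 0 < P.ord (Polynomial.aeval x (minpoly k r))
    set y : P.O := Polynomial.aeval (⟨x, h1⟩ : P.O) (minpoly k r) with hy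
    have hyv : (y : K) = Polynomial.aeval x (minpoly k r) := by
      rw [hy]
      let f : P.O →ₐ[k] K := { P.O.subtype with commutes' := fun _ => rfl }
      exact (Polynomial.aeval_algHom_apply f _ _).symm
    have hres : IsLocalRing.residue P.O y = 0 := by
      let g : P.O →ₐ[k] IsLocalRing.ResidueField P.O := { IsLocalRing.residue P.O with commutes' := fun _ => rfl }
      show g y = 0
      rw [hy, ← Polynomial.aeval_algHom_apply]
      exact minpoly.aeval k r
    rw [residue_eq_zero_iff_val, hyv] at hres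
    exact (val_lt_one_iff P fun h0 => hx ⟨_, minpoly.ne_zero hint, h0⟩).1 hres
  · left
    have hx0 : x ≠ 0 := fun h => h1 (by simp [h])
    show 0 < P.ord x⁻¹
    rw [ord_inv]
    rw [val_le_one_iff P hx0] at h1
    omega

theorem finite_eff (hK : IsFF k K) (n : ℕ) : Finite {D : Divisor k K // 0 ≤ D ∧ D.deg = n} := by
  classical
  have hS := finite_places_deg_le hK n
  haveI := hS.to_subtype
  refine Finite.of_injective (β := {P : Place k K | P.deg ≤ n} → Fin (n + 1))
    (fun D P => ⟨(D.1 P.1).toNat, ?_⟩) ?_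
  · have h1 := le_of_deg_eq hK D.2.1 D.2.2 P.1
    have h2 : 0 ≤ D.1 P.1 := D.2.1 P.1
    have h3 : D.1 P.1 ≤ D.1 P.1 * (P.1.deg : ℤ) := le_mul_of_one_le_right h2 (by exact_mod_cast deg_pos hK P.1)
    omega
  · intro D E h
    refine Subtype.ext (Finsupp.ext fun P => ?_)
    have hD : 0 ≤ D.1 P := D.2.1 P
    have hE : 0 ≤ E.1 P := E.2.1 P
    by_cases hP : P.deg ≤ n
    · have := congrArg (fun f => ((f ⟨P, hP⟩ : Fin (n + 1)) : ℕ)) h
      simp only at this
      omega
    · have key : ∀ F : Divisor k K, 0 ≤ F → F.deg = n → F P = 0 := fun F h0 hd => by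
        have h1 := le_of_deg_eq hK h0 hd P
        have h2 : 0 ≤ F P := h0 P
        by_contra hne
        have h3 : (P.deg : ℤ) ≤ F P * P.deg := le_mul_of_one_le_left (by positivity) (by omega)
        omega
      rw [key D.1 D.2.1 D.2.2, key E.1 E.2.1 E.2.2]

theorem effDivCount_zero (hK : IsFF k K) : effDivCount k K 0 = 1 := by
  rw [effDivCount, Nat.card_eq_one_iff_exists]
  exact ⟨⟨0, le_rfl, deg_zero⟩, fun D => Subtype.ext (eq_zero_of_deg_nonpos hK D.2.1 (by rw [D.2.2]; rfl))⟩

omit [Finite k] in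
theorem effDivCount_eq_zero {n : ℕ} (h : ¬ ∃ D : Divisor k K, D.deg = n) : effDivCount k K n = 0 := by
  haveI : IsEmpty {D : Divisor k K // 0 ≤ D ∧ D.deg = n} := ⟨fun D => h ⟨D.1, D.2.2⟩⟩
  rw [effDivCount, Nat.card_of_isEmpty]

theorem finite_Cl0 (hK : IsFunctionField k K) : Finite (Cl0 k K) := by
  classical
  obtain ⟨x, hx, -⟩ := id hK.1
  obtain ⟨P0, -⟩ := exists_place_val_lt_one hK.1 hx
  set m := genus k K
  set n := m * P0.deg
  set D0 : Divisor k K := Finsupp.single P0 (m : ℤ)
  have hD0 : D0.deg = n := by rw [deg_single]; push_cast [n]; rfl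
  haveI := finite_eff hK.1 n
  refine Finite.of_surjective (α := {D : Divisor k K // 0 ≤ D ∧ D.deg = n})
    (fun E => QuotientAddGroup.mk (⟨E.1 - D0, by
      rw [AddMonoidHom.mem_ker, degHom_eq_deg, deg_sub, E.2.2, hD0, sub_self]⟩ : (degHom k K).ker)) ?_
  intro c
  obtain ⟨⟨C, hC⟩, rfl⟩ := QuotientAddGroup.mk_surjective c
  rw [AddMonoidHom.mem_ker, degHom_eq_deg] at hC
  have hd : (C + D0).deg = n := by rw [deg_add, hC, hD0, zero_add]
  have hmn : m ≤ n := Nat.le_mul_of_pos_right m (deg_pos hK.1 P0)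
  obtain ⟨z, hz, hle⟩ := exists_effective hK (D := C + D0) (by have := ell_ge hK hd; omega)
  refine ⟨⟨C + D0 + div k z, hle, by rw [deg_add, hd, deg_div hK.1, add_zero]⟩, ?_⟩
  refine QuotientAddGroup.eq.2 ?_
  rw [AddSubgroup.mem_addSubgroupOf, mem_prinDivs_iff hK.1]
  refine ⟨z⁻¹, inv_ne_zero hz, ?_⟩
  rw [div_inv hK.1]
  push_cast
  abel

theorem classNum_pos (hK : IsFunctionField k K) : 0 < classNum k K := by
  haveI := finite_Cl0 hK
  exact Nat.card_pos

/-- counting effective divisors by classes -/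
theorem count_identity (hK : IsFunctionField k K) [Fintype (Cl0 k K)] {n : ℕ} {D0 : Divisor k K} (hD0 : D0.deg = n)
    (rep : Cl0 k K → (degHom k K).ker) (hrep : ∀ c, (QuotientAddGroup.mk (rep c) : Cl0 k K) = c) :
    (Nat.card k - 1) * effDivCount k K n + classNum k K =
      ∑ c : Cl0 k K, Nat.card k ^ ell ((rep c : Divisor k K) + D0) := by
  classical
  haveI := finite_eff hK.1 n
  let φ : {D : Divisor k K // 0 ≤ D ∧ D.deg = n} → Cl0 k K := fun E =>
    QuotientAddGroup.mk (⟨E.1 - D0, by
      rw [AddMonoidHom.mem_ker, degHom_eq_deg, deg_sub, E.2.2, hD0, sub_self]⟩ : (degHom k K).ker)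
  have hsum : effDivCount k K n = ∑ c, Nat.card {E // φ E = c} := by
    rw [effDivCount, ← Nat.card_congr (Equiv.sigmaFiberEquiv φ), Nat.card_sigma]
  have hfib : ∀ c, (Nat.card k - 1) * Nat.card {E // φ E = c} + 1 = Nat.card k ^ ell ((rep c : Divisor k K) + D0) := by
    intro c
    set C : Divisor k K := (rep c : Divisor k K) + D0 with hCdef
    have hC : C.deg = n := by
      have := (rep c).2
      rw [AddMonoidHom.mem_ker, degHom_eq_deg] at this
      rw [hCdef, deg_add, this, hD0, zero_add]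
    haveI := finite_L hK.1 C
    haveI : Finite (L C) := Module.finite_of_finite k
    have hz : ∀ E : {E // φ E = c}, ∃ z : K, z ≠ 0 ∧ E.1.1 = C + div k z := by
      rintro ⟨E, hE⟩
      rw [← hrep c] at hE
      have := QuotientAddGroup.eq.1 hE.symm
      rw [AddSubgroup.mem_addSubgroupOf, mem_prinDivs_iff hK.1] at this
      obtain ⟨x, hx, hxe⟩ := this
      refine ⟨x, hx, ?_⟩
      rw [← hxe, hCdef]
      push_cast
      abel
    choose z hz0 hzE using hz
    have hmem : ∀ E : {E // φ E = c}, z E ∈ L C := fun E => (mem_L_iff (hz0 E)).2 fun P => by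
      have h1 : 0 ≤ E.1.1 P := E.1.2.1 P
      rw [hzE E, Finsupp.add_apply, div_apply hK.1] at h1
      omega
    let Φ : {E // φ E = c} × kˣ → {x : L C // x ≠ 0} := fun p =>
      ⟨(p.2 : k) • (⟨z p.1, hmem p.1⟩ : L C), smul_ne_zero p.2.ne_zero (fun h => hz0 p.1 (congrArg Subtype.val h))⟩
    have hdivsmul : ∀ (u : k) (_ : u ≠ 0) (w : K), w ≠ 0 → div k (u • w) = div k w := fun u hu w hw => by
      rw [Algebra.smul_def, div_mul hK.1 ((map_ne_zero _).2 hu) hw, div_algebraMap hK.1, zero_add]
    have hbij : Function.Bijective Φ := by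
      constructor
      · rintro ⟨E, u⟩ ⟨E', u'⟩ h
        have h1 : (u : k) • z E = (u' : k) • z E' := congrArg (fun x => ((x.1 : L C) : K)) h
        have h2 : E = E' := by
          refine Subtype.ext (Subtype.ext ?_)
          rw [hzE E, hzE E', ← hdivsmul u u.ne_zero _ (hz0 E), h1, hdivsmul u' u'.ne_zero _ (hz0 E')]
        subst h2
        exact Prod.ext rfl (Units.ext (smul_left_injective k (hz0 E) h1))
      · rintro ⟨⟨w, hw⟩, hw0⟩
        have hw0' : w ≠ 0 := fun h => hw0 (Subtype.ext h)
        have hE0 : 0 ≤ C + div k w := fun P => by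
          have := (mem_L_iff hw0').1 hw P
          rw [Finsupp.zero_apply, Finsupp.add_apply, div_apply hK.1]; omega
        let E : {D : Divisor k K // 0 ≤ D ∧ D.deg = n} :=
          ⟨C + div k w, hE0, by rw [deg_add, hC, deg_div hK.1, add_zero]⟩
        have hφ : φ E = c := by
          rw [← hrep c]
          refine QuotientAddGroup.eq.2 ?_
          rw [AddSubgroup.mem_addSubgroupOf, mem_prinDivs_iff hK.1]
          refine ⟨w⁻¹, inv_ne_zero hw0', ?_⟩
          rw [div_inv hK.1]
          simp only [E, hCdef]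
          push_cast
          abel
        have hq : w / z ⟨E, hφ⟩ ∈ L (0 : Divisor k K) := by
          refine (mem_L_iff (div_ne_zero hw0' (hz0 _))).2 fun P => ?_
          have := congrArg (fun D : Divisor k K => D P) (hzE ⟨E, hφ⟩)
          simp only [E, Finsupp.add_apply, div_apply hK.1] at this ⊢
          rw [Finsupp.zero_apply, ord_div P hw0' (hz0 _)]
          omega
        rw [L_zero' hK] at hq
        obtain ⟨u, hu⟩ := hq
        rw [Algebra.linearMap_apply] at hu
        have hu0 : u ≠ 0 := fun h => div_ne_zero hw0' (hz0 ⟨E, hφ⟩) (by rw [← hu, h, map_zero])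
        refine ⟨(⟨E, hφ⟩, Units.mk0 u hu0), Subtype.ext (Subtype.ext ?_)⟩
        show u • z ⟨E, hφ⟩ = w
        rw [Algebra.smul_def, hu, div_mul_cancel₀ _ (hz0 _)]
    haveI : Fintype (L C) := Fintype.ofFinite _
    have h1 := Nat.card_eq_of_bijective Φ hbij
    rw [Nat.card_prod, Nat.card_units] at h1
    have h2 : Nat.card {x : L C // x ≠ 0} + 1 = Nat.card k ^ ell C := by
      rw [show ell C = Module.finrank k (L C) from rfl, ← Module.natCard_eq_pow_finrank, Nat.card_eq_fintype_card,
        Nat.card_eq_fintype_card]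
      rw [Fintype.card_subtype_compl, Fintype.card_subtype_eq]
      have := Fintype.card_pos_iff.2 (⟨0⟩ : Nonempty (L C))
      omega
    rw [mul_comm, h1, h2]
  rw [hsum, Finset.mul_sum, ← Finset.sum_congr rfl fun c _ => hfib c, Finset.sum_add_distrib, Finset.sum_const,
    Finset.card_univ, smul_eq_mul, mul_one, show classNum k K = Fintype.card (Cl0 k K) from Nat.card_eq_fintype_card]

theorem NN_eq_sum (hK : IsFF k K) {n : ℕ} (hn : 0 < n) {m : ℕ} (hm : n ≤ m) :
    NN k K n = ∑ P ∈ (finite_places_deg_le hK m).toFinset.filter (fun P : Place k K => P.deg ∣ n), P.deg := by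
  classical
  refine finsum_mem_eq_sum_of_subset _ ?_ ?_
  · rintro P ⟨hP, -⟩
    rw [Finset.coe_filter]
    exact ⟨(Set.Finite.mem_toFinset _).2 ((Nat.le_of_dvd hn hP).trans hm), hP⟩
  · intro P hP
    exact (Finset.mem_filter.1 hP).2

/-- Euler product, in logarithmic form -/
theorem euler (hK : IsFF k K) (n : ℕ) :
    n * effDivCount k K n = ∑ j ∈ Finset.Icc 1 n, NN k K j * effDivCount k K (n - j) := by
  classical
  haveI := finite_eff hK n
  haveI := Fintype.ofFinite {D : Divisor k K // 0 ≤ D ∧ D.deg = n}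
  set S := (finite_places_deg_le hK n).toFinset
  have hmemS : ∀ P, P ∈ S ↔ P.deg ≤ n := fun P => Set.Finite.mem_toFinset _
  have h1 : n * effDivCount k K n =
      ∑ P ∈ S, P.deg * ∑ D : {D : Divisor k K // 0 ≤ D ∧ D.deg = n}, (D.1 P).toNat := by
    simp only [Finset.mul_sum]
    rw [Finset.sum_comm, effDivCount, Nat.card_eq_fintype_card, ← Finset.card_univ, mul_comm, ← smul_eq_mul,
      ← Finset.sum_const]
    refine Finset.sum_congr rfl fun D _ => ?_
    have hsub : D.1.support ⊆ S := fun P hP => by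
      rw [hmemS]
      have h1 := le_of_deg_eq hK D.2.1 D.2.2 P
      have h2 : 0 ≤ D.1 P := D.2.1 P
      have h3 := Finsupp.mem_support_iff.1 hP
      have h4 : (P.deg : ℤ) ≤ D.1 P * P.deg := le_mul_of_one_le_left (by positivity) (by omega)
      omega
    have := deg_eq_sum D.1 S hsub
    rw [D.2.2] at this
    zify
    refine this.trans ?_
    refine Finset.sum_congr rfl fun P _ => ?_
    have h2 : 0 ≤ D.1 P := D.2.1 P
    rw [Int.toNat_of_nonneg h2, mul_comm]
  have h2 : ∀ P ∈ S, ∑ D : {D : Divisor k K // 0 ≤ D ∧ D.deg = n}, (D.1 P).toNat =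
      ∑ l ∈ (Finset.Icc 1 n).filter (fun l => l * P.deg ≤ n), effDivCount k K (n - l * P.deg) := by
    intro P _
    have e : ∀ D : {D : Divisor k K // 0 ≤ D ∧ D.deg = n}, (D.1 P).toNat =
        ((Finset.Icc 1 n).filter fun l : ℕ => (l : ℤ) ≤ D.1 P).card := fun D => by
      have h1 := le_of_deg_eq hK D.2.1 D.2.2 P
      have h2 : 0 ≤ D.1 P := D.2.1 P
      have h3 : D.1 P ≤ D.1 P * (P.deg : ℤ) := le_mul_of_one_le_right h2 (by exact_mod_cast deg_pos hK P)
      have : (Finset.Icc 1 n).filter (fun l : ℕ => (l : ℤ) ≤ D.1 P) = Finset.Icc 1 (D.1 P).toNat := by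
        ext l; simp only [Finset.mem_filter, Finset.mem_Icc]; omega
      rw [this, Nat.card_Icc]; omega
    simp only [e, Finset.card_filter]
    rw [Finset.sum_comm, Finset.sum_filter]
    refine Finset.sum_congr rfl fun l hl => ?_
    rw [← Finset.card_filter]
    split_ifs with hln
    · rw [effDivCount, ← Fintype.card_subtype, ← Nat.card_eq_fintype_card]
      refine Nat.card_congr
        { toFun := fun D => ⟨D.1.1 - Finsupp.single P (l : ℤ), fun Q => ?_, ?_⟩
          invFun := fun E => ⟨⟨E.1 + Finsupp.single P (l : ℤ), fun Q => ?_, ?_⟩, ?_⟩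
          left_inv := fun D => Subtype.ext (Subtype.ext (sub_add_cancel _ _))
          right_inv := fun E => Subtype.ext (add_sub_cancel_right _ _) }
      · have h0 : 0 ≤ D.1.1 Q := D.1.2.1 Q
        rw [Finsupp.zero_apply, Finsupp.sub_apply, Finsupp.single_apply]
        split_ifs with hQ
        · subst hQ; have := D.2; omega
        · omega
      · rw [deg_sub, D.1.2.2, deg_single, Nat.cast_sub hln]; push_cast; ring
      · have h0 : 0 ≤ E.1 Q := E.2.1 Q
        rw [Finsupp.zero_apply, Finsupp.add_apply, Finsupp.single_apply]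
        split_ifs <;> omega
      · rw [deg_add, E.2.2, deg_single, Nat.cast_sub hln]; push_cast; ring
      · have h0 : 0 ≤ E.1 P := E.2.1 P
        rw [Finsupp.add_apply, Finsupp.single_eq_same]; omega
    · rw [Finset.card_eq_zero, Finset.filter_eq_empty_iff]
      intro D _ hD
      have h1 := le_of_deg_eq hK D.2.1 D.2.2 P
      have h5 : ((l * P.deg : ℕ) : ℤ) ≤ D.1 P * P.deg := by
        push_cast; exact mul_le_mul_of_nonneg_right hD (by positivity)
      omega
  have h3 : ∀ P ∈ S, ∑ l ∈ (Finset.Icc 1 n).filter (fun l => l * P.deg ≤ n), effDivCount k K (n - l * P.deg) =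
      ∑ j ∈ (Finset.Icc 1 n).filter (fun j => P.deg ∣ j), effDivCount k K (n - j) := by
    intro P _
    have hP := deg_pos hK P
    refine Finset.sum_nbij' (fun l => l * P.deg) (fun j => j / P.deg) ?_ ?_ ?_ ?_ (fun _ _ => rfl)
    · intro l hl
      simp only [Finset.mem_filter, Finset.mem_Icc] at hl ⊢
      exact ⟨⟨Nat.mul_pos hl.1.1 hP, hl.2⟩, dvd_mul_left _ _⟩
    · intro j hj
      simp only [Finset.mem_filter, Finset.mem_Icc] at hj ⊢
      rw [Nat.div_mul_cancel hj.2]
      exact ⟨⟨Nat.div_pos (Nat.le_of_dvd hj.1.1 hj.2) hP, (Nat.div_le_self _ _).trans hj.1.2⟩, hj.1.2⟩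
    · intro l _; exact Nat.mul_div_cancel l hP
    · intro j hj
      simp only [Finset.mem_filter] at hj
      exact Nat.div_mul_cancel hj.2
  rw [h1, Finset.sum_congr rfl fun P hP => by rw [h2 P hP, h3 P hP, Finset.sum_filter, Finset.mul_sum],
    Finset.sum_comm]
  refine Finset.sum_congr rfl fun j hj => ?_
  rw [Finset.mem_Icc] at hj
  rw [NN_eq_sum hK hj.1 hj.2, Finset.sum_mul, Finset.sum_filter]
  refine Finset.sum_congr rfl fun P _ => ?_
  split_ifs <;> simp

end Finite

end Groth.Agent.FunFldLib
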