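import Mathlib
import Groth.Agent.FunFldLib.Gaps
import Groth.Prelude.Def_W4bk4goldsch23Ext

/-! Finite extensions: places above, ramification, fundamental equality, conorm. -/

set_option autoImplicit false

open WithZero

namespace Groth.Agent.FunFldLib

open FunFld

variable {k K K' : Type*} [Field k] [Field K] [Field K'] [Algebra k K] [Algebra K K'] [Algebra k K']
  [IsScalarTower k K K']

theorem transcendental_algebraMap {x : K} (hx : Transcendental k x) : Transcendental k (algebraMap K K' x) :=
  fun h => hx ((isAlgebraic_algebraMap_iff (algebraMap K K').injective).1 h)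

theorem adjoin_algebraMap (x : K) :
    IntermediateField.adjoin k ({algebraMap K K' x} : Set K') =
      (IntermediateField.adjoin k ({x} : Set K)).map (IsScalarTower.toAlgHom k K K') := by
  rw [IntermediateField.adjoin_map, Set.image_singleton]; rfl

theorem finrank_adjoin_algebraMap (x : K) :
    Module.finrank (IntermediateField.adjoin k ({algebraMap K K' x} : Set K')) K' =
      Module.finrank (IntermediateField.adjoin k ({x} : Set K)) K * Module.finrank K K' := by
  set F := IntermediateField.adjoin k ({x} : Set K)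
  rw [Module.finrank_mul_finrank F K K', adjoin_algebraMap]
  refine (Algebra.finrank_eq_of_equiv_equiv (F.equivMap (IsScalarTower.toAlgHom k K K')).toRingEquiv (RingEquiv.refl K') ?_).symm
  ext z; rfl

theorem isFF_extension [FiniteDimensional K K'] (hK : IsFF k K) : IsFF k K' := by
  obtain ⟨x, hx, hfin⟩ := hK
  haveI := hfin
  refine ⟨algebraMap K K' x, transcendental_algebraMap hx, Module.finite_of_finrank_pos ?_⟩
  rw [finrank_adjoin_algebraMap]
  exact Nat.mul_pos Module.finrank_pos Module.finrank_pos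

theorem isOverWith_pos {Q : Place k K'} {P : Place k K} {e : ℕ} (h : IsOverWith Q P e) : 1 ≤ e := by
  by_contra h0
  obtain rfl : e = 0 := by omega
  have := h 0
  simp at this

theorem ord_algebraMap_eq {Q : Place k K'} {P : Place k K} {e : ℕ} (h : IsOverWith Q P e) (z : K) :
    Q.ord (algebraMap K K' z) = e * P.ord z := by
  simp [Place.ord, h z, log_pow]

theorem place_unique {Q : Place k K'} {P P' : Place k K} {e e' : ℕ} (h : IsOverWith Q P e) (h' : IsOverWith Q P' e') :
    P = P' ∧ e = e' := by
  have h1 := isOverWith_pos h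
  have h2 := isOverWith_pos h'
  have hP : P = P' := eq_of_forall_le_one fun x hx => by
    have : P.1 x ^ e ≤ 1 := pow_le_one₀ zero_le hx
    rw [← h x, h' x] at this
    exact (pow_le_one_iff (show e' ≠ 0 by omega)).1 this
  subst hP
  obtain ⟨t, ht, hPt⟩ := exists_ord_eq P 1
  have a := ord_algebraMap_eq h t
  have b := ord_algebraMap_eq h' t
  rw [hPt] at a b
  exact ⟨rfl, by omega⟩

variable [FiniteDimensional K K']

theorem exists_restrict (hK : IsFF k K) (Q : Place k K') : ∃ (P : Place k K) (e : ℕ), IsOverWith Q P e := by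
  let V : ValuationSubring K := Q.O.comap (algebraMap K K')
  have hk : ∀ c : k, algebraMap k K c ∈ V := fun c => by
    show Q.1 (algebraMap K K' (algebraMap k K c)) ≤ 1
    rw [← IsScalarTower.algebraMap_apply]; exact Q.2.1 c
  obtain ⟨y, hy0, hy⟩ : ∃ y : K, y ≠ 0 ∧ y⁻¹ ∉ V := by
    by_contra! hall
    obtain ⟨t, ht0, ht, -⟩ := exists_uniformizer Q
    have hle : ∀ c : K, Q.1 (algebraMap K K' c) ≤ 1 := fun c => by
      rcases eq_or_ne c 0 with rfl | hc
      · simp
      · have := hall c⁻¹ (inv_ne_zero hc)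
        rwa [inv_inv] at this
    exact ht.ne (val_eq_one_of_isAlgebraic (k := K) Q.1 hle ht0 (Algebra.IsAlgebraic.isAlgebraic t))
  obtain ⟨P, hP⟩ := exists_place hK V hk hy0 hy
  have hiff : ∀ z : K, P.1 z ≤ 1 ↔ Q.1 (algebraMap K K' z) ≤ 1 := fun z => by
    have := SetLike.ext_iff.1 hP z
    exact this
  obtain ⟨t, ht, hPt⟩ := exists_ord_eq P 1
  have ht' : algebraMap K K' t ≠ 0 := (map_ne_zero _).2 ht
  have he : 0 < Q.ord (algebraMap K K' t) := by
    by_contra hc
    have h1 : P.1 t⁻¹ ≤ 1 := by
      rw [hiff, map_inv₀, val_le_one_iff Q (inv_ne_zero ht'), ord_inv]; omega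
    rw [val_le_one_iff P (inv_ne_zero ht), ord_inv, hPt] at h1
    omega
  refine ⟨P, (Q.ord (algebraMap K K' t)).toNat, fun z => ?_⟩
  rcases eq_or_ne z 0 with rfl | hz
  · rw [map_zero, map_zero, map_zero, zero_pow (by omega)]
  set m := P.ord z
  have hu : z / t ^ m ≠ 0 := div_ne_zero hz (zpow_ne_zero _ ht)
  have hu0 : P.ord (z / t ^ m) = 0 := by
    rw [ord_div P hz (zpow_ne_zero _ ht), ord_zpow, hPt, mul_one, sub_self]
  have h1 := (hiff _).1 ((val_le_one_iff P hu).2 hu0.ge)
  have h2 := (hiff _).1 ((val_le_one_iff P (inv_ne_zero hu)).2 (by rw [ord_inv, hu0, neg_zero]))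
  rw [val_le_one_iff Q ((map_ne_zero _).2 hu)] at h1
  rw [map_inv₀, val_le_one_iff Q (inv_ne_zero ((map_ne_zero _).2 hu)), ord_inv] at h2
  have h3 : Q.ord (algebraMap K K' z) = m * Q.ord (algebraMap K K' t) := by
    have h4 : Q.ord (algebraMap K K' (z / t ^ m)) = 0 := by omega
    rw [map_div₀, map_zpow₀, ord_div Q ((map_ne_zero _).2 hz) (zpow_ne_zero _ ht'), ord_zpow] at h4
    omega
  rw [val_eq_exp Q ((map_ne_zero _).2 hz), val_eq_exp P hz, ← exp_nsmul, h3, exp_inj, nsmul_eq_mul,
    Int.toNat_of_nonneg he.le]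
  ring

/-- the place below -/
noncomputable def below (hK : IsFF k K) (Q : Place k K') : Place k K := (exists_restrict hK Q).choose

/-- its ramification index -/
noncomputable def eAt (hK : IsFF k K) (Q : Place k K') : ℕ := (exists_restrict hK Q).choose_spec.choose

theorem isOverWith_below (hK : IsFF k K) (Q : Place k K') : IsOverWith Q (below hK Q) (eAt hK Q) :=
  (exists_restrict hK Q).choose_spec.choose_spec

theorem isOver_iff (hK : IsFF k K) (Q : Place k K') (P : Place k K) : IsOver Q P ↔ below hK Q = P :=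
  ⟨fun ⟨_, h⟩ => (place_unique (isOverWith_below hK Q) h).1, fun h => h ▸ ⟨_, isOverWith_below hK Q⟩⟩

theorem ramIdx_below (hK : IsFF k K) (Q : Place k K') : ramIdx Q (below hK Q) = eAt hK Q := by
  classical
  have h : IsOver Q (below hK Q) := ⟨_, isOverWith_below hK Q⟩
  rw [ramIdx, dif_pos h]
  exact (place_unique (isOverWith_below hK Q) (Nat.find_spec h)).2.symm

theorem finite_over (hK : IsFF k K) (P : Place k K) : {Q : Place k K' | IsOver Q P}.Finite := by
  obtain ⟨t, ht, hPt⟩ := exists_ord_eq P 1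
  refine (finite_zeros (isFF_extension (K' := K') hK) (algebraMap K K' t)).subset fun Q ⟨e, he⟩ => ?_
  show 0 < Q.ord _
  have h1 := isOverWith_pos he
  rw [ord_algebraMap_eq he, hPt]
  omega

theorem conorm_apply (hK : IsFF k K) (D : Divisor k K) (Q : Place k K') :
    conorm K' D Q = (eAt hK Q : ℤ) * D (below hK Q) := by
  classical
  rw [conorm, Finsupp.sum, Finsupp.finsetSum_apply]
  have key : ∀ P, (D P • if h : {Q : Place k K' | IsOver Q P}.Finite then
      h.toFinset.sum (fun Q => (ramIdx Q P : ℤ) • Finsupp.single Q 1) else 0 : Divisor k K') Q =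
      if P = below hK Q then (eAt hK Q : ℤ) * D P else 0 := by
    intro P
    rw [dif_pos (finite_over hK P), Finsupp.smul_apply, Finsupp.finsetSum_apply]
    simp only [Finsupp.smul_apply, Finsupp.single_apply, smul_eq_mul, mul_ite, mul_one, mul_zero]
    rw [Finset.sum_ite_eq']
    have hmem : Q ∈ (finite_over (K' := K') hK P).toFinset ↔ IsOver Q P := Set.Finite.mem_toFinset _
    by_cases hP : P = below hK Q
    · rw [if_pos hP, if_pos (hmem.2 ((isOver_iff hK Q P).2 hP.symm)), hP, ramIdx_below, mul_comm]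
    · rw [if_neg hP, if_neg fun h => hP ((isOver_iff hK Q P).1 (hmem.1 h)).symm, mul_zero]
  rw [Finset.sum_congr rfl fun P _ => key P, Finset.sum_ite_eq']
  split_ifs with h
  · rfl
  · rw [Finsupp.notMem_support_iff.1 h, mul_zero]

theorem conorm_add (hK : IsFF k K) (D E : Divisor k K) : conorm K' (D + E) = conorm K' D + conorm K' E :=
  Finsupp.ext fun Q => by simp only [Finsupp.add_apply, conorm_apply hK, mul_add]

theorem div_algebraMap_eq_conorm (hK : IsFF k K) (x : K) : div k (algebraMap K K' x) = conorm K' (div k x) :=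
  Finsupp.ext fun Q => by
    rw [div_apply (isFF_extension hK), conorm_apply hK, div_apply hK, ord_algebraMap_eq (isOverWith_below hK Q)]

/-- fundamental equality -/
theorem sum_ram_mul_deg (hK : IsFunctionField k K) (P : Place k K) (Qs : Finset (Place k K'))
    (hQs : ∀ Q, Q ∈ Qs ↔ IsOver Q P) :
    (∑ Q ∈ Qs, ramIdx Q P * Q.deg) = Module.finrank K K' * P.deg := by
  classical
  have hP1 := deg_pos hK.1 P
  obtain ⟨m, hm⟩ : ∃ m : ℕ, 1 < ell (Finsupp.single P (m : ℤ)) := by
    obtain ⟨N, hN⟩ := exists_delta_large hK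
    refine ⟨N.toNat + genus k K + 2, ?_⟩
    have h1 := hN (Finsupp.single P ((N.toNat + genus k K + 2 : ℕ) : ℤ)) (by
      rw [deg_single]; push_cast; nlinarith [Int.self_le_toNat N])
    simp only [delta, deg_single] at h1
    push_cast at h1 ⊢
    nlinarith
  obtain ⟨x, hx, hx0⟩ : ∃ x ∈ L (Finsupp.single P (m : ℤ)), x ∉ L (0 : Divisor k K) := by
    by_contra! h
    haveI := (ell_zero hK).1
    have := Submodule.finrank_mono (show L (Finsupp.single P (m : ℤ)) ≤ L (0 : Divisor k K) from h)
    have h0 := (ell_zero hK).2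
    simp only [ell] at hm h0
    omega
  have hne : x ≠ 0 := fun h => hx0 (h ▸ zero_mem _)
  have hxo := (mem_L_single_iff P hne (m : ℤ)).1 hx
  have hneg : P.ord x < 0 := by
    by_contra hc
    refine hx0 ((mem_L_iff hne).2 fun Q => ?_)
    rw [Finsupp.zero_apply, neg_zero]
    rcases eq_or_ne Q P with rfl | h
    · exact not_lt.1 hc
    · exact hxo.2 Q h
  have hT := transcendental_of_ord_ne_zero hK (P := P) (x := x) (by omega)
  have hA : (-div k x) ⊔ 0 = Finsupp.single P (-P.ord x) := Finsupp.ext fun Q => by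
    rw [Finsupp.sup_apply, Finsupp.neg_apply, div_apply hK.1, Finsupp.zero_apply, Finsupp.single_apply]
    split_ifs with hQ
    · subst hQ; omega
    · have := hxo.2 Q (Ne.symm hQ); omega
  have h1 := deg_poles hK.1 hT
  rw [hA, deg_single] at h1
  have hFF : IsFF k K' := isFF_extension hK.1
  have h2 := deg_poles hFF (transcendental_algebraMap (K' := K') hT)
  rw [finrank_adjoin_algebraMap, Nat.cast_mul, ← h1] at h2
  rw [deg_eq_sum _ Qs (fun Q hQ => ?_)] at h2
  · have h3 : ∀ Q ∈ Qs, ((-div k (algebraMap K K' x)) ⊔ 0 : Divisor k K') Q * Q.deg =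
        (-P.ord x) * ((ramIdx Q P : ℤ) * Q.deg) := fun Q hQ => by
      have hb := (isOver_iff hK.1 Q P).1 ((hQs Q).1 hQ)
      rw [Finsupp.sup_apply, Finsupp.neg_apply, Finsupp.zero_apply, div_apply hFF,
        ord_algebraMap_eq (isOverWith_below hK.1 Q), ← hb, ramIdx_below, hb,
        max_eq_left (by have := mul_nonpos_of_nonneg_of_nonpos (Int.natCast_nonneg (eAt hK.1 Q)) hneg.le; omega)]
      ring
    rw [Finset.sum_congr rfl h3, ← Finset.mul_sum, mul_assoc] at h2
    have h4 := mul_left_cancel₀ (show (-P.ord x) ≠ 0 by omega) h2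
    rw [mul_comm (P.deg : ℤ)] at h4
    exact_mod_cast h4
  · rw [hQs, isOver_iff hK.1]
    rw [Finsupp.mem_support_iff, Finsupp.sup_apply, Finsupp.neg_apply, Finsupp.zero_apply, div_apply hFF,
      ord_algebraMap_eq (isOverWith_below hK.1 Q)] at hQ
    by_contra hne'
    have := mul_nonneg (Int.natCast_nonneg (eAt hK.1 Q)) (hxo.2 _ hne')
    exact hQ (max_eq_right (by omega))

theorem exists_over (hK : IsFunctionField k K) (P : Place k K) : ∃ Q : Place k K', IsOver Q P := by
  by_contra! h
  have h1 := sum_ram_mul_deg (K' := K') hK P ∅ fun Q => by simp [h Q]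
  rw [Finset.sum_empty] at h1
  have := Nat.mul_pos (Module.finrank_pos (R := K) (M := K')) (deg_pos hK.1 P)
  omega

theorem deg_conorm (hK : IsFunctionField k K) (D : Divisor k K) :
    (conorm K' D).deg = Module.finrank K K' * D.deg := by
  classical
  induction D using Finsupp.induction with
  | zero =>
    have : conorm K' (0 : Divisor k K) = 0 := Finsupp.sum_zero_index
    simp [this, deg_zero]
  | single_add P n D _ _ ih =>
    rw [conorm_add hK.1, deg_add, deg_add, ih, deg_single, mul_add]
    congr 1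
    rw [deg_eq_sum _ (finite_over (K' := K') hK.1 P).toFinset]
    · have h := sum_ram_mul_deg hK P (finite_over (K' := K') hK.1 P).toFinset (fun Q => by simp)
      have h' : ((∑ Q ∈ (finite_over (K' := K') hK.1 P).toFinset, ramIdx Q P * Q.deg : ℕ) : ℤ) =
          ((Module.finrank K K' * P.deg : ℕ) : ℤ) := by rw [h]
      push_cast at h'
      rw [show (Module.finrank K K' : ℤ) * (n * P.deg) = n * ((Module.finrank K K' : ℤ) * P.deg) by ring, ← h',
        Finset.mul_sum]
      refine Finset.sum_congr rfl fun Q hQ => ?_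
      have hb := (isOver_iff hK.1 Q P).1 ((Set.Finite.mem_toFinset _).1 hQ :)
      have hr : ramIdx Q P = eAt hK.1 Q := hb ▸ ramIdx_below hK.1 Q
      rw [conorm_apply hK.1, hb, Finsupp.single_eq_same, hr]
      ring
    · intro Q hQ
      rw [Finsupp.mem_support_iff, conorm_apply hK.1] at hQ
      refine (Set.Finite.mem_toFinset _).2 ((isOver_iff hK.1 Q P).2 ?_)
      by_contra hne
      exact hQ (by rw [Finsupp.single_eq_of_ne hne, mul_zero])

end Groth.Agent.FunFldLib
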