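import Mathlib
import Groth.Agent.FunFldLib.Extension

/-! Galois action on places. -/

set_option autoImplicit false

open WithZero Pointwise

namespace Groth.Agent.FunFldLib

open FunFld

variable {k K K' : Type*} [Field k] [Field K] [Field K'] [Algebra k K] [Algebra K K'] [Algebra k K']
  [IsScalarTower k K K']

/-- `x ↦ v_Q(σ x)` -/
noncomputable def twist (σ : K' ≃ₐ[K] K') (Q : Place k K') : Place k K' :=
  ⟨Q.1.comap (σ : K' →+* K'), fun c => by
      rw [Valuation.comap_apply, IsScalarTower.algebraMap_apply k K K']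
      show Q.1 (σ (algebraMap K K' _)) ≤ 1
      rw [σ.commutes, ← IsScalarTower.algebraMap_apply]; exact Q.2.1 c,
    fun u => by
      obtain ⟨z, hz⟩ := Q.2.2 u
      exact ⟨σ.symm z, by simpa [Valuation.comap_apply] using hz⟩⟩

theorem twist_val (σ : K' ≃ₐ[K] K') (Q : Place k K') (x : K') : (twist σ Q).1 x = Q.1 (σ x) := rfl

theorem twist_one (Q : Place k K') : twist (1 : K' ≃ₐ[K] K') Q = Q := Subtype.ext (Valuation.ext fun _ => rfl)

theorem twist_mul (σ τ : K' ≃ₐ[K] K') (Q : Place k K') : twist (σ * τ) Q = twist τ (twist σ Q) :=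
  Subtype.ext (Valuation.ext fun _ => rfl)

theorem isOverWith_twist {Q : Place k K'} {P : Place k K} {e : ℕ} (h : IsOverWith Q P e) (σ : K' ≃ₐ[K] K') :
    IsOverWith (twist σ Q) P e := fun x => by rw [twist_val, σ.commutes]; exact h x

theorem exists_twist_eq [FiniteDimensional K K'] [IsGalois K K'] {Q₁ Q₂ : Place k K'}
    (h : ∀ x : K, Q₁.1 (algebraMap K K' x) < 1 ↔ Q₂.1 (algebraMap K K' x) < 1) :
    ∃ σ : K' ≃ₐ[K] K', twist σ Q₁ = Q₂ := by
  classical
  by_contra! hne
  have hne' : ∀ σ : K' ≃ₐ[K] K', Q₂ ≠ twist σ Q₁ := fun σ => (hne σ).symm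
  set S : Finset (Place k K') := insert Q₂ (Finset.univ.image fun σ : K' ≃ₐ[K] K' => twist σ Q₁)
  obtain ⟨x, hx⟩ := exists_approx S (fun Q => if Q = Q₂ then 0 else 1) (fun _ => -1)
  have h2 : Q₂.1 x < 1 := by
    have := hx Q₂ (Finset.mem_insert_self _ _)
    rw [if_pos rfl, sub_zero] at this
    exact this.trans_lt (by rw [← exp_zero]; exact exp_lt_exp.2 (by norm_num))
  have h1 : ∀ σ : K' ≃ₐ[K] K', Q₁.1 (σ x) = 1 := fun σ => by
    have := hx (twist σ Q₁) (Finset.mem_insert_of_mem (Finset.mem_image_of_mem _ (Finset.mem_univ σ)))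
    rw [if_neg (hne σ)] at this
    have h3 : (twist σ Q₁).1 (x - 1) < 1 := this.trans_lt (by rw [← exp_zero]; exact exp_lt_exp.2 (by norm_num))
    have h4 := val_one_add_of_lt_one (twist σ Q₁) h3
    rwa [add_sub_cancel] at h4
  have hN := Algebra.norm_eq_prod_automorphisms K x
  have hQ1 : Q₁.1 (algebraMap K K' (Algebra.norm K x)) = 1 := by
    rw [hN, map_prod]; exact Finset.prod_eq_one fun σ _ => h1 σ
  have hle : ∀ σ : K' ≃ₐ[K] K', Q₁.1 (σ x) = 1 := h1
  have hx0 : x ≠ 0 := fun h0 => by have := h1 1; rw [h0, map_zero, map_zero] at this; exact zero_ne_one this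
  -- at `Q₂` some conjugate has value `< 1`; compare through a further twist
  by_cases hall : ∀ σ : K' ≃ₐ[K] K', Q₂.1 (σ x) ≤ 1
  · have hlt : Q₂.1 (algebraMap K K' (Algebra.norm K x)) < 1 := by
      rw [hN, map_prod, ← Finset.mul_prod_erase _ _ (Finset.mem_univ (1 : K' ≃ₐ[K] K'))]
      exact mul_lt_one_of_nonneg_of_lt_one_left zero_le h2 (Finset.prod_le_one' fun σ _ => hall σ)
    exact ((h _).2 hlt).ne hQ1
  · push Not at hall
    obtain ⟨τ, hτ⟩ := hall
    -- use a stronger approximation: integral at all conjugates of `Q₂` as well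
    set S' : Finset (Place k K') := S ∪ Finset.univ.image fun σ : K' ≃ₐ[K] K' => twist σ Q₂
    obtain ⟨y, hy⟩ := exists_approx S' (fun Q => if Q = Q₂ then 0 else 1) (fun _ => -1)
    have hy2 : Q₂.1 y < 1 := by
      have := hy Q₂ (Finset.mem_union_left _ (Finset.mem_insert_self _ _))
      rw [if_pos rfl, sub_zero] at this
      exact this.trans_lt (by rw [← exp_zero]; exact exp_lt_exp.2 (by norm_num))
    have hy' : ∀ R ∈ S', R.1 y ≤ 1 := fun R hR => by
      have h3 : R.1 (y - (if R = Q₂ then (0 : K') else 1)) ≤ 1 :=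
        (hy R hR).trans (by rw [← exp_zero]; exact exp_le_exp.2 (by norm_num))
      split_ifs at h3 with hR2
      · rwa [sub_zero] at h3
      · have := Valuation.map_add_le R.1 h3 (R.1.map_one).le
        rwa [sub_add_cancel] at this
    have hy1 : ∀ σ : K' ≃ₐ[K] K', Q₁.1 (σ y) = 1 := fun σ => by
      have := hy (twist σ Q₁) (Finset.mem_union_left _ (Finset.mem_insert_of_mem (Finset.mem_image_of_mem _ (Finset.mem_univ σ))))
      rw [if_neg (hne σ)] at this
      have h3 : (twist σ Q₁).1 (y - 1) < 1 := this.trans_lt (by rw [← exp_zero]; exact exp_lt_exp.2 (by norm_num))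
      have h4 := val_one_add_of_lt_one (twist σ Q₁) h3
      rwa [add_sub_cancel] at h4
    have hN' := Algebra.norm_eq_prod_automorphisms K y
    have hlt : Q₂.1 (algebraMap K K' (Algebra.norm K y)) < 1 := by
      rw [hN', map_prod, ← Finset.mul_prod_erase _ _ (Finset.mem_univ (1 : K' ≃ₐ[K] K'))]
      exact mul_lt_one_of_nonneg_of_lt_one_left zero_le hy2 (Finset.prod_le_one' fun σ _ =>
        hy' (twist σ Q₂) (Finset.mem_union_right _ (Finset.mem_image_of_mem _ (Finset.mem_univ σ))))
    refine ((h _).2 hlt).ne ?_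
    rw [hN', map_prod]; exact Finset.prod_eq_one fun σ _ => hy1 σ

theorem twist_eq_of_mem_decomposition {Q : Place k K'} {σ : K' ≃ₐ[K] K'} :
    σ ∈ Q.O.decompositionSubgroup K ↔ twist σ Q = Q := by
  rw [ValuationSubring.decompositionSubgroup, MulAction.mem_stabilizer_iff]
  constructor
  · intro h
    refine (eq_of_forall_le_one fun x hx => ?_).symm
    have hx' : σ • x ∈ σ • Q.O := ValuationSubring.smul_mem_pointwise_smul σ x Q.O hx
    rw [h] at hx'
    exact hx'
  · intro h
    refine SetLike.ext fun x => ?_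
    rw [ValuationSubring.mem_smul_pointwise_iff_exists]
    constructor
    · rintro ⟨y, hy, rfl⟩
      show Q.1 (σ y) ≤ 1
      rw [← twist_val, h]; exact hy
    · intro hx
      refine ⟨σ.symm x, ?_, AlgEquiv.apply_symm_apply σ x⟩
      have h2 : (twist σ Q).1 (σ.symm x) = Q.1 x := by rw [twist_val, AlgEquiv.apply_symm_apply]
      show Q.1 (σ.symm x) ≤ 1
      rw [h] at h2; rw [h2]; exact hx

theorem card_mul_card_decomposition [FiniteDimensional K K'] [IsGalois K K'] (hK : IsFF k K) {Q : Place k K'}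
    {P : Place k K} {e : ℕ} (he : IsOverWith Q P e) :
    Nat.card {Q' : Place k K' // IsOver Q' P} * Nat.card (Q.O.decompositionSubgroup K) = Module.finrank K K' := by
  classical
  let ψ : (K' ≃ₐ[K] K') → {Q' : Place k K' // IsOver Q' P} := fun σ => ⟨twist σ⁻¹ Q, e, isOverWith_twist he _⟩
  have hfib : ∀ σ τ : K' ≃ₐ[K] K', ψ σ = ψ τ ↔ σ⁻¹ * τ ∈ Q.O.decompositionSubgroup K := by
    intro σ τ
    rw [twist_eq_of_mem_decomposition, twist_mul]
    constructor
    · intro h
      rw [show twist σ⁻¹ Q = twist τ⁻¹ Q from congrArg Subtype.val h, ← twist_mul, inv_mul_cancel, twist_one]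
    · intro h
      refine Subtype.ext ?_
      show twist σ⁻¹ Q = twist τ⁻¹ Q
      have := congrArg (twist τ⁻¹) h
      rwa [← twist_mul, mul_inv_cancel, twist_one] at this
  let e' : (K' ≃ₐ[K] K') ⧸ (Q.O.decompositionSubgroup K) → {Q' : Place k K' // IsOver Q' P} :=
    Quotient.lift ψ fun σ τ h => (hfib σ τ).2 (QuotientGroup.leftRel_apply.1 h)
  have hbij : Function.Bijective e' := by
    constructor
    · intro a b
      induction a using Quotient.inductionOn' with | h σ => ?_
      induction b using Quotient.inductionOn' with | h τ => ?_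
      intro h
      exact QuotientGroup.eq.2 ((hfib σ τ).1 h)
    · rintro ⟨Q', e'', he''⟩
      obtain ⟨σ, hσ⟩ := exists_twist_eq (K := K) (Q₁ := Q) (Q₂ := Q') fun x => by
        rw [he x, he'' x, pow_lt_one_iff_of_nonneg zero_le (show e ≠ 0 from Nat.one_le_iff_ne_zero.1 (isOverWith_pos he)),
          pow_lt_one_iff_of_nonneg zero_le (show e'' ≠ 0 from Nat.one_le_iff_ne_zero.1 (isOverWith_pos he''))]
      exact ⟨Quotient.mk _ σ⁻¹, Subtype.ext (by show twist σ⁻¹⁻¹ Q = Q'; rw [inv_inv]; exact hσ)⟩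
  rw [← Nat.card_eq_of_bijective e' hbij, ← IsGalois.card_aut_eq_finrank K K',
    ← Subgroup.index_eq_card, Subgroup.index_mul_card]

end Groth.Agent.FunFldLib

namespace Groth.Agent.FunFldLib

open FunFld IsLocalRing

variable {k K K' : Type*} [Field k] [Field K] [Field K'] [Algebra k K] [Algebra K K'] [Algebra k K']
  [IsScalarTower k K K']

theorem deg_twist (σ : K' ≃ₐ[K] K') (Q : Place k K') : (twist σ Q).deg = Q.deg := by
  let e : (twist σ Q).O ≃+* Q.O :=
    { toFun := fun x => ⟨σ x.1, x.2⟩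
      invFun := fun x => ⟨σ.symm x.1, show Q.1 (σ (σ.symm x.1)) ≤ 1 by rw [σ.apply_symm_apply]; exact x.2⟩
      left_inv := fun x => Subtype.ext (σ.symm_apply_apply x.1)
      right_inv := fun x => Subtype.ext (σ.apply_symm_apply x.1)
      map_mul' := fun x y => Subtype.ext (map_mul σ x.1 y.1)
      map_add' := fun x y => Subtype.ext (map_add σ x.1 y.1) }
  refine Algebra.finrank_eq_of_equiv_equiv (RingEquiv.refl k) (IsLocalRing.ResidueField.mapEquiv e) ?_
  ext c
  refine Eq.symm ?_
  show IsLocalRing.ResidueField.map (e : (twist σ Q).O →+* Q.O) (residue _ _) = residue _ _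
  rw [IsLocalRing.ResidueField.map_residue]
  congr 1
  refine Subtype.ext ?_
  show σ (algebraMap k K' c) = algebraMap k K' c
  rw [IsScalarTower.algebraMap_apply k K K', σ.commutes]

theorem card_decomposition_mul_deg [FiniteDimensional K K'] [IsGalois K K'] (hK : IsFunctionField k K)
    {Q : Place k K'} {P : Place k K} {e : ℕ} (he : IsOverWith Q P e) :
    Nat.card (Q.O.decompositionSubgroup K) * P.deg = e * Q.deg := by
  classical
  have hfin := finite_over (K' := K') hK.1 P
  have h1 := sum_ram_mul_deg hK P hfin.toFinset fun Q => by simp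
  have hall : ∀ Q' ∈ hfin.toFinset, ramIdx Q' P * Q'.deg = e * Q.deg := by
    intro Q' hQ'
    obtain ⟨e', he'⟩ := (Set.Finite.mem_toFinset hfin).1 hQ'
    obtain ⟨σ, hσ⟩ := exists_twist_eq (K := K) (Q₁ := Q) (Q₂ := Q') fun x => by
      rw [he x, he' x, pow_lt_one_iff_of_nonneg zero_le (show e ≠ 0 from Nat.one_le_iff_ne_zero.1 (isOverWith_pos he)),
        pow_lt_one_iff_of_nonneg zero_le (show e' ≠ 0 from Nat.one_le_iff_ne_zero.1 (isOverWith_pos he'))]
    subst hσ
    have h2 := isOverWith_twist he σ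
    have hb := (isOver_iff hK.1 (twist σ Q) P).1 ⟨e, h2⟩
    rw [deg_twist, ← hb, ramIdx_below, (place_unique (isOverWith_below hK.1 (twist σ Q)) h2).2]
  rw [Finset.sum_congr rfl hall, Finset.sum_const, smul_eq_mul] at h1
  have hc : Nat.card {Q' : Place k K' // IsOver Q' P} = hfin.toFinset.card := Nat.card_eq_card_finite_toFinset hfin
  have h3 := card_mul_card_decomposition hK.1 he
  rw [hc] at h3
  have hpos : 0 < hfin.toFinset.card := Finset.card_pos.2 ⟨Q, (Set.Finite.mem_toFinset hfin).2 ⟨e, he⟩⟩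
  refine Nat.eq_of_mul_eq_mul_left hpos ?_
  rw [← mul_assoc, h3, h1]

end Groth.Agent.FunFldLib
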