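import Mathlib
import Groth.Agent.FunFldLib.Galois
import Groth.Agent.FunFldLib.ZetaCount

/-! Twisted point counts `∑_{Q : σ ≡ Frob} deg Q` and their sum over a Galois group. -/

set_option autoImplicit false

open WithZero IsLocalRing

namespace Groth.Agent.FunFldLib

open FunFld

/-- places at which `σ` induces the `q`-power map, `q = #k` -/
def frobSet (k : Type*) {E : Type*} [Field k] [Field E] [Algebra k E] (σ : E → E) : Set (Place k E) :=
  {Q | ∀ z : E, Q.1 z ≤ 1 → Q.1 (σ z - z ^ Nat.card k) < 1}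

variable {k F E : Type*} [Field k] [Field F] [Field E] [Algebra k F] [Algebra F E] [Algebra k E]
  [IsScalarTower k F E]

/-- the residual automorphism of a decomposition element -/
noncomputable def resMap (Q : Place k E) (σ : E ≃ₐ[F] E) (h : twist σ Q = Q) :
    ResidueField Q.O →ₐ[k] ResidueField Q.O :=
  let g : Q.O →+* Q.O := ((σ : E →+* E).comp Q.O.subtype).codRestrict Q.O fun z =>
    show Q.1 (σ z.1) ≤ 1 by rw [← twist_val, h]; exact z.2
  haveI : IsLocalHom g := ⟨fun z hz => by
    rw [← IsLocalRing.residue_ne_zero_iff_isUnit, Ne, residue_eq_zero_iff_val] at hz ⊢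
    refine fun hlt => hz ?_
    show Q.1 (σ z.1) < 1
    rw [← twist_val, h]; exact hlt⟩
  { IsLocalRing.ResidueField.map g with
    commutes' := fun c => by
      show IsLocalRing.ResidueField.map g (IsLocalRing.residue Q.O _) = IsLocalRing.residue Q.O _
      rw [IsLocalRing.ResidueField.map_residue]
      congr 1
      refine Subtype.ext ?_
      show σ (algebraMap k E c) = algebraMap k E c
      rw [IsScalarTower.algebraMap_apply k F E, σ.commutes] }

theorem resMap_residue (Q : Place k E) (σ : E ≃ₐ[F] E) (h : twist σ Q = Q) (z : Q.O) :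
    resMap Q σ h (residue Q.O z) = residue Q.O ⟨σ z.1, show Q.1 (σ z.1) ≤ 1 by rw [← twist_val, h]; exact z.2⟩ := rfl

theorem resMap_ext (Q : Place k E) {σ τ : E ≃ₐ[F] E} (e : σ = τ) (h : twist σ Q = Q) (h' : twist τ Q = Q) :
    resMap Q σ h = resMap Q τ h' := by subst e; rfl

/-- residual action of the decomposition group -/
noncomputable def resHom (Q : Place k E) : Q.O.decompositionSubgroup F →* (ResidueField Q.O →ₐ[k] ResidueField Q.O) where
  toFun σ := resMap Q σ.1 (twist_eq_of_mem_decomposition.1 σ.2)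
  map_one' := AlgHom.ext fun x => by
    obtain ⟨z, rfl⟩ := residue_surjective x
    rw [resMap_residue]; rfl
  map_mul' σ τ := AlgHom.ext fun x => by
    obtain ⟨z, rfl⟩ := residue_surjective x
    show resMap Q (σ * τ).1 (twist_eq_of_mem_decomposition.1 (σ * τ).2) (residue Q.O z) =
      resMap Q σ.1 (twist_eq_of_mem_decomposition.1 σ.2)
        (resMap Q τ.1 (twist_eq_of_mem_decomposition.1 τ.2) (residue Q.O z))
    rw [resMap_residue, resMap_residue, resMap_residue]; rfl

variable [Finite k]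

theorem finite_residue' {K : Type*} [Field K] [Algebra k K] (hK : IsFF k K) (P : Place k K) :
    Finite (ResidueField P.O) ∧ Nat.card (ResidueField P.O) = Nat.card k ^ P.deg := by
  have h : @Module.Finite k (ResidueField P.O) _ _ Algebra.toModule := finite_residue hK P
  haveI := @Module.finite_of_finite k (ResidueField P.O) _ _ Algebra.toModule _ h
  exact ⟨inferInstance, Module.natCard_eq_pow_finrank⟩

/-- residues at a place of degree one are constants -/
theorem exists_const {K : Type*} [Field K] [Algebra k K] (hK : IsFF k K) {P : Place k K} (hP : P.deg = 1) {z : K}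
    (hz : P.1 z ≤ 1) : ∃ c : k, P.1 (z - algebraMap k K c) < 1 := by
  classical
  obtain ⟨hfin, hcard⟩ := finite_residue' hK P
  haveI := Fintype.ofFinite k
  haveI := Fintype.ofFinite (ResidueField P.O)
  rw [hP, pow_one, Nat.card_eq_fintype_card, Nat.card_eq_fintype_card] at hcard
  obtain ⟨c, hc⟩ := ((Fintype.bijective_iff_injective_and_card _).2
    ⟨(algebraMap k (ResidueField P.O)).injective, hcard.symm⟩).2 (residue P.O ⟨z, hz⟩)
  refine ⟨c, (residue_eq_zero_iff_val P ((⟨z, hz⟩ : P.O) - algebraMap k P.O c)).1 ?_⟩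
  rw [map_sub, sub_eq_zero, ← hc]
  rfl

variable [FiniteDimensional F E]

omit [FiniteDimensional F E] in
theorem twist_eq_of_mem_frobSet {σ : E ≃ₐ[F] E} {Q : Place k E} (h : Q ∈ frobSet k σ) : twist σ Q = Q := by
  refine (eq_of_forall_le_one fun x hx => ?_).symm
  rw [twist_val]
  have h1 := Q.1.map_add (σ x - x ^ Nat.card k) (x ^ Nat.card k)
  rw [sub_add_cancel, map_pow] at h1
  exact h1.trans (max_le (h x hx).le (pow_le_one₀ zero_le hx))

theorem deg_below_of_mem_frobSet (hF : IsFunctionField k F) {σ : E ≃ₐ[F] E} {Q : Place k E} (h : Q ∈ frobSet k σ) :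
    (below hF.1 Q).deg = 1 := by
  classical
  set P := below hF.1 Q
  have he := isOverWith_below hF.1 Q
  obtain ⟨hfin, hcard⟩ := finite_residue' hF.1 P
  haveI := Fintype.ofFinite (ResidueField P.O)
  set q := Nat.card k
  have hq : 1 < q := Finite.one_lt_card
  have hall : ∀ y : ResidueField P.O, y ^ q = y := by
    intro y
    obtain ⟨z, rfl⟩ := residue_surjective y
    have h1 : Q.1 (algebraMap F E z.1) ≤ 1 := by rw [he z.1]; exact pow_le_one₀ zero_le z.2
    have h2 := h _ h1
    rw [σ.commutes, ← map_pow, ← map_sub, he] at h2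
    rw [← map_pow, ← sub_eq_zero, ← map_sub, residue_eq_zero_iff_val]
    have h3 := (pow_lt_one_iff_of_nonneg zero_le (show eAt hF.1 Q ≠ 0 from Nat.one_le_iff_ne_zero.1 (isOverWith_pos he))).1 h2
    rw [Valuation.map_sub_swap] at h3
    simpa using h3
  have hle : Fintype.card (ResidueField P.O) ≤ q := by
    set f : Polynomial (ResidueField P.O) := Polynomial.X ^ q - Polynomial.X
    have hf : f ≠ 0 := FiniteField.X_pow_card_sub_X_ne_zero _ hq
    rw [← Finset.card_univ]
    calc (Finset.univ : Finset (ResidueField P.O)).card ≤ f.roots.toFinset.card :=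
          Finset.card_le_card fun y _ => by
            rw [Multiset.mem_toFinset, Polynomial.mem_roots hf]; simp [f, hall y]
      _ ≤ f.natDegree := (Multiset.toFinset_card_le _).trans (Polynomial.card_roots' f)
      _ = q := FiniteField.X_pow_card_sub_X_natDegree_eq _ hq
  rw [← Nat.card_eq_fintype_card, hcard] at hle
  have h1 : P.deg ≤ 1 := (Nat.pow_le_pow_iff_right hq).1 (by rwa [pow_one])
  have := deg_pos hF.1 P
  omega

theorem card_frob_mul_deg [IsGalois F E] (hF : IsFunctionField k F) {Q : Place k E} (hP : (below hF.1 Q).deg = 1) :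
    Nat.card {σ : E ≃ₐ[F] E // Q ∈ frobSet k σ} * Q.deg = Nat.card (Q.O.decompositionSubgroup F) := by
  classical
  have hE : IsFF k E := isFF_extension hF.1
  set P := below hF.1 Q
  have he := isOverWith_below hF.1 Q
  haveI hfinres : @Module.Finite k (ResidueField Q.O) _ _ Algebra.toModule := finite_residue hE Q
  obtain ⟨hfin, hcard⟩ := finite_residue' hE Q
  haveI := hfin
  haveI := Fintype.ofFinite k
  set κ := ResidueField Q.O
  set Frob : κ →ₐ[k] κ := FiniteField.frobeniusAlgHom k κ
  -- a decomposition element inducing Frobenius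
  have hex : ∃ τ : Q.O.decompositionSubgroup F, resHom Q τ = Frob := by
    obtain ⟨θ, hθ⟩ := Field.exists_primitive_element k κ
    have hadj : Algebra.adjoin k ({θ} : Set κ) = ⊤ := by
      rw [← IntermediateField.adjoin_simple_toSubalgebra_of_isAlgebraic (Algebra.IsAlgebraic.isAlgebraic θ), hθ,
        IntermediateField.top_toSubalgebra]
    suffices ∃ τ : Q.O.decompositionSubgroup F, resHom Q τ θ = θ ^ Fintype.card k by
      obtain ⟨τ, hτ⟩ := this
      exact ⟨τ, AlgHom.ext_of_adjoin_eq_top hadj (by rintro _ rfl; exact hτ)⟩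
    by_cases hθ0 : θ = 0
    · exact ⟨1, by rw [map_one, hθ0, zero_pow Fintype.card_ne_zero]; exact map_zero _⟩
    obtain ⟨θ0, hθ0r⟩ := residue_surjective θ
    set S := Finset.univ.image fun σ : E ≃ₐ[F] E => twist σ Q
    obtain ⟨y, hy⟩ := exists_approx S (fun R => if R = Q then (θ0 : E) else 0) (fun _ => -1)
    have hQS : Q ∈ S := Finset.mem_image.2 ⟨1, Finset.mem_univ _, twist_one Q⟩
    have hlt1 : (exp (-1 : ℤ) : WithZero (Multiplicative ℤ)) < 1 := by rw [← exp_zero, exp_lt_exp]; norm_num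
    have hy1 : ∀ σ : E ≃ₐ[F] E, Q.1 (σ y) ≤ 1 ∧ (twist σ Q ≠ Q → Q.1 (σ y) < 1) := by
      intro σ
      have h0 := (hy (twist σ Q) (Finset.mem_image_of_mem _ (Finset.mem_univ σ))).trans_lt hlt1
      rw [← twist_val]
      by_cases hQ : twist σ Q = Q
      · rw [if_pos hQ] at h0
        rw [hQ] at h0 ⊢
        refine ⟨?_, fun h => absurd rfl h⟩
        have := Q.1.map_add (y - θ0) θ0
        rw [sub_add_cancel] at this
        exact this.trans (max_le h0.le θ0.2)
      · rw [if_neg hQ, sub_zero] at h0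
        exact ⟨h0.le, fun _ => h0⟩
    let c : (E ≃ₐ[F] E) → Q.O := fun σ => ⟨σ y, (hy1 σ).1⟩
    have hc1 : residue Q.O (c 1) = θ := by
      have h0 := (hy Q hQS).trans_lt hlt1
      rw [if_pos rfl] at h0
      rw [← hθ0r, ← sub_eq_zero, ← map_sub, residue_eq_zero_iff_val]
      exact h0
    let H : Polynomial Q.O := ∏ σ : E ≃ₐ[F] E, (Polynomial.X - Polynomial.C (c σ))
    have hHE : H.map Q.O.subtype = ∏ σ : E ≃ₐ[F] E, (Polynomial.X - Polynomial.C (σ y)) := by
      rw [Polynomial.map_prod]
      refine Finset.prod_congr rfl fun σ _ => ?_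
      rw [Polynomial.map_sub, Polynomial.map_X, Polynomial.map_C]; rfl
    have hcoef : ∀ i, ∃ a : k, residue Q.O (H.coeff i) = algebraMap k κ a := by
      intro i
      have hfix : (H.coeff i : E) ∈ (⊥ : IntermediateField F E) := by
        rw [IsGalois.mem_bot_iff_fixed]
        intro f
        have : (H.coeff i : E) = (H.map Q.O.subtype).coeff i := by rw [Polynomial.coeff_map]; rfl
        rw [this, hHE]
        show (f : E →+* E) _ = _
        rw [← Polynomial.coeff_map, Polynomial.map_prod]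
        congr 1
        refine Fintype.prod_equiv (Equiv.mulLeft f) _ _ fun σ => ?_
        rw [Polynomial.map_sub, Polynomial.map_X, Polynomial.map_C]
        rfl
      obtain ⟨u, hu⟩ := IntermediateField.mem_bot.1 hfix
      have hu1 : P.1 u ≤ 1 := by
        have h1 : Q.1 (algebraMap F E u) ≤ 1 := by rw [hu]; exact (H.coeff i).2
        rw [he u] at h1
        exact (pow_le_one_iff (show eAt hF.1 Q ≠ 0 from Nat.one_le_iff_ne_zero.1 (isOverWith_pos he))).1 h1
      obtain ⟨a, ha⟩ := exists_const hF.1 hP hu1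
      refine ⟨a, ?_⟩
      have h2 : Q.1 ((H.coeff i : E) - algebraMap k E a) < 1 := by
        rw [← hu, IsScalarTower.algebraMap_apply k F E, ← map_sub, he]
        exact pow_lt_one₀ zero_le ha (Nat.one_le_iff_ne_zero.1 (isOverWith_pos he))
      have h3 := (residue_eq_zero_iff_val Q (H.coeff i - algebraMap k Q.O a)).2 h2
      rw [map_sub, sub_eq_zero] at h3
      rw [h3]; rfl
    set Hb := H.map (residue Q.O)
    have hHb : Hb = ∏ σ : E ≃ₐ[F] E, (Polynomial.X - Polynomial.C (residue Q.O (c σ))) := by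
      simp only [Hb, H]
      rw [Polynomial.map_prod]
      refine Finset.prod_congr rfl fun σ _ => ?_
      rw [Polynomial.map_sub, Polynomial.map_X, Polynomial.map_C]
    have hroot : Hb.eval θ = 0 := by
      rw [hHb, Polynomial.eval_prod]
      exact Finset.prod_eq_zero (Finset.mem_univ 1) (by simp [hc1])
    have hroot' : Hb.eval (θ ^ Fintype.card k) = 0 := by
      have h1 : Hb.eval (Frob θ) = Frob (Hb.eval θ) := by
        rw [Polynomial.eval_eq_sum_range, Polynomial.eval_eq_sum_range, map_sum]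
        refine Finset.sum_congr rfl fun i _ => ?_
        obtain ⟨a, ha⟩ := hcoef i
        rw [map_mul, map_pow, Polynomial.coeff_map, ha, AlgHom.commutes]
      rwa [hroot, map_zero, show Frob θ = θ ^ Fintype.card k from rfl] at h1
    rw [hHb, Polynomial.eval_prod, Finset.prod_eq_zero_iff] at hroot'
    obtain ⟨σ, -, hσ⟩ := hroot'
    rw [Polynomial.eval_sub, Polynomial.eval_X, Polynomial.eval_C, sub_eq_zero] at hσ
    have hmem : twist σ Q = Q := by
      by_contra hne
      have h0 : residue Q.O (c σ) = 0 := (residue_eq_zero_iff_val Q _).2 ((hy1 σ).2 hne)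
      exact pow_ne_zero _ hθ0 (hσ.trans h0)
    refine ⟨⟨σ, twist_eq_of_mem_decomposition.2 hmem⟩, ?_⟩
    rw [hσ, ← hc1]
    show resMap Q σ hmem (residue Q.O (c 1)) = _
    rw [resMap_residue]
    rfl
  obtain ⟨τ, hτ⟩ := hex
  -- the induced hom onto `Gal(κ/k)`
  have hbij : ∀ f : κ →ₐ[k] κ, Function.Bijective f := fun f => AlgHom.bijective f
  let R : Q.O.decompositionSubgroup F →* (κ ≃ₐ[k] κ) :=
    { toFun := fun σ => AlgEquiv.ofBijective (resHom Q σ) (hbij _)
      map_one' := AlgEquiv.ext fun x => by simp [map_one]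
      map_mul' := fun σ σ' => AlgEquiv.ext fun x => by simp [map_mul, AlgHom.mul_apply] }
  set F0 : κ ≃ₐ[k] κ := FiniteField.frobeniusAlgEquivOfAlgebraic k κ
  have hRτ : R τ = F0 := AlgEquiv.ext fun x => by
    show resHom Q τ x = _
    rw [hτ]; rfl
  have hsurj : Function.Surjective R := fun g => by
    obtain ⟨n, hn⟩ := (FiniteField.bijective_frobeniusAlgEquivOfAlgebraic_pow k κ).2 g
    exact ⟨τ ^ n.1, by rw [map_pow, hRτ]; exact hn⟩
  have h1 : Nat.card (κ ≃ₐ[k] κ) = Q.deg := IsGalois.card_aut_eq_finrank k κ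
  have h2 : Nat.card R.ker * Nat.card (κ ≃ₐ[k] κ) = Nat.card (Q.O.decompositionSubgroup F) := by
    rw [← Nat.card_congr (QuotientGroup.quotientKerEquivOfSurjective R hsurj).toEquiv, mul_comm,
      ← Subgroup.card_eq_card_quotient_mul_card_subgroup]
  have h3 : Nat.card {σ : E ≃ₐ[F] E // Q ∈ frobSet k σ} = Nat.card R.ker := by
    have hiff : ∀ σ : Q.O.decompositionSubgroup F, R σ = F0 ↔ Q ∈ frobSet k (σ.1 : E ≃ₐ[F] E) := by
      intro σ
      have hcardk : Nat.card k = Fintype.card k := Nat.card_eq_fintype_card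
      constructor
      · intro h z hz
        have h4 : resMap Q σ.1 (twist_eq_of_mem_decomposition.1 σ.2) (residue Q.O ⟨z, hz⟩) =
            residue Q.O ⟨z, hz⟩ ^ Fintype.card k := DFunLike.congr_fun h (residue Q.O ⟨z, hz⟩)
        rw [resMap_residue, ← map_pow, ← sub_eq_zero, ← map_sub, residue_eq_zero_iff_val] at h4
        rw [hcardk]
        exact h4
      · intro h
        refine AlgEquiv.ext fun x => ?_
        obtain ⟨z, rfl⟩ := residue_surjective x
        show resMap Q σ.1 (twist_eq_of_mem_decomposition.1 σ.2) (residue Q.O z) = residue Q.O z ^ Fintype.card k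
        rw [resMap_residue, ← map_pow, ← sub_eq_zero, ← map_sub, residue_eq_zero_iff_val]
        have := h z.1 z.2
        rw [hcardk] at this
        exact this
    refine (Nat.card_congr
      { toFun := fun σ => ⟨τ⁻¹ * ⟨σ.1, twist_eq_of_mem_decomposition.2 (twist_eq_of_mem_frobSet σ.2)⟩, ?_⟩
        invFun := fun σ => ⟨(τ * σ.1).1, (hiff _).1 ?_⟩
        left_inv := fun σ => Subtype.ext (by
          show (τ * (τ⁻¹ * _)).1 = σ.1
          rw [mul_inv_cancel_left])
        right_inv := fun σ => Subtype.ext (by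
          show τ⁻¹ * (τ * σ.1) = σ.1
          rw [inv_mul_cancel_left]) })
    · rw [MonoidHom.mem_ker, map_mul, map_inv, hRτ,
        (hiff ⟨σ.1, twist_eq_of_mem_decomposition.2 (twist_eq_of_mem_frobSet σ.2)⟩).2 σ.2, inv_mul_cancel]
    · rw [map_mul, MonoidHom.mem_ker.1 σ.2, mul_one, hRτ]
  rw [h3, ← h2, h1]

/-- twisted count -/
noncomputable def T (k : Type*) {E : Type*} [Field k] [Field E] [Algebra k E] (σ : E → E) : ℕ :=
  ∑ᶠ Q ∈ frobSet k σ, Q.deg

theorem finite_frobSet (hF : IsFunctionField k F) (σ : E ≃ₐ[F] E) : (frobSet k (σ : E → E)).Finite := by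
  refine ((finite_places_deg_le hF.1 1).biUnion fun P _ => finite_over (K' := E) hF.1 P).subset fun Q hQ => ?_
  exact Set.mem_biUnion (show below hF.1 Q ∈ {P : Place k F | P.deg ≤ 1} from (deg_below_of_mem_frobSet hF hQ).le)
    ((isOver_iff hF.1 Q _).2 rfl)

/-- `∑_σ T_σ = [E : F] N₁(F)` -/
theorem sum_T [IsGalois F E] (hF : IsFunctionField k F) :
    ∑ σ : E ≃ₐ[F] E, T k (σ : E → E) = Module.finrank F E * NN k F 1 := by
  classical
  set S1 := (finite_places_deg_le hF.1 1).toFinset.filter fun P : Place k F => P.deg ∣ 1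
  set U := S1.biUnion fun P => (finite_over (K' := E) hF.1 P).toFinset
  have hS1 : ∀ P, P ∈ S1 ↔ P.deg = 1 := fun P => by
    simp only [S1, Finset.mem_filter, Set.Finite.mem_toFinset, Set.mem_ofPred_eq, Nat.dvd_one]
    exact ⟨fun h => h.2, fun h => ⟨h.le, h⟩⟩
  have hU : ∀ Q, Q ∈ U ↔ (below hF.1 Q).deg = 1 := fun Q => by
    simp only [U, Finset.mem_biUnion, Set.Finite.mem_toFinset, hS1]
    constructor
    · rintro ⟨P, hP, hQ⟩
      rw [(isOver_iff hF.1 Q P).1 hQ]; exact hP
    · exact fun h => ⟨_, h, (isOver_iff hF.1 Q _).2 rfl⟩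
  have h1 : ∀ σ : E ≃ₐ[F] E, T k (σ : E → E) = ∑ Q ∈ U, if Q ∈ frobSet k (σ : E → E) then Q.deg else 0 := fun σ => by
    rw [T, ← Finset.sum_filter]
    refine finsum_mem_eq_sum_of_subset _ ?_ ?_
    · rintro Q ⟨hQ, -⟩
      rw [Finset.coe_filter]
      exact ⟨(hU Q).2 (deg_below_of_mem_frobSet hF hQ), hQ⟩
    · intro Q hQ
      exact (Finset.mem_filter.1 hQ).2
  rw [Finset.sum_congr rfl fun σ _ => h1 σ, Finset.sum_comm]
  have h2 : ∀ Q ∈ U, (∑ σ : E ≃ₐ[F] E, if Q ∈ frobSet k (σ : E → E) then Q.deg else 0) =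
      Nat.card (Q.O.decompositionSubgroup F) := fun Q hQ => by
    rw [← Finset.sum_filter, Finset.sum_const, smul_eq_mul, ← Fintype.card_subtype, ← Nat.card_eq_fintype_card]
    exact card_frob_mul_deg hF ((hU Q).1 hQ)
  rw [Finset.sum_congr rfl h2, NN_eq_sum hF.1 one_pos le_rfl, Finset.mul_sum,
    ← Finset.sum_fiberwise_of_maps_to (g := below hF.1) (t := S1) fun Q hQ => (hS1 _).2 ((hU Q).1 hQ)]
  refine Finset.sum_congr rfl fun P hP => ?_
  rw [(hS1 P).1 hP, mul_one]
  have hfib : U.filter (fun Q => below hF.1 Q = P) = (finite_over (K' := E) hF.1 P).toFinset := by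
    ext Q
    rw [Finset.mem_filter, hU, Set.Finite.mem_toFinset]
    exact ⟨fun h => (isOver_iff hF.1 Q P).2 h.2,
      fun h => by rw [(isOver_iff hF.1 Q P).1 h]; exact ⟨(hS1 P).1 hP, rfl⟩⟩
  rw [hfib]
  obtain ⟨Q0, hQ0⟩ := exists_over (K' := E) hF P
  have hconst : ∀ Q ∈ (finite_over (K' := E) hF.1 P).toFinset,
      Nat.card (Q.O.decompositionSubgroup F) * (finite_over (K' := E) hF.1 P).toFinset.card = Module.finrank F E := by
    intro Q hQ
    rw [Set.Finite.mem_toFinset] at hQ
    obtain ⟨e, he⟩ := hQ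
    have := card_mul_card_decomposition hF.1 he
    rw [mul_comm, ← this]
    congr 1
    exact (Nat.card_eq_card_finite_toFinset (finite_over (K' := E) hF.1 P)).symm
  set n := (finite_over (K' := E) hF.1 P).toFinset.card
  have hn : 0 < n := Finset.card_pos.2 ⟨Q0, (Set.Finite.mem_toFinset _).2 hQ0⟩
  refine Nat.eq_of_mul_eq_mul_right hn ?_
  rw [Finset.sum_mul, Finset.sum_congr rfl hconst, Finset.sum_const, smul_eq_mul, mul_comm]

end Groth.Agent.FunFldLib
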