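import Mathlib
import Groth.Agent.FunFldLib.Gaps

/-! Genus one: bases of `L(nP)`. -/

set_option autoImplicit false

open WithZero

namespace Groth.Agent.FunFldLib

open FunFld

variable {k K : Type*} [Field k] [Field K] [Algebra k K]

theorem linearIndependent_of_ord_injective (P : Place k K) {ι : Type*} (v : ι → K) (h0 : ∀ i, v i ≠ 0)
    (hinj : Function.Injective fun i => P.ord (v i)) : LinearIndependent k v := by
  classical
  rw [linearIndependent_iff']
  intro s c hc
  by_contra! hne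
  obtain ⟨i, hi, hci⟩ := hne
  obtain ⟨j, hj, hjmin⟩ := (s.filter fun i => c i ≠ 0).exists_min_image (fun i => P.ord (v i))
    ⟨i, Finset.mem_filter.2 ⟨hi, hci⟩⟩
  rw [Finset.mem_filter] at hj
  have hv : P.1 (∑ i ∈ s, c i • v i) = P.1 (c j • v j) := by
    refine Valuation.map_sum_eq_of_lt P.1 hj.1 fun l hl => ?_
    rw [Finset.mem_sdiff, Finset.mem_singleton] at hl
    rw [val_smul P hj.2, val_eq_exp P (h0 j)]
    rcases eq_or_ne (c l) 0 with h | h
    · rw [h, zero_smul, map_zero]; exact zero_lt_iff.2 exp_ne_zero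
    · rw [val_smul P h, val_eq_exp P (h0 l), exp_lt_exp]
      have h1 := hjmin l (Finset.mem_filter.2 ⟨hl.1, h⟩)
      have h2 : P.ord (v l) ≠ P.ord (v j) := fun e => hl.2 (hinj e)
      omega
  rw [hc, map_zero, val_smul P hj.2] at hv
  exact val_ne_zero P (h0 j) hv.symm

theorem genus_one_basis (hK : IsFunctionField k K) (hgen : genus k K = 1) {P : Place k K} (hP : P.deg = 1)
    {f g : K} (hf : f ∈ L (Finsupp.single P (2 : ℤ))) (hf2 : P.ord f = -2) (hg : g ∈ L (Finsupp.single P (3 : ℤ))) (hg3 : P.ord g = -3)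
    {n : ℕ} (hn : 2 ≤ n) :
    LinearIndependent k
        (Sum.elim (fun i : Fin (n / 2 + 1) => f ^ (i : ℕ)) (fun i : Fin ((n - 1) / 2) => f ^ (i : ℕ) * g)) ∧
      Submodule.span k (Set.range
        (Sum.elim (fun i : Fin (n / 2 + 1) => f ^ (i : ℕ)) (fun i : Fin ((n - 1) / 2) => f ^ (i : ℕ) * g))) =
        L (Finsupp.single P (n : ℤ)) := by
  classical
  set v : Fin (n / 2 + 1) ⊕ Fin ((n - 1) / 2) → K :=
    Sum.elim (fun i : Fin (n / 2 + 1) => f ^ (i : ℕ)) (fun i : Fin ((n - 1) / 2) => f ^ (i : ℕ) * g) with hv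
  have hf0 : f ≠ 0 := fun h => by rw [h, ord_zero] at hf2; omega
  have hg0 : g ≠ 0 := fun h => by rw [h, ord_zero] at hg3; omega
  have h0 : ∀ i, v i ≠ 0 := by
    rintro (i | i)
    · exact pow_ne_zero _ hf0
    · exact mul_ne_zero (pow_ne_zero _ hf0) hg0
  have ho : ∀ i, P.ord (v i) = Sum.elim (fun i : Fin (n / 2 + 1) => -2 * (i : ℤ)) (fun i : Fin ((n - 1) / 2) => -2 * (i : ℤ) - 3) i := by
    rintro (i | i)
    · show P.ord (f ^ (i : ℕ)) = _
      rw [ord_pow, hf2]; simp; ring
    · show P.ord (f ^ (i : ℕ) * g) = _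
      rw [ord_mul P (pow_ne_zero _ hf0) hg0, ord_pow, hf2, hg3]; simp; ring
  have hli : LinearIndependent k v := linearIndependent_of_ord_injective P v h0 fun a b hab => by
    simp only [ho] at hab
    rcases a with a | a <;> rcases b with b | b <;> simp at hab ⊢ <;> first | exact Fin.ext (by omega) | omega
  refine ⟨hli, ?_⟩
  rw [mem_L_single_iff P hf0] at hf
  rw [mem_L_single_iff P hg0] at hg
  have hmem : Set.range v ⊆ (L (Finsupp.single P (n : ℤ)) : Set K) := by
    rintro _ ⟨i, rfl⟩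
    rw [SetLike.mem_coe, mem_L_single_iff P (h0 i)]
    refine ⟨?_, fun Q hQ => ?_⟩
    · rw [ho]
      rcases i with i | i <;> simp <;> have := i.2 <;> omega
    · have h1 := hf.2 Q hQ
      have h2 := hg.2 Q hQ
      rcases i with i | i
      · show 0 ≤ Q.ord (f ^ (i : ℕ))
        rw [ord_pow]; positivity
      · show 0 ≤ Q.ord (f ^ (i : ℕ) * g)
        rw [ord_mul Q (pow_ne_zero _ hf0) hg0, ord_pow]; positivity
  haveI := finite_L hK.1 (Finsupp.single P (n : ℤ))
  refine Submodule.eq_of_le_of_finrank_le (Submodule.span_le.2 hmem) ?_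
  rw [finrank_span_eq_card hli, Fintype.card_sum, Fintype.card_fin, Fintype.card_fin]
  have := ell_large hK (D := Finsupp.single P (n : ℤ)) (by rw [deg_single, hP, hgen]; push_cast; omega)
  rw [deg_single, hP, hgen, ell] at this
  omega

end Groth.Agent.FunFldLib
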