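import Mathlib
import Groth.Agent.FunFldLib.FrobCount
import Groth.Agent.FunFldLib.GenusOne

/-! Stepanov–Bombieri upper bound, twisted by an automorphism. -/

set_option autoImplicit false

open WithZero

namespace Groth.Agent.FunFldLib

open FunFld

variable {k E : Type*} [Field k] [Field E] [Algebra k E] [Finite k]

omit [Finite k] in
theorem exists_distinct_ord_basis (hE : IsFF k E) {P : Place k E} (hP : P.deg = 1) (D : Divisor k E) :
    ∃ u : Fin (ell D) → E, (∀ i, u i ∈ L D ∧ u i ≠ 0) ∧ Function.Injective fun i => P.ord (u i) := by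
  classical
  haveI := finite_L hE D
  obtain ⟨hfin, hcard⟩ := finrank_eq_ncard_ordSet P hP (L D)
  rw [Set.ncard_eq_toFinset_card _ hfin] at hcard
  let e := hfin.toFinset.equivFinOfCardEq hcard
  choose v hv hv0 hvo using fun i => (Set.Finite.mem_toFinset hfin).1 (e.symm i).2
  exact ⟨v, fun i => ⟨hv i, hv0 i⟩, fun i j h => e.symm.injective (Subtype.ext (by rw [← hvo i, ← hvo j]; exact h))⟩

theorem T_le (hE : IsFunctionField k E) {p e : ℕ} [Fact p.Prime] [CharP E p] {q0 : ℕ} (hq0 : q0 = p ^ e)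
    (hq : Nat.card k = q0 ^ 2) (hbig : (genus k E + 1) ^ 2 < q0) {P : Place k E} (hP : P.deg = 1) (σ : E ≃ₐ[k] E)
    (S : Finset (Place k E)) (hS : ∀ Q ∈ S, Q ∈ frobSet k (σ : E → E)) :
    (∑ Q ∈ S, Q.deg) ≤ Nat.card k + (2 * genus k E + 1) * q0 := by
  classical
  set g := genus k E
  have hg : 2 * g + 1 ≤ q0 := by nlinarith
  set m := q0 - 1 with hm
  set r := q0 + 2 * g with hr
  set P' := twist σ⁻¹ P with hP'
  have hP'd : P'.deg = 1 := by rw [hP', deg_twist]; exact hP
  set C : Divisor k E := Finsupp.single P ((q0 * m : ℕ) : ℤ) + Finsupp.single P' ((r : ℕ) : ℤ) with hC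
  have hsingle : ∀ a : ℕ, 2 * g ≤ a + 1 → (ell (Finsupp.single P (a : ℤ)) : ℤ) = a + 1 - g := fun a ha => by
    rw [ell_large hE (by rw [deg_single, hP]; push_cast; omega), deg_single, hP]; push_cast; ring
  have hlm := hsingle m (by omega)
  have hlr := hsingle r (by omega)
  have hlC : (ell C : ℤ) = q0 * m + r + 1 - g := by
    rw [ell_large hE (by rw [hC, deg_add, deg_single, deg_single, hP, hP'd]; push_cast; nlinarith), hC, deg_add,
      deg_single, deg_single, hP, hP'd]
    push_cast; ring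
  obtain ⟨u, hu, huinj⟩ := exists_distinct_ord_basis hE.1 hP (Finsupp.single P (m : ℤ))
  haveI := finite_L hE.1 C
  haveI := finite_L hE.1 (Finsupp.single P (r : ℤ))
  have humem : ∀ i, -(m : ℤ) ≤ P.ord (u i) ∧ ∀ Q : Place k E, Q ≠ P → 0 ≤ Q.ord (u i) := fun i =>
    (mem_L_single_iff P (hu i).2 (m : ℤ)).1 (hu i).1
  have hu0 : ∀ i, P.ord (u i) ≤ 0 := fun i => by
    by_contra hc
    have h1 : 0 ≤ div k (u i) := fun Q => by
      rw [Finsupp.zero_apply, div_apply hE.1]
      by_cases hQ : Q = P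
      · subst hQ; omega
      · exact (humem i).2 Q hQ
    have h2 := eq_zero_of_deg_nonpos hE.1 h1 (by rw [deg_div hE.1])
    have h3 := congrArg (fun D : Divisor k E => D P) h2
    simp only [div_apply hE.1, Finsupp.zero_apply] at h3
    omega
  have hterm : ∀ (i) (z : E), z ∈ L (Finsupp.single P (r : ℤ)) → u i ^ q0 * σ z ∈ L C := by
    intro i z hz
    by_cases hz0 : z = 0
    · simp [hz0]
    have hσz : σ z ≠ 0 := fun h => hz0 (σ.injective (by rw [h, map_zero]))
    rw [mem_L_single_iff P hz0] at hz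
    refine (mem_L_iff (mul_ne_zero (pow_ne_zero _ (hu i).2) hσz)).2 fun Q => ?_
    rw [ord_mul Q (pow_ne_zero _ (hu i).2) hσz, ord_pow, hC, Finsupp.add_apply, Finsupp.single_apply, Finsupp.single_apply]
    have h1 : Q.ord (σ z) = (twist σ Q).ord z := rfl
    rw [h1]
    have h2 : -(if P' = Q then (r : ℤ) else 0) ≤ (twist σ Q).ord z := by
      split_ifs with h
      · subst h
        have : twist σ P' = P := by rw [hP', ← twist_mul, inv_mul_cancel, twist_one]
        rw [this]; exact hz.1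
      · rw [neg_zero]
        refine hz.2 _ fun h' => h ?_
        rw [hP', ← h', ← twist_mul, mul_inv_cancel, twist_one]
    have h3 : -(if P = Q then ((q0 * m : ℕ) : ℤ) else 0) ≤ (q0 : ℤ) * Q.ord (u i) := by
      split_ifs with h
      · subst h; push_cast; nlinarith [(humem i).1]
      · rw [neg_zero]; exact mul_nonneg (by positivity) ((humem i).2 Q (Ne.symm h))
    push_cast at h2 h3 ⊢
    omega
  let Λ : (Fin (ell (Finsupp.single P (m : ℤ))) → L (Finsupp.single P (r : ℤ))) →ₗ[k] L C :=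
    { toFun := fun z => ⟨∑ i, u i ^ q0 * σ (z i).1, Submodule.sum_mem _ fun i _ => hterm i _ (z i).2⟩
      map_add' := fun z w => Subtype.ext (by
        simp only [Pi.add_apply, Submodule.coe_add, map_add, mul_add, Finset.sum_add_distrib])
      map_smul' := fun c z => Subtype.ext (by
        simp only [Pi.smul_apply, Submodule.coe_smul_of_tower, RingHom.id_apply, map_smul, mul_smul_comm,
          Finset.smul_sum]) }
  have hker : LinearMap.ker Λ ≠ ⊥ := by
    intro hbot
    have h1 := LinearMap.finrank_le_finrank_of_injective (LinearMap.ker_eq_bot.1 hbot)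
    rw [Module.finrank_pi_fintype, Finset.sum_const, Finset.card_univ, Fintype.card_fin, smul_eq_mul] at h1
    have h2 : ((ell (Finsupp.single P (m : ℤ)) : ℤ)) * ell (Finsupp.single P (r : ℤ)) ≤ ell C := by exact_mod_cast h1
    rw [hlm, hlr, hlC] at h2
    have : ((g : ℤ) + 1) ^ 2 < q0 := by exact_mod_cast hbig
    rw [hm, hr, Nat.cast_sub (by omega)] at h2
    push_cast at h2
    nlinarith
  obtain ⟨z, hz, hz0⟩ := Submodule.exists_mem_ne_zero_of_ne_bot hker
  set f : E := ∑ i, u i * (z i).1 ^ q0 with hf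
  -- `f ≠ 0`
  set I := Finset.univ.filter fun i => (z i).1 ≠ 0
  have hI : f = ∑ i ∈ I, u i * (z i).1 ^ q0 := by
    exact hf.trans (Finset.sum_filter_of_ne (p := fun i => (z i).1 ≠ 0) fun i _ h h' => h (by rw [h', zero_pow (by omega), mul_zero])).symm
  have hf0 : f ≠ 0 := by
    intro h0
    obtain ⟨i0, hi0⟩ : ∃ i, (z i).1 ≠ 0 := by
      by_contra! h
      exact hz0 (funext fun i => Subtype.ext (h i))
    have hli := linearIndependent_of_ord_injective P (fun i : {i // (z i).1 ≠ 0} => u i.1 * (z i.1).1 ^ q0)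
      (fun i => mul_ne_zero (hu i.1).2 (pow_ne_zero _ i.2)) (fun i j h => by
        simp only at h
        rw [ord_mul P (hu i.1).2 (pow_ne_zero _ i.2), ord_mul P (hu j.1).2 (pow_ne_zero _ j.2), ord_pow, ord_pow] at h
        refine Subtype.ext (huinj ?_)
        have a1 := (humem i.1).1
        have a2 := (humem j.1).1
        have b1 := hu0 i.1
        have b2 := hu0 j.1
        have hd : (q0 : ℤ) ∣ P.ord (u i.1) - P.ord (u j.1) :=
          ⟨P.ord (z j.1).1 - P.ord (z i.1).1, by linear_combination h⟩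
        have := Int.eq_zero_of_dvd_of_natAbs_lt_natAbs hd (by omega)
        show P.ord (u i.1) = P.ord (u j.1)
        omega)
    have h1 := Fintype.linearIndependent_iff.1 hli (fun _ => 1) (by
      simp only [one_smul]
      exact ((Finset.sum_subtype I (fun i => by simp [I]) fun i => u i * (z i).1 ^ q0).symm).trans (hI.symm.trans h0)) ⟨i0, hi0⟩
    exact one_ne_zero h1
  have hfL : f ∈ L (Finsupp.single P ((m + q0 * r : ℕ) : ℤ)) := by
    refine Submodule.sum_mem _ fun i _ => ?_
    by_cases hzi : (z i).1 = 0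
    · rw [hzi, zero_pow (by omega), mul_zero]; exact zero_mem _
    rw [mem_L_single_iff P (mul_ne_zero (hu i).2 (pow_ne_zero _ hzi))]
    have hz' := (mem_L_single_iff P hzi (r : ℤ)).1 (z i).2
    refine ⟨?_, fun Q hQ => ?_⟩
    · rw [ord_mul P (hu i).2 (pow_ne_zero _ hzi), ord_pow]; push_cast; nlinarith [(humem i).1, hz'.1]
    · rw [ord_mul Q (hu i).2 (pow_ne_zero _ hzi), ord_pow]
      exact add_nonneg ((humem i).2 Q hQ) (mul_nonneg (by positivity) (hz'.2 Q hQ))
  have hzero : ∀ Q ∈ S, Q ≠ P → 0 < Q.ord f := by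
    intro Q hQS hQP
    have hint : ∀ (y : E) (a : ℕ), y ∈ L (Finsupp.single P (a : ℤ)) → Q.1 y ≤ 1 := fun y a hy => by
      have h := hy Q
      rwa [Finsupp.single_eq_of_ne (Ne.symm hQP).symm, exp_zero] at h
    have hzi : ∀ i, Q.1 (z i).1 ≤ 1 := fun i => hint _ r (z i).2
    have hui : ∀ i, Q.1 (u i) ≤ 1 := fun i => hint _ m (hu i).1
    have hfq : f ^ q0 = ∑ i, u i ^ q0 * ((z i).1 ^ q0) ^ q0 := by
      rw [hf, hq0, sum_pow_char_pow]
      exact Finset.sum_congr rfl fun i _ => mul_pow _ _ _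
    have hΛ : ∑ i, u i ^ q0 * σ (z i).1 = 0 := congrArg Subtype.val (LinearMap.mem_ker.1 hz)
    have h1 : f ^ q0 = ∑ i, u i ^ q0 * ((z i).1 ^ Nat.card k - σ (z i).1) := by
      simp only [mul_sub]
      rw [Finset.sum_sub_distrib, hΛ, sub_zero, hfq, hq]
      exact Finset.sum_congr rfl fun i _ => by rw [← pow_mul, sq]
    have h2 : Q.1 (f ^ q0) < 1 := by
      rw [h1]
      refine Valuation.map_sum_lt _ one_ne_zero fun i _ => ?_
      rw [map_mul, map_pow, Valuation.map_sub_swap]
      exact mul_lt_one_of_nonneg_of_lt_one_right (pow_le_one₀ zero_le (hui i)) zero_le (hS Q hQS _ (hzi i))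
    rw [map_pow] at h2
    exact (val_lt_one_iff Q hf0).1 ((pow_lt_one_iff_of_nonneg zero_le (by omega)).1 h2)
  -- count zeros
  rw [mem_L_single_iff P hf0] at hfL
  have hdiv : (∑ Q ∈ S.erase P, Finsupp.single Q (1 : ℤ)) ≤ div k f + Finsupp.single P ((m + q0 * r : ℕ) : ℤ) := by
    intro R
    rw [Finsupp.finsetSum_apply, Finsupp.add_apply, div_apply hE.1]
    simp only [Finsupp.single_apply]
    rw [Finset.sum_ite_eq']
    by_cases hR : R = P
    · subst hR
      rw [if_neg (Finset.notMem_erase _ _), if_pos rfl]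
      have := hfL.1; omega
    · rw [if_neg (Ne.symm hR)]
      split_ifs with hmem
      · have := hzero R (Finset.mem_of_mem_erase hmem) hR; omega
      · have := hfL.2 R hR; omega
  have hd := deg_mono hdiv
  rw [deg_finsetSum, deg_add, deg_div hE.1, deg_single, hP] at hd
  simp only [deg_single, one_mul] at hd
  have h4 : ∑ Q ∈ S, Q.deg ≤ (∑ Q ∈ S.erase P, Q.deg) + 1 := by
    by_cases hPS : P ∈ S
    · rw [← Finset.sum_erase_add _ _ hPS, hP]
    · rw [Finset.erase_eq_of_notMem hPS]; omega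
  have h5 : ∑ Q ∈ S.erase P, Q.deg ≤ m + q0 * r := by
    push_cast at hd
    zify; linarith
  have h6 : m + q0 * r + 1 = Nat.card k + (2 * g + 1) * q0 := by
    rw [hq, hr, hm]
    obtain ⟨t, ht⟩ : ∃ t, q0 = t + 1 := ⟨q0 - 1, by omega⟩
    rw [ht, Nat.add_sub_cancel]; ring
  omega

end Groth.Agent.FunFldLib
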