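import Mathlib
import Groth.Agent.FunFldLib.Galois
import Groth.Agent.FunFldLib.ZetaCount

/-! Constant field extensions over finite fields: splitting of places and `N'_n = N_{rn}`. -/

set_option autoImplicit false

open WithZero IsLocalRing

namespace Groth.Agent.FunFldLib

open FunFld

/-- irreducible polynomials over the constant field stay irreducible -/
theorem irreducible_map_const {k K : Type*} [Field k] [Field K] [Algebra k K] (hK : IsFunctionField k K)
    {p : Polynomial k} (hp : p.Monic) (hirr : Irreducible p) : Irreducible (p.map (algebraMap k K)) := by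
  have hinj := (algebraMap k K).injective
  have hne : p.map (algebraMap k K) ≠ 1 := fun h => by
    rw [← Polynomial.map_one (algebraMap k K)] at h
    exact hirr.ne_one (Polynomial.map_injective _ hinj h)
  refine (Polynomial.Monic.irreducible_iff_natDegree (hp.map _) ).2 ⟨hne, fun f g hf hg hfg => ?_⟩
  have hlift : ∀ q : Polynomial K, q.Monic → q ∣ p.map (algebraMap k K) → q ∈ Polynomial.lifts (algebraMap k K) :=
    fun q hq hd => (Polynomial.lifts_iff_coeff_lifts q).2 fun i =>
      hK.2 _ (Polynomial.isIntegral_coeff_of_dvd p q hp hq hd i).isAlgebraic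
  obtain ⟨f0, hf0⟩ := (Polynomial.mem_lifts f).1 (hlift f hf ⟨g, hfg.symm⟩)
  obtain ⟨g0, hg0⟩ := (Polynomial.mem_lifts g).1 (hlift g hg ⟨f, by rw [mul_comm, hfg]⟩)
  have : p = f0 * g0 := Polynomial.map_injective _ hinj (by rw [Polynomial.map_mul, hf0, hg0, hfg])
  rcases hirr.isUnit_or_isUnit this with h | h
  · left; rw [← hf0, Polynomial.natDegree_map_eq_of_injective hinj]
    exact Polynomial.natDegree_eq_zero_of_isUnit h
  · right; rw [← hg0, Polynomial.natDegree_map_eq_of_injective hinj]
    exact Polynomial.natDegree_eq_zero_of_isUnit h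

section

variable {k K k' K' : Type*} [Field k] [Field K] [Algebra k K] [Field k'] [Field K'] [Algebra k k']
  [Algebra K K'] [Algebra k' K'] [Algebra k K'] [IsScalarTower k K K'] [IsScalarTower k k' K']
  [Finite k] [Finite k']

omit [Field K] [Algebra k K] [Algebra K K'] [IsScalarTower k K K'] [Finite k] in
theorem val_const (v : Valuation K' (WithZero (Multiplicative ℤ))) {b : k'} (hb : b ≠ 0) :
    v (algebraMap k' K' b) = 1 := by
  haveI := Fintype.ofFinite k'
  have h1 : b ^ (Fintype.card k' - 1) = 1 := FiniteField.pow_card_sub_one_eq_one b hb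
  have h2 := congrArg (fun x => v (algebraMap k' K' x)) h1
  simp only [map_pow, map_one] at h2
  exact (pow_eq_one_iff.1 h2).resolve_right (Nat.sub_ne_zero_of_lt Fintype.one_lt_card)

/-- a place over `k'` as a place over `k` -/
def toBase (Q : Place k' K') : Place k K' :=
  ⟨Q.1, fun c => by rw [IsScalarTower.algebraMap_apply k k' K']; exact Q.2.1 _, Q.2.2⟩

omit [Algebra k K] [Algebra K K'] [IsScalarTower k K K'] [Finite k] in
/-- a place over `k` as a place over `k'` -/
theorem exists_toBase_eq (R : Place k K') : ∃ Q : Place k' K', toBase (k := k) Q = R :=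
  ⟨⟨R.1, fun b => by
    rcases eq_or_ne b 0 with rfl | hb
    · simp
    · exact (val_const R.1 hb).le, R.2.2⟩, Subtype.ext rfl⟩

omit [Algebra k K] [Algebra K K'] [IsScalarTower k K K'] [Finite k] [Finite k'] in
theorem toBase_injective : Function.Injective (toBase (k := k) : Place k' K' → Place k K') :=
  fun Q Q' h => Subtype.ext (congrArg (fun R : Place k K' => R.1) h)

omit [Algebra k K] [Algebra K K'] [IsScalarTower k K K'] [Finite k] [Finite k'] in
theorem deg_toBase (Q : Place k' K') : (toBase (k := k) Q).deg = Module.finrank k k' * Q.deg := by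
  set R := toBase (k := k) Q with hR
  letI a2 : Algebra k' (ResidueField R.O) :=
    ((IsLocalRing.residue R.O).comp ((algebraMap k' K').codRestrict R.O fun c => Q.2.1 c)).toAlgebra
  have htow : @IsScalarTower k k' (ResidueField R.O) _ a2.toSMul Algebra.toSMul := IsScalarTower.of_algebraMap_eq fun c => by
    show IsLocalRing.residue R.O _ = IsLocalRing.residue R.O _
    congr 1
    exact Subtype.ext (IsScalarTower.algebraMap_apply k k' K' c)
  exact (@Module.finrank_mul_finrank k k' (ResidueField R.O) _ _ _ _ a2.toModule Algebra.toModule htow _ _ _ _).symm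

omit [Finite k] in
theorem isGalois_constExt (hadj : Algebra.adjoin K (Set.range (algebraMap k' K')) = ⊤) : IsGalois K K' := by
  classical
  haveI := Fintype.ofFinite k'
  obtain ⟨p, hp⟩ := CharP.exists k'
  haveI : Fact p.Prime := ⟨CharP.char_is_prime k' p⟩
  set N := Nat.card k' with hN
  let f : Polynomial K := Polynomial.X ^ N - Polynomial.X
  have hmap : f.map (algebraMap K K') = ((Polynomial.X ^ N - Polynomial.X : Polynomial k').map (algebraMap k' K')) := by
    simp [f]
  haveI : f.IsSplittingField K K' := by
    refine ⟨?_, ?_⟩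
    · rw [hmap]; exact (Polynomial.splits_X_pow_nat_card_sub_X (K := k')).map _
    · rw [← top_le_iff, ← hadj]
      refine Algebra.adjoin_mono ?_
      rintro _ ⟨b, rfl⟩
      have hne : f ≠ 0 := FiniteField.X_pow_card_sub_X_ne_zero _ (Finite.one_lt_card)
      rw [Polynomial.mem_rootSet_of_ne hne]
      simp only [f, map_sub, map_pow, Polynomial.aeval_X, hN]
      rw [← map_pow, Nat.card_eq_fintype_card, FiniteField.pow_card, sub_self]
  haveI : CharP K p := by
    haveI : CharP K' p := charP_of_injective_algebraMap (algebraMap k' K').injective p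
    exact (algebraMap K K').charP (algebraMap K K').injective p
  refine IsGalois.of_separable_splitting_field (p := f) (galois_poly_separable (K := K) p N ?_)
  obtain ⟨n, _, hn⟩ := FiniteField.card k' p
  rw [hN, Nat.card_eq_fintype_card, hn]
  exact dvd_pow_self p n.ne_zero

variable [FiniteDimensional K K']

omit [Algebra k' K'] [IsScalarTower k k' K'] [Algebra k k'] [Field k'] [Finite k] [Finite k'] in
theorem deg_dvd_deg_over {R : Place k K'} {P : Place k K} {e : ℕ} (he : IsOverWith R P e) : P.deg ∣ R.deg := by
  have he1 := isOverWith_pos he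
  let g : P.O →+* R.O := ((algebraMap K K').comp P.O.subtype).codRestrict R.O fun z => by
    show R.1 (algebraMap K K' z.1) ≤ 1
    rw [he z.1]; exact pow_le_one₀ zero_le z.2
  haveI : IsLocalHom g := ⟨fun z hz => by
    rw [← IsLocalRing.residue_ne_zero_iff_isUnit, Ne, residue_eq_zero_iff_val] at hz ⊢
    refine fun hlt => hz ?_
    show R.1 (algebraMap K K' z.1) < 1
    rw [he z.1]
    exact pow_lt_one₀ zero_le hlt (by omega)⟩
  letI : Algebra (ResidueField P.O) (ResidueField R.O) := (IsLocalRing.ResidueField.map g).toAlgebra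
  have htow : @IsScalarTower k (ResidueField P.O) (ResidueField R.O) Algebra.toSMul Algebra.toSMul Algebra.toSMul :=
    IsScalarTower.of_algebraMap_eq fun c => by
    show IsLocalRing.residue R.O _ = IsLocalRing.ResidueField.map g (IsLocalRing.residue P.O _)
    rw [IsLocalRing.ResidueField.map_residue]
    congr 1
    exact Subtype.ext (IsScalarTower.algebraMap_apply k K K' c)
  exact Dvd.intro _ (@Module.finrank_mul_finrank k (ResidueField P.O) (ResidueField R.O) _ _ _ Algebra.toModule Algebra.toModule Algebra.toModule htow _ _ _ _)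

theorem finite_residueField {K₁ : Type*} [Field K₁] [Algebra k K₁] (hK : IsFF k K₁) (P : Place k K₁) :
    Finite (ResidueField P.O) := by
  have h : @Module.Finite k (ResidueField P.O) _ _ Algebra.toModule := finite_residue hK P
  exact @Module.finite_of_finite k (ResidueField P.O) _ _ Algebra.toModule _ h

theorem card_decomposition_le (hK : IsFunctionField k K) (hadj : Algebra.adjoin K (Set.range (algebraMap k' K')) = ⊤)
    {R : Place k K'} {P : Place k K} {e : ℕ} (he : IsOverWith R P e) {d : ℕ} (hdm : d ∣ P.deg)
    (hdr : d ∣ Module.finrank k k') :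
    Nat.card (R.O.decompositionSubgroup K) * d ≤ Module.finrank k k' := by
  classical
  obtain ⟨p, hp⟩ := CharP.exists k
  haveI : Fact p.Prime := ⟨CharP.char_is_prime k p⟩
  have hd0 : d ≠ 0 := by
    rintro rfl
    have := Module.finrank_pos (R := k) (M := k')
    rw [Nat.eq_zero_of_zero_dvd hdr] at this
    omega
  haveI : NeZero d := ⟨hd0⟩
  have hfr : Module.finrank k (FiniteField.Extension k p d) = d := FiniteField.finrank_extension k p d
  obtain ⟨φ⟩ := FiniteField.nonempty_algHom_of_finrank_dvd (F := k) (K := FiniteField.Extension k p d) (L := k')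
    (by rw [hfr]; exact hdr)
  set L : IntermediateField k k' := φ.fieldRange
  have hL : Module.finrank k L = d := by
    rw [← hfr]; exact (AlgEquiv.ofInjectiveField φ).toLinearEquiv.finrank_eq.symm
  haveI hfinP := finite_residueField hK.1 P
  haveI : @Module.Finite k (ResidueField P.O) _ _ Algebra.toModule := finite_residue hK.1 P
  obtain ⟨ψ⟩ := FiniteField.nonempty_algHom_of_finrank_dvd (F := k) (K := FiniteField.Extension k p d)
    (L := ResidueField P.O) (by rw [hfr]; exact hdm)
  have he1 := isOverWith_pos he
  let res : (K' ≃ₐ[K] K') → (k' ≃ₐ[k] k') := fun σ => (σ.restrictScalars k).restrictNormal k'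
  have hres : ∀ σ b, algebraMap k' K' (res σ b) = σ (algebraMap k' K' b) := fun σ b =>
    AlgEquiv.restrictNormal_commutes (σ.restrictScalars k) k' b
  have hinj : Function.Injective res := fun σ τ h => by
    refine AlgEquiv.ext fun z => ?_
    have : (σ : K' →ₐ[K] K') = τ := by
      refine AlgHom.ext_of_adjoin_eq_top hadj ?_
      rintro _ ⟨b, rfl⟩
      show σ (algebraMap k' K' b) = τ (algebraMap k' K' b)
      rw [← hres, ← hres, h]
    exact DFunLike.congr_fun this z
  have hfix : ∀ σ ∈ R.O.decompositionSubgroup K, res σ ∈ L.fixingSubgroup := by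
    intro σ hσ
    rw [twist_eq_of_mem_decomposition] at hσ
    rw [IntermediateField.mem_fixingSubgroup_iff]
    rintro b ⟨c, rfl⟩
    change res σ (φ c) = φ c
    set N := Nat.card (FiniteField.Extension k p d)
    haveI := Fintype.ofFinite (FiniteField.Extension k p d)
    have hN : 1 < N := Finite.one_lt_card
    have hcN : ∀ x : FiniteField.Extension k p d, x ^ N = x := fun x => by
      rw [show N = Fintype.card (FiniteField.Extension k p d) from Nat.card_eq_fintype_card]
      exact FiniteField.pow_card x
    have hk : ∀ b : k', R.1 (algebraMap k' K' b) ≤ 1 := fun b => by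
      rcases eq_or_ne b 0 with rfl | hb
      · simp
      · exact (val_const R.1 hb).le
    let ι : k' →+* ResidueField R.O := (IsLocalRing.residue R.O).comp ((algebraMap k' K').codRestrict R.O hk)
    let g : P.O →+* R.O := ((algebraMap K K').comp P.O.subtype).codRestrict R.O fun z => by
      show R.1 (algebraMap K K' z.1) ≤ 1
      rw [he z.1]; exact pow_le_one₀ zero_le z.2
    haveI : IsLocalHom g := ⟨fun z hz => by
      rw [← IsLocalRing.residue_ne_zero_iff_isUnit, Ne, residue_eq_zero_iff_val] at hz ⊢
      refine fun hlt => hz ?_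
      show R.1 (algebraMap K K' z.1) < 1
      rw [he z.1]
      exact pow_lt_one₀ zero_le hlt (by omega)⟩
    let h : FiniteField.Extension k p d →+* ResidueField R.O :=
      (IsLocalRing.ResidueField.map g).comp (ψ : FiniteField.Extension k p d →+* ResidueField P.O)
    set f : Polynomial (ResidueField R.O) := Polynomial.X ^ N - Polynomial.X
    have hf0 : f ≠ 0 := FiniteField.X_pow_card_sub_X_ne_zero _ hN
    have hroot : ∀ y : ResidueField R.O, y ^ N = y → y ∈ f.roots.toFinset := fun y hy => by
      rw [Multiset.mem_toFinset, Polynomial.mem_roots hf0]; simp [f, hy]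
    have himg : Finset.univ.image h = f.roots.toFinset := by
      refine Finset.eq_of_subset_of_card_le ?_ ?_
      · intro y hy
        obtain ⟨x, -, rfl⟩ := Finset.mem_image.1 hy
        exact hroot _ (by rw [← map_pow, hcN])
      · rw [Finset.card_image_of_injective _ h.injective, Finset.card_univ, ← Nat.card_eq_fintype_card]
        exact ((Multiset.toFinset_card_le _).trans (Polynomial.card_roots' f)).trans
          (le_of_eq (FiniteField.X_pow_card_sub_X_natDegree_eq _ hN))
    obtain ⟨x, -, hx⟩ : ∃ x ∈ (Finset.univ : Finset (FiniteField.Extension k p d)), h x = ι (φ c) := by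
      have := hroot (ι (φ c)) (by rw [← map_pow, ← map_pow, hcN])
      rw [← himg, Finset.mem_image] at this
      exact this
    obtain ⟨z, hz⟩ := IsLocalRing.residue_surjective (R := P.O) (ψ x)
    have hd1 : R.1 (algebraMap k' K' (φ c) - algebraMap K K' z.1) < 1 := by
      have h0 : IsLocalRing.residue R.O ((algebraMap k' K').codRestrict R.O hk (φ c) - g z) = 0 := by
        rw [map_sub, sub_eq_zero, ← IsLocalRing.ResidueField.map_residue g z, hz]
        exact hx.symm
      exact (residue_eq_zero_iff_val R _).1 h0
    have hd2 : R.1 (σ (algebraMap k' K' (φ c)) - algebraMap K K' z.1) < 1 := by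
      have h3 : (twist σ R).1 (algebraMap k' K' (φ c) - algebraMap K K' z.1) < 1 := by rw [hσ]; exact hd1
      rwa [twist_val, map_sub, σ.commutes] at h3
    by_contra hne
    have h4 := R.1.map_sub (σ (algebraMap k' K' (φ c)) - algebraMap K K' z.1) (algebraMap k' K' (φ c) - algebraMap K K' z.1)
    have h5 := max_lt hd2 hd1
    rw [sub_sub_sub_cancel_right, ← hres, ← map_sub, val_const R.1 (sub_ne_zero.2 hne)] at h4
    rw [← hres] at h5
    exact (h4.trans_lt h5).false
  have hle : Nat.card (R.O.decompositionSubgroup K) ≤ Nat.card L.fixingSubgroup :=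
    Nat.card_le_card_of_injective (fun σ => ⟨res σ.1, hfix σ.1 σ.2⟩)
      fun σ τ h => Subtype.ext (hinj (congrArg Subtype.val h))
  rw [IsGalois.card_fixingSubgroup_eq_finrank] at hle
  calc Nat.card (R.O.decompositionSubgroup K) * d ≤ Module.finrank L k' * d := Nat.mul_le_mul_right _ hle
    _ = Module.finrank k k' := by
      rw [← hL, mul_comm]
      exact Module.finrank_mul_finrank k L k'

variable (hK : IsFunctionField k K) (hadj : Algebra.adjoin K (Set.range (algebraMap k' K')) = ⊤)
  (hr : Module.finrank K K' = Module.finrank k k')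

include hadj hr in
/-- splitting in a constant extension -/
theorem constExt_split (P : Place k K) :
    (∀ Q : Place k' K', below hK.1 (toBase (k := k) Q) = P → Q.deg = P.deg / P.deg.gcd (Module.finrank k k')) ∧
      Nat.card {Q : Place k' K' // below hK.1 (toBase (k := k) Q) = P} = P.deg.gcd (Module.finrank k k') := by
  classical
  haveI := isGalois_constExt (K := K) (k' := k') hadj
  set r := Module.finrank k k'
  have hr0 : 0 < r := Module.finrank_pos
  set d := P.deg.gcd r
  have hd0 : 0 < d := Nat.gcd_pos_of_pos_right _ hr0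
  obtain ⟨m', hm'⟩ : d ∣ P.deg := Nat.gcd_dvd_left _ _
  obtain ⟨r', hr'⟩ : d ∣ r := Nat.gcd_dvd_right _ _
  have hm'0 : 0 < m' := Nat.pos_of_ne_zero fun h => by
    have := deg_pos hK.1 P; rw [hm', h, mul_zero] at this; omega
  have hco : Nat.Coprime m' r' := by
    have h1 : Nat.gcd (d * m') (d * r') = d := by rw [← hm', ← hr']
    rw [Nat.gcd_mul_left] at h1
    exact Nat.eq_of_mul_eq_mul_left hd0 (by rw [mul_one]; exact h1)
  have key : ∀ R : Place k K', below hK.1 R = P → ∀ Q : Place k' K', toBase (k := k) Q = R →
      Q.deg = m' ∧ Nat.card (R.O.decompositionSubgroup K) * d = r := by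
    intro R hR Q hQ
    set e := eAt hK.1 R
    have he : IsOverWith R P e := hR ▸ isOverWith_below hK.1 R
    have h1 := card_decomposition_mul_deg hK he
    have h2 := card_decomposition_le hK hadj he (d := d) (Nat.gcd_dvd_left _ _) (Nat.gcd_dvd_right _ _)
    have h3 := deg_dvd_deg_over he
    rw [← hQ, deg_toBase] at h3
    obtain ⟨t, ht⟩ : m' ∣ Q.deg := by
      refine hco.dvd_of_dvd_mul_left ?_
      change P.deg ∣ r * Q.deg at h3
      rw [hm', hr', mul_assoc] at h3
      exact Nat.dvd_of_mul_dvd_mul_left hd0 h3
    have hR0 := deg_pos (isFF_extension (K' := K') hK.1) R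
    have hdeg : R.deg = r * (m' * t) := by rw [← hQ, deg_toBase, ht]
    rw [hdeg, hm'] at h1
    have h5 : Nat.card (R.O.decompositionSubgroup K) * d = e * t * r := by
      refine Nat.eq_of_mul_eq_mul_left hm'0 ?_
      linear_combination h1
    have h6 : e * t * r ≤ 1 * r := by rw [← h5, one_mul]; exact h2
    have h7 : e * t ≤ 1 := Nat.le_of_mul_le_mul_right h6 hr0
    have het : e * t = 1 := by
      have : 0 < e * t := Nat.mul_pos (isOverWith_pos he) (Nat.pos_of_ne_zero fun h => by
        rw [hdeg, h] at hR0; simp at hR0)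
      omega
    refine ⟨?_, by rw [h5, het, one_mul]⟩
    rw [ht, Nat.eq_one_of_mul_eq_one_left het, mul_one]
  have hdiv : P.deg / d = m' := by rw [hm', Nat.mul_div_cancel_left _ hd0]
  refine ⟨fun Q hQ => by rw [hdiv]; exact (key _ hQ Q rfl).1, ?_⟩
  obtain ⟨R, hR⟩ := exists_over (K' := K') hK P
  have hR' := (isOver_iff hK.1 R P).1 hR
  obtain ⟨Q, hQ⟩ := exists_toBase_eq (k := k) (k' := k') R
  have h1 := card_mul_card_decomposition hK.1 (hR' ▸ isOverWith_below hK.1 R : IsOverWith R P (eAt hK.1 R))
  have h2 := (key R hR' Q hQ).2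
  have h3 : Nat.card {Q : Place k' K' // below hK.1 (toBase (k := k) Q) = P} =
      Nat.card {R : Place k K' // IsOver R P} := by
    refine Nat.card_eq_of_bijective (fun Q => ⟨toBase Q.1, (isOver_iff hK.1 _ P).2 Q.2⟩) ⟨?_, ?_⟩
    · intro a b h
      exact Subtype.ext (toBase_injective (congrArg Subtype.val h :))
    · rintro ⟨R, hR⟩
      obtain ⟨Q, hQ⟩ := exists_toBase_eq (k := k) (k' := k') R
      exact ⟨⟨Q, hQ ▸ (isOver_iff hK.1 R P).1 hR⟩, Subtype.ext hQ⟩
  rw [h3]
  rw [hr, ← h2, mul_comm _ d] at h1
  have hpos : 0 < Nat.card (R.O.decompositionSubgroup K) := Nat.pos_of_ne_zero fun h => by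
    rw [h, zero_mul] at h2; omega
  exact Nat.eq_of_mul_eq_mul_right hpos h1

include hK hadj hr in
theorem NN_constExt (hFF : IsFF k' K') {n : ℕ} (hn : 0 < n) :
    NN k' K' n = NN k K (Module.finrank k k' * n) := by
  classical
  set r := Module.finrank k k'
  have hr0 : 0 < r := Module.finrank_pos
  have hrn : 0 < r * n := Nat.mul_pos hr0 hn
  rw [NN_eq_sum hFF hn le_rfl, NN_eq_sum hK.1 hrn le_rfl]
  set S := (finite_places_deg_le hK.1 (r * n)).toFinset.filter fun P : Place k K => P.deg ∣ r * n
  set S' := (finite_places_deg_le hFF n).toFinset.filter fun Q : Place k' K' => Q.deg ∣ n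
  have hiff : ∀ Q : Place k' K', Q.deg ∣ n ↔ (below hK.1 (toBase (k := k) Q)).deg ∣ r * n := by
    intro Q
    set P := below hK.1 (toBase (k := k) Q)
    rw [(constExt_split hK hadj hr P).1 Q rfl]
    set d := P.deg.gcd r
    have hd0 : 0 < d := Nat.gcd_pos_of_pos_right _ hr0
    obtain ⟨m', hm'⟩ : d ∣ P.deg := Nat.gcd_dvd_left _ _
    obtain ⟨r', hr'⟩ : d ∣ r := Nat.gcd_dvd_right _ _
    have hco : Nat.Coprime m' r' := by
      have h1 : Nat.gcd (d * m') (d * r') = d := by rw [← hm', ← hr']
      rw [Nat.gcd_mul_left] at h1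
      exact Nat.eq_of_mul_eq_mul_left hd0 (by rw [mul_one]; exact h1)
    rw [hm', hr', Nat.mul_div_cancel_left _ hd0, mul_assoc, Nat.mul_dvd_mul_iff_left hd0]
    exact ⟨fun h => h.mul_left _, hco.dvd_of_dvd_mul_left⟩
  have hmem : ∀ Q, Q ∈ S' ↔ Q.deg ∣ n := fun Q => by
    simp only [S', Finset.mem_filter, Set.Finite.mem_toFinset, Set.mem_ofPred_eq]
    exact ⟨fun h => h.2, fun h => ⟨Nat.le_of_dvd hn h, h⟩⟩
  have hmemS : ∀ P, P ∈ S ↔ P.deg ∣ r * n := fun P => by
    simp only [S, Finset.mem_filter, Set.Finite.mem_toFinset, Set.mem_ofPred_eq]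
    exact ⟨fun h => h.2, fun h => ⟨Nat.le_of_dvd hrn h, h⟩⟩
  rw [← Finset.sum_fiberwise_of_maps_to (t := S) (g := fun Q => below hK.1 (toBase (k := k) Q))
    fun Q hQ => (hmemS _).2 ((hiff Q).1 ((hmem Q).1 hQ))]
  refine Finset.sum_congr rfl fun P hP => ?_
  obtain ⟨h1, h2⟩ := constExt_split hK hadj hr P
  rw [Finset.sum_congr rfl fun Q hQ => h1 Q (Finset.mem_filter.1 hQ).2, Finset.sum_const, smul_eq_mul]
  have hc : (S'.filter fun Q => below hK.1 (toBase (k := k) Q) = P).card = P.deg.gcd r := by
    rw [← h2, ← Nat.card_eq_finsetCard]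
    refine Nat.card_congr (Equiv.subtypeEquivRight fun Q => ?_)
    rw [Finset.mem_filter, hmem, hiff]
    exact ⟨fun h => h.2, fun h => ⟨h ▸ (hmemS P).1 hP, h⟩⟩
  rw [hc, Nat.mul_div_cancel' (Nat.gcd_dvd_left _ _)]

include hK hadj hr in
/-- the constant field of the extension is `k'` -/
theorem isFunctionField_constExt : IsFunctionField k' K' := by
  obtain ⟨x, hx, hfin⟩ := isFF_extension (K' := K') hK.1
  refine ⟨⟨x, fun h => hx (IsAlgebraic.restrictScalars k h), ?_⟩, fun z hz => ?_⟩
  · set F := IntermediateField.adjoin k ({x} : Set K')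
    set F' := IntermediateField.adjoin k' ({x} : Set K')
    have hle : F ≤ F'.restrictScalars k :=
      IntermediateField.adjoin_simple_le_iff.2 (IntermediateField.mem_adjoin_simple_self k' x)
    haveI := hfin
    exact IntermediateField.finiteDimensional_right (IntermediateField.extendScalars hle)
  · set L := IntermediateField.adjoin k' ({z} : Set K')
    haveI : FiniteDimensional k' L := IntermediateField.adjoin.finiteDimensional hz.isIntegral
    haveI : Finite L := Module.finite_of_finite k'
    haveI : IsScalarTower k L K' := IsScalarTower.of_algebraMap_eq fun c => by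
      rw [IsScalarTower.algebraMap_apply k k' K' c, IsScalarTower.algebraMap_apply k k' L c]; rfl
    obtain ⟨w, hw⟩ := Field.exists_primitive_element k L
    have hwi : IsIntegral k w := Algebra.IsIntegral.isIntegral w
    have h1 : Module.finrank k L = (minpoly k w).natDegree := by
      rw [← IntermediateField.adjoin.finrank hwi, hw, IntermediateField.finrank_top']
    have h2 : minpoly K (w : K') = (minpoly k (w : K')).map (algebraMap k K) := by
      have hwi' : IsIntegral k (w : K') := hwi.map (IsScalarTower.toAlgHom k L K')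
      refine (minpoly.eq_of_irreducible_of_monic (irreducible_map_const hK (minpoly.monic hwi') (minpoly.irreducible hwi'))
        ?_ ((minpoly.monic hwi').map _)).symm
      rw [Polynomial.aeval_map_algebraMap, minpoly.aeval]
    have h3 := minpoly.natDegree_le (A := K) (w : K')
    rw [h2, Polynomial.natDegree_map, hr] at h3
    rw [show (w : K') = algebraMap L K' w from rfl, minpoly.algebraMap_eq (algebraMap L K').injective, ← h1,
      ← Module.finrank_mul_finrank k k' L] at h3
    have h4 : Module.finrank k' L ≤ 1 := Nat.le_of_mul_le_mul_left (by rwa [mul_one]) Module.finrank_pos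
    have h5 : L = ⊥ := IntermediateField.finrank_eq_one_iff.1 (le_antisymm h4 Module.finrank_pos)
    have : z ∈ L := IntermediateField.mem_adjoin_simple_self k' z
    rw [h5] at this
    exact IntermediateField.mem_bot.1 this

end

end Groth.Agent.FunFldLib
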