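import Mathlib

/-! Logarithmic derivatives of power series (`θ = X d/dX`). -/

set_option autoImplicit false

namespace Groth.Agent.FunFldLib

open PowerSeries

variable {R : Type*} [CommRing R]

/-- `X d/dX` -/
noncomputable def theta (F : R⟦X⟧) : R⟦X⟧ := PowerSeries.X * PowerSeries.derivative R F

theorem coeff_theta (F : R⟦X⟧) (n : ℕ) : coeff n (theta F) = n * coeff n F := by
  rw [theta]
  cases n with
  | zero => simp
  | succ m => rw [coeff_succ_X_mul, coeff_derivative]; push_cast; ring

theorem theta_mul (F G : R⟦X⟧) : theta (F * G) = theta F * G + F * theta G := by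
  simp only [theta, Derivation.leibniz, smul_eq_mul]; ring

theorem theta_one : theta (1 : R⟦X⟧) = 0 := by simp [theta]

theorem theta_mul_of {F G U W : R⟦X⟧} (hF : theta F = F * U) (hG : theta G = G * W) :
    theta (F * G) = F * G * (U + W) := by
  rw [theta_mul, hF, hG]; ring

theorem theta_pow_of {F U : R⟦X⟧} (hF : theta F = F * U) (n : ℕ) : theta (F ^ n) = F ^ n * (n * U) := by
  induction n with
  | zero => simp [theta_one]
  | succ m ih => rw [pow_succ, theta_mul_of ih hF]; push_cast; ring

theorem theta_prod_of {ι : Type*} (s : Finset ι) {F U : ι → R⟦X⟧} (h : ∀ i ∈ s, theta (F i) = F i * U i) :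
    theta (∏ i ∈ s, F i) = (∏ i ∈ s, F i) * ∑ i ∈ s, U i := by
  classical
  induction s using Finset.induction_on with
  | empty => simp [theta_one]
  | insert a s ha ih =>
    rw [Finset.prod_insert ha, Finset.sum_insert ha]
    exact theta_mul_of (h a (Finset.mem_insert_self _ _)) (ih fun i hi => h i (Finset.mem_insert_of_mem hi))

theorem theta_eq_unique [IsDomain R] [CharZero R] {F G U : R⟦X⟧} (hU : coeff 0 U = 0) (hF : theta F = F * U)
    (hG : theta G = G * U) (h0 : coeff 0 F = coeff 0 G) : F = G := by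
  ext n
  induction n using Nat.strong_induction_on with
  | _ n ih =>
    rcases Nat.eq_zero_or_pos n with rfl | hn
    · exact h0
    have h1 := congrArg (coeff n) hF
    have h2 := congrArg (coeff n) hG
    rw [coeff_theta, coeff_mul] at h1 h2
    have : ∑ p ∈ Finset.HasAntidiagonal.antidiagonal n, coeff p.1 F * coeff p.2 U =
        ∑ p ∈ Finset.HasAntidiagonal.antidiagonal n, coeff p.1 G * coeff p.2 U := by
      refine Finset.sum_congr rfl fun p hp => ?_
      rw [Finset.HasAntidiagonal.mem_antidiagonal] at hp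
      rcases Nat.eq_zero_or_pos p.2 with hp2 | hp2
      · rw [hp2, hU, mul_zero, mul_zero]
      · rw [ih p.1 (by omega)]
    exact mul_left_cancel₀ (Nat.cast_ne_zero.2 hn.ne') (h1.trans (this.trans h2.symm))

/-- the series `∑_{n ≥ 1} c^n X^n` -/
noncomputable def geo (c : R) : R⟦X⟧ := mk fun n => if n = 0 then 0 else c ^ n

theorem coeff_geo_succ (c : R) (n : ℕ) : coeff (n + 1) (geo c) = c ^ (n + 1) := by simp [geo]

theorem coeff_zero_geo (c : R) : coeff 0 (geo c) = 0 := by simp [geo]

theorem theta_linear (c : R) :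
    theta (1 - C c * PowerSeries.X) = (1 - C c * PowerSeries.X) * (-geo c) := by
  ext n
  rw [coeff_theta, sub_mul, one_mul, mul_assoc, map_sub, map_sub]
  rcases n with _ | _ | m
  · simp [geo, coeff_C_mul]
  · simp [geo, coeff_C_mul, coeff_one]
  · simp [geo, coeff_C_mul, coeff_one, coeff_succ_C, coeff_X]
    ring

/-- from a recursion to `θ F = F U` -/
theorem theta_eq_of_rec {F U : R⟦X⟧} (hU : coeff 0 U = 0)
    (h : ∀ n : ℕ, (n : R) * coeff n F = ∑ j ∈ Finset.Icc 1 n, coeff j U * coeff (n - j) F) :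
    theta F = F * U := by
  ext n
  rw [coeff_theta, h, mul_comm F, coeff_mul,
    Finset.Nat.sum_antidiagonal_eq_sum_range_succ (fun a b => coeff a U * coeff b F), Finset.range_eq_Ico,
    Finset.sum_eq_sum_Ico_succ_bot (by omega : 0 < n + 1), hU, zero_mul, zero_add]
  exact Finset.sum_congr (by ext; simp) fun _ _ => rfl

theorem map_theta {S : Type*} [CommRing S] (f : R →+* S) (F : R⟦X⟧) :
    PowerSeries.map f (theta F) = theta (PowerSeries.map f F) := by
  ext n
  rw [coeff_map, coeff_theta, coeff_theta, coeff_map, map_mul, map_natCast]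

theorem coeff_nonneg_mul {F G : ℤ⟦X⟧} (hF : ∀ n, 0 ≤ coeff n F) (hG : ∀ n, 0 ≤ coeff n G) (n : ℕ) :
    0 ≤ coeff n (F * G) := by
  rw [coeff_mul]
  exact Finset.sum_nonneg fun p _ => mul_nonneg (hF _) (hG _)

theorem coeff_nonneg_pow {F : ℤ⟦X⟧} (hF : ∀ n, 0 ≤ coeff n F) (m n : ℕ) : 0 ≤ coeff n (F ^ m) := by
  induction m generalizing n with
  | zero => rw [pow_zero, coeff_one]; split_ifs <;> simp
  | succ m ih => rw [pow_succ]; exact coeff_nonneg_mul ih hF n

theorem coeff_zero_pow {F : R⟦X⟧} (h : coeff 0 F = 1) (m : ℕ) : coeff 0 (F ^ m) = 1 := by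
  rw [coeff_zero_eq_constantCoeff] at h ⊢
  rw [map_pow, h, one_pow]

end Groth.Agent.FunFldLib
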