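import Mathlib
import Groth.Agent.FunFldLib.ConstExt
import Groth.Agent.FunFldLib.PowLog

/-! F. K. Schmidt, rationality and functional equation of the zeta series, Newton identities. -/

set_option autoImplicit false

open PowerSeries

namespace Groth.Agent.FunFldLib

open FunFld

variable {k K : Type*} [Field k] [Field K] [Algebra k K]

/-- `∑_{n ≥ 1} N_n X^n` -/
noncomputable def Nser (k K : Type*) [Field k] [Field K] [Algebra k K] : ℤ⟦X⟧ :=
  mk fun n => if n = 0 then 0 else (NN k K n : ℤ)

theorem coeff_zero_Nser : coeff 0 (Nser k K) = 0 := by simp [Nser]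

theorem coeff_Nser {n : ℕ} (hn : 0 < n) : coeff n (Nser k K) = (NN k K n : ℤ) := by simp [Nser, hn.ne']

variable [Finite k]

theorem theta_zetaZ (hK : IsFF k K) : theta (zetaZ k K) = zetaZ k K * Nser k K := by
  refine theta_eq_of_rec coeff_zero_Nser fun n => ?_
  have h := congrArg (Nat.cast : ℕ → ℤ) (euler hK n)
  push_cast at h
  rw [zetaZ, coeff_mk, h]
  refine Finset.sum_congr rfl fun j hj => ?_
  rw [coeff_mk, coeff_Nser (Finset.mem_Icc.1 hj).1]

omit [Finite k] in
theorem deg_zsmul (m : ℤ) (D : Divisor k K) : (m • D).deg = m * D.deg := by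
  rw [← degHom_eq_deg, map_zsmul, degHom_eq_deg, smul_eq_mul]

theorem exists_deg_one (hK : IsFunctionField k K) : ∃ D : Divisor k K, D.deg = 1 := by
  classical
  obtain ⟨x, hx, -⟩ := id hK.1
  obtain ⟨P0, -⟩ := exists_place_val_lt_one hK.1 hx
  have hex : ∃ n : ℕ, 0 < n ∧ ∃ D : Divisor k K, D.deg = n :=
    ⟨P0.deg, deg_pos hK.1 P0, Finsupp.single P0 1, by rw [deg_single, one_mul]⟩
  set r := Nat.find hex
  obtain ⟨hr0, D1, hD1⟩ := Nat.find_spec hex
  have hdvd : ∀ D : Divisor k K, (r : ℤ) ∣ D.deg := fun D => by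
    by_contra hnd
    have h1 : 0 ≤ D.deg % r := Int.emod_nonneg _ (by omega)
    have h2 : D.deg % r < r := Int.emod_lt_of_pos _ (by omega)
    have h3 : D.deg % r ≠ 0 := fun h => hnd (Int.dvd_of_emod_eq_zero h)
    have h4 : (D - (D.deg / r) • D1).deg = D.deg % r := by
      rw [deg_sub, deg_zsmul, hD1, Int.emod_def, mul_comm]
    refine Nat.find_min hex (m := (D.deg % r).toNat) (by omega) ⟨by omega, D - (D.deg / r) • D1, ?_⟩
    rw [h4, Int.toNat_of_nonneg h1]
  by_cases hr1 : r = 1
  · exact ⟨D1, by rw [hD1]; show ((r : ℕ) : ℤ) = 1; rw [hr1]; rfl⟩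
  exfalso
  have hr2 : 2 ≤ r := by omega
  haveI : NeZero r := ⟨by omega⟩
  -- the constant extension of degree `r`
  obtain ⟨p, hp⟩ := CharP.exists k
  haveI : Fact p.Prime := ⟨CharP.char_is_prime k p⟩
  let k' := FiniteField.Extension k p r
  have hfr : Module.finrank k k' = r := FiniteField.finrank_extension k p r
  obtain ⟨a, ha⟩ := Field.exists_primitive_element k k'
  have hai : IsIntegral k a := Algebra.IsIntegral.isIntegral a
  set μ := minpoly k a with hμ
  have hμd : μ.natDegree = r := by
    rw [← IntermediateField.adjoin.finrank hai, ha, IntermediateField.finrank_top', hfr]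
  haveI : Fact (Irreducible (μ.map (algebraMap k K))) :=
    ⟨irreducible_map_const hK (minpoly.monic hai) (minpoly.irreducible hai)⟩
  let K' := AdjoinRoot (μ.map (algebraMap k K))
  haveI : FiniteDimensional K K' := ((minpoly.monic hai).map _).finite_adjoinRoot
  haveI : Fact (Irreducible μ) := ⟨minpoly.irreducible hai⟩
  haveI : FiniteDimensional k (AdjoinRoot μ) := (minpoly.monic hai).finite_adjoinRoot
  let e0 : AdjoinRoot μ →ₐ[k] k' := AdjoinRoot.liftAlgHom μ (Algebra.ofId k k') a (minpoly.aeval k a)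
  have he0 : Function.Bijective e0 := by
    have hi : Function.Injective e0.toLinearMap := e0.toRingHom.injective
    have hfr' : Module.finrank k (AdjoinRoot μ) = Module.finrank k k' := by
      rw [(AdjoinRoot.powerBasis (minpoly.ne_zero hai)).finrank, AdjoinRoot.powerBasis_dim, hfr]; exact hμd
    exact ⟨hi, (LinearMap.injective_iff_surjective_of_finrank_eq_finrank hfr').1 hi⟩
  let e : AdjoinRoot μ ≃ₐ[k] k' := AlgEquiv.ofBijective e0 he0
  let l : AdjoinRoot μ →ₐ[k] K' := AdjoinRoot.liftAlgHom μ (Algebra.ofId k K') (AdjoinRoot.root (μ.map (algebraMap k K))) (by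
    have h0 := AdjoinRoot.eval₂_root (μ.map (algebraMap k K))
    rw [Polynomial.eval₂_map] at h0
    exact h0)
  let ι : k' →ₐ[k] K' := l.comp (e.symm : k' →ₐ[k] AdjoinRoot μ)
  letI : Algebra k' K' := ι.toRingHom.toAlgebra
  haveI : IsScalarTower k k' K' := IsScalarTower.of_algebraMap_eq fun c => (ι.commutes c).symm
  have hroot : AdjoinRoot.root (μ.map (algebraMap k K)) ∈ Set.range (algebraMap k' K') := by
    refine ⟨e (AdjoinRoot.root μ), ?_⟩
    show l (e.symm (e (AdjoinRoot.root μ))) = _
    rw [AlgEquiv.symm_apply_apply]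
    exact AdjoinRoot.liftAlgHom_root _ _ _ _
  have hadj : Algebra.adjoin K (Set.range (algebraMap k' K')) = ⊤ := by
    rw [← top_le_iff, ← AdjoinRoot.adjoinRoot_eq_top]
    exact Algebra.adjoin_mono (Set.singleton_subset_iff.2 hroot)
  have hr : Module.finrank K K' = Module.finrank k k' := by
    rw [hfr, (AdjoinRoot.powerBasis ((minpoly.monic hai).map (algebraMap k K)).ne_zero).finrank,
      AdjoinRoot.powerBasis_dim, Polynomial.natDegree_map, hμd]
  have hK' : IsFunctionField k' K' := isFunctionField_constExt hK hadj hr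
  have hN : ∀ n, 0 < n → NN k' K' n = NN k K (r * n) := fun n hn => by
    rw [NN_constExt hK hadj hr hK'.1 hn, hfr]
  -- `Z' = B ^ r`
  set B : ℤ⟦X⟧ := mk fun n => (effDivCount k K (r * n) : ℤ) with hB
  set U : ℤ⟦X⟧ := Nser k' K' with hU
  have hB0 : coeff 0 B = 1 := by rw [hB, coeff_mk, mul_zero, effDivCount_zero hK.1, Nat.cast_one]
  have hNz : ∀ j, ¬ r ∣ j → NN k K j = 0 := fun j hj => finsum_mem_of_eqOn_zero
    fun P (hP : P.deg ∣ j) => absurd ((show r ∣ P.deg by
      have := hdvd (Finsupp.single P 1)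
      rw [deg_single, one_mul] at this
      exact Int.natCast_dvd_natCast.1 this).trans hP) hj
  have hBU : ∀ n : ℕ, (r : ℤ) * ((n : ℤ) * coeff n B) = ∑ j ∈ Finset.Icc 1 n, coeff j U * coeff (n - j) B := by
    intro n
    have h := euler hK.1 (r * n)
    rw [← Finset.sum_subset (s₁ := (Finset.Icc 1 n).image (r * ·)) (fun j hj => by
      obtain ⟨i, hi, rfl⟩ := Finset.mem_image.1 hj
      rw [Finset.mem_Icc] at hi ⊢
      exact ⟨Nat.mul_pos (by omega) hi.1, Nat.mul_le_mul_left r hi.2⟩) (fun j hj hnot => by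
      rw [hNz j fun ⟨i, hi⟩ => hnot (Finset.mem_image.2 ⟨i, ?_, hi.symm⟩), zero_mul]
      rw [Finset.mem_Icc] at hj ⊢
      subst hi
      exact ⟨Nat.pos_of_ne_zero fun h => by simp [h] at hj, Nat.le_of_mul_le_mul_left hj.2 (by omega)⟩),
      Finset.sum_image (fun i _ j _ hij => Nat.eq_of_mul_eq_mul_left (by omega) hij)] at h
    have h' := congrArg (Nat.cast : ℕ → ℤ) h
    push_cast at h'
    rw [hB, coeff_mk, ← mul_assoc, h']
    refine Finset.sum_congr rfl fun i hi => ?_
    rw [Finset.mem_Icc] at hi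
    rw [coeff_mk, hU, coeff_Nser hi.1, hN i hi.1, Nat.mul_sub]
  have hθB : C (r : ℤ) * theta B = B * U := by
    ext n
    rw [coeff_C_mul, coeff_theta, hBU, mul_comm B, coeff_mul,
      Finset.Nat.sum_antidiagonal_eq_sum_range_succ (fun a b => coeff a U * coeff b B), Finset.range_eq_Ico,
      Finset.sum_eq_sum_Ico_succ_bot (by omega : 0 < n + 1), hU, coeff_zero_Nser, zero_mul, zero_add]
    exact Finset.sum_congr (by ext; simp) fun _ _ => rfl
  have hpow : ∀ m : ℕ, C (r : ℤ) * theta (B ^ m) = B ^ m * (m * U) := by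
    intro m
    induction m with
    | zero => simp [theta_one]
    | succ m ih =>
      rw [pow_succ, theta_mul, mul_add, ← mul_assoc, ih]
      push_cast
      linear_combination B ^ m * hθB
  have hrC : C (r : ℤ) = (r : ℤ⟦X⟧) := map_natCast C r
  have hZ' : zetaZ k' K' = B ^ r := by
    refine theta_eq_unique (U := U) coeff_zero_Nser (theta_zetaZ hK'.1) ?_ ?_
    · have := hpow r
      rw [hrC, mul_left_comm] at this
      exact mul_left_cancel₀ (by rw [← hrC]; exact (map_ne_zero_iff _ PowerSeries.C_injective).2 (by omega)) this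
    · rw [coeff_zero_pow hB0, zetaZ, coeff_mk, effDivCount_zero hK'.1, Nat.cast_one]
  -- growth
  set g := genus k K
  set q := Nat.card k with hq
  have hq2 : 2 ≤ q := Finite.one_lt_card
  haveI := finite_Cl0 hK
  haveI := finite_Cl0 hK'
  haveI := Fintype.ofFinite (Cl0 k K)
  haveI := Fintype.ofFinite (Cl0 k' K')
  choose rep hrep using (QuotientAddGroup.mk_surjective : Function.Surjective (QuotientAddGroup.mk : (degHom k K).ker → Cl0 k K))
  choose rep' hrep' using (QuotientAddGroup.mk_surjective : Function.Surjective (QuotientAddGroup.mk : (degHom k' K').ker → Cl0 k' K'))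
  have hlow : ∀ i : ℕ, g ≤ r * i → q ^ (r * i - g) ≤ effDivCount k K (r * i) := by
    intro i hi
    have hD : ((i : ℤ) • D1).deg = ((r * i : ℕ) : ℤ) := by rw [deg_zsmul, hD1]; push_cast; ring
    have h := count_identity hK hD rep hrep
    have hge : classNum k K * q ^ (r * i + 1 - g) ≤ ∑ c : Cl0 k K, q ^ ell ((rep c : Divisor k K) + (i : ℤ) • D1) := by
      rw [show classNum k K = Fintype.card (Cl0 k K) from Nat.card_eq_fintype_card, ← Finset.card_univ,
        ← smul_eq_mul, ← Finset.sum_const]
      refine Finset.sum_le_sum fun c _ => Nat.pow_le_pow_right (by omega) ?_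
      have := (rep c).2
      rw [AddMonoidHom.mem_ker, degHom_eq_deg] at this
      have := ell_ge hK (C := (rep c : Divisor k K) + (i : ℤ) • D1) (n := r * i) (by rw [deg_add, this, hD, zero_add])
      omega
    rw [← h] at hge
    have hh := classNum_pos hK
    have e : q ^ (r * i + 1 - g) = q * q ^ (r * i - g) := by
      rw [show r * i + 1 - g = (r * i - g) + 1 by omega, pow_succ']
    rw [e] at hge
    have h1 : 1 ≤ q ^ (r * i - g) := Nat.one_le_pow _ _ (by omega)
    obtain ⟨q1, hq1⟩ : ∃ q1, q = q1 + 1 := ⟨q - 1, by omega⟩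
    rw [← hq] at hge
    rw [hq1, Nat.add_sub_cancel] at hge
    rw [hq1] at h1 ⊢
    refine Nat.le_of_mul_le_mul_left ?_ (show 0 < q1 by omega)
    nlinarith [Nat.mul_le_mul_left (classNum k K) h1, Nat.mul_le_mul_right (q1 * (q1 + 1) ^ (r * i - g)) hh]
  set h' := classNum k' K'
  have hcard' : Nat.card k' = q ^ r := FiniteField.natCard_extension k p r
  have hup : ∀ n : ℕ, effDivCount k' K' n ≤ h' * q ^ (r * (n + 1)) := by
    intro n
    by_cases hex' : ∃ D : Divisor k' K', D.deg = n
    · obtain ⟨D, hD⟩ := hex'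
      have h := count_identity hK' hD rep' hrep'
      have hle : ∑ c : Cl0 k' K', Nat.card k' ^ ell ((rep' c : Divisor k' K') + D) ≤ h' * q ^ (r * (n + 1)) := by
        rw [show h' = Fintype.card (Cl0 k' K') from Nat.card_eq_fintype_card, ← Finset.card_univ,
          ← smul_eq_mul, ← Finset.sum_const]
        refine Finset.sum_le_sum fun c _ => ?_
        rw [hcard', ← pow_mul]
        refine Nat.pow_le_pow_right (by omega) (Nat.mul_le_mul_left r ?_)
        have := (rep' c).2
        rw [AddMonoidHom.mem_ker, degHom_eq_deg] at this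
        exact ell_le_of_deg hK' (by rw [deg_add, this, hD, zero_add])
      have h2 : 2 ≤ Nat.card k' := Finite.one_lt_card
      obtain ⟨q1, hq1⟩ : ∃ q1, Nat.card k' = q1 + 2 := ⟨Nat.card k' - 2, by omega⟩
      rw [← h, show Nat.card k' - 1 = q1 + 1 by omega] at hle
      nlinarith
    · rw [effDivCount_eq_zero hex']; exact Nat.zero_le _
  have hBnn : ∀ n, 0 ≤ coeff n B := fun n => by rw [hB, coeff_mk]; positivity
  have hmain : ∀ n : ℕ, ∑ i ∈ Finset.Icc g (n - g), effDivCount k K (r * i) * effDivCount k K (r * (n - i)) ≤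
      effDivCount k' K' n := by
    intro n
    have h1 := congrArg (coeff n) hZ'
    rw [zetaZ, coeff_mk, show B ^ r = B ^ 2 * B ^ (r - 2) by rw [← pow_add]; congr 1; omega, coeff_mul] at h1
    have h2 : coeff n (B ^ 2) ≤ (effDivCount k' K' n : ℤ) := by
      rw [h1]
      refine le_trans (le_of_eq ?_) (Finset.single_le_sum (f := fun p : ℕ × ℕ => coeff p.1 (B ^ 2) * coeff p.2 (B ^ (r - 2)))
        (fun p _ => mul_nonneg (coeff_nonneg_pow hBnn 2 _) (coeff_nonneg_pow hBnn _ _))
        (Finset.HasAntidiagonal.mem_antidiagonal.2 (add_zero n) : ((n, 0) : ℕ × ℕ) ∈ _))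
      rw [coeff_zero_pow hB0, mul_one]
    rw [sq, coeff_mul, Finset.Nat.sum_antidiagonal_eq_sum_range_succ (fun a b => coeff a B * coeff b B)] at h2
    have h3 : ((∑ i ∈ Finset.Icc g (n - g), effDivCount k K (r * i) * effDivCount k K (r * (n - i)) : ℕ) : ℤ) ≤
        effDivCount k' K' n := by
      refine le_trans ?_ h2
      push_cast
      rw [hB]
      simp only [coeff_mk]
      exact Finset.sum_le_sum_of_subset_of_nonneg (fun i hi => by simp at hi ⊢; omega) fun _ _ _ => by positivity
    exact_mod_cast h3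
  set n := 2 * g + h' * q ^ (2 * g + r) with hn
  have hlow2 : (n - g + 1 - g) * q ^ (r * n - 2 * g) ≤ effDivCount k' K' n := by
    refine le_trans ?_ (hmain n)
    rw [← Nat.card_Icc, ← smul_eq_mul, ← Finset.sum_const]
    refine Finset.sum_le_sum fun i hi => ?_
    rw [Finset.mem_Icc] at hi
    have a1 : g ≤ r * i := hi.1.trans (Nat.le_mul_of_pos_left i (by omega))
    have a2 : g ≤ r * (n - i) := (by omega : g ≤ n - i).trans (Nat.le_mul_of_pos_left _ (by omega))
    refine le_trans (le_of_eq ?_) (Nat.mul_le_mul (hlow i a1) (hlow (n - i) a2))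
    rw [← pow_add]
    congr 1
    have : r * (n - i) + r * i = r * n := by rw [← Nat.mul_add]; congr 1; omega
    omega
  have hfin := hlow2.trans (hup n)
  have e : q ^ (r * (n + 1)) = q ^ (2 * g + r) * q ^ (r * n - 2 * g) := by
    rw [← pow_add]; congr 1
    have : 2 * g ≤ r * n := (by omega : 2 * g ≤ n).trans (Nat.le_mul_of_pos_left _ (by omega))
    rw [Nat.mul_add, mul_one]; omega
  rw [e, ← mul_assoc] at hfin
  have := Nat.le_of_mul_le_mul_right hfin (Nat.pow_pos (by omega))
  omega

theorem deg_surjective (hK : IsFunctionField k K) : Function.Surjective (Divisor.deg : Divisor k K → ℤ) := fun n => by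
  obtain ⟨D, hD⟩ := exists_deg_one hK
  exact ⟨n • D, by rw [deg_zsmul, hD, mul_one]⟩

omit [Finite k] in
theorem ell_congr (hK : IsFunctionField k K) {C C' : Divisor k K} (h : C' - C ∈ prinDivs k K) : ell C' = ell C := by
  obtain ⟨x, hx, he⟩ := (mem_prinDivs_iff hK.1).1 h
  rw [← ell_add_div hK hx C, ← he, add_sub_cancel]

/-- `A(n) = ∑_c q^{ℓ(c + n D₁)}` and its symmetry -/
theorem exists_A (hK : IsFunctionField k K) :
    ∃ A : ℤ → ℚ, (∀ n : ℕ, ((Nat.card k : ℚ) - 1) * effDivCount k K n = A n - classNum k K) ∧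
      (∀ n : ℤ, n < 0 → A n = classNum k K) ∧
      ∀ n : ℤ, A n = (Nat.card k : ℚ) ^ (n + 1 - genus k K) * A (2 * (genus k K : ℤ) - 2 - n) := by
  classical
  haveI := finite_Cl0 hK
  haveI := Fintype.ofFinite (Cl0 k K)
  obtain ⟨D1, hD1⟩ := exists_deg_one hK
  choose rep hrep using (QuotientAddGroup.mk_surjective : Function.Surjective (QuotientAddGroup.mk : (degHom k K).ker → Cl0 k K))
  set g := genus k K
  have hq : (Nat.card k : ℚ) ≠ 0 := Nat.cast_ne_zero.2 Nat.card_pos.ne'
  have hdeg : ∀ (c : Cl0 k K) (n : ℤ), ((rep c : Divisor k K) + n • D1).deg = n := fun c n => by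
    have := (rep c).2
    rw [AddMonoidHom.mem_ker, degHom_eq_deg] at this
    rw [deg_add, this, deg_zsmul, hD1, zero_add, mul_one]
  refine ⟨fun n => ∑ c : Cl0 k K, (Nat.card k : ℚ) ^ ell ((rep c : Divisor k K) + n • D1), fun n => ?_, fun n hn => ?_,
    fun n => ?_⟩
  · have h := count_identity hK (show ((n : ℤ) • D1).deg = n by rw [deg_zsmul, hD1, mul_one]) rep hrep
    have h' := congrArg (Nat.cast : ℕ → ℚ) h
    push_cast [Nat.cast_sub (Nat.card_pos : 1 ≤ Nat.card k)] at h'
    beta_reduce
    rw [← h', add_sub_cancel_right]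
  · show ∑ c : Cl0 k K, _ = _
    rw [Finset.sum_congr rfl fun c _ => by rw [ell_eq_zero hK (by rw [hdeg]; exact hn), pow_zero],
      Finset.sum_const, Finset.card_univ, nsmul_one, show classNum k K = Fintype.card (Cl0 k K) from Nat.card_eq_fintype_card]
  · obtain ⟨W, hW⟩ := exists_isCanonical hK
    have hWd := deg_canonical hK hW
    let κ : Cl0 k K := QuotientAddGroup.mk (⟨W - (2 * (g : ℤ) - 2) • D1, by
      rw [AddMonoidHom.mem_ker, degHom_eq_deg, deg_sub, deg_zsmul, hD1, hWd.1]; ring⟩ : (degHom k K).ker)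
    rw [Finset.mul_sum]
    show ∑ c : Cl0 k K, _ = _
    refine Finset.sum_nbij' (fun c => κ - c) (fun c => κ - c) (by simp) (by simp) (fun c _ => sub_sub_cancel κ c)
      (fun c _ => sub_sub_cancel κ c) fun c _ => ?_
    have hRR := riemann_roch' hK hW ((rep c : Divisor k K) + n • D1)
    simp only [delta, hdeg] at hRR
    have he : ell ((rep (κ - c) : Divisor k K) + (2 * (g : ℤ) - 2 - n) • D1) = ell (W - ((rep c : Divisor k K) + n • D1)) := by
      refine ell_congr hK ?_
      have h := QuotientAddGroup.eq.1 (show ((QuotientAddGroup.mk (-rep c + (⟨W - (2 * (g : ℤ) - 2) • D1, by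
        rw [AddMonoidHom.mem_ker, degHom_eq_deg, deg_sub, deg_zsmul, hD1, hWd.1]; ring⟩ : (degHom k K).ker)) : Cl0 k K)) =
          QuotientAddGroup.mk (rep (κ - c)) by
        rw [hrep, QuotientAddGroup.mk_add, QuotientAddGroup.mk_neg, hrep]; abel)
      rw [AddSubgroup.mem_addSubgroupOf] at h
      push_cast at h
      convert h using 1
      rw [sub_smul]
      abel
    rw [he, ← zpow_natCast, ← zpow_natCast, ← zpow_add₀ hq]
    congr 1
    omega

theorem coeff_numerZ (n : ℕ) :
    coeff n (numerZ k K) = (effDivCount k K n : ℤ) - ((Nat.card k : ℤ) + 1) * (if 1 ≤ n then (effDivCount k K (n - 1) : ℤ) else 0)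
      + (Nat.card k : ℤ) * (if 2 ≤ n then (effDivCount k K (n - 2) : ℤ) else 0) := by
  have : numerZ k K = zetaZ k K - C ((Nat.card k : ℤ) + 1) * (PowerSeries.X * zetaZ k K) +
      C (Nat.card k : ℤ) * (PowerSeries.X * (PowerSeries.X * zetaZ k K)) := by
    rw [numerZ, map_add, map_one]; ring
  rw [this, map_add, map_sub, coeff_C_mul, coeff_C_mul, zetaZ]
  rcases n with _ | _ | m <;> simp [coeff_succ_X_mul]

theorem constantCoeff_numerZ (hK : IsFF k K) : coeff 0 (numerZ k K) = 1 := by
  rw [coeff_numerZ]; simp [effDivCount_zero hK]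

/-- vanishing, functional equation, value at one -/
theorem numer_facts (hK : IsFunctionField k K) :
    (∀ n : ℕ, 2 * genus k K < n → coeff n (numerZ k K) = 0) ∧
      (∀ i : ℕ, i ≤ 2 * genus k K →
        ((coeff (2 * genus k K - i) (numerZ k K) : ℤ) : ℚ) =
          (Nat.card k : ℚ) ^ ((genus k K : ℤ) - i) * ((coeff i (numerZ k K) : ℤ) : ℚ)) ∧
      ∑ i ∈ Finset.range (2 * genus k K + 1), coeff i (numerZ k K) = (classNum k K : ℤ) := by
  obtain ⟨A, hA, hneg, hsym⟩ := exists_A hK
  set g := genus k K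
  set q : ℚ := (Nat.card k : ℚ) with hqdef
  set h : ℚ := (classNum k K : ℚ)
  have hq1 : (1 : ℚ) < q := by rw [hqdef]; exact_mod_cast (Finite.one_lt_card : 1 < Nat.card k)
  have hq0 : q ≠ 0 := by positivity
  let E : ℤ → ℚ := fun n => A n - (q + 1) * A (n - 1) + q * A (n - 2)
  have hE : ∀ n : ℕ, (q - 1) * ((coeff n (numerZ k K) : ℤ) : ℚ) = E n := by
    intro n
    rw [coeff_numerZ]
    simp only [E]
    rcases n with _ | _ | m
    · have h0 := hA 0
      have h1 := hneg (-1) (by omega)
      have h2 := hneg (-2) (by omega)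
      norm_num at h0 h1 h2 ⊢
      simp only [h1, h2]
      linear_combination h0
    · have h0 := hA 0
      have h1 := hA 1
      have h2 := hneg (-1) (by omega)
      norm_num at h0 h1 h2 ⊢
      simp only [h2]
      linear_combination h1 - (q + 1) * h0
    · have h0 := hA m
      have h1 := hA (m + 1)
      have h2 := hA (m + 2)
      push_cast at h0 h1 h2 ⊢
      simp only [show (1 : ℕ) ≤ m + 1 + 1 by omega, show (2 : ℕ) ≤ m + 1 + 1 by omega, if_true,
        show m + 1 + 1 - 1 = m + 1 by omega, show m + 1 + 1 - 2 = m by omega,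
        show ((m : ℤ) + 1 + 1 - 1) = (m : ℤ) + 1 by ring, show ((m : ℤ) + 1 + 1 - 2) = (m : ℤ) by ring,
        show ((m : ℤ) + 1 + 1) = (m : ℤ) + 2 by ring]
      push_cast
      norm_num [add_assoc] at h0 h1 h2 ⊢
      rw [show (m : ℤ) + 2 - 1 = (m : ℤ) + 1 by ring]
      linear_combination h2 - (q + 1) * h1 + q * h0
  have hEsym : ∀ i : ℤ, E (2 * g - i) = q ^ ((g : ℤ) - i) * E i := by
    intro i
    simp only [E]
    rw [hsym (2 * g - i), hsym (2 * g - i - 1), hsym (2 * g - i - 2)]
    rw [show (2 * (g : ℤ) - i + 1 - g) = ((g : ℤ) - i) + 1 by ring,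
      show (2 * (g : ℤ) - i - 1 + 1 - g) = (g : ℤ) - i by ring,
      show (2 * (g : ℤ) - i - 2 + 1 - g) = ((g : ℤ) - i) - 1 by ring, zpow_add_one₀ hq0, zpow_sub_one₀ hq0,
      show (2 * (g : ℤ) - 2 - (2 * g - i)) = i - 2 by ring, show (2 * (g : ℤ) - 2 - (2 * g - i - 1)) = i - 1 by ring,
      show (2 * (g : ℤ) - 2 - (2 * g - i - 2)) = i by ring]
    field_simp
    ring
  have hEneg : ∀ i : ℤ, i < 0 → E i = 0 := fun i hi => by
    simp only [E]; rw [hneg i hi, hneg (i - 1) (by omega), hneg (i - 2) (by omega)]; ring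
  refine ⟨fun n hn => ?_, fun i hi => ?_, ?_⟩
  · have h1 := hE n
    rw [show (n : ℤ) = 2 * g - (2 * (g : ℤ) - n) by ring, hEsym, hEneg _ (by omega), mul_zero] at h1
    exact_mod_cast (mul_eq_zero.1 h1).resolve_left (by linarith)
  · have h1 := hE (2 * g - i)
    rw [Nat.cast_sub hi, Nat.cast_mul, Nat.cast_ofNat, hEsym, ← hE i] at h1
    refine mul_left_cancel₀ (show q - 1 ≠ 0 by linarith) ?_
    linear_combination h1
  · have htel : ∀ N : ℕ, ∑ i ∈ Finset.range (N + 1), E i = A N - q * A ((N : ℤ) - 1) + (q - 1) * h := by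
      intro N
      induction N with
      | zero =>
        norm_num [E]
        rw [hneg (-1) (by omega), hneg (-2) (by omega)]; ring
      | succ m ih =>
        rw [Finset.sum_range_succ, ih]
        simp only [E]
        push_cast
        rw [show ((m : ℤ) + 1 - 1) = m by ring, show ((m : ℤ) + 1 - 2) = (m : ℤ) - 1 by ring]
        ring
    have h1 : (q - 1) * ((∑ i ∈ Finset.range (2 * g + 1), coeff i (numerZ k K) : ℤ) : ℚ) = (q - 1) * h := by
      push_cast
      rw [Finset.mul_sum, Finset.sum_congr rfl fun i _ => hE i, htel, hsym, hsym (((2 * g : ℕ) : ℤ) - 1),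
        hneg (2 * (g : ℤ) - 2 - ((2 * g : ℕ) : ℤ)) (by push_cast; omega),
        hneg (2 * (g : ℤ) - 2 - (((2 * g : ℕ) : ℤ) - 1)) (by push_cast; omega),
        show (((2 * g : ℕ) : ℤ) + 1 - g) = (((2 * g : ℕ) : ℤ) - 1 + 1 - g) + 1 by ring, zpow_add_one₀ hq0]
      ring
    have h2 := mul_left_cancel₀ (show q - 1 ≠ 0 by linarith) h1
    simp only [h] at h2
    exact_mod_cast h2

/-- Newton: point counts from reciprocal roots -/
theorem newton (hK : IsFF k K) {ι : Type*} [Fintype ι] (α : ι → ℂ)
    (hα : PowerSeries.map (Int.castRingHom ℂ) (numerZ k K) =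
      ((∏ i, (1 - Polynomial.C (α i) * Polynomial.X) : Polynomial ℂ) : PowerSeries ℂ))
    {n : ℕ} (hn : 0 < n) : (NN k K n : ℂ) = 1 + (Nat.card k : ℂ) ^ n - ∑ i, α i ^ n := by
  set f := PowerSeries.map (Int.castRingHom ℂ)
  have h1 : theta (numerZ k K) = numerZ k K * (-geo 1 + -geo (Nat.card k : ℤ) + Nser k K) := by
    refine theta_mul_of (theta_mul_of ?_ (theta_linear _)) (theta_zetaZ hK)
    simpa using theta_linear (1 : ℤ)
  have h2 : theta (f (numerZ k K)) = f (numerZ k K) * ∑ i, -geo (α i) := by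
    rw [hα, ← Polynomial.coeToPowerSeries.ringHom_apply, map_prod]
    refine theta_prod_of _ fun i _ => ?_
    simpa using theta_linear (α i)
  have h3 : f (numerZ k K) ≠ 0 := fun h => by
    have := congrArg (coeff 0) h
    rw [coeff_map, constantCoeff_numerZ hK] at this
    simp at this
  have h4 := congrArg f h1
  rw [map_theta, h2, map_mul] at h4
  have h5 := congrArg (coeff n) (mul_left_cancel₀ h3 h4)
  obtain ⟨m, rfl⟩ : ∃ m, n = m + 1 := ⟨n - 1, by omega⟩
  simp only [map_add, map_neg, map_sum, f, coeff_map, coeff_geo_succ, coeff_Nser hn] at h5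
  simp only [eq_intCast, Int.cast_pow, Int.cast_one, Int.cast_natCast, one_pow, Finset.sum_neg_distrib] at h5
  linear_combination -h5

theorem NN_one (hK : IsFF k K) : NN k K 1 = Nat.card {P : Place k K // P.deg = 1} := by
  classical
  have : NN k K 1 = ((finite_places_deg_le hK 1).toFinset.filter fun P => P.deg ∣ 1).card := by
    rw [NN_eq_sum hK one_pos le_rfl, Finset.card_eq_sum_ones]
    refine Finset.sum_congr rfl fun P hP => Nat.dvd_one.1 (Finset.mem_filter.1 hP).2
  rw [this, ← Nat.card_eq_finsetCard]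
  refine Nat.card_congr (Equiv.subtypeEquivRight fun P => ?_)
  simp only [Finset.mem_filter, Set.Finite.mem_toFinset, Set.mem_ofPred_eq, Nat.dvd_one]
  exact ⟨fun h => h.2, fun h => ⟨h.le, h⟩⟩

/-- multisets invariant under `a ↦ q/a` split into pairs -/
theorem exists_pairing {F : Type*} [Field F] [NeZero (2 : F)] {q : F} (hq : q ≠ 0) :
    ∀ (n : ℕ) (M : Multiset F), Multiset.card M = 2 * n → (∀ a ∈ M, a ≠ 0) → M.map (fun a => q / a) = M →
      M.prod = q ^ n → ∃ l : List F, M = (l ++ l.map fun a => q / a : List F) := by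
  classical
  intro n
  induction n with
  | zero => intro M hM _ _ _; exact ⟨[], by simpa using hM⟩
  | succ n ih =>
    intro M hM h0 hinv hprod
    have hf : ∀ a ∈ M, q / (q / a) = a := fun a ha => by field_simp [h0 a ha]
    have hex : ∃ x ∈ M, q / x ∈ M.erase x := by
      by_contra! hc
      have hfix : ∀ x ∈ M, q / x = x := fun x hx => by
        by_contra hne
        exact hc x hx ((Multiset.mem_erase_of_ne hne).2 (hinv ▸ Multiset.mem_map_of_mem _ hx))
      have hnd : ∀ x ∈ M, x ∉ M.erase x := fun x hx hx' => hc x hx (by rwa [hfix x hx])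
      obtain ⟨a, ha⟩ : ∃ a, a ∈ M := Multiset.exists_mem_of_ne_zero (by rintro rfl; simp at hM)
      have hsq : ∀ x ∈ M, x = a ∨ x = -a := fun x hx => by
        have e1 := hfix x hx
        have e2 := hfix a ha
        rw [div_eq_iff (h0 x hx)] at e1
        rw [div_eq_iff (h0 a ha)] at e2
        exact mul_self_eq_mul_self_iff.1 (e1.symm.trans e2)
      have hnodup : M.Nodup := Multiset.nodup_iff_count_le_one.2 fun x => by
        by_contra hlt
        have hx : x ∈ M := Multiset.one_le_count_iff_mem.1 (by omega)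
        exact hnd x hx (Multiset.one_le_count_iff_mem.1 (by rw [Multiset.count_erase_self]; omega))
      have hsub : M ≤ ({a, -a} : Finset F).val := (Multiset.le_iff_subset hnodup).2 fun x hx => by
        rcases hsq x hx with rfl | rfl <;> simp
      have hcard := Multiset.card_le_card hsub
      have hne : a ≠ -a := fun h => by
        have : (2 : F) * a = 0 := by linear_combination h
        exact h0 a ha ((mul_eq_zero.1 this).resolve_left two_ne_zero)
      have hc2 : Multiset.card ({a, -a} : Finset F).val = 2 := Finset.card_pair hne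
      rw [hc2, hM] at hcard
      have hn0 : n = 0 := by omega
      subst hn0
      have hM2 : M = ({a, -a} : Finset F).val := Multiset.eq_of_le_of_card_le hsub (by rw [hc2, hM])
      rw [hM2, show ({a, -a} : Finset F).val.prod = ∏ x ∈ ({a, -a} : Finset F), x from (Finset.prod_val _),
        Finset.prod_pair hne, pow_one] at hprod
      have e2 := hfix a ha
      rw [div_eq_iff (h0 a ha)] at e2
      have : (2 : F) * q = 0 := by linear_combination e2 - hprod
      exact hq ((mul_eq_zero.1 this).resolve_left two_ne_zero)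
    obtain ⟨x, hx, hx'⟩ := hex
    obtain ⟨N, hN⟩ : ∃ N, M = x ::ₘ (q / x) ::ₘ N := ⟨(M.erase x).erase (q / x), by
      rw [Multiset.cons_erase hx', Multiset.cons_erase hx]⟩
    subst hN
    simp only [Multiset.map_cons, hf x hx] at hinv
    rw [Multiset.cons_swap, Multiset.cons_inj_right, Multiset.cons_inj_right] at hinv
    obtain ⟨l, hl⟩ := ih N (by simp at hM; omega) (fun a ha => h0 a (by simp [ha])) hinv (by
      simp only [Multiset.prod_cons] at hprod
      rw [← mul_assoc, mul_div_cancel₀ _ (h0 x hx), pow_succ'] at hprod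
      exact mul_left_cancel₀ hq hprod)
    refine ⟨x :: l, ?_⟩
    rw [hl]
    simp only [List.map_cons, List.cons_append, Multiset.cons_coe, Multiset.coe_eq_coe]
    exact (List.perm_middle.symm).cons x

theorem exists_reciprocal_roots (hK : IsFunctionField k K) :
    ∃ α : Fin (2 * genus k K) → ℂ, (∀ i, IsIntegral ℤ (α i)) ∧
      PowerSeries.map (Int.castRingHom ℂ) (numerZ k K) =
        ((∏ i, (1 - Polynomial.C (α i) * Polynomial.X) : Polynomial ℂ) : PowerSeries ℂ) ∧
      ∀ i, α i * α (Fin.rev i) = (Nat.card k : ℂ) := by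
  classical
  obtain ⟨hvan, hfe, -⟩ := numer_facts hK
  set g := genus k K
  set L := numerZ k K
  set q : ℂ := (Nat.card k : ℂ) with hqdef
  have hq : q ≠ 0 := Nat.cast_ne_zero.2 Nat.card_pos.ne'
  let R : Polynomial ℤ := ∑ i ∈ Finset.range (2 * g + 1), Polynomial.C (coeff i L) * Polynomial.X ^ (2 * g - i)
  have hRc : ∀ j, R.coeff j = if j ≤ 2 * g then coeff (2 * g - j) L else 0 := fun j => by
    simp only [R, Polynomial.finset_sum_coeff, Polynomial.coeff_C_mul_X_pow]
    split_ifs with hj
    · rw [Finset.sum_eq_single (2 * g - j) (fun i hi hne => if_neg (by simp at hi; omega))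
        (fun h => absurd (Finset.mem_range.2 (by omega)) h), if_pos (by omega)]
    · exact Finset.sum_eq_zero fun i _ => if_neg (by omega)
  have hRd : R.natDegree ≤ 2 * g := Polynomial.natDegree_le_iff_coeff_eq_zero.2 fun j hj => by
    rw [hRc, if_neg (by omega)]
  have hL0 : coeff 0 L = 1 := constantCoeff_numerZ hK.1
  have hR2g : R.coeff (2 * g) = 1 := by rw [hRc, if_pos le_rfl, Nat.sub_self, hL0]
  have hmon : R.Monic := Polynomial.monic_of_natDegree_le_of_coeff_eq_one _ hRd hR2g
  set Rc := R.map (Int.castRingHom ℂ) with hRcdef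
  have hRcd : Rc.natDegree = 2 * g := le_antisymm (Polynomial.natDegree_map_le.trans hRd)
    (Polynomial.le_natDegree_of_ne_zero (by rw [hRcdef, Polynomial.coeff_map, hR2g]; simp))
  set M := Rc.roots
  have hsplit : Rc = (M.map fun a => Polynomial.X - Polynomial.C a).prod :=
    ((IsAlgClosed.splits Rc).eq_prod_roots_of_monic (hmon.map _))
  have hMcard : Multiset.card M = 2 * g := by
    rw [← hRcd]; exact (IsAlgClosed.splits Rc).natDegree_eq_card_roots.symm
  have hc0 : Rc.coeff 0 = q ^ g := by
    rw [hRcdef, Polynomial.coeff_map, hRc, if_pos (Nat.zero_le _), Nat.sub_zero]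
    have := hfe 0 (Nat.zero_le _)
    rw [Nat.sub_zero, hL0, Nat.cast_zero, sub_zero, zpow_natCast, Int.cast_one, mul_one] at this
    have h2 : coeff (2 * g) L = (Nat.card k : ℤ) ^ g := by exact_mod_cast this
    rw [h2]; simp [q]
  have hM0 : ∀ a ∈ M, a ≠ 0 := fun a ha h => by
    subst h
    have := Polynomial.isRoot_of_mem_roots ha
    rw [Polynomial.IsRoot, ← Polynomial.coeff_zero_eq_eval_zero, hc0] at this
    exact pow_ne_zero _ hq this
  have hMprod : M.prod = q ^ g := by
    rw [(IsAlgClosed.splits Rc).coeff_zero_eq_prod_roots_of_monic (hmon.map _), hRcd, pow_mul] at hc0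
    simpa using hc0
  -- `P(X) = ∏ (1 - αX)`
  have hrev : ((M.map fun a => (1 : Polynomial ℂ) - Polynomial.C a * Polynomial.X).prod) = Rc.reverse := by
    rw [hsplit]
    have : ∀ N : Multiset ℂ, (N.map fun a => (1 : Polynomial ℂ) - Polynomial.C a * Polynomial.X).prod =
        ((N.map fun a => Polynomial.X - Polynomial.C a).prod).reverse := by
      intro N
      induction N using Multiset.induction_on with
      | empty => simp [Polynomial.reverse, Polynomial.reflect_one]
      | cons a N ih =>
        rw [Multiset.map_cons, Multiset.map_cons, Multiset.prod_cons, Multiset.prod_cons, Polynomial.reverse_mul_of_domain, ih]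
        congr 1
        rw [Polynomial.reverse, Polynomial.natDegree_X_sub_C, Polynomial.reflect_sub, Polynomial.reflect_one_X, Polynomial.reflect_C, pow_one]
    exact this M
  have hcoef : ∀ j, Rc.reverse.coeff j = ((coeff j L : ℤ) : ℂ) := fun j => by
    rw [Polynomial.coeff_reverse, hRcd, hRcdef, Polynomial.coeff_map, hRc]
    by_cases hj : j ≤ 2 * g
    · rw [Polynomial.revAt_le hj, if_pos (Nat.sub_le _ _), Nat.sub_sub_self hj]; simp
    · rw [Polynomial.revAt_eq_self_of_lt (by omega), if_neg hj, hvan j (by omega)]; simp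
  -- invariance
  have hinv : M.map (fun a => q / a) = M := by
    have h1 : Rc = Polynomial.C (q ^ g) * Rc.reverse.comp (Polynomial.C q⁻¹ * Polynomial.X) := by
      ext j
      rw [Polynomial.coeff_C_mul, Polynomial.comp_C_mul_X_coeff, hcoef, hRcdef, Polynomial.coeff_map, hRc]
      split_ifs with hj
      · have h2 : ((coeff (2 * g - j) L : ℤ) : ℂ) = q ^ ((g : ℤ) - j) * ((coeff j L : ℤ) : ℂ) := by
          have := congrArg (fun x : ℚ => (x : ℂ)) (hfe j hj)
          push_cast at this
          exact this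
        rw [eq_intCast, h2, zpow_sub₀ hq, zpow_natCast, zpow_natCast, inv_pow]
        ring
      · simp [hvan j (by omega)]
    have h2 : Rc.reverse.comp (Polynomial.C q⁻¹ * Polynomial.X) =
        Polynomial.C ((M.map fun a => -a / q).prod) * ((M.map fun a => q / a).map fun b => Polynomial.X - Polynomial.C b).prod := by
      rw [← hrev, Polynomial.multiset_prod_comp, Multiset.map_map, Multiset.map_map,
        map_multiset_prod Polynomial.C, Multiset.map_map, ← Multiset.prod_map_mul]
      refine congrArg Multiset.prod (Multiset.map_congr rfl fun a ha => ?_)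
      simp only [Function.comp_apply, Polynomial.sub_comp, Polynomial.one_comp, Polynomial.mul_comp, Polynomial.C_comp, Polynomial.X_comp]
      rw [mul_sub, ← Polynomial.C_mul, show -a / q * (q / a) = -1 by field_simp [hM0 a ha],
        map_neg Polynomial.C, map_one Polynomial.C, ← mul_assoc, ← Polynomial.C_mul,
        show -a / q = -(a * q⁻¹) by ring, map_neg Polynomial.C]
      ring
    have h3 := congrArg Polynomial.roots h1
    rw [h2, ← mul_assoc, ← Polynomial.C_mul, Polynomial.roots_C_mul, Polynomial.roots_multiset_prod_X_sub_C] at h3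
    · exact h3.symm
    · refine mul_ne_zero (pow_ne_zero _ hq) (Multiset.prod_ne_zero fun h => ?_)
      obtain ⟨a, ha, h0⟩ := Multiset.mem_map.1 h
      exact hM0 a ha (by field_simp at h0; simpa using h0)
  obtain ⟨l, hl⟩ := exists_pairing hq g M hMcard hM0 hinv hMprod
  set f : ℂ → ℂ := fun a => q / a
  set W := l ++ (l.map f).reverse
  have hWM : (W : Multiset ℂ) = M := by
    rw [hl, Multiset.coe_eq_coe]; exact (List.Perm.refl l).append (List.reverse_perm _)
  have hlen : W.length = 2 * g := by rw [← Multiset.coe_card, hWM, hMcard]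
  have hl0 : ∀ a ∈ W, a ≠ 0 := fun a ha => hM0 a (hWM ▸ (Multiset.mem_coe.2 ha))
  have hWrev : W.reverse = W.map f := by
    simp only [W, List.reverse_append, List.reverse_reverse, List.map_append, List.map_reverse, List.map_map]
    congr 1
    · conv_lhs => rw [← List.map_id l]
      refine congrArg List.reverse (List.map_congr_left fun a ha => ?_)
      have := hl0 a (by simp [W, ha])
      simp only [id, Function.comp_apply, f]
      field_simp
  let α : Fin (2 * g) → ℂ := fun i => W[(i : ℕ)]'(by rw [hlen]; exact i.2)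
  have hαM : (Finset.univ : Finset (Fin (2 * g))).val.map α = M := by
    rw [← hWM, Fin.univ_val_map, Multiset.coe_eq_coe]
    refine List.Perm.of_eq (List.ext_getElem (by simp [hlen]) fun i h1 h2 => ?_)
    simp [α]
  refine ⟨α, fun i => ⟨R, hmon, ?_⟩, ?_, fun i => ?_⟩
  · have hmem : α i ∈ M := hαM ▸ Multiset.mem_map_of_mem _ (Finset.mem_univ i)
    have := Polynomial.isRoot_of_mem_roots hmem
    rwa [Polynomial.IsRoot, hRcdef, Polynomial.eval_map, ← algebraMap_int_eq] at this
  · rw [show (∏ i, (1 - Polynomial.C (α i) * Polynomial.X)) = Rc.reverse by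
      rw [← hrev, ← hαM, Multiset.map_map]; rfl]
    ext j
    rw [coeff_map, Polynomial.coeff_coe, hcoef]; rfl
  · have hi : (i : ℕ) < W.length := by rw [hlen]; exact i.2
    have h1 : α (Fin.rev i) = W.reverse[(i : ℕ)]'(by rw [List.length_reverse]; exact hi) := by
      rw [List.getElem_reverse]
      simp only [α, Fin.val_rev, hlen]
      congr 1; omega
    simp only [hWrev, List.getElem_map] at h1
    rw [h1]
    have := hl0 _ (List.getElem_mem hi)
    simp only [α, f]
    field_simp

end Groth.Agent.FunFldLib
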