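import Mathlib
import Groth.Agent.FunFldLib.Bombieri
import Groth.Agent.FunFldLib.Zeta

/-! The Riemann hypothesis for function fields over finite fields (Bombieri's proof). -/

set_option autoImplicit false

open WithZero

namespace Groth.Agent.FunFldLib

open FunFld

/-- compositum with a finite field extension stays Galois -/
theorem isGalois_const_over (F E E' k' : Type*) [Field F] [Field E] [Field E'] [Field k'] [Finite k']
    [Algebra F E] [Algebra E E'] [Algebra F E'] [IsScalarTower F E E'] [Algebra k' E']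
    [FiniteDimensional F E] [IsGalois F E] (hadj : Algebra.adjoin E (Set.range (algebraMap k' E')) = ⊤) :
    IsGalois F E' := by
  classical
  haveI := Fintype.ofFinite k'
  obtain ⟨p, hp⟩ := CharP.exists k'
  haveI : Fact p.Prime := ⟨CharP.char_is_prime k' p⟩
  set N := Nat.card k' with hN
  let f : Polynomial F := Polynomial.X ^ N - Polynomial.X
  let fE : Polynomial E := Polynomial.X ^ N - Polynomial.X
  have hfE : f.map (algebraMap F E) = fE := by simp [f, fE]
  have hmap : fE.map (algebraMap E E') = ((Polynomial.X ^ N - Polynomial.X : Polynomial k').map (algebraMap k' E')) := by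
    simp [fE]
  have hspl : fE.IsSplittingField E E' := by
    refine ⟨?_, ?_⟩
    · rw [hmap]; exact (Polynomial.splits_X_pow_nat_card_sub_X (K := k')).map _
    · rw [← top_le_iff, ← hadj]
      refine Algebra.adjoin_mono ?_
      rintro _ ⟨b, rfl⟩
      have hne : fE ≠ 0 := FiniteField.X_pow_card_sub_X_ne_zero _ Finite.one_lt_card
      rw [Polynomial.mem_rootSet_of_ne hne]
      simp only [fE, map_sub, map_pow, Polynomial.aeval_X, hN]
      rw [← map_pow, Nat.card_eq_fintype_card, FiniteField.pow_card, sub_self]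
  haveI : CharP E p := by
    haveI : CharP E' p := charP_of_injective_algebraMap (algebraMap k' E').injective p
    exact (algebraMap E E').charP (algebraMap E E').injective p
  have hsepE : fE.Separable := galois_poly_separable (K := E) p N (by
    obtain ⟨n, _, hn⟩ := FiniteField.card k' p
    rw [hN, Nat.card_eq_fintype_card, hn]
    exact dvd_pow_self p n.ne_zero)
  haveI : IsGalois E E' := IsGalois.of_separable_splitting_field hsepE
  haveI : Algebra.IsSeparable F E' := Algebra.IsSeparable.trans F E E'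
  obtain ⟨h, hsep, hh⟩ := IsGalois.is_separable_splitting_field F E
  haveI := hh
  haveI : (f.map (algebraMap F E)).IsSplittingField E E' := by rw [hfE]; exact hspl
  haveI := Polynomial.IsSplittingField.mul (F := F) (K := E) E' h f
    hsep.ne_zero (FiniteField.X_pow_card_sub_X_ne_zero _ Finite.one_lt_card)
  haveI : Normal F E' := Normal.of_isSplittingField (h * f)
  exact ⟨⟩

/-- existence of constant extensions -/
theorem exists_constExt_model {k K : Type*} [Field k] [Field K] [Algebra k K] {k' : Type} [Field k'] [Finite k]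
    [Algebra k k'] [FiniteDimensional k k'] (hK : IsFunctionField k K) :
    ∃ (f : Polynomial K) (_ : Fact (Irreducible f)) (ι : k' →ₐ[k] AdjoinRoot f),
      Module.Finite K (AdjoinRoot f) ∧ Algebra.adjoin K (Set.range ι) = ⊤ ∧
        Module.finrank K (AdjoinRoot f) = Module.finrank k k' := by
  haveI : Finite k' := Module.finite_of_finite k
  obtain ⟨a, ha⟩ := Field.exists_primitive_element k k'
  have hai : IsIntegral k a := Algebra.IsIntegral.isIntegral a
  set μ := minpoly k a with hμ
  have hμd : μ.natDegree = Module.finrank k k' := by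
    rw [← IntermediateField.adjoin.finrank hai, ha, IntermediateField.finrank_top']
  haveI hirr : Fact (Irreducible (μ.map (algebraMap k K))) :=
    ⟨irreducible_map_const hK (minpoly.monic hai) (minpoly.irreducible hai)⟩
  haveI : Module.Finite K (AdjoinRoot (μ.map (algebraMap k K))) := ((minpoly.monic hai).map _).finite_adjoinRoot
  haveI : Fact (Irreducible μ) := ⟨minpoly.irreducible hai⟩
  haveI : FiniteDimensional k (AdjoinRoot μ) := (minpoly.monic hai).finite_adjoinRoot
  let e0 : AdjoinRoot μ →ₐ[k] k' := AdjoinRoot.liftAlgHom μ (Algebra.ofId k k') a (minpoly.aeval k a)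
  have he0 : Function.Bijective e0 := by
    have hi : Function.Injective e0.toLinearMap := e0.toRingHom.injective
    have hfr' : Module.finrank k (AdjoinRoot μ) = Module.finrank k k' := by
      rw [(AdjoinRoot.powerBasis (minpoly.ne_zero hai)).finrank, AdjoinRoot.powerBasis_dim]; exact hμd
    exact ⟨hi, (LinearMap.injective_iff_surjective_of_finrank_eq_finrank hfr').1 hi⟩
  let e : AdjoinRoot μ ≃ₐ[k] k' := AlgEquiv.ofBijective e0 he0
  let l : AdjoinRoot μ →ₐ[k] AdjoinRoot (μ.map (algebraMap k K)) :=
    AdjoinRoot.liftAlgHom μ (Algebra.ofId k _) (AdjoinRoot.root (μ.map (algebraMap k K))) (by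
      have h0 := AdjoinRoot.eval₂_root (μ.map (algebraMap k K))
      rw [Polynomial.eval₂_map] at h0
      exact h0)
  refine ⟨_, hirr, l.comp (e.symm : k' →ₐ[k] AdjoinRoot μ), inferInstance, ?_, ?_⟩
  · rw [← top_le_iff, ← AdjoinRoot.adjoinRoot_eq_top]
    refine Algebra.adjoin_mono (Set.singleton_subset_iff.2 ⟨e (AdjoinRoot.root μ), ?_⟩)
    show l (e.symm (e (AdjoinRoot.root μ))) = _
    rw [AlgEquiv.symm_apply_apply]
    exact AdjoinRoot.liftAlgHom_root _ _ _ _
  · rw [(AdjoinRoot.powerBasis ((minpoly.monic hai).map (algebraMap k K)).ne_zero).finrank,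
      AdjoinRoot.powerBasis_dim, Polynomial.natDegree_map, hμd]

section Sub

variable {k K0 k' E' : Type*} [Field k] [Field K0] [Algebra k K0] [Field k'] [Field E'] [Algebra k k']
  [Algebra K0 E'] [Algebra k' E'] [Algebra k E'] [IsScalarTower k K0 E'] [IsScalarTower k k' E']

theorem const_mem_adjoin {a : k'} (ha : IntermediateField.adjoin k ({a} : Set k') = ⊤) (b : k') :
    algebraMap k' E' b ∈ IntermediateField.adjoin K0 ({algebraMap k' E' a} : Set E') := by
  set L := (IntermediateField.adjoin K0 ({algebraMap k' E' a} : Set E')).restrictScalars k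
  have : IntermediateField.adjoin k ({a} : Set k') ≤ L.comap (IsScalarTower.toAlgHom k k' E') :=
    IntermediateField.adjoin_simple_le_iff.2 (IntermediateField.mem_adjoin_simple_self K0 _)
  rw [ha] at this
  exact this (IntermediateField.mem_top : b ∈ _)

/-- `k'` inside `K0(a)` -/
noncomputable def subAlg {a : k'} (ha : IntermediateField.adjoin k ({a} : Set k') = ⊤) :
    Algebra k' (IntermediateField.adjoin K0 ({algebraMap k' E' a} : Set E')) :=
  ((algebraMap k' E').codRestrict _ (const_mem_adjoin (K0 := K0) (E' := E') ha)).toAlgebra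

variable [Finite k] [Finite k']

theorem subExt (hK : IsFunctionField k K0) {a : k'} (ha : IntermediateField.adjoin k ({a} : Set k') = ⊤) :
    letI := subAlg (K0 := K0) (E' := E') ha
    IsFunctionField k' (IntermediateField.adjoin K0 ({algebraMap k' E' a} : Set E')) ∧
      (∀ n, 0 < n → NN k' (IntermediateField.adjoin K0 ({algebraMap k' E' a} : Set E')) n =
        NN k K0 (Module.finrank k k' * n)) ∧
      Module.finrank K0 (IntermediateField.adjoin K0 ({algebraMap k' E' a} : Set E')) = Module.finrank k k' := by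
  let instK0 : Algebra _ _ := subAlg (K0 := K0) (E' := E') ha
  haveI : Finite k' := inferInstance
  haveI : FiniteDimensional k k' := Module.Finite.of_finite
  have hai : IsIntegral k a := Algebra.IsIntegral.isIntegral a
  have hint : IsIntegral K0 (algebraMap k' E' a) :=
    (hai.map (IsScalarTower.toAlgHom k k' E')).tower_top
  haveI : FiniteDimensional K0 (IntermediateField.adjoin K0 ({algebraMap k' E' a} : Set E')) := IntermediateField.adjoin.finiteDimensional hint
  haveI : IsScalarTower k k' (IntermediateField.adjoin K0 ({algebraMap k' E' a} : Set E')) := IsScalarTower.of_algebraMap_eq fun c => Subtype.ext (by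
    show ((algebraMap k (IntermediateField.adjoin K0 ({algebraMap k' E' a} : Set E')) c : (IntermediateField.adjoin K0 ({algebraMap k' E' a} : Set E'))) : E') = algebraMap k' E' (algebraMap k k' c)
    rw [← IsScalarTower.algebraMap_apply k k' E']
    rfl)
  have hr : Module.finrank K0 (IntermediateField.adjoin K0 ({algebraMap k' E' a} : Set E')) = Module.finrank k k' := by
    rw [IntermediateField.adjoin.finrank hint]
    have hai' : IsIntegral k (algebraMap k' E' a) := hai.map (IsScalarTower.toAlgHom k k' E')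
    rw [← (minpoly.eq_of_irreducible_of_monic (irreducible_map_const hK (minpoly.monic hai') (minpoly.irreducible hai'))
      (by rw [Polynomial.aeval_map_algebraMap, minpoly.aeval]) ((minpoly.monic hai').map _)),
      Polynomial.natDegree_map, minpoly.algebraMap_eq (algebraMap k' E').injective,
      ← IntermediateField.adjoin.finrank hai, ha, IntermediateField.finrank_top']
  have hadj : Algebra.adjoin K0 (Set.range (algebraMap k' (IntermediateField.adjoin K0 ({algebraMap k' E' a} : Set E')))) = ⊤ := by
    rw [← top_le_iff]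
    rintro ⟨z, hz⟩ -
    have h1 : (IntermediateField.adjoin K0 ({algebraMap k' E' a} : Set E')).toSubalgebra = Algebra.adjoin K0 {algebraMap k' E' a} :=
      IntermediateField.adjoin_simple_toSubalgebra_of_isAlgebraic hint.isAlgebraic
    have h2 : z ∈ Algebra.adjoin K0 ({algebraMap k' E' a} : Set E') := h1 ▸ (show z ∈ (IntermediateField.adjoin K0 ({algebraMap k' E' a} : Set E')).toSubalgebra from hz)
    have h3 : (Algebra.adjoin K0 ({algebraMap k' E' a} : Set E')) ≤
        (Algebra.adjoin K0 (Set.range (algebraMap k' (IntermediateField.adjoin K0 ({algebraMap k' E' a} : Set E'))))).map (IntermediateField.adjoin K0 ({algebraMap k' E' a} : Set E')).val := by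
      refine Algebra.adjoin_le (Set.singleton_subset_iff.2 ?_)
      exact ⟨algebraMap k' (IntermediateField.adjoin K0 ({algebraMap k' E' a} : Set E')) a, Algebra.subset_adjoin ⟨a, rfl⟩, rfl⟩
    obtain ⟨w, hw, hwz⟩ := h3 h2
    rwa [show (⟨z, hz⟩ : (IntermediateField.adjoin K0 ({algebraMap k' E' a} : Set E'))) = w from Subtype.ext hwz.symm]
  have hFF := isFunctionField_constExt hK hadj hr
  exact ⟨hFF, fun n hn => NN_constExt hK hadj hr hFF.1 hn, hr⟩

end Sub

/-- a constant extension does not increase the genus and keeps degree one places -/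
theorem constExt_genus_le {k K k' K' : Type*} [Field k] [Field K] [Algebra k K] [Field k'] [Field K'] [Algebra k k']
    [Algebra K K'] [Algebra k' K'] [Algebra k K'] [IsScalarTower k K K'] [IsScalarTower k k' K']
    [Finite k] [Finite k'] [FiniteDimensional K K'] (hK : IsFunctionField k K)
    (hadj : Algebra.adjoin K (Set.range (algebraMap k' K')) = ⊤) (hr : Module.finrank K K' = Module.finrank k k')
    (hK' : IsFunctionField k' K') {P0 : Place k K} (hP0 : P0.deg = 1) :
    genus k' K' ≤ genus k K ∧ ∃ Q : Place k' K', Q.deg = 1 := by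
  classical
  haveI : FiniteDimensional k k' := Module.Finite.of_finite
  obtain ⟨h1, h2⟩ := constExt_split hK hadj hr P0
  rw [hP0, Nat.gcd_one_left] at h2
  rw [hP0, Nat.gcd_one_left, Nat.div_one] at h1
  obtain ⟨hsub, ⟨Q0, hQ0⟩⟩ := Nat.card_eq_one_iff_unique.1 h2
  have hQ0d : Q0.deg = 1 := h1 Q0 hQ0
  refine ⟨?_, Q0, hQ0d⟩
  set g := genus k K
  set g' := genus k' K'
  set m := 2 * g + 2 * g'
  have hlK := ell_large hK (D := Finsupp.single P0 (m : ℤ)) (by rw [deg_single, hP0]; omega)
  have hlK' := ell_large hK' (D := Finsupp.single Q0 (m : ℤ)) (by rw [deg_single, hQ0d]; omega)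
  rw [deg_single, hP0] at hlK
  rw [deg_single, hQ0d] at hlK'
  -- ramification index one
  set e := eAt hK.1 (toBase (k := k) Q0)
  have he : IsOverWith (toBase (k := k) Q0) P0 e := hQ0 ▸ isOverWith_below hK.1 (toBase (k := k) Q0)
  have hover : ∀ R : Place k K', IsOver R P0 → R = toBase (k := k) Q0 := by
    intro R hR
    obtain ⟨Q, rfl⟩ := exists_toBase_eq (k := k) (k' := k') R
    exact congrArg (fun Q : {Q : Place k' K' // below hK.1 (toBase (k := k) Q) = P0} => toBase (k := k) Q.1)
      (@Subsingleton.elim _ hsub ⟨Q, (isOver_iff hK.1 _ P0).1 hR⟩ ⟨Q0, hQ0⟩)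
  have he1 : e = 1 := by
    have h3 := sum_ram_mul_deg hK P0 {toBase (k := k) Q0} (fun R => by
      rw [Finset.mem_singleton]
      exact ⟨fun h => h ▸ ⟨e, he⟩, hover R⟩)
    rw [Finset.sum_singleton, hP0, deg_toBase, hQ0d, hr] at h3
    simp only [mul_one] at h3
    have hb := ramIdx_below hK.1 (toBase (k := k) Q0)
    rw [hQ0] at hb
    rw [hb] at h3
    exact Nat.eq_of_mul_eq_mul_right Module.finrank_pos (by rw [one_mul]; exact h3)
  -- `k'`-independence
  haveI := finite_L hK.1 (Finsupp.single P0 (m : ℤ))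
  haveI := finite_L hK'.1 (Finsupp.single Q0 (m : ℤ))
  set B := Module.finBasis k (L (Finsupp.single P0 (m : ℤ))) with hB
  let b := Module.finBasis k k'
  have hbK : LinearIndependent K fun j => algebraMap k' K' (b j) := by
    refine linearIndependent_of_top_le_span_of_card_eq_finrank ?_ (by rw [Fintype.card_fin, hr])
    have hcl : Set.range (algebraMap k' K') ⊆ (Submodule.span K (Set.range fun j => algebraMap k' K' (b j)) : Set K') := by
      rintro _ ⟨c, rfl⟩
      rw [← b.sum_repr c, map_sum]
      refine Submodule.sum_mem _ fun j _ => ?_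
      rw [Algebra.smul_def, map_mul, ← IsScalarTower.algebraMap_apply, IsScalarTower.algebraMap_apply k K K', ← Algebra.smul_def]
      exact Submodule.smul_mem _ _ (Submodule.subset_span ⟨j, rfl⟩)
    have hsub : Submonoid.closure (Set.range (algebraMap k' K')) ≤ MonoidHom.mrange (algebraMap k' K' : k' →* K') :=
      Submonoid.closure_le.2 (by rintro _ ⟨c, rfl⟩; exact ⟨c, rfl⟩)
    intro z _
    have hz : z ∈ Subalgebra.toSubmodule (Algebra.adjoin K (Set.range (algebraMap k' K'))) := by
      rw [hadj]; exact trivial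
    rw [Algebra.adjoin_eq_span] at hz
    exact Submodule.span_le.2 (fun w hw => hcl (hsub hw)) hz
  let v : Fin _ → K' := fun i => algebraMap K K' (B i).1
  have hv : LinearIndependent k' v := by
    rw [Fintype.linearIndependent_iff]
    intro c hc i
    have hzero : ∀ j, ∑ i, b.repr (c i) j • (B i).1 = 0 := by
      refine Fintype.linearIndependent_iff.1 hbK (fun j => ∑ i, b.repr (c i) j • (B i).1) ?_
      rw [← hc]
      simp only [Finset.sum_smul]
      rw [Finset.sum_comm]
      refine Finset.sum_congr rfl fun i _ => ?_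
      conv_rhs => rw [← b.sum_repr (c i), Finset.sum_smul]
      refine Finset.sum_congr rfl fun j _ => ?_
      simp only [v, Algebra.smul_def, map_mul, ← IsScalarTower.algebraMap_apply]
      ring
    have h4 : ∀ j, b.repr (c i) j = 0 := fun j => by
      refine Fintype.linearIndependent_iff.1 B.linearIndependent (fun i => b.repr (c i) j) (Subtype.ext ?_) i
      simp only [AddSubmonoidClass.coe_finsetSum, Submodule.coe_smul_of_tower, hzero j, ZeroMemClass.coe_zero]
    exact b.repr.map_eq_zero_iff.1 (Finsupp.ext h4)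
  have hmem : ∀ i, v i ∈ L (Finsupp.single Q0 (m : ℤ)) := by
    intro i
    have hne : (B i).1 ≠ 0 := fun h => B.ne_zero i (Subtype.ext h)
    have hB := (mem_L_single_iff P0 hne (m : ℤ)).1 (B i).2
    rw [mem_L_single_iff Q0 ((map_ne_zero _).2 hne)]
    refine ⟨?_, fun Q hQ => ?_⟩
    · show -(m : ℤ) ≤ (toBase (k := k) Q0).ord _
      rw [ord_algebraMap_eq he, he1]; simpa using hB.1
    · show 0 ≤ (toBase (k := k) Q).ord _
      rw [ord_algebraMap_eq (isOverWith_below hK.1 (toBase (k := k) Q))]
      refine mul_nonneg (by positivity) (hB.2 _ fun h => hQ ?_)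
      exact toBase_injective (hover _ ((isOver_iff hK.1 _ P0).2 h))
  have hle : ell (Finsupp.single P0 (m : ℤ)) ≤ ell (Finsupp.single Q0 (m : ℤ)) := by
    have := (LinearIndependent.of_comp (L (Finsupp.single Q0 (m : ℤ))).subtype
      (v := fun i => (⟨v i, hmem i⟩ : L (Finsupp.single Q0 (m : ℤ)))) hv).fintype_card_le_finrank
    rwa [Fintype.card_fin] at this
  omega

/-- two-sided bound after extending the constants -/
theorem core_bound {k F K0 E : Type*} [Field k] [Finite k] [Field F] [Field K0] [Field E] [Algebra k F] [Algebra k K0]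
    [Algebra k E] [Algebra F K0] [Algebra F E] [Algebra K0 E] [IsScalarTower k F E] [IsScalarTower k K0 E]
    [IsScalarTower F K0 E] [FiniteDimensional F E] [IsGalois F E] (hF : IsFunctionField k F)
    (hK0 : IsFunctionField k K0) (hE : IsFunctionField k E) {P0 : Place k E} (hP0 : P0.deg = 1)
    (hNF : ∀ n, 0 < n → NN k F n = 1 + Nat.card k ^ n) {p : ℕ} [Fact p.Prime] [CharP k p] {j e q0 : ℕ} (hj : 0 < j)
    (hq0 : q0 = p ^ e) (hq : Nat.card k ^ j = q0 ^ 2) (hbig : (genus k E + 1) ^ 2 < q0) :
    |(NN k K0 j : ℤ) - (Nat.card k : ℤ) ^ j| ≤ (Module.finrank F E : ℤ) * (2 * (genus k E : ℤ) + 1) * q0 := by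
  classical
  haveI : NeZero j := ⟨hj.ne'⟩
  let k' := FiniteField.Extension k p j
  have hfr : Module.finrank k k' = j := FiniteField.finrank_extension k p j
  have hcard : Nat.card k' = q0 ^ 2 := by rw [FiniteField.natCard_extension k p j, hq]
  haveI : FiniteDimensional k k' := Module.Finite.of_finite
  obtain ⟨f, hirr, ι, hfin, hadj, hr⟩ := exists_constExt_model (k' := k') hE
  haveI := hirr
  haveI := hfin
  let E' := AdjoinRoot f
  letI : Algebra k' E' := ι.toRingHom.toAlgebra
  haveI : IsScalarTower k k' E' := IsScalarTower.of_algebraMap_eq fun c => (ι.commutes c).symm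
  haveI : IsScalarTower k F E' := IsScalarTower.of_algebraMap_eq fun c => by
    rw [IsScalarTower.algebraMap_apply k E E', IsScalarTower.algebraMap_apply F E E', ← IsScalarTower.algebraMap_apply k F E]
  haveI : IsScalarTower k K0 E' := IsScalarTower.of_algebraMap_eq fun c => by
    rw [IsScalarTower.algebraMap_apply k E E', IsScalarTower.algebraMap_apply K0 E E', ← IsScalarTower.algebraMap_apply k K0 E]
  haveI : IsScalarTower F K0 E' := IsScalarTower.of_algebraMap_eq fun c => by
    rw [IsScalarTower.algebraMap_apply F E E', IsScalarTower.algebraMap_apply K0 E E', ← IsScalarTower.algebraMap_apply F K0 E]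
  have hadj' : Algebra.adjoin E (Set.range (algebraMap k' E')) = ⊤ := hadj
  haveI : IsGalois F E' := isGalois_const_over F E E' k' hadj'
  haveI : FiniteDimensional F E' := FiniteDimensional.trans F E E'
  obtain ⟨a, ha⟩ := Field.exists_primitive_element k k'
  have hE' : IsFunctionField k' E' := isFunctionField_constExt hE hadj' hr
  obtain ⟨hgle, Q1, hQ1⟩ := constExt_genus_le hE hadj' hr hE' hP0
  let instF : Algebra _ _ := subAlg (K0 := F) (E' := E') ha
  obtain ⟨hFc, hNFc, hrF⟩ := subExt (K0 := F) (E' := E') hF ha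
  let instK0 : Algebra _ _ := subAlg (K0 := K0) (E' := E') ha
  obtain ⟨hKc, hNKc, -⟩ := subExt (K0 := K0) (E' := E') hK0 ha
  haveI : IsScalarTower k' (IntermediateField.adjoin F ({algebraMap k' E' a} : Set E')) E' := IsScalarTower.of_algebraMap_eq fun _ => rfl
  haveI : IsScalarTower k' (IntermediateField.adjoin K0 ({algebraMap k' E' a} : Set E')) E' := IsScalarTower.of_algebraMap_eq fun _ => rfl
  haveI : FiniteDimensional K0 E' := FiniteDimensional.right F K0 E'
  haveI : IsGalois K0 E' := IsGalois.tower_top_of_isGalois F K0 E'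
  have hle : ∀ z : E', z ∈ (IntermediateField.adjoin F ({algebraMap k' E' a} : Set E')) → z ∈ (IntermediateField.adjoin K0 ({algebraMap k' E' a} : Set E')) := by
    have : (IntermediateField.adjoin F ({algebraMap k' E' a} : Set E')) ≤ (IntermediateField.adjoin K0 ({algebraMap k' E' a} : Set E')).restrictScalars F :=
      IntermediateField.adjoin_simple_le_iff.2 (IntermediateField.mem_adjoin_simple_self K0 _)
    exact fun z hz => this hz
  let φ : (E' ≃ₐ[(IntermediateField.adjoin K0 ({algebraMap k' E' a} : Set E'))] E') → (E' ≃ₐ[(IntermediateField.adjoin F ({algebraMap k' E' a} : Set E'))] E') := fun σ =>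
    AlgEquiv.ofRingEquiv (f := σ.toRingEquiv) fun c => σ.commutes ⟨c.1, hle _ c.2⟩
  have hφ : Function.Injective φ := fun σ τ h => AlgEquiv.ext fun z => (DFunLike.congr_fun h z :)
  -- upper bound for every twist
  haveI : CharP E' p := by
    haveI : CharP k' p := charP_of_injective_algebraMap (algebraMap k k').injective p
    exact charP_of_injective_algebraMap (algebraMap k' E').injective p
  set g := genus k E
  set U := q0 ^ 2 + (2 * g + 1) * q0
  have hup : ∀ σ : E' ≃ₐ[(IntermediateField.adjoin F ({algebraMap k' E' a} : Set E'))] E', T k' (σ : E' → E') ≤ U := by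
    intro σ
    rw [T, finsum_mem_eq_finite_toFinset_sum _ (finite_frobSet hFc σ)]
    have := T_le (p := p) (e := e) hE' hq0 hcard (lt_of_le_of_lt (Nat.pow_le_pow_left (by omega) 2) hbig) hQ1
      (σ.restrictScalars k') (finite_frobSet hFc σ).toFinset (fun Q hQ => (Set.Finite.mem_toFinset _).1 hQ)
    rw [hcard] at this
    refine this.trans (Nat.add_le_add_left (Nat.mul_le_mul_right _ (by omega)) _)
  have hsG := sum_T (E := E') hFc
  have hsH := sum_T (E := E') hKc
  rw [hNFc 1 one_pos, mul_one, hNF _ (by rw [hfr]; exact hj), hfr, hq] at hsG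
  rw [hNKc 1 one_pos, mul_one, hfr] at hsH
  set d := Module.finrank (IntermediateField.adjoin F ({algebraMap k' E' a} : Set E')) E'
  have hd : d = Module.finrank F E := by
    have h1 := Module.finrank_mul_finrank F (IntermediateField.adjoin F ({algebraMap k' E' a} : Set E')) E'
    have h2 := Module.finrank_mul_finrank F E E'
    rw [hrF] at h1
    rw [hr] at h2
    rw [← h2, mul_comm (Module.finrank F E)] at h1
    exact Nat.eq_of_mul_eq_mul_left Module.finrank_pos h1
  have hdcard : (Finset.univ : Finset (E' ≃ₐ[(IntermediateField.adjoin F ({algebraMap k' E' a} : Set E'))] E')).card = d := by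
    rw [Finset.card_univ, ← Nat.card_eq_fintype_card, IsGalois.card_aut_eq_finrank]
  set hH := Module.finrank (IntermediateField.adjoin K0 ({algebraMap k' E' a} : Set E')) E'
  have hHcard : (Finset.univ : Finset (E' ≃ₐ[(IntermediateField.adjoin K0 ({algebraMap k' E' a} : Set E'))] E')).card = hH := by
    rw [Finset.card_univ, ← Nat.card_eq_fintype_card, IsGalois.card_aut_eq_finrank]
  have hH0 : 0 < hH := Module.finrank_pos
  -- lower bound for a single twist
  have hlow : ∀ σ : E' ≃ₐ[(IntermediateField.adjoin F ({algebraMap k' E' a} : Set E'))] E', (d : ℤ) * (1 + (q0 : ℤ) ^ 2) - ((d : ℤ) - 1) * U ≤ T k' (σ : E' → E') := by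
    intro σ
    have h1 := Finset.add_sum_erase Finset.univ (fun τ : E' ≃ₐ[(IntermediateField.adjoin F ({algebraMap k' E' a} : Set E'))] E' => T k' (τ : E' → E')) (Finset.mem_univ σ)
    rw [hsG] at h1
    have h2 := Finset.sum_le_card_nsmul (Finset.univ.erase σ) (fun τ : E' ≃ₐ[(IntermediateField.adjoin F ({algebraMap k' E' a} : Set E'))] E' => T k' (τ : E' → E')) U
      fun τ _ => hup τ
    rw [Finset.card_erase_of_mem (Finset.mem_univ σ), hdcard, smul_eq_mul] at h2
    have h1' : (T k' (σ : E' → E') : ℤ) + (∑ τ ∈ Finset.univ.erase σ, T k' (τ : E' → E') : ℕ) = d * (1 + (q0 : ℤ) ^ 2) := by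
      exact_mod_cast h1
    have h2' : ((∑ τ ∈ Finset.univ.erase σ, T k' (τ : E' → E') : ℕ) : ℤ) ≤ ((d : ℤ) - 1) * U := by
      rw [show ((d : ℤ) - 1) = ((d - 1 : ℕ) : ℤ) by rw [Nat.cast_sub (Module.finrank_pos : 1 ≤ d)]; rfl]
      exact_mod_cast h2
    linarith
  have hN1 : (hH : ℤ) * (NN k K0 j : ℤ) ≤ hH * (U : ℤ) := by
    have h3 := Finset.sum_le_card_nsmul Finset.univ (fun σ : E' ≃ₐ[(IntermediateField.adjoin K0 ({algebraMap k' E' a} : Set E'))] E' => T k' (σ : E' → E')) U
      fun σ _ => hup (φ σ)
    rw [hsH, hHcard, smul_eq_mul] at h3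
    exact_mod_cast h3
  have hN2 : (hH : ℤ) * ((d : ℤ) * (1 + (q0 : ℤ) ^ 2) - ((d : ℤ) - 1) * U) ≤ hH * (NN k K0 j : ℤ) := by
    have h3 : ((∑ σ : E' ≃ₐ[(IntermediateField.adjoin K0 ({algebraMap k' E' a} : Set E'))] E', T k' (σ : E' → E') : ℕ) : ℤ) = hH * (NN k K0 j : ℤ) := by rw [hsH]; push_cast; rfl
    rw [← h3, Nat.cast_sum]
    have := Finset.card_nsmul_le_sum Finset.univ (fun σ : E' ≃ₐ[(IntermediateField.adjoin K0 ({algebraMap k' E' a} : Set E'))] E' => (T k' (σ : E' → E') : ℤ)) _
      fun σ _ => hlow (φ σ)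
    rwa [hHcard, nsmul_eq_mul] at this
  have hN1' := le_of_mul_le_mul_left hN1 (by exact_mod_cast hH0)
  have hN2' := le_of_mul_le_mul_left hN2 (by exact_mod_cast hH0)
  have hqz : (Nat.card k : ℤ) ^ j = (q0 : ℤ) ^ 2 := by exact_mod_cast hq
  rw [hqz, ← hd, abs_le]
  have hd1 : (1 : ℤ) ≤ d := by exact_mod_cast (Module.finrank_pos : 0 < d)
  simp only [U] at hN1' hN2'
  push_cast at hN1' hN2'
  constructor <;> nlinarith

/-- bounded power sums force all terms into the unit disc -/
theorem norm_le_one_of_bounded_powerSums {ι : Type*} [Fintype ι] (β : ι → ℂ) (B : ℝ)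
    (h : ∀ j : ℕ, 0 < j → ‖∑ i, β i ^ j‖ ≤ B) (i : ι) : ‖β i‖ ≤ 1 := by
  classical
  by_contra hc
  push Not at hc
  set b := β i
  set O := (Finset.univ.image β).erase b
  let P : Polynomial ℂ := ∏ c ∈ O, (Polynomial.X - Polynomial.C c)
  have hPb : P.eval b ≠ 0 := by
    rw [Polynomial.eval_prod, Finset.prod_ne_zero_iff]
    intro c hcO
    simp [sub_ne_zero, (Finset.mem_erase.1 hcO).1.symm]
  set m := (Finset.univ.filter fun i => β i = b).card
  have hm : 0 < m := Finset.card_pos.2 ⟨i, by simp [b]⟩
  have hkey : ∀ l : ℕ, ∑ t ∈ Finset.range (P.natDegree + 1), P.coeff t * ∑ i, β i ^ (l + 1 + t) =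
      (m : ℂ) * (b ^ (l + 1) * P.eval b) := by
    intro l
    simp only [Finset.mul_sum]
    rw [Finset.sum_comm]
    have he : ∀ i, ∑ t ∈ Finset.range (P.natDegree + 1), P.coeff t * β i ^ (l + 1 + t) = β i ^ (l + 1) * P.eval (β i) := by
      intro i
      rw [Polynomial.eval_eq_sum_range, Finset.mul_sum]
      exact Finset.sum_congr rfl fun t _ => by rw [pow_add]; ring
    rw [Finset.sum_congr rfl fun i _ => he i, ← Finset.sum_filter_add_sum_filter_not Finset.univ (fun i => β i = b),
      Finset.sum_eq_zero (s := Finset.univ.filter fun i => ¬β i = b) fun i hi => ?_, add_zero,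
      Finset.sum_congr rfl fun i hi => by rw [(Finset.mem_filter.1 hi).2], Finset.sum_const, nsmul_eq_mul]
    rw [Polynomial.eval_prod, Finset.prod_eq_zero (i := β i) (Finset.mem_erase.2
      ⟨(Finset.mem_filter.1 hi).2, Finset.mem_image_of_mem _ (Finset.mem_univ i)⟩) (by simp), mul_zero]
  set M := ∑ t ∈ Finset.range (P.natDegree + 1), ‖P.coeff t‖ * B
  have hbd : ∀ l : ℕ, (m : ℝ) * ‖b‖ ^ (l + 1) * ‖P.eval b‖ ≤ M := by
    intro l
    have h1 : ‖(m : ℂ) * (b ^ (l + 1) * P.eval b)‖ ≤ M := by
      rw [← hkey l]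
      refine (norm_sum_le _ _).trans (Finset.sum_le_sum fun t _ => ?_)
      rw [norm_mul]
      exact mul_le_mul_of_nonneg_left (h _ (by omega)) (norm_nonneg _)
    rwa [norm_mul, norm_mul, norm_pow, Complex.norm_natCast, ← mul_assoc] at h1
  have hpos : 0 < (m : ℝ) * ‖P.eval b‖ := by positivity
  obtain ⟨l, hl⟩ := pow_unbounded_of_one_lt (M / ((m : ℝ) * ‖P.eval b‖)) hc
  rw [div_lt_iff₀ hpos] at hl
  have h2 := hbd l
  have h3 : ‖b‖ ^ l ≤ ‖b‖ ^ (l + 1) := pow_le_pow_right₀ hc.le (by omega)
  nlinarith

/-- point count bound along multiples -/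
theorem exists_bound {k K : Type*} [Field k] [Finite k] [Field K] [Algebra k K] (hK : IsFunctionField k K) :
    ∃ n0 : ℕ, 0 < n0 ∧ ∃ C : ℝ, ∀ j, 0 < j →
      |(NN k K (n0 * j) : ℝ) - (Nat.card k : ℝ) ^ (n0 * j)| ≤ C * (Real.sqrt (Nat.card k)) ^ (n0 * j) := by
  classical
  obtain ⟨p, hp⟩ := CharP.exists k
  haveI : Fact p.Prime := ⟨CharP.char_is_prime k p⟩
  haveI := Fintype.ofFinite k
  obtain ⟨x, hx, hxfin⟩ := id hK.1
  haveI : Algebra.EssFiniteType k K := by
    haveI := hxfin
    haveI : Algebra.EssFiniteType k (IntermediateField.adjoin k ({x} : Set K)) :=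
      IntermediateField.essFiniteType_iff.2 ⟨{x}, by simp⟩
    exact Algebra.EssFiniteType.comp k (IntermediateField.adjoin k ({x} : Set K)) K
  obtain ⟨s, hs, hsep⟩ := exists_isTranscendenceBasis_and_isSeparable_of_perfectField k K
  obtain ⟨y, hy⟩ : ∃ y : K, (s : Set K) = {y} := by
    have hcard : s.card = 1 := by
      have h1 := hs.cardinalMk_eq_trdeg
      have h2 : Algebra.trdeg k K = 1 := by
        have hb : IsTranscendenceBasis k (fun _ : Fin 1 => x) := by
          haveI := hxfin
          rw [isTranscendenceBasis_iff_algebraicIndependent_isAlgebraic]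
          refine ⟨algebraicIndependent_unique_type_iff.2 hx, ?_⟩
          rw [Set.range_const, ← IntermediateField.isAlgebraic_adjoin_iff_top]
          exact Algebra.IsAlgebraic.of_finite _ _
        simpa using hb.lift_cardinalMk_eq_trdeg.symm
      rw [h2, Cardinal.mk_coe_finset] at h1
      exact_mod_cast h1
    obtain ⟨y, rfl⟩ := Finset.card_eq_one.1 hcard
    exact ⟨y, by simp⟩
  rw [hy] at hsep
  have hyT : Transcendental k y := fun halg => by
    have := hs.1.transcendental ⟨y, by rw [← Finset.mem_coe, hy]; rfl⟩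
    exact this halg
  set F := IntermediateField.adjoin k ({y} : Set K)
  haveI := hsep
  haveI : FiniteDimensional F K := finite_adjoin hK.1 hyT
  have hgenF : IntermediateField.adjoin k ({⟨y, IntermediateField.mem_adjoin_simple_self k y⟩} : Set F) = ⊤ := by
    refine (IntermediateField.map_injective F.val) ?_
    rw [IntermediateField.adjoin_map, ← AlgHom.fieldRange_eq_map, IntermediateField.fieldRange_val, Set.image_singleton]
    rfl
  have hF : IsFunctionField k F := by
    refine ⟨⟨⟨y, IntermediateField.mem_adjoin_simple_self k y⟩, fun h => hyT (IsAlgebraic.algHom F.val h), ?_⟩, fun z hz => ?_⟩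
    · rw [hgenF]
      exact Module.Finite.of_surjective (Algebra.linearMap (⊤ : IntermediateField k F) F)
        fun w => ⟨⟨w, trivial⟩, rfl⟩
    · obtain ⟨c, hc⟩ := hK.2 z.1 (IsAlgebraic.algHom F.val hz)
      exact ⟨c, Subtype.ext hc⟩
  have hgF : genus k F = 0 := (exists_simple_pole_of_top hF hgenF).choose_spec.2.2.2
  have hNF : ∀ n, 0 < n → NN k F n = 1 + Nat.card k ^ n := by
    intro n hn
    obtain ⟨α, -, hα, -⟩ := exists_reciprocal_roots hF
    have h := newton hF.1 α hα hn
    rw [Finset.sum_eq_zero fun i _ => absurd i.2 (by omega), sub_zero] at h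
    exact_mod_cast h
  -- Galois closure
  let E := IntermediateField.normalClosure F K (AlgebraicClosure K)
  haveI : Algebra.IsAlgebraic F K := Algebra.IsAlgebraic.of_finite F K
  haveI : Algebra.IsAlgebraic F (AlgebraicClosure K) := Algebra.IsAlgebraic.trans F K _
  haveI : IsAlgClosure F (AlgebraicClosure K) := ⟨inferInstance, inferInstance⟩
  haveI : Normal F (AlgebraicClosure K) := IsAlgClosure.normal F _
  haveI : Algebra.IsSeparable F E := by
    refine (le_separableClosure_iff F (AlgebraicClosure K) E).1 (iSup_le fun f => ?_)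
    rintro _ ⟨z, rfl⟩
    rw [mem_separableClosure_iff, IsSeparable]
    show (minpoly F (f z)).Separable
    rw [minpoly.algHom_eq f f.toRingHom.injective]
    exact Algebra.IsSeparable.isSeparable F z
  haveI : IsGalois F E := ⟨⟩
  haveI : FiniteDimensional F E := normalClosure.is_finiteDimensional F K _
  haveI : FiniteDimensional K E := FiniteDimensional.right F K E
  haveI : IsScalarTower k K E := IsScalarTower.of_algebraMap_eq fun c => Subtype.ext (by
    show algebraMap k (AlgebraicClosure K) c = algebraMap K (AlgebraicClosure K) (algebraMap k K c)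
    exact IsScalarTower.algebraMap_apply k K _ c)
  have hEFF : IsFF k E := isFF_extension hK.1
  -- constants of `E`
  set k1 := algebraicClosure k E
  have hk1 : ∀ z : k1, (z : E) ∈ L (0 : Divisor k E) := fun z P => by
    rw [Finsupp.zero_apply, exp_zero]
    rcases eq_or_ne (z : E) 0 with h | h
    · simp [h]
    · rw [val_le_one_iff P h, ord_eq_zero_of_isAlgebraic P ((mem_algebraicClosure_iff).1 z.2)]
  haveI : FiniteDimensional k k1 := by
    haveI := finite_L_zero hEFF
    exact Module.Finite.of_injective (LinearMap.codRestrict (L (0 : Divisor k E)) k1.val.toLinearMap hk1)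
      fun a b h => Subtype.ext (congrArg Subtype.val h :)
  haveI : Finite k1 := Module.finite_of_finite k
  haveI : CharP k1 p := charP_of_injective_algebraMap (algebraMap k k1).injective p
  have hE1 : IsFunctionField k1 E := by
    refine ⟨?_, fun z hz => ⟨⟨z, mem_algebraicClosure_iff.2 (IsAlgebraic.restrictScalars k hz)⟩, rfl⟩⟩
    obtain ⟨w, hw, hwfin⟩ := hEFF
    refine ⟨w, fun h => hw (IsAlgebraic.restrictScalars k h), ?_⟩
    have hle : IntermediateField.adjoin k ({w} : Set E) ≤ (IntermediateField.adjoin k1 ({w} : Set E)).restrictScalars k :=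
      IntermediateField.adjoin_simple_le_iff.2 (IntermediateField.mem_adjoin_simple_self k1 w)
    haveI := hwfin
    exact IntermediateField.finiteDimensional_right (IntermediateField.extendScalars hle)
  obtain ⟨w, hw⟩ := exists_transcendental hE1
  obtain ⟨P1, -⟩ := exists_place_val_lt_one hE1.1 hw
  have hm1 := deg_pos hE1.1 P1
  haveI : NeZero P1.deg := ⟨hm1.ne'⟩
  let k2 := FiniteField.Extension k1 p P1.deg
  have hk2 : Module.finrank k1 k2 = P1.deg := FiniteField.finrank_extension k1 p P1.deg
  haveI : FiniteDimensional k1 k2 := Module.Finite.of_finite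
  obtain ⟨f, hirr, ι, hfin, hadj, hr⟩ := exists_constExt_model (k' := k2) hE1
  haveI := hirr
  haveI := hfin
  let E2 := AdjoinRoot f
  letI : Algebra k2 E2 := ι.toRingHom.toAlgebra
  haveI : IsScalarTower k1 k2 E2 := IsScalarTower.of_algebraMap_eq fun c => (ι.commutes c).symm
  have hadj' : Algebra.adjoin E (Set.range (algebraMap k2 E2)) = ⊤ := hadj
  have hE2 : IsFunctionField k2 E2 := isFunctionField_constExt hE1 hadj' hr
  obtain ⟨h1, h2⟩ := constExt_split hE1 hadj' hr P1
  rw [hk2, Nat.gcd_self] at h2
  rw [hk2, Nat.gcd_self, Nat.div_self hm1] at h1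
  obtain ⟨⟨Q1, hQ1⟩⟩ : Nonempty {Q : Place k2 E2 // below hE1.1 (toBase (k := k1) Q) = P1} :=
    (Nat.card_pos_iff.1 (by rw [h2]; exact hm1)).1
  have hQ1d : Q1.deg = 1 := h1 Q1 hQ1
  letI : Algebra k k2 := ((algebraMap k1 k2).comp (algebraMap k k1)).toAlgebra
  haveI : IsScalarTower k k1 k2 := IsScalarTower.of_algebraMap_eq fun _ => rfl
  haveI : Finite k2 := Module.finite_of_finite k1
  haveI : FiniteDimensional k k2 := Module.Finite.of_finite
  haveI : IsScalarTower F E E2 := IsScalarTower.of_algebraMap_eq fun _ => rfl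
  haveI : IsScalarTower k F E2 := IsScalarTower.of_algebraMap_eq fun c => by
    rw [IsScalarTower.algebraMap_apply k E E2, IsScalarTower.algebraMap_apply F E E2, ← IsScalarTower.algebraMap_apply k F E]
  haveI : IsScalarTower k K E2 := IsScalarTower.of_algebraMap_eq fun c => by
    rw [IsScalarTower.algebraMap_apply k E E2, IsScalarTower.algebraMap_apply K E E2, ← IsScalarTower.algebraMap_apply k K E]
  haveI : IsScalarTower k k2 E2 := IsScalarTower.of_algebraMap_eq fun c => by
    rw [IsScalarTower.algebraMap_apply k E E2, IsScalarTower.algebraMap_apply k k1 k2,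
      ← IsScalarTower.algebraMap_apply k1 k2 E2, IsScalarTower.algebraMap_apply k1 E E2]
    rfl
  haveI : IsScalarTower F K E2 := IsScalarTower.of_algebraMap_eq fun c => by
    rw [IsScalarTower.algebraMap_apply F E E2, IsScalarTower.algebraMap_apply K E E2, ← IsScalarTower.algebraMap_apply F K E]
  haveI : IsGalois F E2 := isGalois_const_over F E E2 k2 hadj'
  haveI : FiniteDimensional F E2 := FiniteDimensional.trans F E E2
  obtain ⟨a, ha⟩ := Field.exists_primitive_element k k2
  let instF : Algebra _ _ := subAlg (K0 := F) (E' := E2) ha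
  obtain ⟨hFc, hNFc, -⟩ := subExt (K0 := F) (E' := E2) hF ha
  let instK : Algebra _ _ := subAlg (K0 := K) (E' := E2) ha
  obtain ⟨hKc, hNKc, -⟩ := subExt (K0 := K) (E' := E2) hK ha
  have hle : ∀ z : E2, z ∈ (IntermediateField.adjoin F ({algebraMap k2 E2 a} : Set E2)) → z ∈ (IntermediateField.adjoin K ({algebraMap k2 E2 a} : Set E2)) := by
    have : (IntermediateField.adjoin F ({algebraMap k2 E2 a} : Set E2)) ≤ (IntermediateField.adjoin K ({algebraMap k2 E2 a} : Set E2)).restrictScalars F :=
      IntermediateField.adjoin_simple_le_iff.2 (IntermediateField.mem_adjoin_simple_self K _)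
    exact fun z hz => this hz
  letI : Algebra (IntermediateField.adjoin F ({algebraMap k2 E2 a} : Set E2)) (IntermediateField.adjoin K ({algebraMap k2 E2 a} : Set E2)) := (((IntermediateField.adjoin F ({algebraMap k2 E2 a} : Set E2)).val.toRingHom).codRestrict (IntermediateField.adjoin K ({algebraMap k2 E2 a} : Set E2)) fun z => hle _ z.2).toAlgebra
  haveI : IsScalarTower (IntermediateField.adjoin F ({algebraMap k2 E2 a} : Set E2)) (IntermediateField.adjoin K ({algebraMap k2 E2 a} : Set E2)) E2 := IsScalarTower.of_algebraMap_eq fun _ => rfl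
  haveI : IsScalarTower k2 (IntermediateField.adjoin F ({algebraMap k2 E2 a} : Set E2)) E2 := IsScalarTower.of_algebraMap_eq fun _ => rfl
  haveI : IsScalarTower k2 (IntermediateField.adjoin K ({algebraMap k2 E2 a} : Set E2)) E2 := IsScalarTower.of_algebraMap_eq fun _ => rfl
  haveI : CharP k2 p := charP_of_injective_algebraMap (algebraMap k1 k2).injective p
  set r := Module.finrank k k2 with hrdef
  have hr0 : 0 < r := Module.finrank_pos
  set q := Nat.card k with hq
  have hq2 : Nat.card k2 = q ^ r := Module.natCard_eq_pow_finrank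
  have hNFc' : ∀ n, 0 < n → NN k2 (IntermediateField.adjoin F ({algebraMap k2 E2 a} : Set E2)) n = 1 + Nat.card k2 ^ n := fun n hn => by
    rw [hNFc n hn, hNF _ (Nat.mul_pos hr0 hn), hq2, ← pow_mul]
  set g := genus k2 E2
  set i0 := (g + 1) ^ 2 + 1
  set D := Module.finrank (IntermediateField.adjoin F ({algebraMap k2 E2 a} : Set E2)) E2
  obtain ⟨fq, -, hfq⟩ := FiniteField.card k p
  refine ⟨2 * r * i0, by positivity, ((D : ℝ) * (2 * g + 1)), fun j hj => ?_⟩
  have hij : 0 < 2 * (i0 * j) := by positivity
  have hqp : q = p ^ (fq : ℕ) := by rw [hq, Nat.card_eq_fintype_card]; exact hfq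
  set q0 := q ^ (r * (i0 * j)) with hq0
  have hbig : (g + 1) ^ 2 < q0 := by
    have h1 : r * (i0 * j) < q0 := Nat.lt_pow_self Finite.one_lt_card
    have h2 : i0 * 1 ≤ i0 * j := Nat.mul_le_mul_left _ hj
    have h3 : i0 * j ≤ r * (i0 * j) := Nat.le_mul_of_pos_left _ hr0
    omega
  have hb := core_bound (F := (IntermediateField.adjoin F ({algebraMap k2 E2 a} : Set E2))) (K0 := (IntermediateField.adjoin K ({algebraMap k2 E2 a} : Set E2))) (E := E2) hFc hKc hE2 hQ1d hNFc' (p := p) (j := 2 * (i0 * j))
    (e := (fq : ℕ) * (r * (i0 * j))) (q0 := q0) hij (by rw [hq0, hqp, ← pow_mul])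
    (by rw [hq0, hq2, ← pow_mul, ← pow_mul]; congr 1; ring) hbig
  rw [hNKc _ hij, show r * (2 * (i0 * j)) = 2 * r * i0 * j by ring] at hb
  have hsq : Real.sqrt (q : ℝ) ^ (2 * r * i0 * j) = (q0 : ℝ) := by
    rw [show 2 * r * i0 * j = 2 * (r * (i0 * j)) by ring, pow_mul, Real.sq_sqrt (Nat.cast_nonneg _), hq0]
    push_cast; rfl
  rw [hsq]
  have hq2' : (Nat.card k2 : ℤ) ^ (2 * (i0 * j)) = ((q : ℤ)) ^ (2 * r * i0 * j) := by
    rw [hq2]; push_cast; rw [← pow_mul]; congr 1; ring
  rw [hq2'] at hb
  exact_mod_cast hb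

/-- Riemann hypothesis -/
theorem norm_root_eq {k K : Type*} [Field k] [Finite k] [Field K] [Algebra k K] (hK : IsFunctionField k K) :
    ∃ α : Fin (2 * genus k K) → ℂ, PowerSeries.map (Int.castRingHom ℂ) (numerZ k K) =
        ((∏ i, (1 - Polynomial.C (α i) * Polynomial.X) : Polynomial ℂ) : PowerSeries ℂ) ∧
      ∀ i, ‖α i‖ = Real.sqrt (Nat.card k) := by
  classical
  obtain ⟨α, -, hα, hpair⟩ := exists_reciprocal_roots hK
  obtain ⟨n0, hn0, C, hC⟩ := exists_bound hK
  refine ⟨α, hα, ?_⟩
  set q := Nat.card k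
  have hq1 : (1 : ℝ) ≤ q := by exact_mod_cast (Finite.one_lt_card (α := k)).le
  set s := Real.sqrt (q : ℝ) with hs
  have hs1 : 1 ≤ s := Real.one_le_sqrt.2 hq1
  have hle : ∀ i, ‖α i‖ ≤ s := by
    intro i
    have h1 := norm_le_one_of_bounded_powerSums (fun i => α i ^ n0 / ((s : ℂ) ^ n0)) (|C| + 1) (fun j hj => ?_) i
    · rw [norm_div, norm_pow, norm_pow, Complex.norm_real, Real.norm_eq_abs, abs_of_nonneg (by linarith),
        div_le_one (by positivity)] at h1
      exact le_of_pow_le_pow_left₀ hn0.ne' (by linarith) h1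
    · have hN := newton hK.1 α hα (Nat.mul_pos hn0 hj)
      have hspos : 0 < s ^ (n0 * j) := by positivity
      have hrw : ∑ i, (α i ^ n0 / ((s : ℂ) ^ n0)) ^ j = (∑ i, α i ^ (n0 * j)) / ((s : ℂ) ^ (n0 * j)) := by
        rw [Finset.sum_div]
        exact Finset.sum_congr rfl fun i _ => by rw [div_pow, ← pow_mul, ← pow_mul]
      rw [hrw, norm_div, norm_pow, Complex.norm_real, Real.norm_eq_abs, abs_of_nonneg (by linarith), div_le_iff₀ hspos]
      have hsum : ∑ i, α i ^ (n0 * j) =
          ((1 + (q : ℝ) ^ (n0 * j) - (NN k K (n0 * j) : ℝ) : ℝ) : ℂ) := by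
        push_cast; linear_combination hN
      rw [hsum, Complex.norm_real, Real.norm_eq_abs]
      have h5 := hC j hj
      have h6 : (1 : ℝ) ≤ s ^ (n0 * j) := one_le_pow₀ hs1
      have h7 : C * s ^ (n0 * j) ≤ |C| * s ^ (n0 * j) := mul_le_mul_of_nonneg_right (le_abs_self C) hspos.le
      rw [abs_le] at h5 ⊢
      constructor <;> nlinarith [h5.1, h5.2]
  intro i
  refine le_antisymm (hle i) ?_
  have h1 := congrArg (fun z : ℂ => ‖z‖) (hpair i)
  simp only [norm_mul, Complex.norm_natCast] at h1
  have h2 := hle (Fin.rev i)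
  have hss : s * s = q := Real.mul_self_sqrt (by linarith)
  nlinarith [norm_nonneg (α i), norm_nonneg (α (Fin.rev i))]

end Groth.Agent.FunFldLib
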