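import Groth.Agent.FunFldLib.Extension

/-! Places in a quadratic extension. -/

set_option autoImplicit false
set_option maxHeartbeats 800000

open WithZero

namespace Groth.Agent.FunFldLib

open FunFld IsLocalRing

variable {k K K' : Type*} [Field k] [Field K] [Field K'] [Algebra k K] [Algebra K K'] [Algebra k K']
  [IsScalarTower k K K'] [FiniteDimensional K K']

/-- the inclusion of valuation rings -/
noncomputable def oMap {Q : Place k K'} {P : Place k K} {e : ℕ} (h : IsOverWith Q P e) : P.O →ₐ[k] Q.O where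
  toRingHom := ((algebraMap K K').comp P.O.subtype).codRestrict Q.O fun z => by
    rw [Valuation.mem_valuationSubring_iff]
    exact (h _).trans_le (pow_le_one₀ zero_le ((Valuation.mem_valuationSubring_iff P.1 _).1 z.2))
  commutes' c := Subtype.ext (IsScalarTower.algebraMap_apply k K K' c).symm

/-- the inclusion of residue fields -/
noncomputable def resMap {Q : Place k K'} {P : Place k K} {e : ℕ} (h : IsOverWith Q P e) :
    ResidueField P.O →ₐ[k] ResidueField Q.O where
  toRingHom := Ideal.Quotient.lift (maximalIdeal P.O) ((residue Q.O).comp (oMap h).toRingHom) fun a ha => by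
    have h1 : P.1 (a : K) < 1 := (residue_eq_zero_iff_val P a).1 (Ideal.Quotient.eq_zero_iff_mem.2 ha)
    refine (residue_eq_zero_iff_val Q _).2 ?_
    show Q.1 (algebraMap K K' a) < 1
    rw [h]; exact pow_lt_one₀ zero_le h1 (Nat.one_le_iff_ne_zero.1 (isOverWith_pos h))
  commutes' c := congrArg (residue Q.O) ((oMap h).commutes c)

theorem deg_le_of_over (hK : IsFF k K) {Q : Place k K'} {P : Place k K} {e : ℕ} (h : IsOverWith Q P e) :
    P.deg ≤ Q.deg := by
  haveI := finite_residue (isFF_extension (K' := K') hK) Q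
  exact LinearMap.finrank_le_finrank_of_injective (f := (resMap h).toLinearMap) (resMap h).toRingHom.injective

theorem exists_residue_below (hK : IsFF k K) {Q : Place k K'} {P : Place k K} {e : ℕ} (h : IsOverWith Q P e)
    (hd : Q.deg = P.deg) {z : K'} (hz : Q.1 z ≤ 1) : ∃ c : K, P.1 c ≤ 1 ∧ Q.1 (z - algebraMap K K' c) < 1 := by
  haveI := finite_residue (isFF_extension (K' := K') hK) Q
  haveI := finite_residue hK P
  have hsur : Function.Surjective (resMap h).toLinearMap :=
    (LinearMap.injective_iff_surjective_of_finrank_eq_finrank hd.symm).1 (resMap h).toRingHom.injective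
  obtain ⟨r, hr⟩ := hsur (residue Q.O ⟨z, (Valuation.mem_valuationSubring_iff Q.1 z).2 hz⟩)
  obtain ⟨c, rfl⟩ := residue_surjective r
  refine ⟨c, (Valuation.mem_valuationSubring_iff P.1 _).1 c.2, ?_⟩
  have h0 : residue Q.O (⟨z, (Valuation.mem_valuationSubring_iff Q.1 z).2 hz⟩ - oMap h c) = 0 := by
    rw [map_sub, ← hr]; exact sub_self _
  exact (residue_eq_zero_iff_val Q _).1 h0

theorem two_deg_bound (hK : IsFunctionField k K) (h2 : Module.finrank K K' = 2) {Q : Place k K'} {P : Place k K} {e : ℕ}
    (h : IsOverWith Q P e) :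
    e * Q.deg ≤ 2 * P.deg ∧ (e * Q.deg = 2 * P.deg → ∀ Q' : Place k K', IsOver Q' P → Q' = Q) := by
  classical
  set S := (finite_over (K' := K') hK.1 P).toFinset with hS
  have hsum := sum_ram_mul_deg hK P S fun Q' => by simp [hS]
  rw [h2] at hsum
  have hr : ∀ {Q' : Place k K'} {e' : ℕ}, IsOverWith Q' P e' → ramIdx Q' P = e' := fun {Q' e'} h' => by
    obtain ⟨hb, he⟩ := place_unique (isOverWith_below hK.1 Q') h'
    rw [← hb, ramIdx_below, he]
  have hQ : Q ∈ S := by rw [hS, Set.Finite.mem_toFinset]; exact ⟨e, h⟩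
  rw [← Finset.add_sum_erase S _ hQ, hr h] at hsum
  refine ⟨by omega, fun heq Q' hQ' => ?_⟩
  by_contra hne
  have hQ'S : Q' ∈ S.erase Q := Finset.mem_erase.2 ⟨hne, by rw [hS, Set.Finite.mem_toFinset]; exact hQ'⟩
  obtain ⟨e', he'⟩ := hQ'
  have h0 := Finset.single_le_sum (f := fun R => ramIdx R P * R.deg) (fun R _ => Nat.zero_le _) hQ'S
  simp only [hr he'] at h0
  have := Nat.mul_le_mul (isOverWith_pos he') (deg_pos (isFF_extension (K' := K') hK.1) Q')
  omega

/-- in a quadratic extension a ramified place is totally ramified -/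
theorem ramified_two (hK : IsFunctionField k K) (h2 : Module.finrank K K' = 2) {Q : Place k K'} {P : Place k K} {e : ℕ}
    (h : IsOverWith Q P e) (he : 2 ≤ e) :
    e = 2 ∧ Q.deg = P.deg ∧ ∀ Q' : Place k K', IsOver Q' P → Q' = Q := by
  obtain ⟨h1, huniq⟩ := two_deg_bound hK h2 h
  have h3 := deg_le_of_over hK.1 h
  have hP := deg_pos hK.1 P
  have h4 : 2 * P.deg ≤ e * Q.deg := Nat.mul_le_mul he h3
  have he2 : e = 2 := by
    rcases Nat.lt_or_ge e 3 with h5 | h5
    · omega
    · have := Nat.mul_le_mul h5 h3; omega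
  subst he2
  exact ⟨rfl, by omega, huniq (by omega)⟩

end Groth.Agent.FunFldLib
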