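import Groth.Agent.FunFldLib.DivDiffForm
import Groth.Agent.FunFldLib.QuadPlace
import Mathlib.FieldTheory.SeparablyGenerated
import Mathlib.FieldTheory.IsAlgClosed.AlgebraicClosure

/-! Different exponents computed on differentials. -/

set_option autoImplicit false
set_option maxHeartbeats 800000

open WithZero TensorProduct

universe u v w'

namespace Groth.Agent.FunFldLib

open FunFld

section SepGen

variable {k : Type u} {K : Type v} [Field k] [Field K] [Algebra k K]

theorem eq_zero_of_pow_isField {R : Type*} [CommSemiring R] (h : IsField R) {w : R} {p : ℕ} (hw : w ^ p = 0) : w = 0 := by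
  by_contra hne
  obtain ⟨z, hz⟩ := h.mul_inv_cancel hne
  obtain ⟨a, b, hab⟩ := h.exists_pair_ne
  have h1 : (1 : R) = 0 := by rw [← one_pow p, ← hz, mul_pow, hw, zero_mul]
  exact hab (by rw [← one_mul a, ← one_mul b, h1, zero_mul, zero_mul])

theorem geometric_pow_indep (hg : IsGeometric k K) (p : ℕ) [Fact p.Prime] [CharP k p] (s : Finset K)
    (hs : LinearIndepOn k _root_.id (s : Set K)) : LinearIndepOn k (fun x : K => x ^ p) (s : Set K) := by
  classical
  have hs' : LinearIndependent k (fun i : s => (i : K)) := hs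
  change LinearIndependent k (fun i : s => (i : K) ^ p)
  rw [Fintype.linearIndependent_iff]
  intro c hc i₀
  let Ω := AlgebraicClosure k
  have hr : ∀ i, ∃ z : Ω, z ^ p = algebraMap k Ω (c i) := fun i => IsAlgClosed.exists_pow_nat_eq _ (Fact.out : p.Prime).pos
  choose z hz using hr
  let L : IntermediateField k Ω := IntermediateField.adjoin k (Set.range z)
  haveI : FiniteDimensional k L := IntermediateField.finiteDimensional_adjoin fun x _ =>
    Algebra.IsIntegral.isIntegral x
  let b : s → L := fun i => ⟨z i, IntermediateField.subset_adjoin k _ ⟨i, rfl⟩⟩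
  have hb : ∀ i, b i ^ p = algebraMap k L (c i) := fun i => Subtype.ext (hz i)
  have hfld : IsField (L ⊗[k] K) := hg L inferInstance
  haveI : CharP (L ⊗[k] K) p := by
    haveI : Nontrivial (L ⊗[k] K) := ⟨hfld.exists_pair_ne⟩
    exact charP_of_injective_algebraMap (algebraMap k (L ⊗[k] K)).injective p
  haveI : ExpChar (L ⊗[k] K) p := ExpChar.prime Fact.out
  set w : L ⊗[k] K := ∑ i, b i ⊗ₜ[k] (i : K) with hw
  have hwp : w ^ p = 0 := by
    rw [hw]
    refine (sum_pow_char (R := L ⊗[k] K) p _ _).trans ?_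
    calc _ = ∑ i, (1 : L) ⊗ₜ[k] (c i • ((i : K) ^ p)) := Finset.sum_congr rfl fun i _ => by
          rw [Algebra.TensorProduct.tmul_pow, hb, Algebra.algebraMap_eq_smul_one, TensorProduct.smul_tmul]
      _ = (1 : L) ⊗ₜ[k] (∑ i, c i • ((i : K) ^ p)) := by rw [TensorProduct.tmul_sum]
      _ = 0 := by rw [hc, TensorProduct.tmul_zero]
  have hw0 : w = 0 := eq_zero_of_pow_isField (R := L ⊗[k] K) hfld hwp
  let B := Module.Basis.ofVectorSpace k L
  by_contra hc0
  have hb0 : b i₀ ≠ 0 := fun h0 => hc0 ((algebraMap k L).injective (by rw [← hb, h0, zero_pow (Fact.out : p.Prime).ne_zero, map_zero]))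
  obtain ⟨j, hj⟩ : ∃ j, B.repr (b i₀) j ≠ 0 := by
    by_contra! h
    exact hb0 (B.repr.injective (by ext j; simp [h j]))
  have h1 := congrArg (fun t => TensorProduct.lid k K (LinearMap.rTensor K (B.coord j) t)) hw0
  simp only [hw, map_sum, LinearMap.rTensor_tmul, TensorProduct.lid_tmul, map_zero] at h1
  exact hj (Fintype.linearIndependent_iff.1 hs' (fun i => B.coord j (b i)) h1 i₀)

theorem exists_separating_el (hK : IsFunctionField k K) (hg : IsGeometric k K) :
    ∃ s : K, Transcendental k s ∧ Algebra.IsSeparable (IntermediateField.adjoin k ({s} : Set K)) K := by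
  classical
  obtain ⟨x, hx, hfin⟩ := hK.1
  set F := IntermediateField.adjoin k ({x} : Set K) with hF
  haveI : Algebra.IsAlgebraic F K := Algebra.IsAlgebraic.of_finite F K
  have htr : Algebra.trdeg k K = 1 := by
    have h1 : IsTranscendenceBasis k ((↑) : ({x} : Set K) → K) := by
      refine (algebraicIndependent_unique_type_iff.2 (by simpa using hx)).isTranscendenceBasis_iff_isAlgebraic.2 ?_
      rw [Subtype.range_coe]
      exact IntermediateField.isAlgebraic_adjoin_iff_top.1 inferInstance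
    simpa using h1.cardinalMk_eq_trdeg.symm
  haveI : Algebra.EssFiniteType k K := by
    haveI : Algebra.EssFiniteType k F :=
      IntermediateField.essFiniteType_iff.2 (by rw [hF, ← Finset.coe_singleton]; exact IntermediateField.fg_adjoin_finset _)
    exact Algebra.EssFiniteType.comp k F K
  obtain ⟨S, hS, hsep⟩ : ∃ s : Finset K, IsTranscendenceBasis k ((↑) : s → K) ∧
      Algebra.IsSeparable (IntermediateField.adjoin k (s : Set K)) K := by
    obtain _ | ⟨p, hp, hk⟩ := CharP.exists' k
    · exact exists_isTranscendenceBasis_and_isSeparable_of_perfectField k K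
    · haveI := hk
      haveI : CharP K p := charP_of_injective_algebraMap (algebraMap k K).injective p
      exact exists_isTranscendenceBasis_and_isSeparable_of_linearIndepOn_pow_of_essFiniteType p hp.out
        (fun s hs => geometric_pow_indep hg p s hs)
  have hcard : S.card = 1 := by
    have := hS.cardinalMk_eq_trdeg
    rw [htr, Cardinal.mk_coe_finset] at this
    exact_mod_cast this
  obtain ⟨s, rfl⟩ := Finset.card_eq_one.1 hcard
  rw [Finset.coe_singleton] at hsep
  exact ⟨s, by simpa using hS.1.transcendental ⟨s, Finset.mem_singleton_self s⟩, hsep⟩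

/-- any two differentials are proportional once one is read nonzero somewhere -/
theorem exists_ratio (hK : IsFunctionField k K) (hg : IsGeometric k K) {x : K}
    (hx : KaehlerDifferential.D k K x ≠ 0) (y : K) :
    ∃ a : K, KaehlerDifferential.D k K y = a • KaehlerDifferential.D k K x := by
  obtain ⟨s, -, hsep⟩ := exists_separating_el hK hg
  haveI := hsep
  have hspan : Submodule.span K {KaehlerDifferential.D k K s} = ⊤ := by
    have h := derivation_vanish s ((Submodule.span K {KaehlerDifferential.D k K s}).mkQ.compDer (KaehlerDifferential.D k K))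
      (by simpa using Submodule.mem_span_singleton_self (R := K) (KaehlerDifferential.D k K s))
    rw [eq_top_iff, ← KaehlerDifferential.span_range_derivation, Submodule.span_le]
    rintro _ ⟨z, rfl⟩
    simpa using h z
  obtain ⟨a, ha⟩ := Submodule.mem_span_singleton.1 (hspan ▸ Submodule.mem_top : KaehlerDifferential.D k K y ∈ _)
  obtain ⟨b, hb⟩ := Submodule.mem_span_singleton.1 (hspan ▸ Submodule.mem_top : KaehlerDifferential.D k K x ∈ _)
  have hb0 : b ≠ 0 := fun h => hx (by rw [← hb, h, zero_smul])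
  exact ⟨a * b⁻¹, by rw [← hb, ← ha, smul_smul, mul_assoc, inv_mul_cancel₀ hb0, mul_one]⟩

end SepGen

section Exp

variable {k K F : Type*} [Field k] [Field K] [Algebra k K] [Field F] [Algebra k F]

theorem D_map_smul (θ : K →ₐ[k] LaurentSeries F) {x y a : K}
    (h : KaehlerDifferential.D k K y = a • KaehlerDifferential.D k K x) :
    LocRes.D F (θ y) = θ a * LocRes.D F (θ x) := by
  letI := θ.toRingHom.toAlgebra
  haveI : IsScalarTower k K (LaurentSeries F) := LocRes.isScalarTower_exp θ
  have h' := congrArg (LocRes.dExp θ).liftKaehlerDifferential h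
  rw [map_smul, Derivation.liftKaehlerDifferential_comp_D, Derivation.liftKaehlerDifferential_comp_D] at h'
  exact h'

theorem d_ne_zero_of_D (θ : K →ₐ[k] LaurentSeries F) {x : K} (h : LocRes.D F (θ x) ≠ 0) :
    KaehlerDifferential.D k K x ≠ 0 := fun h0 => h (by
  have := D_map_smul θ (x := x) (y := x) (a := 0) (by rw [zero_smul, h0])
  rwa [map_zero, zero_mul] at this)

theorem vDiff_one (θ : K →ₐ[k] LaurentSeries F) (x : K) :
    LocRes.vDiff θ 1 x = Valued.v (LocRes.D F (θ x)) := by rw [LocRes.vDiff, map_one, one_mul]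

theorem D_ne_zero_of_vDiff {θ : K →ₐ[k] LaurentSeries F} {x : K} (h : LocRes.vDiff θ 1 x ≠ 0) :
    LocRes.D F (θ x) ≠ 0 := by rw [vDiff_one] at h; exact (Valuation.ne_zero_iff _).1 h

theorem ordDiff_one (θ : K →ₐ[k] LaurentSeries F) (x : K) :
    LocRes.ordDiff θ 1 x = -WithZero.log (Valued.v (LocRes.D F (θ x))) := by rw [LocRes.ordDiff, vDiff_one]

theorem ordDiff_param {P : Place k K} {φ : K →ₐ[k] LaurentSeries F} (hφ : LocRes.IsExpansionAt P.1 φ) {t : K}
    (ht : P.1 t = exp (-1)) : LocRes.ordDiff φ 1 t = 0 ∧ LocRes.D F (φ t) ≠ 0 := by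
  have h := val_D_param (f := φ t) (by rw [hφ.1, ht])
  exact ⟨by rw [ordDiff_one, h, log_one, neg_zero], (Valuation.ne_zero_iff _).1 (by rw [h]; exact one_ne_zero)⟩

end Exp

section Diff

variable {k : Type u} {K : Type v} {K' : Type w'} {F F' : Type*} [Field k] [Field K] [Field K'] [Algebra k K] [Algebra K K']
  [Algebra k K'] [IsScalarTower k K K'] [Field F] [Algebra k F] [Field F'] [Algebra k F']

/-- derivatives above are derivatives below -/
theorem D_above (hK : IsFunctionField k K) (hg : IsGeometric k K) (φ : K →ₐ[k] LaurentSeries F)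
    (ψ : K' →ₐ[k] LaurentSeries F') {t : K} (ht : LocRes.D F (φ t) ≠ 0) (y : K) :
    ∃ a : K, LocRes.D F (φ y) = φ a * LocRes.D F (φ t) ∧
      LocRes.D F' (ψ (algebraMap K K' y)) = ψ (algebraMap K K' a) * LocRes.D F' (ψ (algebraMap K K' t)) := by
  obtain ⟨a, ha⟩ := exists_ratio hK hg (d_ne_zero_of_D φ ht) y
  exact ⟨a, D_map_smul φ ha, D_map_smul (ψ.comp (IsScalarTower.toAlgHom k K K')) ha⟩

/-- independence of the differential -/
theorem diffExp_indep (hK : IsFunctionField k K) (hg : IsGeometric k K) {P : Place k K} {Q : Place k K'} {e : ℕ}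
    (he : IsOverWith Q P e) {φ : K →ₐ[k] LaurentSeries F} (hφ : LocRes.IsExpansionAt P.1 φ)
    {ψ : K' →ₐ[k] LaurentSeries F'} (hψ : LocRes.IsExpansionAt Q.1 ψ) {x : K}
    (hx : LocRes.vDiff φ 1 x ≠ 0) (hx' : LocRes.vDiff ψ 1 (algebraMap K K' x) ≠ 0) {t : K}
    (ht : LocRes.D F (φ t) ≠ 0) :
    LocRes.D F' (ψ (algebraMap K K' t)) ≠ 0 ∧ LocRes.diffExp φ ψ e x = LocRes.diffExp φ ψ e t := by
  obtain ⟨a, ha1, ha2⟩ := D_above hK hg φ ψ ht x
  have hx1 := D_ne_zero_of_vDiff hx
  have hx2 := D_ne_zero_of_vDiff hx'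
  rw [ha1] at hx1
  rw [ha2] at hx2
  refine ⟨right_ne_zero_of_mul hx2, ?_⟩
  have ha0 : a ≠ 0 := fun h => left_ne_zero_of_mul hx1 (by rw [h, map_zero])
  simp only [LocRes.diffExp, ordDiff_one]
  rw [ha1, ha2, map_mul, map_mul, hφ.1, hψ.1, log_mul (val_ne_zero P ha0) ((Valuation.ne_zero_iff _).2 ht),
    log_mul (val_ne_zero Q ((map_ne_zero _).2 ha0)) ((Valuation.ne_zero_iff _).2 (right_ne_zero_of_mul hx2)),
    he a, log_pow, nsmul_eq_mul]
  ring

theorem diffExp_eq (hK : IsFunctionField k K) (hg : IsGeometric k K) {P : Place k K} {Q : Place k K'} {e : ℕ}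
    (he : IsOverWith Q P e) {φ : K →ₐ[k] LaurentSeries F} (hφ : LocRes.IsExpansionAt P.1 φ)
    {ψ : K' →ₐ[k] LaurentSeries F'} (hψ : LocRes.IsExpansionAt Q.1 ψ) {x : K}
    (hx : LocRes.vDiff φ 1 x ≠ 0) (hx' : LocRes.vDiff ψ 1 (algebraMap K K' x) ≠ 0) {t : K} (ht : P.1 t = exp (-1)) :
    LocRes.D F' (ψ (algebraMap K K' t)) ≠ 0 ∧
      LocRes.diffExp φ ψ e x = -WithZero.log (Valued.v (LocRes.D F' (ψ (algebraMap K K' t)))) := by
  obtain ⟨h0, hne⟩ := ordDiff_param hφ ht
  obtain ⟨h1, h2⟩ := diffExp_indep hK hg he hφ hψ hx hx' hne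
  exact ⟨h1, by rw [h2, LocRes.diffExp, h0, ordDiff_one, mul_zero, sub_zero]⟩

end Diff

end Groth.Agent.FunFldLib
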