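import Groth.Agent.FunFldLib.Extension
import Mathlib.FieldTheory.RatFunc.IntermediateField
import Mathlib.RingTheory.Polynomial.Basic

/-! Places of the rational function field `k(x)`. -/

set_option autoImplicit false
set_option maxHeartbeats 1000000

open WithZero Polynomial

namespace Groth.Agent.FunFldLib

open FunFld

variable {k : Type*} [Field k]

local notation "ι" => algebraMap (Polynomial k) (RatFunc k)

theorem ratFunc_isFunctionField (k : Type*) [Field k] : IsFunctionField k (RatFunc k) := by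
  refine ⟨⟨RatFunc.X, RatFunc.transcendental_X, ?_⟩, fun y hy => ?_⟩
  · refine ⟨⟨{1}, ?_⟩⟩
    rw [Finset.coe_singleton, Submodule.eq_top_iff']
    intro f
    have hm : f ∈ IntermediateField.adjoin k ({RatFunc.X} : Set (RatFunc k)) := by
      rw [show IntermediateField.adjoin k ({RatFunc.X} : Set (RatFunc k)) = ⊤ from RatFunc.adjoin_X]; trivial
    exact Submodule.mem_span_singleton.2 ⟨⟨f, hm⟩, mul_one f⟩
  · have h1 : IsIntegral (Polynomial k) y := (hy.isIntegral).tower_top
    obtain ⟨p, hp⟩ := IsIntegrallyClosed.isIntegral_iff.1 h1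
    subst hp
    have hpa : IsAlgebraic k p := (isAlgebraic_algHom_iff (IsScalarTower.toAlgHom k (Polynomial k) (RatFunc k))
      (RatFunc.algebraMap_injective k)).1 hy
    have hp0 : p.natDegree = 0 := by
      by_contra hne
      exact (Polynomial.transcendental_X k).aeval p hne (by
        simpa using Polynomial.leadingCoeff_ne_zero.2 (fun h => hne (by simp [h]))) (by simpa using hpa)
    refine ⟨p.coeff 0, ?_⟩
    rw [IsScalarTower.algebraMap_apply k (Polynomial k) (RatFunc k)]
    exact congrArg (algebraMap (Polynomial k) (RatFunc k)) (Polynomial.eq_C_of_natDegree_eq_zero hp0).symm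

theorem ratFunc_frac (f : RatFunc k) : ι f.num / ι f.denom = f := RatFunc.num_div_denom f

theorem rat_val_C (P : Place k (RatFunc k)) {c : k} (hc : c ≠ 0) : P.1 (ι (C c)) = 1 := by
  rw [← Polynomial.algebraMap_eq, ← IsScalarTower.algebraMap_apply]; exact val_algebraMap P hc

/-- at a place where `x` has no pole every polynomial is integral -/
theorem poly_le_one (P : Place k (RatFunc k)) (h : P.1 RatFunc.X ≤ 1) (q : Polynomial k) : P.1 (ι q) ≤ 1 := by
  induction q using Polynomial.induction_on' with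
  | add a b ha hb => rw [map_add]; exact (P.1.map_add _ _).trans (max_le ha hb)
  | monomial n c =>
    rcases eq_or_ne c 0 with rfl | hc
    · simp
    rw [← C_mul_X_pow_eq_monomial, map_mul, map_mul, rat_val_C P hc, one_mul, map_pow, map_pow, RatFunc.algebraMap_X]
    exact pow_le_one₀ zero_le h

/-- at a pole of `x` the value of a polynomial is given by its degree -/
theorem poly_val_inf (P : Place k (RatFunc k)) (h : 1 < P.1 RatFunc.X) {q : Polynomial k} (hq : q ≠ 0) :
    P.1 (ι q) = P.1 RatFunc.X ^ q.natDegree := by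
  induction hn : q.natDegree using Nat.strong_induction_on generalizing q with
  | _ n ih =>
    subst hn
    have hlead : P.1 (ι (C q.leadingCoeff * X ^ q.natDegree)) = P.1 RatFunc.X ^ q.natDegree := by
      rw [map_mul, map_mul, rat_val_C P (leadingCoeff_ne_zero.2 hq), one_mul, map_pow, map_pow, RatFunc.algebraMap_X]
    rcases eq_or_ne q.eraseLead 0 with h0 | h0
    · rw [← eraseLead_add_C_mul_X_pow q, h0, zero_add, natDegree_C_mul_X_pow _ _ (leadingCoeff_ne_zero.2 hq)]
      exact hlead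
    · have hlt : q.eraseLead.natDegree < q.natDegree :=
        (eraseLead_natDegree_lt_or_eraseLead_eq_zero q).resolve_right h0
      conv_lhs => rw [← eraseLead_add_C_mul_X_pow q, map_add]
      rw [Valuation.map_add_eq_of_lt_right, hlead]
      rw [hlead, ih _ hlt h0 rfl]
      exact pow_lt_pow_right₀ h hlt

theorem val_X_inf (P : Place k (RatFunc k)) (h : 1 < P.1 RatFunc.X) : P.1 RatFunc.X = exp (1 : ℤ) := by
  obtain ⟨f, hf0, hf⟩ := exists_val_eq P 1
  have hn : f.num ≠ 0 := fun h0 => hf0 (RatFunc.num_eq_zero_iff.1 h0)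
  have hX : P.1 RatFunc.X ≠ 0 := (zero_lt_one.trans h).ne'
  rw [← ratFunc_frac f, map_div₀, poly_val_inf P h hn, poly_val_inf P h (RatFunc.denom_ne_zero f),
    ← zpow_natCast, ← zpow_natCast, ← zpow_sub₀ hX] at hf
  rw [← exp_log hX] at hf h ⊢
  rw [← exp_zsmul, exp_inj, smul_eq_mul] at hf
  have h' := exp_lt_exp.1 (exp_zero.trans_lt h)
  rw [exp_inj]
  exact Int.eq_one_of_mul_eq_one_left h'.le hf

theorem inf_unique {P Q : Place k (RatFunc k)} (hP : 1 < P.1 RatFunc.X) (hQ : 1 < Q.1 RatFunc.X) : P = Q := by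
  refine eq_of_forall_le_one fun f hf => ?_
  rcases eq_or_ne f 0 with rfl | hf0
  · simp
  have hn : f.num ≠ 0 := fun h0 => hf0 (RatFunc.num_eq_zero_iff.1 h0)
  rw [← ratFunc_frac f, map_div₀, poly_val_inf P hP hn, poly_val_inf P hP (RatFunc.denom_ne_zero f), val_X_inf P hP] at hf
  rwa [← ratFunc_frac f, map_div₀, poly_val_inf Q hQ hn, poly_val_inf Q hQ (RatFunc.denom_ne_zero f), val_X_inf Q hQ]

/-- the prime of a finite place -/
theorem exists_prime (P : Place k (RatFunc k)) (h : P.1 RatFunc.X ≤ 1) :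
    ∃ p : Polynomial k, Irreducible p ∧ ∀ q, P.1 (ι q) < 1 ↔ p ∣ q := by
  classical
  let I : Ideal (Polynomial k) :=
    { carrier := {q | P.1 (ι q) < 1}
      add_mem' := fun {a b} ha hb => by
        show P.1 (ι (a + b)) < 1
        rw [map_add]; exact (P.1.map_add _ _).trans_lt (max_lt ha hb)
      zero_mem' := by show P.1 (ι 0) < 1; rw [map_zero, map_zero]; exact zero_lt_one
      smul_mem' := fun c x hx => by
        show P.1 (ι (c * x)) < 1
        rw [map_mul, map_mul]
        exact (mul_le_of_le_one_left' (poly_le_one P h c)).trans_lt hx }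
  have hI : I.IsPrime := by
    refine ⟨fun htop => ?_, fun {a b} hab => ?_⟩
    · have : (1 : Polynomial k) ∈ I := htop ▸ trivial
      change P.1 (ι 1) < 1 at this
      simp at this
    · by_contra! hc
      have ha : P.1 (ι a) = 1 := le_antisymm (poly_le_one P h a) (not_lt.1 hc.1)
      have hb : P.1 (ι b) = 1 := le_antisymm (poly_le_one P h b) (not_lt.1 hc.2)
      change P.1 (ι (a * b)) < 1 at hab
      rw [map_mul, map_mul, ha, hb, mul_one] at hab
      exact lt_irrefl _ hab
  refine ⟨Submodule.IsPrincipal.generator I, ?_, fun q => ?_⟩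
  · have hne : I ≠ ⊥ := by
      intro hbot
      obtain ⟨f, hf0, hf⟩ := exists_val_eq P 1
      have hu : ∀ q : Polynomial k, q ≠ 0 → P.1 (ι q) = 1 := fun q hq =>
        le_antisymm (poly_le_one P h q) (not_lt.1 fun hlt => hq (by
          have : q ∈ I := hlt
          rwa [hbot, Ideal.mem_bot] at this))
      rw [← ratFunc_frac f, map_div₀, hu _ (fun h0 => hf0 (RatFunc.num_eq_zero_iff.1 h0)),
        hu _ (RatFunc.denom_ne_zero f), div_one] at hf
      rw [← exp_zero, exp_inj] at hf
      exact zero_ne_one hf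
    exact (Submodule.IsPrincipal.prime_generator_of_isPrime I hne).irreducible
  · exact (Submodule.IsPrincipal.mem_iff_generator_dvd I).symm.symm

theorem repr_finite (P : Place k (RatFunc k)) (h : P.1 RatFunc.X ≤ 1) {p : Polynomial k} (hp : Irreducible p)
    (hP : ∀ q, P.1 (ι q) < 1 ↔ p ∣ q) {f : RatFunc k} (hf : P.1 f ≤ 1) :
    ∃ a b : Polynomial k, ¬ p ∣ b ∧ f = ι a / ι b := by
  refine ⟨f.num, f.denom, fun hd => ?_, (ratFunc_frac f).symm⟩
  have hb : P.1 (ι f.denom) < 1 := (hP _).2 hd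
  have hd0 : ι f.denom ≠ 0 := RatFunc.algebraMap_ne_zero (RatFunc.denom_ne_zero f)
  have ha : P.1 (ι f.num) < 1 := by
    rw [← div_mul_cancel₀ (ι f.num) hd0, ratFunc_frac, map_mul]
    exact (mul_le_of_le_one_left' hf).trans_lt hb
  exact hp.not_isUnit ((RatFunc.isCoprime_num_denom f).isUnit_of_dvd' ((hP _).1 ha) hd)

theorem fin_unique {P Q : Place k (RatFunc k)} (hPX : P.1 RatFunc.X ≤ 1) (hQX : Q.1 RatFunc.X ≤ 1)
    {p : Polynomial k} (hp : Irreducible p) (hP : ∀ q, P.1 (ι q) < 1 ↔ p ∣ q) (hQ : ∀ q, Q.1 (ι q) < 1 ↔ p ∣ q) :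
    P = Q := by
  refine eq_of_forall_le_one fun f hf => ?_
  obtain ⟨a, b, hb, rfl⟩ := repr_finite P hPX hp hP hf
  have h1 : Q.1 (ι b) = 1 := le_antisymm (poly_le_one Q hQX b) (not_lt.1 fun h => hb ((hQ b).1 h))
  rw [map_div₀, h1, div_one]
  exact poly_le_one Q hQX a

theorem val_prime (P : Place k (RatFunc k)) (h : P.1 RatFunc.X ≤ 1) {p : Polynomial k} (hp : Irreducible p)
    (hP : ∀ q, P.1 (ι q) < 1 ↔ p ∣ q) : P.1 (ι p) = exp (-1 : ℤ) := by
  have hp1 : P.1 (ι p) < 1 := (hP p).2 dvd_rfl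
  have hp0 : P.1 (ι p) ≠ 0 := val_ne_zero P (RatFunc.algebraMap_ne_zero hp.ne_zero)
  obtain ⟨f, hf0, hf⟩ := exists_val_eq P (-1)
  obtain ⟨a, b, hb, rfl⟩ := repr_finite P h hp hP (f := f) (by rw [hf, ← exp_zero, exp_le_exp]; norm_num)
  have h1 : P.1 (ι b) = 1 := le_antisymm (poly_le_one P h b) (not_lt.1 fun h' => hb ((hP b).1 h'))
  rw [map_div₀, h1, div_one] at hf
  obtain ⟨c, rfl⟩ : p ∣ a := (hP a).1 (by rw [hf, ← exp_zero, exp_lt_exp]; norm_num)
  have h2 : exp (-1 : ℤ) ≤ P.1 (ι p) := by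
    rw [← hf, map_mul, map_mul]; exact mul_le_of_le_one_right' (poly_le_one P h c)
  rw [← exp_log hp0] at hp1 h2 ⊢
  have h3 := exp_lt_exp.1 (hp1.trans_eq exp_zero.symm)
  rw [exp_le_exp] at h2
  rw [exp_inj]; omega

/-- the residue field at the pole of `x` is `k` -/
theorem exists_const_inf (P : Place k (RatFunc k)) (hX : 1 < P.1 RatFunc.X) {u : RatFunc k} (hu1 : P.1 u ≤ 1) :
    ∃ c : k, P.1 (u - algebraMap k (RatFunc k) c) < 1 := by
  have hXe := val_X_inf P hX
  rcases lt_or_eq_of_le hu1 with hlt | heq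
  · exact ⟨0, by simpa using hlt⟩
  have hu0 : u ≠ 0 := fun h0 => by rw [h0, map_zero] at heq; exact zero_ne_one heq
  have hn : u.num ≠ 0 := fun h0 => hu0 (RatFunc.num_eq_zero_iff.1 h0)
  have hd := RatFunc.denom_ne_zero u
  rw [← ratFunc_frac u, map_div₀, poly_val_inf P hX hn, poly_val_inf P hX hd, hXe, ← exp_nsmul, ← exp_nsmul,
    ← exp_sub, ← exp_zero, exp_inj] at heq
  have hdeg : u.num.natDegree = u.denom.natDegree := by simp at heq; omega
  refine ⟨u.num.leadingCoeff, ?_⟩
  have hd0 : ι u.denom ≠ 0 := RatFunc.algebraMap_ne_zero hd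
  have hmon : u.denom.leadingCoeff = 1 := u.monic_denom
  have e : u - algebraMap k (RatFunc k) u.num.leadingCoeff =
      ι (u.num - C u.num.leadingCoeff * u.denom) / ι u.denom := by
    rw [map_sub, map_mul, ← Polynomial.algebraMap_eq, ← IsScalarTower.algebraMap_apply, sub_div,
      mul_div_assoc, div_self hd0, mul_one, ratFunc_frac]
  rcases eq_or_ne (u.num - C u.num.leadingCoeff * u.denom) 0 with h0 | h0
  · rw [e, h0, map_zero, zero_div, map_zero]; exact zero_lt_one
  rw [e, map_div₀, poly_val_inf P hX h0, poly_val_inf P hX hd, div_lt_one₀ (pow_pos (zero_lt_one.trans hX) _)]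
  refine pow_lt_pow_right₀ hX ?_
  rw [← hdeg]
  refine Polynomial.natDegree_lt_natDegree h0 (degree_sub_lt ?_ hn (by
    rw [leadingCoeff_mul, leadingCoeff_C, hmon, mul_one]))
  rw [degree_C_mul (leadingCoeff_ne_zero.2 hn), degree_eq_natDegree hn, degree_eq_natDegree hd, hdeg]

theorem deg_inf (P : Place k (RatFunc k)) (hX : 1 < P.1 RatFunc.X) : P.deg = 1 := by
  have hsur : Function.Surjective (algebraMap k (IsLocalRing.ResidueField P.O)) := fun z => by
    obtain ⟨u, rfl⟩ := IsLocalRing.residue_surjective z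
    obtain ⟨c, hc⟩ := exists_const_inf P hX ((Valuation.mem_valuationSubring_iff P.1 _).1 u.2)
    refine ⟨c, (sub_eq_zero.1 ?_).symm⟩
    show IsLocalRing.residue P.O u - IsLocalRing.residue P.O (algebraMap k P.O c) = 0
    rw [← map_sub, residue_eq_zero_iff_val]
    exact hc
  exact (LinearEquiv.ofBijective (Algebra.linearMap k (IsLocalRing.ResidueField P.O))
    ⟨(algebraMap k _).injective, hsur⟩).finrank_eq.symm.trans (Module.finrank_self k)

/-- principal parts: the top coefficient of a pole can be prescribed without other poles -/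
theorem exists_principal (P : Place k (RatFunc k)) (m : ℕ) (hm : 1 ≤ m) (g : RatFunc k) (hg : P.1 g ≤ exp (m : ℤ)) :
    ∃ h : RatFunc k, P.1 h ≤ exp (m : ℤ) ∧ P.1 (g - h) < exp (m : ℤ) ∧
      ∀ Q : Place k (RatFunc k), Q ≠ P → Q.1 h ≤ 1 := by
  classical
  rcases le_or_gt (P.1 RatFunc.X) 1 with hX | hX
  · obtain ⟨p, hp, hP⟩ := exists_prime P hX
    have hpv := val_prime P hX hp hP
    have hp0 : ι p ≠ 0 := RatFunc.algebraMap_ne_zero hp.ne_zero
    have hu : P.1 (g * ι p ^ m) ≤ 1 := by
      rw [map_mul, map_pow, hpv, ← exp_nsmul]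
      refine (mul_le_mul' hg le_rfl).trans ?_
      rw [← exp_add, ← exp_zero, exp_le_exp, nsmul_eq_mul]; omega
    obtain ⟨a, b, hb, hab⟩ := repr_finite P hX hp hP hu
    have hb1 : P.1 (ι b) = 1 := le_antisymm (poly_le_one P hX b) (not_lt.1 fun h' => hb ((hP b).1 h'))
    obtain ⟨u, w, huw⟩ : IsCoprime p b := hp.coprime_iff_not_dvd.2 hb
    set r := (a * w) % p with hr
    have hdiv : p ∣ (a - r * b) := by
      refine ⟨(a * w) / p * b + a * u, ?_⟩
      linear_combination (-(b : Polynomial k)) * (EuclideanDomain.div_add_mod (a * w) p) - a * huw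
    have hpm : P.1 (ι p ^ m) = exp (-(m : ℤ)) := by
      rw [map_pow, hpv, ← exp_nsmul, exp_inj, nsmul_eq_mul]; ring
    refine ⟨ι r / ι p ^ m, ?_, ?_, fun Q hQ => ?_⟩
    · rw [map_div₀, hpm, div_le_iff₀ exp_pos, ← exp_add, add_neg_cancel, exp_zero]
      exact poly_le_one P hX r
    · have hb0 : ι b ≠ 0 := fun h0 => by rw [h0, map_zero] at hb1; exact zero_ne_one hb1
      have e : g - ι r / ι p ^ m = ι (a - r * b) / (ι b * ι p ^ m) := by
        rw [map_sub, map_mul]
        field_simp
        have : g * ι p ^ m * ι b = ι a := by rw [hab, div_mul_cancel₀ _ hb0]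
        linear_combination this
      rw [e, map_div₀, map_mul, hb1, one_mul, hpm, div_lt_iff₀ exp_pos, ← exp_add, add_neg_cancel, exp_zero]
      exact (hP _).2 hdiv
    · rw [map_div₀, map_pow]
      rcases le_or_gt (Q.1 RatFunc.X) 1 with hQX | hQX
      · obtain ⟨p', hp', hQ'⟩ := exists_prime Q hQX
        have h1 : Q.1 (ι p) = 1 := by
          refine le_antisymm (poly_le_one Q hQX p) (not_lt.1 fun hlt => hQ ?_)
          have hassoc : Associated p' p := hp'.associated_of_dvd hp ((hQ' p).1 hlt)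
          exact fin_unique hQX hX hp' hQ' fun q => (hP q).trans hassoc.dvd_iff_dvd_left.symm
        rw [h1, one_pow, div_one]
        exact poly_le_one Q hQX r
      · rcases eq_or_ne r 0 with h0 | h0
        · simp [h0]
        rw [poly_val_inf Q hQX h0, poly_val_inf Q hQX hp.ne_zero, ← pow_mul,
          div_le_one₀ (pow_pos (zero_lt_one.trans hQX) _)]
        refine pow_le_pow_right₀ hQX.le ?_
        have hlt : r.natDegree < p.natDegree := by
          have := Polynomial.natDegree_mod_lt (a * w) (by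
            intro hz; exact hp.natDegree_pos.ne' hz : p.natDegree ≠ 0)
          exact this
        exact hlt.le.trans (Nat.le_mul_of_pos_right _ hm)
  · have hXe := val_X_inf P hX
    have hX0 : (RatFunc.X : RatFunc k) ≠ 0 := RatFunc.X_ne_zero
    set u := g / RatFunc.X ^ m with hu
    have hXm : P.1 ((RatFunc.X : RatFunc k) ^ m) = exp (m : ℤ) := by
      rw [map_pow, hXe, ← exp_nsmul, nsmul_eq_mul, mul_one]
    have hu1 : P.1 u ≤ 1 := by rw [hu, map_div₀, hXm, div_le_one₀ exp_pos]; exact hg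
    obtain ⟨c, hc⟩ := exists_const_inf P hX hu1
    refine ⟨algebraMap k (RatFunc k) c * RatFunc.X ^ m, ?_, ?_, fun Q hQ => ?_⟩
    · rw [map_mul, hXm]; exact mul_le_of_le_one_left' (P.2.1 c)
    · have e : g - algebraMap k (RatFunc k) c * RatFunc.X ^ m = (u - algebraMap k (RatFunc k) c) * RatFunc.X ^ m := by
        rw [sub_mul, hu, div_mul_cancel₀ _ (pow_ne_zero _ hX0)]
      rw [e, map_mul, hXm]
      exact mul_lt_of_lt_one_left exp_pos hc
    · have hQX : Q.1 RatFunc.X ≤ 1 := not_lt.1 fun h' => hQ (inf_unique h' hX)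
      rw [map_mul, map_pow]
      exact mul_le_one' (Q.2.1 c) (pow_le_one₀ zero_le hQX)

end Groth.Agent.FunFldLib
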