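import Groth.Agent.S11014
import Groth.Agent.S12519
import Groth.Agent.FunFldLib.DiffExp
import Groth.Agent.FunFldLib.QuadPlace
import Groth.Agent.FunFldLib.Galois
import Groth.Agent.FunFldLib.RatPlace
import Groth.Agent.FunFldLib.Cor

/-! Artin–Schreier quadratic extensions of `k(x)`: Riemann–Roch spaces of pulled back divisors, genus, and
divisor of `dx`. -/

set_option autoImplicit false
set_option maxHeartbeats 800000

open WithZero Polynomial

namespace Groth.Agent.FunFldLib

open FunFld

variable {k : Type*} [Field k]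

theorem rat_genus : genus k (RatFunc k) = 0 :=
  (exists_simple_pole_of_top (ratFunc_isFunctionField k) (RatFunc.adjoin_X (K := k))).choose_spec.2.2.2

theorem rat_ell (D : Divisor k (RatFunc k)) (h : -1 ≤ D.deg) : (ell D : ℤ) = D.deg + 1 := by
  have := ell_large (ratFunc_isFunctionField k) (D := D) (by rw [rat_genus]; simpa using h)
  rw [this, rat_genus]; simp

/-- half of one plus the pole order -/
noncomputable def asDelta (f : RatFunc k) : Divisor k (RatFunc k) :=
  Finsupp.mapRange (fun n : ℤ => if n < 0 then (1 - n) / 2 else 0) (by simp) (FunFld.div k f)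

theorem asDelta_apply (f : RatFunc k) (P : Place k (RatFunc k)) :
    asDelta f P = if P.ord f < 0 then (1 - P.ord f) / 2 else 0 := by
  rw [asDelta, Finsupp.mapRange_apply, div_apply (ratFunc_isFunctionField k).1]

theorem deg_asDelta (f : RatFunc k) :
    (asDelta f).deg = ∑ P ∈ (FunFld.div k f).support with FunFld.div k f P < 0,
      (1 - FunFld.div k f P) / 2 * (P.deg : ℤ) := by
  classical
  rw [deg_eq_sum (asDelta f) (FunFld.div k f).support Finsupp.support_mapRange, Finset.sum_filter]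
  refine Finset.sum_congr rfl fun P _ => ?_
  rw [asDelta, Finsupp.mapRange_apply]
  split_ifs <;> simp

variable {K : Type*} [Field K] [Algebra k K] [Algebra (RatFunc k) K] [IsScalarTower k (RatFunc k) K]
  [CharP K 2] [Algebra.IsSeparable (RatFunc k) K]

omit [Algebra k K] [IsScalarTower k (RatFunc k) K] in
theorem as_setup (hdeg : Module.finrank (RatFunc k) K = 2) {y : K} (hy : y ∉ Set.range (algebraMap (RatFunc k) K))
    {f : RatFunc k} (heq : y ^ 2 + y = algebraMap (RatFunc k) K f) :
    (∃ σ : K ≃ₐ[RatFunc k] K, σ y = y + 1) ∧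
      ∀ z : K, ∃ a b : RatFunc k, z = algebraMap (RatFunc k) K a + algebraMap (RatFunc k) K b * y := by
  haveI : FiniteDimensional (RatFunc k) K := FiniteDimensional.of_finrank_pos (by omega)
  refine ⟨?_, fun z => ?_⟩
  · haveI : Algebra.IsQuadraticExtension (RatFunc k) K := ⟨hdeg⟩
    haveI : IsGalois (RatFunc k) K := ⟨⟩
    obtain ⟨σ, hσ⟩ : ∃ σ : K ≃ₐ[RatFunc k] K, σ y ≠ y := by
      by_contra! hall
      exact hy (IsGalois.mem_range_algebraMap_iff_fixed y |>.2 hall)
    refine ⟨σ, ?_⟩
    have h1 : (σ y) ^ 2 + σ y = algebraMap (RatFunc k) K f := by rw [← σ.commutes f, ← heq, map_add, map_pow]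
    have h2 : (σ y - y) * (σ y + y + 1) = 0 := by linear_combination h1 - heq
    have h3 := (mul_eq_zero.1 h2).resolve_left (sub_ne_zero.2 hσ)
    rw [eq_neg_of_add_eq_zero_left (show σ y + (y + 1) = 0 by linear_combination h3)]
    exact CharTwo.neg_eq _
  · have hli : LinearIndependent (RatFunc k) ![(1 : K), y] := by
      rw [LinearIndependent.pair_iff]
      intro s t hst
      by_cases ht : t = 0
      · subst ht; exact ⟨by simpa [Algebra.smul_def] using hst, rfl⟩
      · exfalso; apply hy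
        refine ⟨-s / t, ?_⟩
        rw [Algebra.smul_def, Algebra.smul_def, mul_one] at hst
        rw [map_div₀, map_neg, div_eq_iff ((_root_.map_ne_zero _).2 ht)]; linear_combination -hst
    have hspan := hli.span_eq_top_of_card_eq_finrank (by simp [hdeg])
    have hz : z ∈ Submodule.span (RatFunc k) (Set.range ![(1 : K), y]) := by rw [hspan]; trivial
    rw [Submodule.mem_span_range_iff_exists_fun] at hz
    obtain ⟨c, rfl⟩ := hz
    exact ⟨c 0, c 1, by simp [Fin.sum_univ_two, Algebra.smul_def]⟩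

/-- local data at a place -/
theorem as_local (hdeg : Module.finrank (RatFunc k) K = 2) {y : K} (hy : y ∉ Set.range (algebraMap (RatFunc k) K))
    {f : RatFunc k} (heq : y ^ 2 + y = algebraMap (RatFunc k) K f)
    (hodd : ∀ P : Place k (RatFunc k), P.ord f < 0 → Odd (P.ord f))
    {Q : Place k K} {P : Place k (RatFunc k)} {e : ℕ} (he : IsOverWith Q P e) :
    (P.ord f < 0 ∧ e = 2 ∧ Q.ord y = P.ord f) ∨ (0 ≤ P.ord f ∧ e = 1 ∧ Q.1 y ≤ 1) := by
  haveI : FiniteDimensional (RatFunc k) K := FiniteDimensional.of_finrank_pos (by omega)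
  have hf0 : f ≠ 0 := fun h0 => by
    rw [h0, map_zero] at heq
    have : y * (y + 1) = 0 := by linear_combination heq
    rcases mul_eq_zero.1 this with h | h
    · exact hy ⟨0, by rw [h, map_zero]⟩
    · exact hy ⟨-1, by rw [map_neg, map_one, eq_neg_of_add_eq_zero_left h]⟩
  have hy0 : y ≠ 0 := fun h => hy ⟨0, by rw [h, map_zero]⟩
  have hcore := Groth.Agent.S12519.core (ratFunc_isFunctionField k) hdeg y hy f heq P
  have hbig : 1 < Q.1 y → Q.1 (algebraMap (RatFunc k) K f) = Q.1 y ^ 2 := fun h2 => by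
    rw [← heq, Valuation.map_add_eq_of_lt_left, map_pow]
    rw [map_pow, sq]; exact lt_mul_of_one_lt_left (zero_lt_one.trans h2) h2
  rcases lt_or_ge (P.ord f) 0 with hlt | hge
  · obtain rfl : e = 2 := (place_unique he ((hcore.1 ⟨hlt, hodd P hlt⟩).2 Q ⟨e, he⟩).1).2
    refine Or.inl ⟨hlt, rfl, ?_⟩
    have h1 : 1 < Q.1 (algebraMap (RatFunc k) K f) := by
      rw [he]; refine one_lt_pow₀ (not_le.1 fun h => ?_) two_ne_zero
      exact hlt.not_ge ((val_le_one_iff P hf0).1 h)
    have h2 : 1 < Q.1 y := by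
      by_contra hle
      rw [not_lt] at hle
      rw [← heq] at h1
      exact h1.not_ge ((Q.1.map_add _ _).trans (max_le (by rw [map_pow]; exact pow_le_one₀ zero_le hle) hle))
    have h4 := ord_algebraMap_eq he f
    simp only [Place.ord, hbig h2, log_pow, nsmul_eq_mul] at h4
    simp only [Place.ord]
    push_cast at h4
    linarith
  · obtain rfl : e = 1 := (place_unique he (hcore.2 hge Q ⟨e, he⟩)).2
    refine Or.inr ⟨hge, rfl, ?_⟩
    by_contra hgt
    rw [not_le] at hgt
    have h := hbig hgt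
    rw [he, pow_one] at h
    exact ((one_lt_pow₀ hgt two_ne_zero).trans_eq h.symm).not_ge ((val_le_one_iff P hf0).2 hge)

variable (hdeg : Module.finrank (RatFunc k) K = 2) {y : K} (hy : y ∉ Set.range (algebraMap (RatFunc k) K))
  {f : RatFunc k} (heq : y ^ 2 + y = algebraMap (RatFunc k) K f)
  (hodd : ∀ P : Place k (RatFunc k), P.ord f < 0 → Odd (P.ord f))

include hdeg hy heq hodd in
theorem as_mem_L (hK : IsFunctionField k K) (D : Divisor k (RatFunc k)) (a b : RatFunc k) :
    algebraMap (RatFunc k) K a + algebraMap (RatFunc k) K b * y ∈ L (conorm K D) ↔ a ∈ L D ∧ b ∈ L (D - asDelta f) := by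
  classical
  haveI : FiniteDimensional (RatFunc k) K := FiniteDimensional.of_finrank_pos (by omega)
  have hF := ratFunc_isFunctionField k
  obtain ⟨⟨σ, hσ⟩, -⟩ := as_setup hdeg hy heq
  have hy0 : y ≠ 0 := fun h => hy ⟨0, by rw [h, map_zero]⟩
  set A := algebraMap (RatFunc k) K a
  set B := algebraMap (RatFunc k) K b
  have hval : ∀ (Q : Place k K) (P : Place k (RatFunc k)) (e : ℕ), IsOverWith Q P e →
      conorm K D Q = (e : ℤ) * D P := fun Q P e he => by
    obtain ⟨h1, h2⟩ := place_unique (isOverWith_below hF.1 Q) he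
    rw [conorm_apply hF.1, h1, h2]
  have hpow : ∀ (z : RatFunc k) (P : Place k (RatFunc k)) (n : ℤ) (e : ℕ), 1 ≤ e →
      (P.1 z ^ e ≤ exp ((e : ℤ) * n) ↔ P.1 z ≤ exp n) := fun z P n e he => by
    rw [show exp ((e : ℤ) * n) = exp n ^ e by rw [← exp_nsmul, nsmul_eq_mul]]
    exact pow_le_pow_iff_left₀ zero_le zero_le (by omega)
  constructor
  · intro hz
    have hσz : σ (A + B * y) ∈ L (conorm K D) := by
      intro Q
      obtain ⟨e, he⟩ : ∃ e, IsOverWith Q (below hF.1 Q) e := ⟨_, isOverWith_below hF.1 Q⟩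
      have := hz (twist σ Q)
      rw [twist_val, hval _ _ _ (isOverWith_twist he σ)] at this
      rwa [hval _ _ _ he]
    have hB : B ∈ L (conorm K D) := by
      have h := (L (conorm K D)).sub_mem hσz hz
      rwa [map_add, map_mul, hσ, σ.commutes, σ.commutes,
        show A + B * (y + 1) - (A + B * y) = B by ring] at h
    have hboth : ∀ P : Place k (RatFunc k), P.1 a ≤ exp (D P) ∧ P.1 b ≤ exp ((D - asDelta f) P) := by
      intro P
      obtain ⟨Q, e, he⟩ := exists_over (K' := K) hF P
      have hzQ := hz Q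
      have hbQ := hB Q
      rw [hval Q P e he] at hzQ hbQ
      rw [Finsupp.sub_apply, asDelta_apply]
      rcases as_local hdeg hy heq hodd he with ⟨hlt, rfl, hoy⟩ | ⟨hge, rfl, hoy⟩
      · rw [if_pos hlt]
        obtain ⟨m, hm⟩ := hodd P hlt
        have hvy : Q.1 y = exp (-(2 * m + 1)) := by rw [val_eq_exp Q hy0, hoy, hm]
        have hd : (1 - P.ord f) / 2 = -m := by omega
        rw [hd]
        rcases eq_or_ne b 0 with rfl | hb0
        · refine ⟨?_, by simp⟩
          rw [show B = 0 from map_zero _, zero_mul, add_zero, he, hpow a P _ 2 (by norm_num)] at hzQ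
          exact hzQ
        have hBy : Q.1 (B * y) = exp (-((2 : ℤ) * P.ord b + (2 * m + 1))) := by
          rw [map_mul, he, hvy, val_eq_exp P hb0, ← exp_nsmul, ← exp_add, exp_inj, nsmul_eq_mul]; push_cast; ring
        rcases eq_or_ne a 0 with rfl | ha0
        · rw [show A = 0 from map_zero _, zero_add, hBy, exp_le_exp] at hzQ
          refine ⟨by simp, ?_⟩
          rw [val_le_exp_iff P hb0]; push_cast at hzQ; omega
        have hA : Q.1 A = exp (-((2 : ℤ) * P.ord a)) := by
          rw [he, val_eq_exp P ha0, ← exp_nsmul, exp_inj, nsmul_eq_mul]; push_cast; ring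
        rw [Valuation.map_add_of_distinct_val _ (by rw [hA, hBy, Ne, exp_inj]; omega), hA, hBy, max_le_iff,
          exp_le_exp, exp_le_exp] at hzQ
        rw [val_le_exp_iff P ha0, val_le_exp_iff P hb0]
        push_cast at hzQ
        omega
      · rw [if_neg (by omega), sub_zero]
        rw [Nat.cast_one, one_mul] at hzQ hbQ
        have hb : P.1 b ≤ exp (D P) := by rwa [he, pow_one] at hbQ
        refine ⟨?_, hb⟩
        have h := (Q.1.map_sub (A + B * y) (B * y)).trans (max_le hzQ (by
          rw [map_mul]; exact (mul_le_of_le_one_right' hoy).trans hbQ))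
        rwa [add_sub_cancel_right, he, pow_one] at h
    exact ⟨fun P => (hboth P).1, fun P => (hboth P).2⟩
  · rintro ⟨ha, hb⟩ Q
    obtain ⟨e, he⟩ : ∃ e, IsOverWith Q (below hF.1 Q) e := ⟨_, isOverWith_below hF.1 Q⟩
    set P := below hF.1 Q
    rw [hval Q P e he]
    refine (Q.1.map_add _ _).trans (max_le ?_ ?_)
    · rw [he, hpow a P _ e (isOverWith_pos he)]; exact ha P
    · have hb' : P.1 b ≤ exp ((D - asDelta f) P) := hb P
      rw [Finsupp.sub_apply, asDelta_apply] at hb'
      rw [map_mul, he]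
      rcases as_local hdeg hy heq hodd he with ⟨hlt, rfl, hoy⟩ | ⟨hge, rfl, hoy⟩
      · rw [if_pos hlt] at hb'
        obtain ⟨m, hm⟩ := hodd P hlt
        refine (mul_le_mul' (pow_le_pow_left₀ zero_le hb' 2) le_rfl).trans ?_
        rw [val_eq_exp Q hy0, hoy, ← exp_nsmul, ← exp_add, exp_le_exp, nsmul_eq_mul]
        push_cast; omega
      · rw [if_neg (by omega), sub_zero] at hb'
        rw [pow_one, Nat.cast_one, one_mul]
        exact (mul_le_of_le_one_right' hoy).trans hb'

include hdeg hy heq hodd in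
theorem as_ell (hK : IsFunctionField k K) (D : Divisor k (RatFunc k)) :
    ell (conorm K D) = ell D + ell (D - asDelta f) := by
  haveI : FiniteDimensional (RatFunc k) K := FiniteDimensional.of_finrank_pos (by omega)
  have hF := ratFunc_isFunctionField k
  haveI := finite_L hF.1 D
  haveI := finite_L hF.1 (D - asDelta f)
  obtain ⟨-, hdec⟩ := as_setup hdeg hy heq
  let g : (L D × L (D - asDelta f)) →ₗ[k] K :=
    LinearMap.coprod ((IsScalarTower.toAlgHom k (RatFunc k) K).toLinearMap.comp (L D).subtype)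
      ((LinearMap.mulRight k y).comp ((IsScalarTower.toAlgHom k (RatFunc k) K).toLinearMap.comp (L (D - asDelta f)).subtype))
  have hg : ∀ u, g u = algebraMap (RatFunc k) K u.1 + algebraMap (RatFunc k) K u.2 * y := fun u => rfl
  have hinj : Function.Injective g := by
    rw [injective_iff_map_eq_zero]
    intro u hu
    rw [hg] at hu
    by_cases hb : (u.2 : RatFunc k) = 0
    · rw [hb, map_zero, zero_mul, add_zero, map_eq_zero] at hu
      exact Prod.ext (Subtype.ext hu) (Subtype.ext hb)
    · exfalso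
      refine hy ⟨-(u.1 : RatFunc k) / u.2, ?_⟩
      rw [map_div₀, map_neg, div_eq_iff ((_root_.map_ne_zero _).2 hb)]
      linear_combination -hu
  have hrange : LinearMap.range g = L (conorm K D) := by
    ext z
    constructor
    · rintro ⟨u, rfl⟩; rw [hg]; exact (as_mem_L hdeg hy heq hodd hK D _ _).2 ⟨u.1.2, u.2.2⟩
    · intro hz
      obtain ⟨a, b, rfl⟩ := hdec z
      obtain ⟨ha, hb⟩ := (as_mem_L hdeg hy heq hodd hK D a b).1 hz
      exact ⟨(⟨a, ha⟩, ⟨b, hb⟩), hg _⟩
  rw [ell, ← hrange, LinearMap.finrank_range_of_inj hinj, Module.finrank_prod, ell, ell]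

include hdeg hy heq hodd in
theorem as_genus (hK : IsFunctionField k K) : (genus k K : ℤ) = (asDelta f).deg - 1 := by
  haveI : FiniteDimensional (RatFunc k) K := FiniteDimensional.of_finrank_pos (by omega)
  have hF := ratFunc_isFunctionField k
  obtain ⟨N, hN⟩ := exists_delta_large hK
  obtain ⟨E, -, hE⟩ := exists_effective_deg_ge hF (max N ((asDelta f).deg.natAbs))
  have h1 := hN (conorm K E) (by rw [deg_conorm hF, hdeg]; omega)
  rw [delta, as_ell hdeg hy heq hodd hK, deg_conorm hF, hdeg] at h1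
  have h2 := rat_ell E (by omega)
  have h3 := rat_ell (E - asDelta f) (by rw [deg_sub]; omega)
  rw [deg_sub] at h3
  push_cast at h1
  omega

/-- derivatives of integral elements are bounded by the derivative of a uniformizer -/
theorem val_D_bound {Q : Place k K} {P : Place k (RatFunc k)} {e : ℕ} (he : IsOverWith Q P e)
    {F : Type*} [Field F] [Algebra k F] {ψ : K →ₐ[k] LaurentSeries F} (hψ : LocRes.IsExpansionAt Q.1 ψ)
    {w : RatFunc k} (hw : P.1 w = exp (-1))
    (hc : ∀ u : RatFunc k, P.1 u ≤ 1 → ∃ c : RatFunc k, P.1 (u - c) < 1 ∧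
      Valued.v (LocRes.D F (ψ (algebraMap (RatFunc k) K c))) ≤ Valued.v (LocRes.D F (ψ (algebraMap (RatFunc k) K w))))
    (u : RatFunc k) (hu : P.1 u ≤ 1) :
    Valued.v (LocRes.D F (ψ (algebraMap (RatFunc k) K u))) ≤ Valued.v (LocRes.D F (ψ (algebraMap (RatFunc k) K w))) := by
  set B := Valued.v (LocRes.D F (ψ (algebraMap (RatFunc k) K w))) with hB
  have hw0 : w ≠ 0 := fun h => by rw [h, map_zero] at hw; exact exp_ne_zero hw.symm
  have he1 := isOverWith_pos he
  have hint : ∀ v : RatFunc k, P.1 v ≤ 1 → Valued.v (ψ (algebraMap (RatFunc k) K v)) ≤ 1 := fun v hv => by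
    rw [hψ.1, he]; exact pow_le_one₀ zero_le hv
  have key : ∀ n : ℕ, ∀ v : RatFunc k, P.1 v ≤ 1 →
      Valued.v (LocRes.D F (ψ (algebraMap (RatFunc k) K v))) ≤ max B (exp (-(n : ℤ))) := by
    intro n
    induction n with
    | zero => intro v hv; exact (val_D_le_one (hint v hv)).trans (le_max_of_le_right (by simp))
    | succ n ih =>
      intro v hv
      obtain ⟨c, hvc, hcB⟩ := hc v hv
      set v1 := (v - c) / w with hv1
      have hv1le : P.1 v1 ≤ 1 := by
        rw [hv1, map_div₀, hw, div_le_iff₀ exp_pos, one_mul, ← zero_sub (1 : ℤ), ← lt_exp_iff_le, exp_zero]; exact hvc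
      have e : v = c + w * v1 := by rw [hv1, mul_div_cancel₀ _ hw0]; ring
      rw [e, map_add, map_add, map_add, map_mul, map_mul, Derivation.leibniz, smul_eq_mul, smul_eq_mul]
      refine Valuation.map_add_le _ (le_max_of_le_left hcB) (Valuation.map_add_le _ ?_ ?_)
      · rw [map_mul]
        have hwle : Valued.v (ψ (algebraMap (RatFunc k) K w)) ≤ exp (-1 : ℤ) := by
          rw [hψ.1, he, hw, ← exp_nsmul, exp_le_exp, nsmul_eq_mul]; omega
        refine (mul_le_mul' hwle (ih v1 hv1le)).trans ?_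
        rcases le_total B (exp (-(n : ℤ))) with h | h
        · rw [max_eq_right h, ← exp_add]
          exact le_max_of_le_right (exp_le_exp.2 (by push_cast; omega))
        · rw [max_eq_left h]
          exact le_max_of_le_left (mul_le_of_le_one_left' (by rw [← exp_zero, exp_le_exp]; norm_num))
      · rw [map_mul]
        exact le_max_of_le_left (mul_le_of_le_one_left' (hint v1 hv1le))
  rcases eq_or_ne B 0 with h0 | h0
  · by_contra hne
    rw [h0, not_le] at hne
    obtain ⟨n, hn⟩ : ∃ n : ℕ, exp (-(n : ℤ)) < Valued.v (LocRes.D F (ψ (algebraMap (RatFunc k) K u))) := by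
      refine ⟨((-log (Valued.v (LocRes.D F (ψ (algebraMap (RatFunc k) K u))))) + 1).toNat, ?_⟩
      conv_rhs => rw [← exp_log hne.ne']
      rw [exp_lt_exp]; omega
    have := key n u hu
    rw [h0, max_eq_right zero_le] at this
    exact hn.not_ge this
  · refine (key (-log B).toNat u hu).trans (max_le le_rfl ?_)
    rw [← exp_log h0, exp_le_exp]
    simp only [log_exp]
    omega

include hdeg hy heq hodd in
theorem as_val_Dw {Q : Place k K} {P : Place k (RatFunc k)} {e : ℕ} (he : IsOverWith Q P e)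
    {F : Type*} [Field F] [Algebra k F] {ψ : K →ₐ[k] LaurentSeries F} (hψ : LocRes.IsExpansionAt Q.1 ψ)
    {w : RatFunc k} (hw : P.1 w = exp (-1))
    (hc : ∀ u : RatFunc k, P.1 u ≤ 1 → ∃ c : RatFunc k, P.1 (u - c) < 1 ∧
      Valued.v (LocRes.D F (ψ (algebraMap (RatFunc k) K c))) ≤ Valued.v (LocRes.D F (ψ (algebraMap (RatFunc k) K w)))) :
    Valued.v (LocRes.D F (ψ (algebraMap (RatFunc k) K w))) = exp (-(2 * asDelta f P)) := by
  have hy0 : y ≠ 0 := fun h => hy ⟨0, by rw [h, map_zero]⟩
  rw [asDelta_apply]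
  rcases as_local hdeg hy heq hodd he with ⟨hlt, rfl, hoy⟩ | ⟨hge, rfl, -⟩
  swap
  · rw [if_neg (by omega), mul_zero, neg_zero, exp_zero]
    exact val_D_param (by rw [hψ.1, he, hw, pow_one])
  rw [if_pos hlt]
  obtain ⟨m', hm⟩ := hodd P hlt
  set j := (-m').toNat with hj
  have hj0 : (j : ℤ) = -m' := by omega
  have hj1 : 1 ≤ j := by omega
  set m := 2 * j - 1 with hmdef
  have hmj : (m : ℤ) = -(2 * m' + 1) := by omega
  set W := ψ (algebraMap (RatFunc k) K w) with hW
  set Fl := ψ (algebraMap (RatFunc k) K f) with hFl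
  have hvW : Valued.v W = exp (-2 : ℤ) := by rw [hW, hψ.1, he, hw, ← exp_nsmul]; rfl
  have hf0 : f ≠ 0 := fun h => by rw [h, ord_zero] at hlt; omega
  have hvFl : Valued.v Fl = exp (2 * (m : ℤ)) := by
    rw [hFl, hψ.1, he, val_eq_exp P hf0, ← exp_nsmul, exp_inj, hm, nsmul_eq_mul]; push_cast; omega
  -- derivative of `f`
  have h2F : (2 : LaurentSeries F) = 0 := by
    rw [← map_ofNat ψ 2, show (2 : K) = 0 from CharTwo.two_eq_zero, map_zero]
  have hDF : LocRes.D F Fl = LocRes.D F (ψ y) := by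
    rw [hFl, ← heq, map_add, map_pow, map_add, sq, Derivation.leibniz, smul_eq_mul,
      show ψ y * LocRes.D F (ψ y) + ψ y * LocRes.D F (ψ y) = 2 * (ψ y * LocRes.D F (ψ y)) by ring, h2F, zero_mul, zero_add]
  obtain ⟨s, hs0, hs⟩ := exists_val_eq Q (-1)
  have hDs : Valued.v (LocRes.D F (ψ s)) = 1 := val_D_param (by rw [hψ.1, hs])
  have hvs : Valued.v (ψ s) = exp (-1) := by rw [hψ.1, hs]
  have hvy : Valued.v (ψ y) = exp (m : ℤ) := by rw [hψ.1, val_eq_exp Q hy0, hoy, hm, hmj]
  have hm2 : (m : LaurentSeries F) = 1 := by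
    obtain ⟨c, hc'⟩ : ∃ c, m = 2 * c + 1 := ⟨j - 1, by omega⟩
    rw [hc']; push_cast; rw [h2F]; ring
  have hDy : Valued.v (LocRes.D F (ψ y)) = exp ((m : ℤ) + 1) := by
    have hu : Valued.v (ψ y * ψ s ^ m) = 1 := by
      rw [map_mul, map_pow, hvy, hvs, ← exp_nsmul, ← exp_add, ← exp_zero, exp_inj, nsmul_eq_mul]; ring
    have hsum : LocRes.D F (ψ y * ψ s ^ m) = ψ y * (ψ s ^ (m - 1) * LocRes.D F (ψ s)) + ψ s ^ m * LocRes.D F (ψ y) := by
      rw [Derivation.leibniz, Derivation.leibniz_pow, smul_eq_mul, smul_eq_mul, smul_eq_mul, nsmul_eq_mul, hm2, one_mul]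
    have hfirst : Valued.v (ψ y * (ψ s ^ (m - 1) * LocRes.D F (ψ s))) = exp (1 : ℤ) := by
      rw [map_mul, map_mul, map_pow, hvy, hvs, hDs, mul_one, ← exp_nsmul, ← exp_add, exp_inj, nsmul_eq_mul]
      omega
    have hsec : Valued.v (ψ s ^ m * LocRes.D F (ψ y)) = exp (1 : ℤ) := by
      rw [eq_sub_of_add_eq' hsum.symm, Valuation.map_sub_eq_of_lt_right _ (by
        rw [hfirst]; exact (val_D_le_one hu.le).trans_lt (by rw [← exp_zero, exp_lt_exp]; norm_num)), hfirst]
    have h3 := congrArg (exp (m : ℤ) * ·) hsec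
    simp only [map_mul, map_pow, hvs, ← mul_assoc, ← exp_nsmul, ← exp_add, nsmul_eq_mul] at h3
    simpa using h3
  have hu : P.1 (f * w ^ m) ≤ 1 := by
    rw [map_mul, map_pow, hw, val_eq_exp P hf0, ← exp_nsmul, ← exp_add, ← exp_zero, exp_le_exp, nsmul_eq_mul, hm]
    omega
  have hbound := val_D_bound he hψ hw hc _ hu
  have hDu : LocRes.D F (ψ (algebraMap (RatFunc k) K (f * w ^ m))) =
      Fl * (W ^ (m - 1) * LocRes.D F W) + W ^ m * LocRes.D F (ψ y) := by
    rw [map_mul, map_mul, map_pow, map_pow, Derivation.leibniz, Derivation.leibniz_pow, smul_eq_mul, smul_eq_mul,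
      smul_eq_mul, nsmul_eq_mul, hm2, one_mul, ← hFl, ← hW, hDF]
  rw [hDu] at hbound
  set B := Valued.v (LocRes.D F W) with hB
  have hfirst : Valued.v (Fl * (W ^ (m - 1) * LocRes.D F W)) = exp (2 : ℤ) * B := by
    rw [map_mul, map_mul, map_pow, hvFl, hvW, ← mul_assoc, ← exp_nsmul, ← exp_add, nsmul_eq_mul]
    congr 2
    rw [Nat.cast_sub (by omega : 1 ≤ m)]; push_cast; ring
  have hsec : Valued.v (W ^ m * LocRes.D F (ψ y)) = exp (1 - (m : ℤ)) := by
    rw [map_mul, map_pow, hvW, hDy, ← exp_nsmul, ← exp_add, exp_inj, nsmul_eq_mul]; ring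
  have hB0 : B ≠ 0 := fun h0 => by
    rw [h0, mul_zero, map_eq_zero] at hfirst
    rw [hfirst, zero_add, hsec, h0, le_zero_iff] at hbound
    exact exp_ne_zero hbound
  have heqv : exp (2 : ℤ) * B = exp (1 - (m : ℤ)) := by
    rw [← hfirst, ← hsec]
    by_contra hne
    rw [Valuation.map_add_of_distinct_val _ hne, max_le_iff, hfirst, ← exp_log hB0, ← exp_add, exp_le_exp] at hbound
    omega
  rw [← exp_log hB0, ← exp_add, exp_inj] at heqv
  rw [← exp_log hB0, exp_inj]
  omega

omit [Algebra.IsSeparable (RatFunc k) K] [CharP K 2] in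
theorem aeval_X_alg (p : Polynomial k) :
    aeval (algebraMap (RatFunc k) K RatFunc.X) p = algebraMap (RatFunc k) K (algebraMap (Polynomial k) (RatFunc k) p) := by
  rw [aeval_algebraMap_apply, ← RatFunc.algebraMap_X, aeval_algebraMap_apply, aeval_X_left_apply]

include hdeg hy heq hodd in
/-- the divisor of `dx` -/
theorem as_dx [PerfectField k] (I : Place k (RatFunc k)) (hI : 1 < I.1 RatFunc.X) (Q : Place k K)
    {F : Type*} [Field F] [Algebra k F] {ψ : K →ₐ[k] LaurentSeries F} (hψ : LocRes.IsExpansionAt Q.1 ψ) :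
    Valued.v (LocRes.D F (ψ (algebraMap (RatFunc k) K RatFunc.X))) =
      exp (-(conorm K (asDelta f - (2 : ℤ) • Finsupp.single I 1) Q)) := by
  classical
  haveI : FiniteDimensional (RatFunc k) K := FiniteDimensional.of_finrank_pos (by omega)
  have hF := ratFunc_isFunctionField k
  have he := isOverWith_below (K' := K) hF.1 Q
  rw [conorm_apply hF.1, Finsupp.sub_apply, Finsupp.smul_apply, smul_eq_mul]
  set P := below (K' := K) hF.1 Q
  set e := eAt (K' := K) hF.1 Q
  have hΔe : (e : ℤ) * asDelta f P = 2 * asDelta f P := by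
    rcases as_local hdeg hy heq hodd he with ⟨-, h2, -⟩ | ⟨hge, -, -⟩
    · rw [h2]; rfl
    · rw [asDelta_apply, if_neg (by omega), mul_zero, mul_zero]
  set a := LocRes.D F (ψ (algebraMap (RatFunc k) K RatFunc.X)) with ha
  letI := ψ.toRingHom.toAlgebra
  haveI : IsScalarTower k K (LaurentSeries F) := LocRes.isScalarTower_exp ψ
  have hD : ∀ p : Polynomial k, LocRes.D F (ψ (algebraMap (RatFunc k) K (algebraMap (Polynomial k) (RatFunc k) p))) =
      ψ (algebraMap (RatFunc k) K (algebraMap (Polynomial k) (RatFunc k) (derivative p))) * a := fun p => by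
    rw [← aeval_X_alg, ← aeval_X_alg]
    exact (LocRes.dExp ψ).map_aeval p _
  rcases le_or_gt (P.1 RatFunc.X) 1 with hX | hX
  · have hPI : P ≠ I := fun h => (h ▸ hX).not_gt hI
    rw [Finsupp.single_eq_of_ne hPI, mul_zero, sub_zero, hΔe]
    obtain ⟨p, hp, hpP⟩ := exists_prime P hX
    have hvp := val_prime P hX hp hpP
    have hsep : p.Separable := PerfectField.separable_of_irreducible hp
    have hpd : P.1 (algebraMap (Polynomial k) (RatFunc k) (derivative p)) = 1 := by
      refine le_antisymm (poly_le_one P hX _) (not_lt.1 fun hlt => ?_)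
      exact hp.not_isUnit (IsCoprime.isUnit_of_dvd' hsep dvd_rfl ((hpP _).1 hlt))
    have hva : Valued.v (LocRes.D F (ψ (algebraMap (RatFunc k) K (algebraMap (Polynomial k) (RatFunc k) p)))) = Valued.v a := by
      rw [hD, map_mul, hψ.1, he, hpd, one_pow, one_mul]
    rw [← hva]
    refine as_val_Dw hdeg hy heq hodd he hψ hvp fun u hu => ?_
    obtain ⟨a', b, hb, rfl⟩ := repr_finite P hX hp hpP hu
    obtain ⟨s, t, hst⟩ : IsCoprime p b := hp.coprime_iff_not_dvd.2 hb
    refine ⟨algebraMap (Polynomial k) (RatFunc k) (a' * t), ?_, ?_⟩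
    · have hb1 : P.1 (algebraMap (Polynomial k) (RatFunc k) b) = 1 :=
        le_antisymm (poly_le_one P hX b) (not_lt.1 fun h => hb ((hpP b).1 h))
      have hb0 : algebraMap (Polynomial k) (RatFunc k) b ≠ 0 := fun h => by rw [h, map_zero] at hb1; exact zero_ne_one hb1
      rw [div_sub' hb0, map_div₀, hb1, div_one, ← map_mul, ← map_sub, hpP]
      exact ⟨a' * s, by linear_combination -a' * hst⟩
    · rw [hva, hD, map_mul, hψ.1, he]
      exact mul_le_of_le_one_left' (pow_le_one₀ zero_le (poly_le_one P hX _))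
  · obtain rfl : P = I := inf_unique hX hI
    rw [Finsupp.single_eq_same, mul_one, mul_sub, hΔe, show -(2 * asDelta f P - (e : ℤ) * 2) = -(2 * asDelta f P) + 2 * e by ring]
    have hvX := val_X_inf P hX
    have hw : P.1 (RatFunc.X : RatFunc k)⁻¹ = exp (-1) := by rw [map_inv₀, hvX, ← exp_neg]
    have h := as_val_Dw hdeg hy heq hodd he hψ hw fun u hu => by
      obtain ⟨c, hc⟩ := exists_const_inf P hX hu
      refine ⟨algebraMap k (RatFunc k) c, hc, ?_⟩
      rw [← IsScalarTower.algebraMap_apply, AlgHom.commutes]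
      rw [show algebraMap k (LaurentSeries F) c = HahnSeries.C (algebraMap k F c) from
        (ψ.commutes c).symm.trans (LocRes.map_algebraMap ψ c), ← LocRes.algebraMap_eq_C, Derivation.map_algebraMap, map_zero]
      exact zero_le
    rw [map_inv₀, map_inv₀, Derivation.leibniz_inv, smul_eq_mul, neg_mul, Valuation.map_neg, map_mul, ← ha, map_pow,
      map_inv₀, hψ.1, he, hvX, ← exp_nsmul, ← exp_neg, ← exp_nsmul] at h
    have h3 := congrArg (exp (2 * (e : ℤ)) * ·) h
    simp only [← mul_assoc, ← exp_add, nsmul_eq_mul] at h3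
    rw [show 2 * (e : ℤ) + ((2 : ℕ) : ℤ) * -((e : ℤ) * 1) = 0 by push_cast; ring, exp_zero, one_mul] at h3
    rw [h3]; congr 1; ring

end Groth.Agent.FunFldLib
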