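import Groth.Agent.FunFldLib.PlaneModel2
import Mathlib.RingTheory.Polynomial.UniqueFactorization

/-! The equation of a plane model: it generates the relations and has the degree of the map. -/

set_option autoImplicit false

open WithZero Polynomial

namespace Groth.Agent.FunFldLib

open FunFld

variable {k K : Type*} [Field k] [Field K] [Algebra k K]

/-- the kernel and the degree of a plane model -/
theorem plane_equation [IsAlgClosed k] (hK : IsFunctionField k K) {x y : K}
    (hxy : IntermediateField.adjoin k ({x, y} : Set K) = ⊤) {f : MvPolynomial (Fin 2) k}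
    (hf : Irreducible f) (hfxy : MvPolynomial.aeval ![x, y] f = 0) :
    (∀ g, MvPolynomial.aeval ![x, y] g = 0 → f ∣ g) ∧
      (f.totalDegree : ℤ) = (mapDiv k ![(1 : K), x, y]).deg := by
  classical
  obtain ⟨D, hE, -, s, t, hs, ht, hsz, htx, hts, hst⟩ := exists_pair hK x y hxy
  obtain ⟨d, hd⟩ : ∃ d, d = D.d := ⟨_, rfl⟩
  obtain ⟨q, hqdeg, hq⟩ : ∃ q : Fin d → k[X], (∀ (j : Fin d) (i : ℕ), d < i + (j : ℕ) → (q j).coeff i = 0) ∧
      D.w ^ d = ∑ j, aeval D.z (q j) * D.w ^ (j : ℕ) := hd ▸ D.exists_rel hK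
  let Θ : MvPolynomial (Fin 2) k →ₐ[k] k[X][X] :=
    MvPolynomial.aeval ![Polynomial.C Polynomial.X, Polynomial.X]
  let ev : k[X][X] →+* K := eval₂RingHom (aeval D.z : k[X] →ₐ[k] K).toRingHom D.w
  let Ξ : k[X][X] →+* MvPolynomial (Fin 2) k :=
    eval₂RingHom (aeval (MvPolynomial.X 0 : MvPolynomial (Fin 2) k)).toRingHom (MvPolynomial.X 1)
  have hevΘ : ∀ g, ev (Θ g) = MvPolynomial.aeval ![D.z, D.w] g := fun g => by
    induction g using MvPolynomial.induction_on with
    | C c => simp [ev, Θ]
    | add p r hp hr => simp only [map_add, hp, hr]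
    | mul_X p i hp =>
      simp only [map_mul, hp, MvPolynomial.aeval_X]
      congr 1
      fin_cases i <;> simp [ev, Θ]
  have hΞΘ : ∀ g, Ξ (Θ g) = g := fun g => by
    induction g using MvPolynomial.induction_on with
    | C c => simp [Ξ, Θ]
    | add p r hp hr => simp only [map_add, hp, hr]
    | mul_X p i hp =>
      simp only [map_mul, hp]
      congr 1
      fin_cases i <;> simp [Ξ, Θ]
  have hΞev : ∀ r, MvPolynomial.aeval ![D.z, D.w] (Ξ r) = ev r := fun r => by
    induction r using Polynomial.induction_on' with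
    | add p r hp hr => simp only [map_add, hp, hr]
    | monomial n c =>
      simp only [Ξ, ev, coe_eval₂RingHom, eval₂_monomial, AlgHom.toRingHom_eq_coe, RingHom.coe_coe,
        map_mul, map_pow, MvPolynomial.aeval_X]
      congr 1
      rw [← Polynomial.aeval_algHom_apply, MvPolynomial.aeval_X]
      rfl
  set R0 : k[X][X] := Polynomial.X ^ d - ∑ j : Fin d, Polynomial.C (q j) * Polynomial.X ^ (j : ℕ) with hR0
  have hlow : (∑ j : Fin d, Polynomial.C (q j) * Polynomial.X ^ (j : ℕ)).degree < (d : WithBot ℕ) :=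
    (degree_sum_le _ _).trans_lt ((Finset.sup_lt_iff (WithBot.bot_lt_coe d)).2 fun j _ =>
      (degree_C_mul_X_pow_le _ _).trans_lt (WithBot.coe_lt_coe.2 j.2))
  have hmon : R0.Monic := (monic_X_pow d).sub_of_left (by rwa [degree_X_pow])
  have hdeg0 : R0.natDegree = d := by
    refine natDegree_eq_of_degree_eq_some ?_
    rw [hR0, degree_sub_eq_left_of_degree_lt (by rwa [degree_X_pow]), degree_X_pow]
  have hev0 : ev R0 = 0 := by
    simp only [hR0, map_sub, map_pow, map_sum, map_mul]
    simp [ev, ← hq]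
  have hd0 : 0 < d := hd ▸ D.d_pos hK.1
  have hdiv : ∀ g, MvPolynomial.aeval ![D.z, D.w] g = 0 → Ξ R0 ∣ g := by
    intro g hg
    set r := Θ g %ₘ R0 with hr
    have hr0 : ev r = 0 := by
      have := congrArg ev (modByMonic_add_div (Θ g) R0)
      rwa [map_add, map_mul, hev0, zero_mul, add_zero, hevΘ, hg] at this
    have hrd : r.natDegree < d := by
      rw [← hdeg0]
      exact natDegree_modByMonic_lt _ hmon fun h => by rw [h, natDegree_one] at hdeg0; omega
    have hrz : r = 0 := by
      have hc := (hd ▸ coords_unique hK D.trans D.gen : ∀ p p' : Fin d → k[X],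
        ∑ j, aeval D.z (p j) * D.w ^ (j : ℕ) = ∑ j, aeval D.z (p' j) * D.w ^ (j : ℕ) → p = p')
        (fun j => r.coeff j) (fun _ => 0) (by
        have h1 : ev r = ∑ j : Fin d, aeval D.z (r.coeff j) * D.w ^ (j : ℕ) := by
          simp only [ev, coe_eval₂RingHom, eval₂_eq_sum_range' _ hrd, AlgHom.toRingHom_eq_coe, RingHom.coe_coe]
          exact (Fin.sum_univ_eq_sum_range (fun i => aeval D.z (r.coeff i) * D.w ^ i) d).symm
        rw [← h1, hr0]
        simp)
      refine Polynomial.ext fun n => ?_
      rcases Nat.lt_or_ge n d with h | h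
      · simpa using congrFun hc ⟨n, h⟩
      · rw [coeff_zero]; exact coeff_eq_zero_of_natDegree_lt (hrd.trans_le h)
    have := congrArg Ξ (modByMonic_add_div (Θ g) R0)
    rw [← hr, hrz, zero_add, map_mul, hΞΘ] at this
    exact ⟨_, this.symm⟩
  have hdegR : (Ξ R0).totalDegree ≤ d := by
    have hXi : ∀ (p : k[X]) (j : ℕ), (∀ i, d < i + j → p.coeff i = 0) →
        ((aeval (MvPolynomial.X 0 : MvPolynomial (Fin 2) k) p) * MvPolynomial.X 1 ^ j).totalDegree ≤ d := by
      intro p j hp
      rw [aeval_eq_sum_range, Finset.sum_mul]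
      refine (MvPolynomial.totalDegree_finsetSum _ _).trans (Finset.sup_le fun i _ => ?_)
      by_cases hi : d < i + j
      · simp [hp i hi]
      · refine (MvPolynomial.totalDegree_mul _ _).trans ?_
        have h1 : (p.coeff i • (MvPolynomial.X 0 : MvPolynomial (Fin 2) k) ^ i).totalDegree ≤ i :=
          (MvPolynomial.totalDegree_smul_le _ _).trans ((MvPolynomial.totalDegree_pow _ _).trans
            (by rw [MvPolynomial.totalDegree_X]; omega))
        have h2 : ((MvPolynomial.X 1 : MvPolynomial (Fin 2) k) ^ j).totalDegree ≤ j :=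
          (MvPolynomial.totalDegree_pow _ _).trans (by rw [MvPolynomial.totalDegree_X]; omega)
        omega
    simp only [hR0, map_sub, map_pow, map_sum, map_mul]
    refine (MvPolynomial.totalDegree_sub _ _).trans (max_le ?_ ?_)
    · refine (MvPolynomial.totalDegree_pow _ _).trans ?_
      simp [Ξ]
    · refine (MvPolynomial.totalDegree_finsetSum _ _).trans (Finset.sup_le fun j _ => ?_)
      have := hXi (q j) j (hqdeg j)
      simpa [Ξ] using this
  -- transport to `(x, y)`
  set f' := MvPolynomial.aeval s f with hf'def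
  have hcomp : ∀ g, MvPolynomial.aeval ![x, y] (MvPolynomial.aeval t g) = MvPolynomial.aeval ![D.z, D.w] g :=
    fun g => by
      rw [MvPolynomial.comp_aeval_apply]
      congr 2
      funext i; exact htx i
  have hcomp' : ∀ g, MvPolynomial.aeval ![D.z, D.w] (MvPolynomial.aeval s g) = MvPolynomial.aeval ![x, y] g :=
    fun g => by
      rw [MvPolynomial.comp_aeval_apply]
      congr 2
      funext i; exact hsz i
  have hinv : ∀ g, MvPolynomial.aeval t (MvPolynomial.aeval s g) = g := fun g => by
    rw [MvPolynomial.comp_aeval_apply, show (fun i => MvPolynomial.aeval t (s i)) = MvPolynomial.X from funext hts,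
      MvPolynomial.aeval_X_left_apply]
  set R' := MvPolynomial.aeval t (Ξ R0) with hR'
  have hR'0 : MvPolynomial.aeval ![x, y] R' = 0 := by rw [hR', hcomp, hΞev, hev0]
  have hdvd : ∀ g, MvPolynomial.aeval ![x, y] g = 0 → R' ∣ g := fun g hg => by
    obtain ⟨c, hc⟩ := hdiv (MvPolynomial.aeval s g) (by rw [hcomp', hg])
    refine ⟨MvPolynomial.aeval t c, ?_⟩
    rw [hR', ← map_mul, ← hc, hinv]
  have hassoc : Associated f R' := by
    obtain ⟨c, hc⟩ := hdvd f hfxy
    rcases hf.isUnit_or_isUnit hc with h | h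
    · exact absurd hR'0 ((h.map (MvPolynomial.aeval ![x, y])).ne_zero)
    · exact ⟨h.unit⁻¹, by rw [hc, mul_assoc, IsUnit.mul_val_inv, mul_one]⟩
  refine ⟨fun g hg => hassoc.dvd.trans (hdvd g hg), ?_⟩
  have hR'ne : R' ≠ 0 := (hassoc.ne_zero_iff).1 hf.ne_zero
  have hle : f.totalDegree ≤ d := by
    obtain ⟨c, hc⟩ := hassoc
    have h1 : f = R' * ↑c⁻¹ := by rw [← hc, mul_assoc, Units.mul_inv, mul_one]
    obtain ⟨a, -, ha⟩ := MvPolynomial.isUnit_iff_eq_C_of_isReduced.1 (c⁻¹).isUnit
    rw [h1, ha]
    refine (MvPolynomial.totalDegree_mul _ _).trans ?_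
    rw [MvPolynomial.totalDegree_C, add_zero]
    exact (mv_totalDegree_aeval_le t ht _).trans hdegR
  have hge : d ≤ f.totalDegree := by
    have hf'0 : MvPolynomial.aeval ![D.z, D.w] f' = 0 := by rw [hf'def, hcomp', hfxy]
    obtain ⟨c, hc⟩ := hdiv f' hf'0
    have hf'ne : f' ≠ 0 := fun h => hf.ne_zero (by rw [← hinv f, ← hf'def, h, map_zero])
    have hΘne : Θ f' ≠ 0 := fun h => hf'ne (by rw [← hΞΘ f', h, map_zero])
    have hle2 : ∀ g : MvPolynomial (Fin 2) k, (Θ g).natDegree ≤ g.totalDegree := fun g => by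
      conv_lhs => rw [g.as_sum, map_sum]
      refine natDegree_sum_le_of_forall_le _ _ fun e he => ?_
      have h1 := MvPolynomial.le_totalDegree he
      rw [Finsupp.sum_fintype _ _ (fun _ => rfl), Fin.sum_univ_two] at h1
      simp only [Θ, MvPolynomial.aeval_monomial, Finsupp.prod_fintype _ _ (fun i => pow_zero _), Fin.prod_univ_two,
        Matrix.cons_val_zero, Matrix.cons_val_one]
      refine natDegree_mul_le.trans ?_
      have h2 : (algebraMap k k[X][X] (MvPolynomial.coeff e g)).natDegree = 0 := by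
        rw [IsScalarTower.algebraMap_apply k k[X] k[X][X], Polynomial.algebraMap_eq, natDegree_C]
      have h3 : ((Polynomial.C Polynomial.X : k[X][X]) ^ e 0 * Polynomial.X ^ e 1).natDegree ≤ e 1 := by
        rw [← Polynomial.C_pow]
        exact natDegree_C_mul_X_pow_le _ _
      omega
    have h4 : R0 ∣ Θ f' := by
      rw [← modByMonic_eq_zero_iff_dvd hmon]
      set r := Θ f' %ₘ R0 with hr
      have hrd : r.natDegree < d := by
        rw [← hdeg0]
        exact natDegree_modByMonic_lt _ hmon fun h => by rw [h, natDegree_one] at hdeg0; omega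
      have hr0 : ev r = 0 := by
        have := congrArg ev (modByMonic_add_div (Θ f') R0)
        rwa [map_add, map_mul, hev0, zero_mul, add_zero, hevΘ, hf'0] at this
      have hc := (hd ▸ coords_unique hK D.trans D.gen : ∀ p p' : Fin d → k[X],
        ∑ j, aeval D.z (p j) * D.w ^ (j : ℕ) = ∑ j, aeval D.z (p' j) * D.w ^ (j : ℕ) → p = p')
        (fun j => r.coeff j) (fun _ => 0) (by
        have h1 : ev r = ∑ j : Fin d, aeval D.z (r.coeff j) * D.w ^ (j : ℕ) := by
          simp only [ev, coe_eval₂RingHom, eval₂_eq_sum_range' _ hrd, AlgHom.toRingHom_eq_coe, RingHom.coe_coe]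
          exact (Fin.sum_univ_eq_sum_range (fun i => aeval D.z (r.coeff i) * D.w ^ i) d).symm
        rw [← h1, hr0]
        simp)
      refine Polynomial.ext fun n => ?_
      rcases Nat.lt_or_ge n d with h | h
      · simpa using congrFun hc ⟨n, h⟩
      · rw [coeff_zero]; exact coeff_eq_zero_of_natDegree_lt (hrd.trans_le h)
    have := natDegree_le_of_dvd h4 hΘne
    exact (hdeg0.ge.trans this).trans ((hle2 f').trans (mv_totalDegree_aeval_le s hs f))
  rw [← hE, D.deg_E hK.1, le_antisymm hle hge, hd]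

end Groth.Agent.FunFldLib
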