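import Groth.Agent.FunFldLib.Cor
import Groth.Prelude.Def_W4bk4goldsch45

/-! Divisors of projective maps, image points and local rings. -/

set_option autoImplicit false

open WithZero IsLocalRing

namespace Groth.Agent.FunFldLib

open FunFld

variable {k K : Type*} [Field k] [Field K] [Algebra k K]

/-- `E` is the divisor of the linear system `V`. -/
def Exact (V : Submodule k K) (E : Divisor k K) : Prop :=
  (∀ v ∈ V, ∀ Q : Place k K, Q.1 v ≤ exp (E Q)) ∧ ∀ Q : Place k K, ∃ v ∈ V, Q.1 v = exp (E Q)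

theorem Exact.nonneg {V : Submodule k K} {E : Divisor k K} (h : Exact V E) (h1 : (1 : K) ∈ V) :
    ∀ Q : Place k K, 0 ≤ E Q := fun Q => by
  have := h.1 1 h1 Q
  rwa [map_one, ← exp_zero, exp_le_exp] at this

theorem Exact.scale (hK : IsFF k K) {V : Submodule k K} {E : Divisor k K} (h : Exact V E) {v : K} (hv : v ≠ 0) :
    Exact (V.map (LinearMap.mulLeft k v⁻¹)) (E + div k v) := by
  have key : ∀ (Q : Place k K) (x : K), Q.1 (v⁻¹ * x) = exp (div k v Q) * Q.1 x := fun Q x => by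
    rw [map_mul, map_inv₀, val_eq_exp Q hv, ← exp_neg, neg_neg, div_apply hK]
  refine ⟨?_, fun Q => ?_⟩
  · rintro _ ⟨x, hx, rfl⟩ Q
    rw [LinearMap.mulLeft_apply, key, Finsupp.add_apply, add_comm, exp_add]
    exact mul_le_mul' le_rfl (h.1 x hx Q)
  · obtain ⟨x, hx, hxQ⟩ := h.2 Q
    exact ⟨_, Submodule.mem_map_of_mem hx, by
      rw [LinearMap.mulLeft_apply, key, hxQ, ← exp_add, Finsupp.add_apply, add_comm]⟩

theorem mapDiv_spec {ι : Type*} [Fintype ι] [Nonempty ι] (hK : IsFF k K) (φ : ι → K)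
    (hφ : (∀ i, φ i ≠ 0) ∨ ∃ i, φ i = 1) :
    (∀ (P : Place k K) (i : ι), P.1 (φ i) ≤ exp (mapDiv k φ P)) ∧
      ∀ P : Place k K, ∃ i, φ i ≠ 0 ∧ P.1 (φ i) = exp (mapDiv k φ P) := by
  classical
  have hfin : (Function.support fun P : Place k K =>
      -Finset.univ.inf' Finset.univ_nonempty (fun i => P.ord (φ i))).Finite := by
    refine ((Set.finite_univ (α := ι)).biUnion fun i _ => finite_support_ord' hK (φ i)).subset fun P hP => ?_
    obtain ⟨i, -, hi⟩ := Finset.exists_mem_eq_inf' Finset.univ_nonempty (fun i => P.ord (φ i))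
    refine Set.mem_biUnion (Set.mem_univ i) ?_
    rw [Function.mem_support] at hP ⊢
    intro h0
    exact hP (by rw [hi, h0, neg_zero])
  have hE : ∀ P : Place k K, mapDiv k φ P = -Finset.univ.inf' Finset.univ_nonempty (fun i => P.ord (φ i)) := fun P => by
    rw [mapDiv, dif_pos hfin]; rfl
  refine ⟨fun P i => ?_, fun P => ?_⟩
  · rcases eq_or_ne (φ i) 0 with h | h
    · simp [h]
    rw [hE, val_le_exp_iff P h, neg_neg]
    exact Finset.inf'_le _ (Finset.mem_univ i)
  · obtain ⟨i, -, hi⟩ := Finset.exists_mem_eq_inf' Finset.univ_nonempty (fun i => P.ord (φ i))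
    by_cases h : φ i = 0
    · rcases hφ with h' | ⟨i0, h0⟩
      · exact absurd h (h' i)
      refine ⟨i0, h0 ▸ one_ne_zero, ?_⟩
      rw [hE, hi, h, ord_zero, neg_zero, h0, map_one, exp_zero]
    · exact ⟨i, h, by rw [hE, hi, val_eq_exp P h]⟩

theorem mapDiv_exact {ι : Type*} [Fintype ι] [Nonempty ι] (hK : IsFF k K) (φ : ι → K)
    (hφ : (∀ i, φ i ≠ 0) ∨ ∃ i, φ i = 1) :
    Exact (Submodule.span k (Set.range φ)) (mapDiv k φ) := by
  obtain ⟨h1, h2⟩ := mapDiv_spec hK φ hφ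
  refine ⟨fun v hv Q => ?_, fun Q => ?_⟩
  · refine Submodule.span_induction (fun x hx => ?_) (by simp) (fun x y _ _ hx hy => ?_) (fun c x _ hx => ?_) hv
    · obtain ⟨i, rfl⟩ := hx; exact h1 Q i
    · exact (Q.1.map_add x y).trans (max_le hx hy)
    · exact (val_smul_le Q c x).trans hx
  · obtain ⟨i, -, hi⟩ := h2 Q
    exact ⟨φ i, Submodule.subset_span ⟨i, rfl⟩, hi⟩

theorem exists_chart {ι : Type*} [Fintype ι] [Nonempty ι] (hK : IsFF k K) (φ : ι → K)
    (hφ : (∀ i, φ i ≠ 0) ∨ ∃ i, φ i = 1) (P : Place k K) :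
    ∃ j, φ j ≠ 0 ∧ P.1 (φ j) = exp (mapDiv k φ P) ∧ ∀ i, P.1 (φ i) ≤ P.1 (φ j) := by
  obtain ⟨h1, h2⟩ := mapDiv_spec hK φ hφ
  obtain ⟨j, hj0, hj⟩ := h2 P
  exact ⟨j, hj0, hj, fun i => hj ▸ h1 P i⟩

theorem chart_eq {ι : Type*} [Fintype ι] [Nonempty ι] (hK : IsFF k K) (φ : ι → K)
    (hφ : (∀ i, φ i ≠ 0) ∨ ∃ i, φ i = 1) {P : Place k K} {j : ι} (hj : ∀ i, P.1 (φ i) ≤ P.1 (φ j)) :
    P.1 (φ j) = exp (mapDiv k φ P) := by
  obtain ⟨h1, h2⟩ := mapDiv_spec hK φ hφ
  obtain ⟨i, -, hi⟩ := h2 P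
  exact le_antisymm (h1 P j) (hi ▸ hj i)

theorem mul_mem_L {D E : Divisor k K} {x y : K} (hx : x ∈ L D) (hy : y ∈ L E) : x * y ∈ L (D + E) := fun P => by
  rw [map_mul, Finsupp.add_apply, exp_add]
  exact mul_le_mul' (hx P) (hy P)

theorem exists_const [IsAlgClosed k] (hK : IsFunctionField k K) (P : Place k K) {y : K} (hy : P.1 y ≤ 1) :
    ∃ c : k, P.1 (y - algebraMap k K c) < 1 := by
  obtain ⟨c, hc⟩ := exists_const_sub P (deg_eq_one hK P) (one_ne_zero (α := K)) (y := y) (by rwa [map_one])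
  exact ⟨c, by rwa [map_one, ← Algebra.algebraMap_eq_smul_one] at hc⟩

theorem const_eq_zero {P : Place k K} {c : k} (h : P.1 (algebraMap k K c) < 1) : c = 0 := by
  by_contra hc
  rw [val_algebraMap P hc] at h
  exact lt_irrefl _ h

theorem const_unique {P : Place k K} {y : K} {c c' : k} (h : P.1 (y - algebraMap k K c) < 1)
    (h' : P.1 (y - algebraMap k K c') < 1) : c = c' := by
  refine sub_eq_zero.1 (const_eq_zero (P := P) ?_)
  rw [map_sub, show algebraMap k K c - algebraMap k K c' = (y - algebraMap k K c') - (y - algebraMap k K c) by ring]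
  exact (P.1.map_sub _ _).trans_lt (max_lt h' h)

/-- the subalgebra of functions congruent to one constant modulo `r` at `P` and `s` at `Q` -/
def congrAlg (P Q : Place k K) (r s : WithZero (Multiplicative ℤ)) (hr : r ≤ 1) (hs : s ≤ 1) :
    Subalgebra k K where
  carrier := {f | ∃ c : k, P.1 (f - algebraMap k K c) ≤ r ∧ Q.1 (f - algebraMap k K c) ≤ s}
  algebraMap_mem' c := ⟨c, by simp, by simp⟩
  zero_mem' := ⟨0, by simp, by simp⟩
  one_mem' := ⟨1, by simp, by simp⟩
  add_mem' := by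
    rintro f g ⟨c, h1, h2⟩ ⟨c', h1', h2'⟩
    refine ⟨c + c', ?_, ?_⟩ <;>
      rw [map_add, show f + g - (algebraMap k K c + algebraMap k K c') = (f - algebraMap k K c) + (g - algebraMap k K c') by ring]
    · exact (P.1.map_add _ _).trans (max_le h1 h1')
    · exact (Q.1.map_add _ _).trans (max_le h2 h2')
  mul_mem' := by
    rintro f g ⟨c, h1, h2⟩ ⟨c', h1', h2'⟩
    have key : ∀ (R : Place k K) (t : WithZero (Multiplicative ℤ)), t ≤ 1 → R.1 (f - algebraMap k K c) ≤ t →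
        R.1 (g - algebraMap k K c') ≤ t → R.1 (f * g - algebraMap k K (c * c')) ≤ t := by
      intro R t ht a b
      have hg : R.1 g ≤ 1 := by
        rw [show g = (g - algebraMap k K c') + algebraMap k K c' by ring]
        exact (R.1.map_add _ _).trans (max_le (b.trans ht) (R.2.1 c'))
      rw [map_mul, show f * g - algebraMap k K c * algebraMap k K c' =
        (f - algebraMap k K c) * g + algebraMap k K c * (g - algebraMap k K c') by ring]
      refine (R.1.map_add _ _).trans (max_le ?_ ?_)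
      · rw [map_mul]; exact (mul_le_mul' a hg).trans (mul_one t).le
      · rw [map_mul]; exact (mul_le_mul' (R.2.1 c) b).trans (one_mul t).le
    exact ⟨c * c', key P r hr h1 h1', key Q s hs h2 h2'⟩

theorem exp_neg_one_lt_one : (exp (-1) : WithZero (Multiplicative ℤ)) < 1 := by
  rw [← exp_zero, exp_lt_exp]; omega

theorem lt_one_iff_le (P : Place k K) (z : K) : P.1 z < 1 ↔ P.1 z ≤ exp (-1) := by
  have := lt_exp_iff_le P z 0
  rwa [exp_zero, zero_sub] at this

/-- all elements of the local ring are congruent at `P` and `Q` when the image points agree -/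
theorem sameImage_inLoc {ι : Type*} (φ : ι → K) {P Q : Place k K} (h : SameImage φ P Q) {z : K}
    (hz : InLocRing φ P z) : Q.1 z ≤ 1 ∧ (Q.1 z < 1 ↔ P.1 z < 1) := by
  obtain ⟨j, hj0, hjP, hjQ, hc⟩ := h
  obtain ⟨j', hj0', hjP', u, hu, w, hw, hw1, hzw⟩ := hz
  obtain ⟨cj, hcP, hcQ⟩ := hc j'
  have hP1 : P.1 (φ j' / φ j) = 1 := by
    rw [map_div₀, le_antisymm (hjP j') (hjP' j), div_self (val_ne_zero P hj0)]
  have hcj : cj ≠ 0 := fun h0 => by
    rw [h0, map_zero, sub_zero, hP1] at hcP; exact lt_irrefl _ hcP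
  have hQ1 : Q.1 (φ j' / φ j) = 1 := by
    rw [show φ j' / φ j = (φ j' / φ j - algebraMap k K cj) + algebraMap k K cj by ring,
      Valuation.map_add_eq_of_lt_right Q.1 (by rwa [val_algebraMap Q hcj]) , val_algebraMap Q hcj]
  have hsub : Algebra.adjoin k (Set.range fun i => φ i / φ j') ≤
      congrAlg P Q (exp (-1)) (exp (-1)) exp_neg_one_lt_one.le exp_neg_one_lt_one.le := by
    refine Algebra.adjoin_le ?_
    rintro _ ⟨i, rfl⟩
    obtain ⟨ci, hiP, hiQ⟩ := hc i
    have key : ∀ R : Place k K, R.1 (φ j' / φ j) = 1 → R.1 (φ j' / φ j - algebraMap k K cj) < 1 →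
        R.1 (φ i / φ j - algebraMap k K ci) < 1 → R.1 (φ i / φ j' - algebraMap k K (ci / cj)) ≤ exp (-1) := by
      intro R h1 h2 h3
      rw [← lt_one_iff_le]
      have hne : φ j' / φ j ≠ 0 := div_ne_zero hj0' hj0
      rw [show φ i / φ j' - algebraMap k K (ci / cj) =
        ((φ i / φ j - algebraMap k K ci) - algebraMap k K (ci / cj) * (φ j' / φ j - algebraMap k K cj)) / (φ j' / φ j) by
          rw [map_div₀]; field_simp [(map_ne_zero (algebraMap k K)).2 hcj]; ring]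
      rw [map_div₀, h1, div_one]
      refine (R.1.map_sub _ _).trans_lt (max_lt h3 ?_)
      rw [map_mul]
      exact (mul_le_of_le_one_left' (R.2.1 _)).trans_lt h2
    exact ⟨ci / cj, key P hP1 hcP hiP, key Q hQ1 hcQ hiQ⟩
  obtain ⟨cu, huP, huQ⟩ := hsub hu
  obtain ⟨cw, hwP, hwQ⟩ := hsub hw
  rw [← lt_one_iff_le] at huP huQ hwP hwQ
  have hcw : cw ≠ 0 := fun h0 => by
    rw [h0, map_zero, sub_zero, hw1] at hwP; exact lt_irrefl _ hwP
  have hwQ1 : Q.1 w = 1 := by
    rw [show w = (w - algebraMap k K cw) + algebraMap k K cw by ring,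
      Valuation.map_add_eq_of_lt_right Q.1 (by rwa [val_algebraMap Q hcw]), val_algebraMap Q hcw]
  have hzP : P.1 z = P.1 u := by rw [← hzw, map_mul, hw1, mul_one]
  have hzQ : Q.1 z = Q.1 u := by rw [← hzw, map_mul, hwQ1, mul_one]
  rw [hzP, hzQ]
  constructor
  · rw [show u = (u - algebraMap k K cu) + algebraMap k K cu by ring]
    exact (Q.1.map_add _ _).trans (max_le huQ.le (Q.2.1 cu))
  · constructor <;> intro h'
    · have : cu = 0 := const_unique (y := u) huQ (by simpa using h')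
      simpa [this] using huP
    · have : cu = 0 := const_unique (y := u) huP (by simpa using h')
      simpa [this] using huQ

theorem inLoc_of_chart {ι : Type*} (φ : ι → K) (P : Place k K) {j : ι} (hj0 : φ j ≠ 0)
    (hj : ∀ i, P.1 (φ i) ≤ P.1 (φ j)) {z : K} (hz : z ∈ Algebra.adjoin k (Set.range fun i => φ i / φ j)) :
    InLocRing φ P z := ⟨j, hj0, hj, z, hz, 1, one_mem _, map_one _, mul_one z⟩

theorem inLoc_le_one {ι : Type*} (φ : ι → K) (P : Place k K) {z : K} (hz : InLocRing φ P z) : P.1 z ≤ 1 := by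
  obtain ⟨j, hj0, hj, u, hu, w, -, hw1, hzw⟩ := hz
  have hle : Algebra.adjoin k (Set.range fun i => φ i / φ j) ≤ congrAlg P P 1 1 le_rfl le_rfl := by
    refine Algebra.adjoin_le ?_
    rintro _ ⟨i, rfl⟩
    refine ⟨0, ?_, ?_⟩ <;>
    · rw [map_zero, sub_zero, map_div₀]
      exact div_le_one_of_le₀ (hj i) zero_le
  obtain ⟨c, hc, -⟩ := hle hu
  have hu1 : P.1 u ≤ 1 := by
    rw [show u = (u - algebraMap k K c) + algebraMap k K c by ring]
    exact (P.1.map_add _ _).trans (max_le hc (P.2.1 c))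
  rwa [← hzw, map_mul, hw1, mul_one] at hu1

/-- codimension step -/
theorem finrank_inf_succ [IsAlgClosed k] (hK : IsFunctionField k K) (V : Submodule k K) [FiniteDimensional k V]
    (D : Divisor k K) (P : Place k K) :
    (∀ v ∈ V ⊓ L D, P.1 v ≤ exp (D P - 1)) ∧
        Module.finrank k ↥(V ⊓ L (D - Finsupp.single P 1)) = Module.finrank k ↥(V ⊓ L D) ∨
    (∃ v ∈ V ⊓ L D, P.1 v = exp (D P)) ∧
        Module.finrank k ↥(V ⊓ L (D - Finsupp.single P 1)) + 1 = Module.finrank k ↥(V ⊓ L D) := by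
  classical
  have hmem : ∀ x : K, x ∈ L (D - Finsupp.single P 1) ↔ x ∈ L D ∧ P.1 x ≤ exp (D P - 1) := fun x => by
    constructor
    · refine fun h => ⟨fun R => (h R).trans (exp_le_exp.2 ?_), (h P).trans (exp_le_exp.2 ?_)⟩
      · rw [Finsupp.sub_apply, Finsupp.single_apply]; split_ifs <;> omega
      · rw [Finsupp.sub_apply, Finsupp.single_eq_same]
    · rintro ⟨h, hP⟩ R
      rw [Finsupp.sub_apply, Finsupp.single_apply]
      split_ifs with hR
      · exact hR ▸ hP
      · rw [sub_zero]; exact h R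
  by_cases h : ∀ v ∈ V ⊓ L D, P.1 v ≤ exp (D P - 1)
  · refine Or.inl ⟨h, ?_⟩
    rw [show V ⊓ L (D - Finsupp.single P 1) = V ⊓ L D from ?_]
    ext x
    exact ⟨fun hx => ⟨hx.1, ((hmem x).1 hx.2).1⟩, fun hx => ⟨hx.1, (hmem x).2 ⟨hx.2, h x hx⟩⟩⟩
  push Not at h
  obtain ⟨v, hv, hvP⟩ := h
  have hv0 : v ≠ 0 := fun h0 => by simp [h0] at hvP
  have hvP' : P.1 v = exp (D P) := le_antisymm (hv.2 P) (not_lt.1 fun h' =>
    hvP.not_ge ((lt_exp_iff_le P v _).1 h'))
  refine Or.inr ⟨⟨v, hv, hvP'⟩, ?_⟩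
  have hsup : V ⊓ L D = (V ⊓ L (D - Finsupp.single P 1)) ⊔ Submodule.span k {v} := by
    refine le_antisymm (fun y hy => ?_) (sup_le (fun x hx => ⟨hx.1, ((hmem x).1 hx.2).1⟩)
      ((Submodule.span_singleton_le_iff_mem v _).2 hv))
    obtain ⟨c, hc⟩ := exists_const_sub P (deg_eq_one hK P) hv0 (y := y) (hvP' ▸ hy.2 P)
    have hmv : y - c • v ∈ V ⊓ L D := sub_mem hy (Submodule.smul_mem _ c hv)
    exact Submodule.mem_sup.2 ⟨y - c • v, ⟨hmv.1, (hmem _).2 ⟨hmv.2, (lt_exp_iff_le P _ _).1 (hvP' ▸ hc)⟩⟩,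
      c • v, Submodule.smul_mem _ _ (Submodule.mem_span_singleton_self v), by abel⟩
  have hdis : (V ⊓ L (D - Finsupp.single P 1)) ⊓ Submodule.span k {v} = ⊥ :=
    ((Submodule.disjoint_span_singleton' hv0).2 fun hx => hvP.not_ge (((hmem v).1 (Submodule.mem_inf.1 hx).2).2)).eq_bot
  haveI : FiniteDimensional k ↥(V ⊓ L (D - Finsupp.single P 1)) := Submodule.finiteDimensional_of_le inf_le_left
  have h1 := Submodule.finrank_sup_add_finrank_inf_eq (V ⊓ L (D - Finsupp.single P 1)) (Submodule.span k {v})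
  rw [hdis, finrank_bot, finrank_span_singleton hv0, ← hsup] at h1
  omega

end Groth.Agent.FunFldLib
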