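import Groth.Agent.FunFldLib.Extension
import Groth.Agent.FunFldLib.MapDiv
import Mathlib.LinearAlgebra.Dimension.Finrank

/-! An endomorphism of a function field as an extension; degrees of transformed maps. -/

set_option autoImplicit false

open WithZero

namespace Groth.Agent.FunFldLib

open FunFld

variable {k K : Type*} [Field k] [Field K] [Algebra k K]

/-- `K` as an extension of itself along `τ` -/
@[nolint unusedArguments]
def Twist (_τ : K →ₐ[k] K) : Type _ := K

variable (τ : K →ₐ[k] K)

noncomputable instance : Field (Twist τ) := inferInstanceAs (Field K)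

noncomputable instance : Algebra k (Twist τ) := inferInstanceAs (Algebra k K)

noncomputable instance : Algebra K (Twist τ) := τ.toRingHom.toAlgebra

instance : IsScalarTower k K (Twist τ) := IsScalarTower.of_algebraMap_eq fun c => (τ.commutes c).symm

theorem finrank_twist : Module.finrank K (Twist τ) = Module.finrank τ.fieldRange K := by
  refine Algebra.finrank_eq_of_equiv_equiv (AlgEquiv.ofInjectiveField τ).toRingEquiv (RingEquiv.refl K) ?_
  exact RingHom.ext fun x => rfl

theorem finite_fieldRange (hK : IsFunctionField k K) : FiniteDimensional τ.fieldRange K := by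
  obtain ⟨x, hx, -⟩ := hK.1
  have hy : Transcendental k (τ x) := fun h => hx ((isAlgebraic_algHom_iff τ τ.toRingHom.injective).1 h)
  haveI := finite_adjoin hK.1 hy
  have hle : IntermediateField.adjoin k ({τ x} : Set K) ≤ τ.fieldRange :=
    IntermediateField.adjoin_simple_le_iff.2 ⟨x, rfl⟩
  letI : Algebra (IntermediateField.adjoin k ({τ x} : Set K)) τ.fieldRange := (IntermediateField.inclusion hle).toRingHom.toAlgebra
  haveI : IsScalarTower (IntermediateField.adjoin k ({τ x} : Set K)) τ.fieldRange K := IsScalarTower.of_algebraMap_eq fun _ => rfl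
  exact Module.Finite.of_restrictScalars_finite (IntermediateField.adjoin k ({τ x} : Set K)) τ.fieldRange K

theorem finite_twist (hK : IsFunctionField k K) : FiniteDimensional K (Twist τ) := by
  haveI := finite_fieldRange τ hK
  refine Module.finite_of_finrank_pos ?_
  rw [finrank_twist]; exact Module.finrank_pos

theorem mapDiv_apply_eq {ι : Type*} [Fintype ι] [Nonempty ι] (hK : IsFF k K) (φ : ι → K)
    (hφ : (∀ i, φ i ≠ 0) ∨ ∃ i, φ i = 1) (P : Place k K) {e : ℤ} (h1 : ∀ i, P.1 (φ i) ≤ exp e) {i : ι}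
    (h2 : P.1 (φ i) = exp e) : mapDiv k φ P = e := by
  have := chart_eq hK φ hφ (P := P) (j := i) (fun l => by rw [h2]; exact h1 l)
  rw [h2] at this
  exact (exp_inj.1 this).symm

theorem deg_mapDiv_comp (hK : IsFunctionField k K) {ι : Type*} [Fintype ι] [Nonempty ι] (φ : ι → K)
    (hφ : (∀ i, φ i ≠ 0) ∨ ∃ i, φ i = 1) :
    (mapDiv k (τ ∘ φ)).deg = Module.finrank τ.fieldRange K * (mapDiv k φ).deg := by
  classical
  haveI := finite_twist τ hK
  have hτ : (∀ i, (τ ∘ φ) i ≠ 0) ∨ ∃ i, (τ ∘ φ) i = 1 := by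
    rcases hφ with h | ⟨i, hi⟩
    · exact Or.inl fun i => (map_ne_zero_iff _ τ.toRingHom.injective).2 (h i)
    · exact Or.inr ⟨i, by simp [hi]⟩
  rw [← finrank_twist, ← deg_conorm hK (mapDiv k φ)]
  refine congrArg (fun D : Divisor k K => D.deg) (Finsupp.ext fun Q => ?_)
  change mapDiv k (τ ∘ φ) Q = conorm (Twist τ) (mapDiv k φ) (Q : Place k (Twist τ))
  rw [conorm_apply hK.1]
  let Q' : Place k (Twist τ) := Q
  have hne : ∀ x : K, x ≠ 0 → τ x ≠ 0 := fun x hx => (map_ne_zero_iff _ τ.toRingHom.injective).2 hx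
  obtain ⟨j, hj0, hj, hmax⟩ := exists_chart hK.1 φ hφ (below hK.1 Q')
  have hord : ∀ z, Q.ord (τ z) =
      (eAt hK.1 Q' : ℤ) * (below hK.1 Q').ord z := fun z =>
    ord_algebraMap_eq (K' := Twist τ) (isOverWith_below hK.1 Q') z
  refine mapDiv_apply_eq hK.1 (τ ∘ φ) hτ Q (fun i => ?_) (i := j) ?_
  · rcases eq_or_ne (φ i) 0 with h | h
    · simp [h]
    have h1 := hmax i
    rw [hj, val_le_exp_iff _ h] at h1
    rw [Function.comp_apply, val_le_exp_iff Q (hne _ h), hord, ← mul_neg]
    exact mul_le_mul_of_nonneg_left h1 (Int.natCast_nonneg _)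
  · rw [val_eq_exp _ hj0, exp_inj] at hj
    rw [Function.comp_apply, val_eq_exp Q (hne _ hj0), hord, ← mul_neg, hj]

end Groth.Agent.FunFldLib
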