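import Groth.Agent.FunFldLib.DegDiff
import Groth.Agent.FunFldLib.TauExt

/-! The Weierstrass divisor of a projective map with respect to an endomorphism. -/

set_option autoImplicit false

open WithZero

namespace Groth.Agent.FunFldLib

open FunFld

variable {k K : Type*} [Field k] [Field K] [Algebra k K]

/-- the order at `P` of the differential of `x` -/
noncomputable def gam [IsAlgClosed k] (hK : IsFunctionField k K) (P : Place k K) (x : K) : ℤ :=
  P.ord (LocRes.hasseD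
    (exists_family_param hK (P := P) (exists_val_eq P (-1)).choose_spec.2).choose 1 x)

theorem gam_spec [IsAlgClosed k] (hK : IsFunctionField k K) (P : Place k K) (x : K) :
    ∃ (t : K) (H : K →ₐ[k] PowerSeries K), P.1 t = exp (-1) ∧ LocRes.IsHasseFamily t H ∧
      gam hK P x = P.ord (LocRes.hasseD H 1 x) :=
  ⟨_, _, (exists_val_eq P (-1)).choose_spec.2,
    (exists_family_param hK (P := P) (exists_val_eq P (-1)).choose_spec.2).choose_spec, rfl⟩

theorem val_hasseD_param [IsAlgClosed k] (hK : IsFunctionField k K) {P : Place k K} {t t' : K} (ht : P.1 t = exp (-1))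
    (ht' : P.1 t' = exp (-1)) {H' : K →ₐ[k] PowerSeries K} (hH' : LocRes.IsHasseFamily t' H') :
    P.1 (LocRes.hasseD H' 1 t) = 1 := by
  obtain ⟨c, z, hz, he⟩ := taylor hK ht' (param_le_one ht) 2
  have hc := hasseD_congr hK ht' hH' hz he (j := 1) (by omega)
  refine val_eq_one_of_sub hc fun h0 => ?_
  have hlt := (val_le_exp_iff_hasseD hK ht' hH' (param_le_one ht) 2).2 fun j hj => by
    interval_cases j
    · rw [hasseD_zero hH', ht]; exact exp_neg_one_lt_one
    · simpa [h0] using hc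
  rw [ht, exp_le_exp] at hlt; omega

theorem ne_zero_of_val_one (P : Place k K) {x : K} (h : P.1 x = 1) : x ≠ 0 := fun h0 => by
  rw [h0, map_zero] at h; exact zero_ne_one h

/-- chain rule for the orders of differentials -/
theorem gam_chain [IsAlgClosed k] (hK : IsFunctionField k K) (P : Place k K) {s : K} {Hs : K →ₐ[k] PowerSeries K}
    (hs : LocRes.IsHasseFamily s Hs) {t : K} {Ht : K →ₐ[k] PowerSeries K} (ht : LocRes.IsHasseFamily t Ht) :
    gam hK P s = P.ord (LocRes.hasseD Ht 1 s) + gam hK P t := by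
  obtain ⟨u, Hu, hu, hHu, hgs⟩ := gam_spec hK P s
  obtain ⟨u', Hu', hu', hHu', hgt⟩ := gam_spec hK P t
  have hw := val_hasseD_param hK hu' hu hHu
  rw [hgs, hgt, hasseD_one_chain hK ht hHu s, ord_mul P (hasseD_one_ne_zero hK hs ht) (hasseD_one_ne_zero hK ht hHu),
    hasseD_one_chain hK hHu' hHu t, ord_mul P (hasseD_one_ne_zero hK ht hHu') (ne_zero_of_val_one P hw),
    (val_eq_one_iff P (ne_zero_of_val_one P hw)).1 hw, add_zero]

theorem gam_eq [IsAlgClosed k] (hK : IsFunctionField k K) (P : Place k K) {t : K} (ht : P.1 t = exp (-1))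
    {H : K →ₐ[k] PowerSeries K} (hH : LocRes.IsHasseFamily t H) {s : K} {Hs : K →ₐ[k] PowerSeries K}
    (hs : LocRes.IsHasseFamily s Hs) : gam hK P s = P.ord (LocRes.hasseD H 1 s) := by
  obtain ⟨u, Hu, hu, hHu, hgt⟩ := gam_spec hK P t
  have hw := val_hasseD_param hK ht hu hHu
  rw [gam_chain hK P hs hH, hgt, (val_eq_one_iff P (ne_zero_of_val_one P hw)).1 hw, add_zero]

theorem gam_param [IsAlgClosed k] (hK : IsFunctionField k K) (P : Place k K) {t : K} (ht : P.1 t = exp (-1))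
    {H : K →ₐ[k] PowerSeries K} (hH : LocRes.IsHasseFamily t H) : gam hK P t = 0 := by
  rw [gam_eq hK P ht hH hH, hasseD_self hH, if_neg one_ne_zero, if_pos rfl, ← map_one (algebraMap k K), ord_algebraMap]

theorem gam_finite [IsAlgClosed k] (hK : IsFunctionField k K) {s : K} {H : K →ₐ[k] PowerSeries K}
    (hH : LocRes.IsHasseFamily s H) : (Function.support fun P : Place k K => gam hK P s).Finite := by
  obtain ⟨T, hT, -⟩ := deg_dx hK hH (fun P => gam hK P s) fun P => gam_spec hK P s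
  exact T.finite_toSet.subset fun P hP => by_contra fun h => hP (hT P h)

/-- the divisor of `ds` -/
noncomputable def divDx [IsAlgClosed k] (hK : IsFunctionField k K) {s : K} {H : K →ₐ[k] PowerSeries K}
    (hH : LocRes.IsHasseFamily s H) : Divisor k K :=
  Finsupp.ofSupportFinite _ (gam_finite hK hH)

theorem divDx_apply [IsAlgClosed k] (hK : IsFunctionField k K) {s : K} {H : K →ₐ[k] PowerSeries K}
    (hH : LocRes.IsHasseFamily s H) (P : Place k K) : divDx hK hH P = gam hK P s := rfl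

theorem deg_divDx [IsAlgClosed k] (hK : IsFunctionField k K) {s : K} {H : K →ₐ[k] PowerSeries K}
    (hH : LocRes.IsHasseFamily s H) : (divDx hK hH).deg = 2 * (genus k K : ℤ) - 2 := by
  classical
  obtain ⟨T, hT, hsum⟩ := deg_dx hK hH (fun P => gam hK P s) fun P => gam_spec hK P s
  rw [deg_eq_sum _ T (fun P hP => by
    by_contra h; exact (Finsupp.mem_support_iff.1 hP) (hT P h)), ← hsum]
  exact Finset.sum_congr rfl fun P _ => by rw [deg_eq_one hK P, Nat.cast_one, mul_one, divDx_apply]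

theorem divDiff_eq [IsAlgClosed k] (hK : IsFunctionField k K) {Φ : Place k K → (K →ₐ[k] LaurentSeries k)}
    (hΦ : ∀ P : Place k K, LocRes.IsExpansionAt P.1 (Φ P)) {s : K} {H : K →ₐ[k] PowerSeries K}
    (hH : LocRes.IsHasseFamily s H) : divDiff Φ 1 s = divDx hK hH := by
  have h : (fun P : Place k K => LocRes.ordDiff (Φ P) 1 s) = fun P => gam hK P s := funext fun P => by
    obtain ⟨u, Hu, hu, hHu, hg⟩ := gam_spec hK P s
    rw [ordDiff_eq hK (hΦ P) hu hHu, one_mul, hg]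
  have hfin : (Function.support fun P : Place k K => LocRes.ordDiff (Φ P) 1 s).Finite := by rw [h]; exact gam_finite hK hH
  rw [divDiff, dif_pos hfin]
  exact Finsupp.ext fun P => congrFun h P

/-- the Weierstrass divisor, with the divisor of `ds` intrinsically defined -/
noncomputable def wD [IsAlgClosed k] (hK : IsFunctionField k K) {n : ℕ} (τ : K →ₐ[k] K) {s : K}
    {H : K →ₐ[k] PowerSeries K} (hH : LocRes.IsHasseFamily s H) (φ : Fin (n + 1) → K) (J : Fin n → ℕ) : Divisor k K :=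
  FunFld.div k (wrMat τ H φ J).det + mapDiv k (τ ∘ φ) + (n : ℤ) • mapDiv k φ +
    (Finset.univ.sum fun l => (J l : ℤ)) • divDx hK hH

theorem wDiv_eq [IsAlgClosed k] (hK : IsFunctionField k K) {n : ℕ} (τ : K →ₐ[k] K) {s : K}
    {H : K →ₐ[k] PowerSeries K} (hH : LocRes.IsHasseFamily s H) (φ : Fin (n + 1) → K) (J : Fin n → ℕ)
    {Φ : Place k K → (K →ₐ[k] LaurentSeries k)} (hΦ : ∀ P : Place k K, LocRes.IsExpansionAt P.1 (Φ P)) :
    wDiv τ H Φ s φ J = wD hK τ hH φ J := by
  rw [wDiv, wD, divDiff_eq hK hΦ hH]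

theorem wD_apply [IsAlgClosed k] (hK : IsFunctionField k K) {n : ℕ} (τ : K →ₐ[k] K) {s : K}
    {H : K →ₐ[k] PowerSeries K} (hH : LocRes.IsHasseFamily s H) (φ : Fin (n + 1) → K) (J : Fin n → ℕ) (P : Place k K) :
    wD hK τ hH φ J P = P.ord (wrMat τ H φ J).det + mapDiv k (τ ∘ φ) P + (n : ℤ) * mapDiv k φ P +
      (∑ l, (J l : ℤ)) * gam hK P s := by
  simp only [wD, Finsupp.add_apply, Finsupp.smul_apply, smul_eq_mul, div_apply hK.1, divDx_apply]

theorem deg_smul_int (c : ℤ) (D : Divisor k K) : (c • D).deg = c * D.deg := by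
  rw [← degHom_apply, map_zsmul, degHom_apply, smul_eq_mul]

theorem deg_wD [IsAlgClosed k] (hK : IsFunctionField k K) {n : ℕ} (τ : K →ₐ[k] K) {s : K}
    {H : K →ₐ[k] PowerSeries K} (hH : LocRes.IsHasseFamily s H) {φ : Fin (n + 1) → K} (hφ : LinearIndependent k φ)
    (J : Fin n → ℕ) :
    (wD hK τ hH φ J).deg = ((Module.finrank τ.fieldRange K : ℤ) + n) * (mapDiv k φ).deg +
      (2 * (genus k K : ℤ) - 2) * ∑ l, (J l : ℤ) := by
  rw [wD, deg_add, deg_add, deg_add, deg_div hK.1, deg_mapDiv_comp τ hK φ (Or.inl fun i => hφ.ne_zero i), deg_smul_int,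
    deg_smul_int, deg_divDx]
  ring

theorem li_comp {ι : Type*} {φ : ι → K} (hφ : LinearIndependent k φ) (τ : K →ₐ[k] K) : LinearIndependent k (τ ∘ φ) :=
  hφ.map' τ.toLinearMap (LinearMap.ker_eq_bot.2 τ.toRingHom.injective)

theorem mapDiv_scale {ι : Type*} [Fintype ι] [Nonempty ι] (hK : IsFF k K) (φ φ' : ι → K)
    (hφ : (∀ i, φ i ≠ 0) ∨ ∃ i, φ i = 1) (hφ' : (∀ i, φ' i ≠ 0) ∨ ∃ i, φ' i = 1) {y : K} (hy : y ≠ 0)
    (h : Submodule.span k (Set.range φ') = (Submodule.span k (Set.range φ)).map (LinearMap.mulLeft k y)) :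
    mapDiv k φ' = mapDiv k φ - FunFld.div k y := by
  have h1 := (mapDiv_exact hK φ hφ).scale hK (inv_ne_zero hy)
  rw [inv_inv, ← h, div_inv hK, ← sub_eq_add_neg] at h1
  exact exact_unique (mapDiv_exact hK φ' hφ') h1

theorem li_scale {ι : Type*} [Fintype ι] [DecidableEq ι] {φ : ι → K} (hφ : LinearIndependent k φ) {A : Matrix ι ι k}
    (hA : A.det ≠ 0) {y : K} (hy : y ≠ 0) {φ' : ι → K} (hφ' : ∀ i, φ' i = y * ∑ j, A i j • φ j) :
    LinearIndependent k φ' := by
  rw [Fintype.linearIndependent_iff]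
  intro c hc
  have h : ∑ j, (Matrix.vecMul c A) j • φ j = 0 := by
    refine mul_left_cancel₀ hy ?_
    rw [mul_zero, ← hc, Finset.mul_sum]
    simp only [hφ', Matrix.vecMul, dotProduct, Finset.sum_smul, Finset.mul_sum, Finset.smul_sum]
    rw [Finset.sum_comm]
    exact Finset.sum_congr rfl fun i _ => Finset.sum_congr rfl fun j _ => by rw [mul_smul_comm, mul_smul_comm, smul_smul]
  have h0 : Matrix.vecMul c A = 0 := funext (Fintype.linearIndependent_iff.1 hφ _ h)
  exact fun i => congrFun (Matrix.eq_zero_of_vecMul_eq_zero hA h0) i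

theorem span_scale {ι : Type*} [Fintype ι] [DecidableEq ι] {φ : ι → K} (hφ : LinearIndependent k φ) {A : Matrix ι ι k}
    (hA : A.det ≠ 0) {y : K} (hy : y ≠ 0) {φ' : ι → K} (hφ' : ∀ i, φ' i = y * ∑ j, A i j • φ j) :
    Submodule.span k (Set.range φ') = (Submodule.span k (Set.range φ)).map (LinearMap.mulLeft k y) := by
  have hle : Submodule.span k (Set.range φ') ≤ (Submodule.span k (Set.range φ)).map (LinearMap.mulLeft k y) := by
    rw [Submodule.span_le]
    rintro _ ⟨i, rfl⟩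
    exact ⟨∑ j, A i j • φ j, sum_mem fun j _ => Submodule.smul_mem _ _ (Submodule.subset_span ⟨j, rfl⟩), (hφ' i).symm⟩
  haveI : FiniteDimensional k (Submodule.span k (Set.range φ)) := FiniteDimensional.span_of_finite k (Set.finite_range φ)
  refine Submodule.eq_of_le_of_finrank_le hle ?_
  rw [finrank_span_eq_card (li_scale hφ hA hy hφ')]
  exact (Submodule.finrank_map_le _ _).trans (finrank_span_eq_card hφ).le

theorem triangular_smul {n : ℕ} (φ : Fin (n + 1) → K) (τ : K →ₐ[k] K) {s : K} {H : K →ₐ[k] PowerSeries K}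
    (hH : LocRes.IsHasseFamily s H) (y : K) (j : ℕ) :
    hcol τ H (y • φ) j - (if j = 0 then τ y else y) • hcol τ H φ j ∈ Submodule.span K (hcol τ H φ '' Set.Iio j) := by
  classical
  rcases j with _ | j
  · convert Submodule.zero_mem _
    funext i
    simp [hcol, map_mul]
  · have he : hcol τ H (y • φ) (j + 1) = ∑ p ∈ Finset.HasAntidiagonal.antidiagonal j,
        LocRes.hasseD H p.1 y • hcol τ H φ (p.2 + 1) := by
      funext i
      simp only [hcol, Finset.sum_apply, Pi.smul_apply, smul_eq_mul, hasseD_mul]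
    rw [he, ← Finset.add_sum_erase _ _ (show ((0, j) : ℕ × ℕ) ∈ Finset.HasAntidiagonal.antidiagonal j by simp)]
    simp only [hasseD_zero hH, Nat.succ_ne_zero, if_false, add_sub_cancel_left]
    refine sum_mem fun p hp => Submodule.smul_mem _ _ (Submodule.subset_span ⟨p.2 + 1, ?_, rfl⟩)
    rw [Finset.mem_erase, Finset.HasAntidiagonal.mem_antidiagonal] at hp
    rcases Nat.eq_zero_or_pos p.1 with h1 | h1
    · exact absurd (Prod.ext h1 (by omega)) hp.1
    · simp only [Set.mem_Iio]; omega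

theorem triangular_var [PerfectField k] (hK : IsFunctionField k K) {n : ℕ} (φ : Fin (n + 1) → K) (τ : K →ₐ[k] K) {s t : K}
    {Hs Ht : K →ₐ[k] PowerSeries K} (hs : LocRes.IsHasseFamily s Hs) (ht : LocRes.IsHasseFamily t Ht) (j : ℕ) :
    hcol τ Ht φ j - LocRes.hasseD Ht 1 s ^ (j - 1) • hcol τ Hs φ j ∈ Submodule.span K (hcol τ Hs φ '' Set.Iio j) := by
  classical
  set w := Ht s - PowerSeries.C s with hw
  have hc : PowerSeries.constantCoeff w = 0 := by
    rw [hw, map_sub, ht.2, PowerSeries.constantCoeff_C, sub_self]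
  have h1 : PowerSeries.coeff 1 w = LocRes.hasseD Ht 1 s := by simp [hw, PowerSeries.coeff_C]
  have hlow : ∀ d j : ℕ, j < d → PowerSeries.coeff j (w ^ d) = 0 := fun d j hjd =>
    PowerSeries.X_pow_dvd_iff.1 (pow_dvd_pow_of_dvd (PowerSeries.X_dvd_iff.2 hc) d) j hjd
  have hdiag : ∀ j : ℕ, PowerSeries.coeff j (w ^ j) = LocRes.hasseD Ht 1 s ^ j := fun j => by
    obtain ⟨u, hu⟩ := PowerSeries.X_dvd_iff.2 hc
    rw [← h1, hu, mul_pow, PowerSeries.coeff_succ_X_mul]
    have := PowerSeries.coeff_X_pow_mul (u ^ j) j 0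
    rw [zero_add] at this
    rw [this, PowerSeries.coeff_zero_eq_constantCoeff_apply, map_pow, PowerSeries.coeff_zero_eq_constantCoeff_apply]
  rcases j with _ | j
  · convert Submodule.zero_mem _
    funext i
    simp [hcol]
  · have he : hcol τ Ht φ (j + 1) = ∑ d ∈ Finset.range (j + 1), PowerSeries.coeff j (w ^ d) • hcol τ Hs φ (d + 1) := by
      funext i
      simp only [hcol, Finset.sum_apply, Pi.smul_apply, smul_eq_mul, LocRes.hasseD_apply]
      rw [hasse_change hK hs ht, ← hw,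
        PowerSeries.coeff_subst' (PowerSeries.HasSubst.of_constantCoeff_zero' hc), finsum_eq_sum_of_support_subset _ (fun d hd => ?_)]
      · exact Finset.sum_congr rfl fun d _ => by rw [smul_eq_mul, mul_comm]
      · simp only [Function.mem_support] at hd
        simp only [Finset.coe_range, Set.mem_Iio]
        by_contra hlt
        exact hd (by rw [hlow d j (by omega), smul_zero])
    rw [he, Finset.sum_range_succ, hdiag]
    simp only [Nat.add_sub_cancel, add_sub_cancel_right]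
    refine sum_mem fun d hd => Submodule.smul_mem _ _ (Submodule.subset_span ⟨d + 1, ?_, rfl⟩)
    have := Finset.mem_range.1 hd
    simp only [Set.mem_Iio]; omega

theorem wD_invariant [IsAlgClosed k] (hK : IsFunctionField k K) {n : ℕ} (τ : K →ₐ[k] K) {φ φ' : Fin (n + 1) → K}
    (hφ : LinearIndependent k φ) {s t : K} {Hs Ht : K →ₐ[k] PowerSeries K}
    (hs : LocRes.IsHasseFamily s Hs) (ht : LocRes.IsHasseFamily t Ht)
    {J : Fin n → ℕ} (hJ : IsOrders K (hcol τ Hs φ) J)
    {A : Matrix (Fin (n + 1)) (Fin (n + 1)) k} (hA : A.det ≠ 0) {y : K} (hy : y ≠ 0)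
    (hφ' : ∀ i, φ' i = y * ∑ j, A i j • φ j) :
    wD hK τ ht φ' J = wD hK τ hs φ J ∧ IsOrders K (hcol τ Ht φ') J := by
  classical
  have hw1 : LocRes.hasseD Ht 1 s ≠ 0 := hasseD_one_ne_zero hK hs ht
  have hτy : τ y ≠ 0 := (map_ne_zero_iff _ τ.toRingHom.injective).2 hy
  -- change the variable
  have hJ1 : IsOrders K (hcol τ Ht φ) J := (isOrders_congr (isJump_of_span_eq
    (span_eq_of_triangular (fun j => pow_ne_zero (j - 1) hw1) (triangular_var hK φ τ hs ht))) J).2 hJ
  have hd1 : (wrMat τ Ht φ J).det = LocRes.hasseD Ht 1 s ^ (∑ l, J l) * (wrMat τ Hs φ J).det := by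
    rw [det_triangular hφ (triangular_var hK φ τ hs ht) hJ]
    simp [Fin.prod_univ_succ, Finset.prod_pow_eq_pow_sum, Fin.sum_univ_succ]
  -- scale
  set ψ : Fin (n + 1) → K := fun i => ∑ j, A i j • φ j with hψ
  have hψφ : LinearIndependent k ψ := li_scale hφ hA one_ne_zero fun i => (one_mul _).symm
  have hJ2 : IsOrders K (hcol τ Ht ψ) J := (isOrders_basis_change τ Ht ψ φ A hA (fun i => rfl) J).2 hJ1
  have hφ'' : φ' = y • ψ := funext fun i => by rw [hφ' i]; rfl
  have ha : ∀ j : ℕ, (if j = 0 then τ y else y) ≠ 0 := fun j => by split_ifs <;> assumption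
  have hJ3 : IsOrders K (hcol τ Ht φ') J := by
    rw [hφ'']
    exact (isOrders_congr (isJump_of_span_eq (span_eq_of_triangular ha (triangular_smul ψ τ ht y))) J).2 hJ2
  have hd2 : (wrMat τ Ht φ' J).det = τ y * y ^ n * (wrMat τ Ht ψ J).det := by
    rw [hφ'', det_triangular hψφ (triangular_smul ψ τ ht y) hJ2]
    simp [Fin.prod_univ_succ]
  have hd3 := wrMat_basis_change τ Ht ψ φ A (fun i => rfl) J
  refine ⟨Finsupp.ext fun P => ?_, hJ3⟩
  have hli' := li_scale hφ hA hy hφ'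
  have hm1 : mapDiv k φ' P = mapDiv k φ P - P.ord y := by
    rw [mapDiv_scale hK.1 φ φ' (Or.inl fun i => hφ.ne_zero i) (Or.inl fun i => hli'.ne_zero i) hy (span_scale hφ hA hy hφ'),
      Finsupp.sub_apply, div_apply hK.1]
  have hτφ' : ∀ i, (τ ∘ φ') i = τ y * ∑ j, A i j • (τ ∘ φ) j := fun i => by
    simp [hφ' i, map_sum, map_smul]
  have hm2 : mapDiv k (τ ∘ φ') P = mapDiv k (τ ∘ φ) P - P.ord (τ y) := by
    rw [mapDiv_scale hK.1 (τ ∘ φ) (τ ∘ φ') (Or.inl fun i => (li_comp hφ τ).ne_zero i)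
      (Or.inl fun i => (li_comp hli' τ).ne_zero i) hτy (span_scale (li_comp hφ τ) hA hτy hτφ'), Finsupp.sub_apply, div_apply hK.1]
  have hne := det_ne_zero_of_orders hφ hJ
  have hgam := gam_chain hK P hs ht
  rw [wD_apply, wD_apply, hd2, hd3, hd1, hm1, hm2,
    ord_mul P (mul_ne_zero hτy (pow_ne_zero _ hy)) (mul_ne_zero (by rw [map_ne_zero]; exact hA) (mul_ne_zero (pow_ne_zero _ hw1) hne)),
    ord_mul P hτy (pow_ne_zero _ hy), ord_pow, ord_mul P (by rw [map_ne_zero]; exact hA) (mul_ne_zero (pow_ne_zero _ hw1) hne),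
    ord_algebraMap, ord_mul P (pow_ne_zero _ hw1) hne, ord_pow, hgam]
  push_cast
  ring

theorem exists_normalize {n : ℕ} (hK : IsFF k K) {φ : Fin (n + 1) → K} (hφ : LinearIndependent k φ) (P : Place k K) :
    ∃ y : K, y ≠ 0 ∧ (1 : K) ∈ Submodule.span k (Set.range (y • φ)) ∧ (∀ i, P.1 (y * φ i) ≤ 1) ∧
      LinearIndependent k (y • φ) := by
  obtain ⟨j, hj0, -, hmax⟩ := exists_chart hK φ (Or.inl fun i => hφ.ne_zero i) P
  refine ⟨(φ j)⁻¹, inv_ne_zero hj0, Submodule.subset_span ⟨j, by simp [hj0]⟩, fun i => ?_, ?_⟩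
  · rw [map_mul, map_inv₀, inv_mul_le_one₀ (zero_lt_iff.2 (val_ne_zero P hj0))]; exact hmax i
  · refine li_scale hφ (A := 1) (by rw [Matrix.det_one]; exact one_ne_zero) (inv_ne_zero hj0) fun i => ?_
    simp [Matrix.one_apply]

theorem mapDiv_normalized {n : ℕ} (hK : IsFF k K) {φ : Fin (n + 1) → K} (hφ : LinearIndependent k φ) {P : Place k K}
    (heff : (1 : K) ∈ Submodule.span k (Set.range φ)) (hnorm : ∀ i, P.1 (φ i) ≤ 1) : mapDiv k φ P = 0 := by
  have h := mapDiv_exact hK φ (Or.inl fun i => hφ.ne_zero i)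
  obtain ⟨v, hv, hvP⟩ := h.2 P
  refine le_antisymm ?_ (h.nonneg heff P)
  obtain ⟨c, rfl⟩ := (Submodule.mem_span_range_iff_exists_fun k).1 hv
  rw [← exp_le_exp, exp_zero, ← hvP]
  exact Valuation.map_sum_le _ fun i _ => (val_smul_le P _ _).trans (hnorm i)

theorem det_le_of_col {m : ℕ} (P : Place k K) (M : Matrix (Fin (m + 1)) (Fin (m + 1)) K) {E : ℤ}
    (h0 : ∀ i, P.1 (M i 0) ≤ exp E) (h : ∀ i (l : Fin m), P.1 (M i l.succ) ≤ 1) : P.1 M.det ≤ exp E := by
  rw [Matrix.det_apply]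
  refine Valuation.map_sum_le _ fun σ _ => ?_
  have hprod : P.1 (∏ i, M (σ i) i) ≤ exp E := by
    rw [map_prod, Fin.prod_univ_succ]
    exact (mul_le_of_le_one_right' (Finset.prod_le_one' fun l _ => h _ l)).trans (h0 _)
  rcases Int.units_eq_one_or (Equiv.Perm.sign σ) with hs | hs <;> rw [hs] <;> simpa using hprod

/-- the local form of the Weierstrass divisor -/
theorem wD_normalized [IsAlgClosed k] (hK : IsFunctionField k K) {n : ℕ} (τ : K →ₐ[k] K) {φ : Fin (n + 1) → K}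
    (hφ : LinearIndependent k φ) {P : Place k K} (heff : (1 : K) ∈ Submodule.span k (Set.range φ))
    (hnorm : ∀ i, P.1 (φ i) ≤ 1) {t : K} (ht : P.1 t = exp (-1)) {Ht : K →ₐ[k] PowerSeries K}
    (hHt : LocRes.IsHasseFamily t Ht) {J : Fin n → ℕ} (hJ : IsOrders K (hcol τ Ht φ) J) :
    wD hK τ hHt φ J P = P.ord (wrMat τ Ht φ J).det + mapDiv k (τ ∘ φ) P ∧ 0 ≤ wD hK τ hHt φ J P ∧
      (IsFixedPt τ P → wD hK τ hHt φ J P = P.ord (wrMat τ Ht φ J).det) := by
  have h1 : wD hK τ hHt φ J P = P.ord (wrMat τ Ht φ J).det + mapDiv k (τ ∘ φ) P := by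
    rw [wD_apply, mapDiv_normalized hK.1 hφ heff hnorm, gam_param hK P ht hHt, mul_zero, mul_zero, add_zero, add_zero]
  have hτeff : (1 : K) ∈ Submodule.span k (Set.range (τ ∘ φ)) := by
    have h := Submodule.mem_map_of_mem (f := τ.toLinearMap) heff
    rw [Submodule.map_span, ← Set.range_comp, AlgHom.toLinearMap_apply, map_one] at h
    exact h
  refine ⟨h1, ?_, fun hP => ?_⟩
  · have hne := det_ne_zero_of_orders hφ hJ
    obtain ⟨hE, -⟩ := mapDiv_spec hK.1 (τ ∘ φ) (Or.inl fun i => (li_comp hφ τ).ne_zero i)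
    have := det_le_of_col P (wrMat τ Ht φ J) (E := mapDiv k (τ ∘ φ) P) (fun i => hE P i)
      (fun i l => hasseD_integral hK ht hHt (J l) (hnorm i))
    rw [val_le_exp_iff P hne] at this
    rw [h1]; omega
  · rw [h1, mapDiv_normalized hK.1 (li_comp hφ τ) hτeff (fun i => fixed_int hK hP (hnorm i)), add_zero]

/-- reduction of the local coefficient to a normalized representative -/
theorem exists_local [IsAlgClosed k] (hK : IsFunctionField k K) {n : ℕ} (τ : K →ₐ[k] K) {φ : Fin (n + 1) → K}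
    (hφ : LinearIndependent k φ) {s : K} {H : K →ₐ[k] PowerSeries K} (hH : LocRes.IsHasseFamily s H)
    {J : Fin n → ℕ} (hJ : IsOrders K (hcol τ H φ) J) (P : Place k K) :
    ∃ (y t : K) (Ht : K →ₐ[k] PowerSeries K) (J' : Fin n → ℕ) (hHt : LocRes.IsHasseFamily t Ht), y ≠ 0 ∧
      P.1 t = exp (-1) ∧ (1 : K) ∈ Submodule.span k (Set.range (y • φ)) ∧ (∀ i, P.1 (y * φ i) ≤ 1) ∧
      LinearIndependent k (y • φ) ∧ IsOrders K (hcol τ Ht (y • φ)) J ∧
      IsOrders (IsLocalRing.ResidueField P.O) (hcolAt P Ht (y • φ)) J' ∧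
      wD hK τ hH φ J P = wD hK τ hHt (y • φ) J P := by
  obtain ⟨y, hy, heff, hnorm, hli⟩ := exists_normalize hK.1 hφ P
  obtain ⟨t, -, ht⟩ := exists_val_eq P (-1)
  obtain ⟨Ht, hHt⟩ := exists_family_param hK ht
  obtain ⟨heq, hord⟩ := wD_invariant hK τ hφ hH hHt hJ (A := 1) (by rw [Matrix.det_one]; exact one_ne_zero) hy
    (φ' := y • φ) (fun i => by simp [Matrix.one_apply])
  have hc0 : hcolAt P Ht (y • φ) 0 ≠ 0 := fun h => by
    obtain ⟨c, hc⟩ := (Submodule.mem_span_range_iff_exists_fun k).1 heff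
    have hev := evalP_hasseD_sum hK ht hHt (y • φ) hnorm c 0
    rw [hc, hasseD_zero hHt, Finset.sum_eq_zero fun a _ => by
      rw [hasseD_zero hHt]
      rw [show evalP P ((y • φ) a) = 0 from congrFun h a, mul_zero]] at hev
    rw [evalP_eq_zero_iff (by simp), map_one] at hev
    exact lt_irrefl _ hev
  obtain ⟨J', hJ'⟩ : ∃ J' : Fin n → ℕ, IsOrders (IsLocalRing.ResidueField P.O) (hcolAt P Ht (y • φ)) J' :=
    exists_orders hc0 (span_range_eq_top _ fun v hv =>
    funext (Fintype.linearIndependent_iff.1 (indep_evalP hK ht hHt hli hnorm) v (funext fun j => by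
      simpa [hcolAt] using hv (j + 1)))) (by simp)
  exact ⟨y, t, Ht, J', hHt, hy, ht, heff, hnorm, hli, hord, hJ', by rw [heq]⟩

theorem wD_nonneg [IsAlgClosed k] (hK : IsFunctionField k K) {n : ℕ} (τ : K →ₐ[k] K) {φ : Fin (n + 1) → K}
    (hφ : LinearIndependent k φ) {s : K} {H : K →ₐ[k] PowerSeries K} (hH : LocRes.IsHasseFamily s H)
    {J : Fin n → ℕ} (hJ : IsOrders K (hcol τ H φ) J) : 0 ≤ wD hK τ hH φ J := fun P => by
  obtain ⟨y, t, Ht, J', hHt, -, ht, heff, hnorm, hli, hord, -, he⟩ := exists_local hK τ hφ hH hJ P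
  rw [Finsupp.zero_apply, he]
  exact (wD_normalized hK τ hli heff hnorm ht hHt hord).2.1

theorem binom_diag_det {n : ℕ} {J : Fin n → ℕ} (hJ : StrictMono J) : (binomMat k J J).det ≠ 0 := by
  rw [Matrix.det_of_isLowerTriangular]
  · simp [binomMat]
  · intro r s hrs
    simp [binomMat, Nat.choose_eq_zero_of_lt (hJ (show r < s from hrs))]

/-- at a fixed place the coefficient dominates the jump of the orders -/
theorem le_wD [IsAlgClosed k] (hK : IsFunctionField k K) {n : ℕ} (τ : K →ₐ[k] K) {φ : Fin (n + 1) → K}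
    (hφ : LinearIndependent k φ) {P : Place k K} (heff : (1 : K) ∈ Submodule.span k (Set.range φ))
    (hnorm : ∀ i, P.1 (φ i) ≤ 1) {t : K} (ht : P.1 t = exp (-1)) {Ht : K →ₐ[k] PowerSeries K}
    (hHt : LocRes.IsHasseFamily t Ht) {J J' : Fin n → ℕ} (hJ : IsOrders K (hcol τ Ht φ) J)
    (hJ' : IsOrders (IsLocalRing.ResidueField P.O) (hcolAt P Ht φ) J') (hP : IsFixedPt τ P) :
    (∑ l, ((J' l : ℤ) - J l)) ≤ wD hK τ hHt φ J P ∧
      (((∀ l, 0 < J l) ∨ IsStrongFixedPt τ P) →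
        (wD hK τ hHt φ J P = ∑ l, ((J' l : ℤ) - J l) ↔ (binomMat k J' J).det ≠ 0)) := by
  rw [(wD_normalized hK τ hφ heff hnorm ht hHt hJ).2.2 hP]
  obtain ⟨hJ1, f, A, hf0, hf, -, -, hA, hAf⟩ := exists_adapted hK hφ heff hnorm ht hHt hJ'
  obtain ⟨h1, h2⟩ := wr_core hK hP hf0 ht hHt hJ1 hf hJ.1
  have hval : P.1 (wrMat τ Ht φ J).det = P.1 (wrMat τ Ht f J).det := by
    rw [wrMat_basis_change τ Ht φ f A hAf, map_mul, val_algebraMap P hA, one_mul]
  have hne := det_ne_zero_of_orders hφ hJ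
  refine ⟨?_, fun h => ?_⟩
  · rw [← hval, val_le_exp_iff P hne, neg_neg] at h1; exact h1
  · rw [← h2 h, ← hval, val_eq_exp P hne, exp_inj, neg_inj]

theorem orders_pos_id {n : ℕ} {φ : Fin (n + 1) → K} {s : K} {H : K →ₐ[k] PowerSeries K} (hH : LocRes.IsHasseFamily s H)
    {J : Fin n → ℕ} (hJ : IsOrders K (hcol (AlgHom.id k K) H φ) J) (l : Fin n) : 0 < J l := by
  by_contra h
  have h1 := (hJ.2 (J l)).1 ⟨l, rfl⟩
  rw [show J l = 0 by omega] at h1
  refine h1 (Submodule.subset_span ⟨0, by simp, funext fun i => ?_⟩)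
  simp only [hcol, hasseD_zero hH, AlgHom.id_apply]

/-- for the identity the orders at a place dominate the orders -/
theorem orders_le_at [IsAlgClosed k] (hK : IsFunctionField k K) {n : ℕ} {φ : Fin (n + 1) → K}
    (hφ : LinearIndependent k φ) {P : Place k K} (heff : (1 : K) ∈ Submodule.span k (Set.range φ))
    (hnorm : ∀ i, P.1 (φ i) ≤ 1) {t : K} (ht : P.1 t = exp (-1)) {Ht : K →ₐ[k] PowerSeries K}
    (hHt : LocRes.IsHasseFamily t Ht) {J J' : Fin n → ℕ} (hJ : IsOrders K (hcol (AlgHom.id k K) Ht φ) J)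
    (hJ' : IsOrders (IsLocalRing.ResidueField P.O) (hcolAt P Ht φ) J') (l : Fin n) : J l ≤ J' l := by
  obtain ⟨hJ1, f, A, hf0, hf, -, -, hA, hAf⟩ := exists_adapted hK hφ heff hnorm ht hHt hJ'
  have h := ((wr_core hK (isFixedPt_id P) hf0 ht hHt hJ1 hf hJ'.1).2 (Or.inl fun l => hJ1 l)).2 (binom_diag_det hJ'.1)
  refine orders_le (hcol_zero_ne hφ _ Ht) hJ hJ'.1 ((det_wrMat_ne_zero_iff _ Ht φ J').1 fun h0 => ?_) l
  rw [wrMat_basis_change (AlgHom.id k K) Ht φ f A hAf, mul_eq_zero] at h0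
  rcases h0 with h0 | h0
  · exact hA ((map_eq_zero _).1 h0)
  · rw [h0, map_zero] at h; exact exp_ne_zero h.symm

end Groth.Agent.FunFldLib
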