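import Groth.Agent.FunFldLib.PlanePoint
import Groth.Agent.FunFldLib.PlaneDeg
import Groth.Agent.FunFldLib.WDiv

/-! The adjoint divisor of a plane model. -/

set_option autoImplicit false

open WithZero MvPolynomial

namespace Groth.Agent.FunFldLib

open FunFld

variable {k K : Type*} [Field k] [Field K] [Algebra k K]

/-- the local ring read in any chart of least order -/
theorem inLocRing_iff_chart {ι : Type*} (φ : ι → K) (P : Place k K) {j : ι} (hj0 : φ j ≠ 0)
    (hj : ∀ i, P.1 (φ i) ≤ P.1 (φ j)) (z : K) :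
    InLocRing φ P z ↔ ∃ u ∈ Algebra.adjoin k (Set.range fun i => φ i / φ j),
      ∃ w ∈ Algebra.adjoin k (Set.range fun i => φ i / φ j), P.1 w = 1 ∧ z * w = u := by
  refine ⟨?_, fun ⟨u, hu, w, hw, h1, h2⟩ => ⟨j, hj0, hj, u, hu, w, hw, h1, h2⟩⟩
  rintro ⟨l, hl0, hl, u, hu, w, hw, hw1, hzw⟩
  set A := Algebra.adjoin k (Set.range fun i => φ i / φ j)
  have hlj : P.1 (φ l / φ j) = 1 := by
    rw [map_div₀, le_antisymm (hj l) (hl j), div_self (val_ne_zero P hj0)]
  have hq : ∀ v ∈ Algebra.adjoin k (Set.range fun i => φ i / φ l),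
      ∃ p ∈ A, ∃ q ∈ A, P.1 q = 1 ∧ v * q = p := by
    intro v hv
    refine Algebra.adjoin_induction (fun v hv => ?_) (fun c => ?_) (fun a b _ _ => ?_) (fun a b _ _ => ?_) hv
    · obtain ⟨i, rfl⟩ := hv
      exact ⟨_, Algebra.subset_adjoin ⟨i, rfl⟩, _, Algebra.subset_adjoin ⟨l, rfl⟩, hlj, by field_simp⟩
    · exact ⟨_, A.algebraMap_mem c, 1, one_mem A, map_one _, mul_one _⟩
    · rintro ⟨p, hp, q, hq, hq1, e⟩ ⟨p', hp', q', hq', hq1', e'⟩
      exact ⟨p * q' + p' * q, add_mem (mul_mem hp hq') (mul_mem hp' hq), q * q', mul_mem hq hq',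
        by rw [map_mul, hq1, hq1', one_mul], by rw [← e, ← e']; ring⟩
    · rintro ⟨p, hp, q, hq, hq1, e⟩ ⟨p', hp', q', hq', hq1', e'⟩
      exact ⟨p * p', mul_mem hp hp', q * q', mul_mem hq hq',
        by rw [map_mul, hq1, hq1', one_mul], by rw [← e, ← e']; ring⟩
  obtain ⟨p, hp, q, hq1, hqv, e⟩ := hq u hu
  obtain ⟨p', hp', q', hq', hqv', e'⟩ := hq w hw
  refine ⟨p * q', mul_mem hp hq', q * p', mul_mem hq1 hp', ?_, ?_⟩
  · rw [map_mul, hqv, ← e', map_mul, hw1, hqv', one_mul, one_mul]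
  · rw [← e, ← e', ← hzw]; ring

theorem adjoin_pair_eq_range (a b : K) :
    Algebra.adjoin k ({a, b} : Set K) = (aeval ![a, b] : MvPolynomial (Fin 2) k →ₐ[k] K).range := by
  rw [← Matrix.range_cons_cons_empty a b ![], Algebra.adjoin_range_eq_range_aeval]

theorem inLocRing_iff_inPt {ι : Type*} (φ : ι → K) (P : Place k K) {j : ι} (hj0 : φ j ≠ 0)
    (hj : ∀ i, P.1 (φ i) ≤ P.1 (φ j)) {a b : K}
    (hab : Algebra.adjoin k (Set.range fun i => φ i / φ j) = Algebra.adjoin k ({a, b} : Set K)) (z : K) :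
    InLocRing φ P z ↔ InPt P a b z := by
  rw [inLocRing_iff_chart φ P hj0 hj, hab, adjoin_pair_eq_range]
  constructor
  · rintro ⟨_, ⟨u, rfl⟩, _, ⟨w, rfl⟩, h1, h2⟩
    exact ⟨u, w, h1, h2⟩
  · rintro ⟨u, w, h1, h2⟩
    exact ⟨_, ⟨u, rfl⟩, _, ⟨w, rfl⟩, h1, h2⟩

/-- translation of the variables -/
noncomputable def shiftP (c d : k) : MvPolynomial (Fin 2) k →ₐ[k] MvPolynomial (Fin 2) k :=
  aeval ![X 0 + C c, X 1 + C d]

theorem aeval_shiftP (a b : K) (c d : k) (f : MvPolynomial (Fin 2) k) :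
    aeval ![a, b] (shiftP c d f) = aeval ![a + algebraMap k K c, b + algebraMap k K d] f := by
  rw [shiftP, comp_aeval_apply]
  congr 1
  refine MvPolynomial.algHom_ext fun i => ?_
  fin_cases i <;> simp

theorem shiftP_shiftP (c d : k) (f : MvPolynomial (Fin 2) k) : shiftP c d (shiftP (-c) (-d) f) = f := by
  conv_rhs => rw [← aeval_X_left_apply f]
  rw [shiftP, shiftP, comp_aeval_apply]
  congr 1
  refine MvPolynomial.algHom_ext fun i => ?_
  fin_cases i <;> simp

theorem pderiv_shiftP (c d : k) (f : MvPolynomial (Fin 2) k) (i : Fin 2) :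
    pderiv i (shiftP c d f) = shiftP c d (pderiv i f) := by
  rw [shiftP, pderiv_aeval_two i _ f]
  fin_cases i <;> simp

theorem InPt.shift {P : Place k K} {a b z : K} {c d : k}
    (h : InPt P (a + algebraMap k K c) (b + algebraMap k K d) z) : InPt P a b z := by
  obtain ⟨u, w, hw, h⟩ := h
  exact ⟨shiftP c d u, shiftP c d w, by rwa [aeval_shiftP], by rwa [aeval_shiftP, aeval_shiftP]⟩

/-- an affine point of a plane model at any place where both coordinates are integral -/
theorem affine_point [IsAlgClosed k] (hK : IsFunctionField k K) (P : Place k K)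
    {Φ : K →ₐ[k] LaurentSeries k} (hΦ : LocRes.IsExpansionAt P.1 Φ) {a b : K}
    (ha : P.1 a ≤ 1) (hb : P.1 b ≤ 1) (hgen : IntermediateField.adjoin k ({a, b} : Set K) = ⊤)
    {f : MvPolynomial (Fin 2) k} (hf : aeval ![a, b] f = 0)
    (hker : ∀ g, aeval ![a, b] g = 0 → f ∣ g) {w : LaurentSeries k} (hw : IsOm Φ f a b w) (hw0 : w ≠ 0)
    (hne : aeval ![a, b] (pderiv 0 f) ≠ 0 ∨ aeval ![a, b] (pderiv 1 f) ≠ 0) :
    1 ≤ Valued.v w ∧ (Valued.v w = 1 ↔ ∀ z : K, P.1 z ≤ 1 → InPt P a b z) := by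
  obtain ⟨c, hc⟩ := exists_const hK P ha
  obtain ⟨d, hd⟩ := exists_const hK P hb
  obtain ⟨a', rfl⟩ : ∃ a', a = a' + algebraMap k K c := ⟨a - algebraMap k K c, by ring⟩
  obtain ⟨b', rfl⟩ : ∃ b', b = b' + algebraMap k K d := ⟨b - algebraMap k K d, by ring⟩
  rw [add_sub_cancel_right] at hc hd
  have hgen' : IntermediateField.adjoin k ({a', b'} : Set K) = ⊤ := by
    rw [eq_top_iff, ← hgen, IntermediateField.adjoin_le_iff]
    rintro v (rfl | rfl)
    · exact add_mem (IntermediateField.subset_adjoin k _ (Set.mem_insert _ _)) (IntermediateField.algebraMap_mem _ c)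
    · exact add_mem (IntermediateField.subset_adjoin k _ (Set.mem_insert_of_mem _ rfl)) (IntermediateField.algebraMap_mem _ d)
  have hf' : aeval ![a', b'] (shiftP c d f) = 0 := by rw [aeval_shiftP, hf]
  have hker' : ∀ g, aeval ![a', b'] g = 0 → shiftP c d f ∣ g := fun g hg => by
    obtain ⟨q, hq⟩ := hker (shiftP (-c) (-d) g) (by
      rw [aeval_shiftP, map_neg, map_neg, add_neg_cancel_right, add_neg_cancel_right, hg])
    exact ⟨shiftP c d q, by rw [← map_mul, ← hq, shiftP_shiftP]⟩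
  have hom : IsOm Φ (shiftP c d f) a' b' w := by
    have hD : ∀ (v : K) (e : k), LocRes.D k (Φ (v + algebraMap k K e)) = LocRes.D k (Φ v) := fun v e => by
      rw [map_add, map_add, LocRes.map_algebraMap, LocRes.D_apply k (HahnSeries.C _), LocRes.derivative_C, add_zero]
    obtain ⟨h1, h2⟩ := hw
    rw [hD] at h1 h2
    exact ⟨by rw [pderiv_shiftP, aeval_shiftP]; exact h1, by rw [pderiv_shiftP, aeval_shiftP]; exact h2⟩
  have hne' : aeval ![a', b'] (pderiv 0 (shiftP c d f)) ≠ 0 ∨ aeval ![a', b'] (pderiv 1 (shiftP c d f)) ≠ 0 := by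
    rwa [pderiv_shiftP, pderiv_shiftP, aeval_shiftP, aeval_shiftP]
  obtain ⟨N, hN⟩ : ∃ N : ℕ, exp (-(N : ℤ)) ≤
      max (P.1 (aeval ![a', b'] (pderiv 0 (shiftP c d f)))) (P.1 (aeval ![a', b'] (pderiv 1 (shiftP c d f)))) := by
    rcases hne' with h | h
    · refine ⟨(P.ord (aeval ![a', b'] (pderiv 0 (shiftP c d f)))).toNat, le_max_of_le_left ?_⟩
      rw [val_eq_exp P h, exp_le_exp]; omega
    · refine ⟨(P.ord (aeval ![a', b'] (pderiv 1 (shiftP c d f)))).toNat, le_max_of_le_right ?_⟩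
      rw [val_eq_exp P h, exp_le_exp]; omega
  obtain ⟨h1, h2⟩ := om_val hK hΦ N _ a' b' w hc hd hgen' hf' hw0 hom hN
  refine ⟨h1, h2.trans ⟨fun h z hz => ?_, fun h => ?_⟩⟩
  · have := inPt_of_grad' hc hd hgen' hf' h z hz
    refine InPt.shift (c := -c) (d := -d) ?_
    rwa [map_neg, map_neg, add_neg_cancel_right, add_neg_cancel_right]
  · refine grad_of_inPt hc hd ?_ hker' hf' fun z hz => (h z hz).shift
    by_contra hcon
    simp only [not_or, not_not] at hcon
    obtain ⟨u, hu⟩ := exists_transcendental hK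
    have : IntermediateField.adjoin k ({a', b'} : Set K) ≤ ⊥ :=
      IntermediateField.adjoin_le_iff.2 (by rintro v (rfl | rfl) <;> simp [hcon])
    obtain ⟨e, he⟩ := IntermediateField.mem_bot.1 (this (hgen' ▸ IntermediateField.mem_top : u ∈ _))
    exact hu (he ▸ isAlgebraic_algebraMap e)

/-- the equation in the chart `x ≠ 0` -/
noncomputable def chartP (f : MvPolynomial (Fin 2) k) : MvPolynomial (Fin 2) k :=
  ∑ s ∈ f.support, monomial (Finsupp.single 0 (f.totalDegree - (s 0 + s 1)) + Finsupp.single 1 (s 1)) (coeff s f)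

theorem aeval_monomial_two {A : Type*} [CommRing A] [Algebra k A] (a b : A) (s : Fin 2 →₀ ℕ) (c : k) :
    aeval ![a, b] (monomial s c : MvPolynomial (Fin 2) k) = algebraMap k A c * (a ^ s 0 * b ^ s 1) := by
  rw [aeval_monomial, Finsupp.prod_fintype _ _ (fun i => pow_zero _), Fin.prod_univ_two]
  simp

theorem support_deg_le (f : MvPolynomial (Fin 2) k) {s : Fin 2 →₀ ℕ} (hs : s ∈ f.support) :
    s 0 + s 1 ≤ f.totalDegree := by
  have := le_totalDegree hs
  rwa [Finsupp.sum_fintype _ _ (fun _ => rfl), Fin.sum_univ_two] at this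

theorem totalDegree_chartP (f : MvPolynomial (Fin 2) k) : (chartP f).totalDegree ≤ f.totalDegree := by
  refine (totalDegree_finsetSum _ _).trans (Finset.sup_le fun s hs => ?_)
  refine (totalDegree_monomial_le _ _).trans ?_
  rw [Finsupp.sum_fintype _ _ (fun _ => rfl), Fin.sum_univ_two]
  have := support_deg_le f hs
  simp
  omega

/-- the three identities between the two charts -/
theorem chartP_ids (f : MvPolynomial (Fin 2) k) {x : K} (hx : x ≠ 0) (y : K) :
    x ^ f.totalDegree * aeval ![x⁻¹, y / x] (chartP f) = aeval ![x, y] f ∧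
    x ^ f.totalDegree * aeval ![x⁻¹, y / x] (pderiv 1 (chartP f)) = x * aeval ![x, y] (pderiv 1 f) ∧
    x ^ f.totalDegree * (x⁻¹ * aeval ![x⁻¹, y / x] (pderiv 0 (chartP f))) =
      (f.totalDegree : K) * aeval ![x, y] f - x * aeval ![x, y] (pderiv 0 f) - y * aeval ![x, y] (pderiv 1 f) := by
  set d := f.totalDegree with hd
  have hsum : f = ∑ s ∈ f.support, monomial s (coeff s f) := f.as_sum
  have hmon : ∀ (s : Fin 2 →₀ ℕ), s = Finsupp.single 0 (s 0) + Finsupp.single 1 (s 1) := fun s =>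
    Finsupp.ext fun i => by fin_cases i <;> simp
  -- term by term
  have t0 : ∀ s ∈ f.support, x ^ d * aeval ![x⁻¹, y / x]
      (monomial (Finsupp.single 0 (d - (s 0 + s 1)) + Finsupp.single 1 (s 1)) (coeff s f) : MvPolynomial (Fin 2) k) =
      aeval ![x, y] (monomial s (coeff s f)) := by
    intro s hs
    rw [aeval_monomial_two, aeval_monomial_two]
    simp only [Finsupp.add_apply, Finsupp.single_eq_same, Finsupp.single_eq_of_ne (show (1 : Fin 2) ≠ 0 by decide),
      Finsupp.single_eq_of_ne (show (0 : Fin 2) ≠ 1 by decide), zero_add, add_zero]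
    have hle := support_deg_le f hs
    rw [← hd] at hle
    obtain ⟨r, hr⟩ := Nat.exists_eq_add_of_le hle
    rw [hr, Nat.add_sub_cancel_left, pow_add, pow_add, inv_pow, div_pow]
    field_simp
  have e0 : x ^ d * aeval ![x⁻¹, y / x] (chartP f) = aeval ![x, y] f := by
    conv_rhs => rw [hsum]
    rw [chartP, map_sum, map_sum, Finset.mul_sum]
    exact Finset.sum_congr rfl t0
  have dX : ∀ (i : Fin 2) (s : Fin 2 →₀ ℕ) (c : k) (a b : K),
      ![a, b] i * aeval ![a, b] (pderiv i (monomial s c)) = (s i : K) * aeval ![a, b] (monomial s c) := by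
    intro i s c a b
    have := congrArg (aeval ![a, b]) (X_mul_pderiv_monomial (R := k) (i := i) (m := s) (r := c))
    rwa [map_mul, aeval_X, map_nsmul, nsmul_eq_mul] at this
  have e1 : x ^ d * aeval ![x⁻¹, y / x] (pderiv 1 (chartP f)) = x * aeval ![x, y] (pderiv 1 f) := by
    conv_rhs => rw [hsum]
    rw [chartP, map_sum, map_sum, map_sum, map_sum, Finset.mul_sum, Finset.mul_sum]
    refine Finset.sum_congr rfl fun s hs => ?_
    rw [pderiv_monomial, pderiv_monomial]
    rcases Nat.eq_zero_or_pos (s 1) with h1 | h1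
    · simp [h1]
    rw [aeval_monomial_two, aeval_monomial_two]
    simp only [Finsupp.tsub_apply, Finsupp.add_apply, Finsupp.single_eq_same,
      Finsupp.single_eq_of_ne (show (1 : Fin 2) ≠ 0 by decide),
      Finsupp.single_eq_of_ne (show (0 : Fin 2) ≠ 1 by decide), zero_add, add_zero, tsub_zero, map_mul, map_natCast]
    have hle := support_deg_le f hs
    rw [← hd] at hle
    obtain ⟨r, hr⟩ := Nat.exists_eq_add_of_le hle
    obtain ⟨q, hq⟩ := Nat.exists_eq_add_of_le h1
    rw [← hd, hr, Nat.add_sub_cancel_left, hq, Nat.add_sub_cancel_left, pow_add, pow_add, inv_pow, div_pow]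
    field_simp
    ring
  refine ⟨e0, e1, ?_⟩
  conv_rhs => rw [hsum]
  rw [chartP]
  simp only [map_sum, Finset.mul_sum, ← Finset.sum_sub_distrib]
  refine Finset.sum_congr rfl fun s hs => ?_
  rw [show x * aeval ![x, y] (pderiv 0 (monomial s (coeff s f))) = (s 0 : K) * aeval ![x, y] (monomial s (coeff s f))
      from dX 0 s _ x y,
    show y * aeval ![x, y] (pderiv 1 (monomial s (coeff s f))) = (s 1 : K) * aeval ![x, y] (monomial s (coeff s f))
      from dX 1 s _ x y,
    show x⁻¹ * aeval ![x⁻¹, y / x] (pderiv 0 (monomial (Finsupp.single 0 (d - (s 0 + s 1)) + Finsupp.single 1 (s 1))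
        (coeff s f))) = ((d - (s 0 + s 1) : ℕ) : K) * aeval ![x⁻¹, y / x]
        (monomial (Finsupp.single 0 (d - (s 0 + s 1)) + Finsupp.single 1 (s 1)) (coeff s f)) by
      rw [show x⁻¹ = ![x⁻¹, y / x] 0 from rfl]
      exact (dX 0 _ _ _ _).trans (by simp),
    mul_left_comm, t0 s hs]
  have hle := support_deg_le f hs
  rw [← hd] at hle
  rw [Nat.cast_sub hle]
  push_cast
  ring

/-- the equation of the other chart generates its relations -/
theorem chart_ker [IsAlgClosed k] (hK : IsFunctionField k K) {x y : K}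
    (hxy : IntermediateField.adjoin k ({x, y} : Set K) = ⊤) {f : MvPolynomial (Fin 2) k}
    (hf : Irreducible f) (hfxy : aeval ![x, y] f = 0) (hx : x ≠ 0)
    (hne : aeval ![x, y] (pderiv 0 f) ≠ 0 ∨ aeval ![x, y] (pderiv 1 f) ≠ 0) :
    IntermediateField.adjoin k ({x⁻¹, y / x} : Set K) = ⊤ ∧ aeval ![x⁻¹, y / x] (chartP f) = 0 ∧
      ∀ g, aeval ![x⁻¹, y / x] g = 0 → chartP f ∣ g := by
  have hgen : IntermediateField.adjoin k ({x⁻¹, y / x} : Set K) = ⊤ := by
    rw [eq_top_iff, ← hxy, IntermediateField.adjoin_le_iff]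
    have h1 : x ∈ IntermediateField.adjoin k ({x⁻¹, y / x} : Set K) := by
      have := inv_mem (IntermediateField.subset_adjoin k ({x⁻¹, y / x} : Set K) (Set.mem_insert _ _))
      rwa [inv_inv] at this
    rintro v hv
    rcases hv with hv | hv <;> rw [hv]
    · exact h1
    · have := mul_mem (IntermediateField.subset_adjoin k ({x⁻¹, y / x} : Set K) (Set.mem_insert_of_mem _ rfl)) h1
      rwa [div_mul_cancel₀ _ hx] at this
  obtain ⟨e0, e1, e2⟩ := chartP_ids f hx y
  have hz : aeval ![x⁻¹, y / x] (chartP f) = 0 := by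
    rw [hfxy] at e0
    exact (mul_eq_zero.1 e0).resolve_left (pow_ne_zero _ hx)
  refine ⟨hgen, hz, ?_⟩
  have hg0 : chartP f ≠ 0 := fun h => by
    rw [h, map_zero, map_zero, mul_zero] at e1
    rw [h, map_zero, map_zero, mul_zero, mul_zero, hfxy, mul_zero, zero_sub] at e2
    rcases hne with h' | h'
    · rw [(mul_eq_zero.1 e1.symm).resolve_left hx, mul_zero, sub_zero] at e2
      exact mul_ne_zero hx h' (neg_eq_zero.1 e2.symm)
    · exact mul_ne_zero hx h' e1.symm
  -- an irreducible factor vanishing at the point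
  obtain ⟨g0, hg0i, hg0z, hdvd⟩ : ∃ g0, Irreducible g0 ∧ aeval ![x⁻¹, y / x] g0 = 0 ∧ g0 ∣ chartP f := by
    suffices ∀ g : MvPolynomial (Fin 2) k, g ≠ 0 → aeval ![x⁻¹, y / x] g = 0 →
        ∃ g0, Irreducible g0 ∧ aeval ![x⁻¹, y / x] g0 = 0 ∧ g0 ∣ g from this _ hg0 hz
    intro g hg
    induction g using WfDvdMonoid.induction_on_irreducible with
    | zero => exact absurd rfl hg
    | unit u hu => exact fun h => absurd h (hu.map (aeval ![x⁻¹, y / x])).ne_zero
    | mul a i ha hi ih =>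
      intro h
      rw [map_mul] at h
      rcases mul_eq_zero.1 h with h | h
      · exact ⟨i, hi, h, dvd_mul_right i a⟩
      · obtain ⟨g0, h1, h2, h3⟩ := ih ha h
        exact ⟨g0, h1, h2, h3.trans (dvd_mul_left a i)⟩
  obtain ⟨hker0, hdeg0⟩ := plane_equation hK hgen hg0i hg0z
  obtain ⟨-, hdeg⟩ := plane_equation hK hxy hf hfxy
  have hmd : (mapDiv k ![(1 : K), x⁻¹, y / x]).deg = (mapDiv k ![(1 : K), x, y]).deg := by
    rw [mapDiv_scale hK.1 ![(1 : K), x, y] ![(1 : K), x⁻¹, y / x] (Or.inr ⟨0, rfl⟩) (Or.inr ⟨0, rfl⟩)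
      (inv_ne_zero hx) ?_, deg_sub, deg_div hK.1, sub_zero]
    rw [Submodule.map_span, ← Set.range_comp]
    congr 1
    ext v
    simp only [Set.mem_range, Fin.exists_fin_succ, Function.comp_apply, LinearMap.mulLeft_apply,
      Matrix.cons_val_zero, Matrix.cons_val_succ, mul_one, inv_mul_cancel₀ hx, div_eq_inv_mul,
      IsEmpty.exists_iff, or_false]
    tauto
  rw [hmd, ← hdeg, Nat.cast_inj] at hdeg0
  obtain ⟨q, hq⟩ := hdvd
  have hq0 : q ≠ 0 := fun h => hg0 (by rw [hq, h, mul_zero])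
  have hd := totalDegree_mul_of_isDomain hg0i.ne_zero hq0
  rw [← hq, hdeg0] at hd
  have hle := totalDegree_chartP f
  have hqd : q.totalDegree = 0 := by omega
  rw [totalDegree_eq_zero_iff_eq_C] at hqd
  have hqu : IsUnit q := by
    rw [hqd]
    refine (isUnit_iff_ne_zero.2 fun h => hq0 ?_).map C
    rw [hqd, h, map_zero]
  intro g hg
  rw [hq]
  exact (associated_mul_unit_right g0 q hqu).symm.dvd.trans (hker0 g hg)

/-- the adjoint coefficient at infinity, chart `x ≠ 0` -/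
theorem infinite_point [IsAlgClosed k] (hK : IsFunctionField k K) {x y : K}
    (hxy : IntermediateField.adjoin k ({x, y} : Set K) = ⊤) {f : MvPolynomial (Fin 2) k}
    (hf : Irreducible f) (hfxy : aeval ![x, y] f = 0) (P : Place k K)
    {Φ : K →ₐ[k] LaurentSeries k} (hΦ : LocRes.IsExpansionAt P.1 Φ)
    (hx : 1 < P.1 x) (hyx : P.1 y ≤ P.1 x) (hne : aeval ![x, y] (pderiv 0 f) ≠ 0 ∨ aeval ![x, y] (pderiv 1 f) ≠ 0)
    {w : LaurentSeries k} (hw : IsOm Φ f x y w) (hw0 : w ≠ 0) :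
    ∃ w' : LaurentSeries k, 1 ≤ Valued.v w' ∧ Valued.v w * P.1 x ^ f.totalDegree = Valued.v w' * P.1 x ^ 3 ∧
      (Valued.v w' = 1 ↔ ∀ z : K, P.1 z ≤ 1 → InPt P x⁻¹ (y / x) z) := by
  have hx0 : x ≠ 0 := fun h => by rw [h, map_zero] at hx; exact not_lt_zero hx
  obtain ⟨hgen, hz, hker⟩ := chart_ker hK hxy hf hfxy hx0 hne
  obtain ⟨-, e1, e2⟩ := chartP_ids f hx0 y
  rw [hfxy, mul_zero, zero_sub] at e2
  set d := f.totalDegree
  have hX : Φ x ≠ 0 := (map_ne_zero_iff _ Φ.toRingHom.injective).2 hx0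
  set w' : LaurentSeries k := -(w * Φ x ^ d / Φ x ^ 3) with hw'
  have hDinv : LocRes.D k (Φ x⁻¹) = -(LocRes.D k (Φ x) / Φ x ^ 2) := by
    have h := congrArg (LocRes.D k) (congrArg Φ (mul_inv_cancel₀ hx0))
    rw [map_mul, Derivation.leibniz, map_one, Derivation.map_one_eq_zero, smul_eq_mul, smul_eq_mul,
      map_inv₀] at h
    rw [map_inv₀]
    field_simp at h ⊢
    linear_combination h
  have hom : IsOm Φ (chartP f) x⁻¹ (y / x) w' := by
    have e1' := congrArg Φ e1
    have e2' := congrArg Φ e2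
    simp only [map_mul, map_pow, map_sub, map_neg, map_inv₀] at e1' e2'
    obtain ⟨h1, h2⟩ := hw
    generalize hA0 : Φ (aeval ![x, y] (pderiv 0 f)) = A0 at h2 e2'
    generalize hA1 : Φ (aeval ![x, y] (pderiv 1 f)) = A1 at h1 e1' e2'
    constructor
    · rw [hDinv, h1, hw']
      generalize Φ (aeval ![x⁻¹, y / x] (pderiv 1 (chartP f))) = B1 at e1'
      field_simp
      linear_combination e1'
    · rw [hw']
      generalize Φ (aeval ![x⁻¹, y / x] (pderiv 0 (chartP f))) = B0 at e2'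
      rw [div_eq_mul_inv, map_mul, Derivation.leibniz, smul_eq_mul, smul_eq_mul, hDinv, h1, h2, map_inv₀]
      field_simp at e2' ⊢
      linear_combination (-1 : LaurentSeries k) * e2'
  have hne' : aeval ![x⁻¹, y / x] (pderiv 0 (chartP f)) ≠ 0 ∨
      aeval ![x⁻¹, y / x] (pderiv 1 (chartP f)) ≠ 0 := by
    by_contra hcon
    simp only [not_or, not_not] at hcon
    rw [hcon.2, mul_zero] at e1
    rw [hcon.1, mul_zero, mul_zero, (mul_eq_zero.1 e1.symm).resolve_left hx0, mul_zero, sub_zero] at e2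
    exact hne.elim (fun h => mul_ne_zero hx0 h (neg_eq_zero.1 e2.symm)) fun h => mul_ne_zero hx0 h e1.symm
  have hw'0 : w' ≠ 0 := neg_ne_zero.2 (div_ne_zero (mul_ne_zero hw0 (pow_ne_zero _ hX)) (pow_ne_zero _ hX))
  obtain ⟨h1, h2⟩ := affine_point hK P hΦ (a := x⁻¹) (b := y / x) (by rw [map_inv₀]; exact inv_le_one_of_one_le₀ hx.le)
    (by rw [map_div₀]; exact div_le_one_of_le₀ hyx zero_le) hgen hz hker hom hw'0 hne'
  refine ⟨w', h1, ?_, h2⟩
  rw [hw', Valuation.map_neg, map_div₀, map_mul, map_pow, map_pow, hΦ.1,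
    div_mul_cancel₀ _ (pow_ne_zero _ (val_ne_zero P hx0))]

theorem irreducible_swapP {f : MvPolynomial (Fin 2) k} (hf : Irreducible f) : Irreducible (swapP f) := by
  let e : MvPolynomial (Fin 2) k ≃ₐ[k] MvPolynomial (Fin 2) k :=
    AlgEquiv.ofAlgHom swapP swapP (AlgHom.ext swapP_swapP) (AlgHom.ext swapP_swapP)
  exact (MulEquiv.irreducible_iff e).2 hf

theorem totalDegree_swapP (f : MvPolynomial (Fin 2) k) : (swapP f).totalDegree = f.totalDegree := by
  have hle : ∀ g : MvPolynomial (Fin 2) k, (swapP g).totalDegree ≤ g.totalDegree :=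
    mv_totalDegree_aeval_le _ fun i => by fin_cases i <;> simp
  refine le_antisymm (hle f) ?_
  conv_lhs => rw [← swapP_swapP f]
  exact hle _

end Groth.Agent.FunFldLib
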