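import Groth.Agent.FunFldLib.PlaceIntClosure
import Mathlib.RingTheory.Flat.Basic
import Mathlib.RingTheory.Polynomial.ScaleRoots

/-! Integral closure of a valuation ring in a constant extension with reduced special fibre. -/

set_option autoImplicit false
set_option maxHeartbeats 1000000
set_option backward.isDefEq.respectTransparency false

open WithZero TensorProduct

universe u v

namespace Groth.Agent.FunFldLib

open FunFld IsLocalRing Polynomial

variable {k k' : Type u} {K K' : Type v} [Field k] [Field k'] [Field K] [Field K']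
  [Algebra k k'] [FiniteDimensional k k'] [Algebra k K] [Algebra K K'] [Algebra k' K'] [Algebra k K']
  [IsScalarTower k k' K'] [IsScalarTower k K K'] (P : Place k K) [Algebra P.O K'] [IsScalarTower P.O K K']

omit [Field k'] [Algebra k k'] [FiniteDimensional k k'] [Algebra k' K'] [IsScalarTower k k' K'] in
theorem tower_O : IsScalarTower k P.O K' := IsScalarTower.of_algebraMap_eq fun c => by
  rw [IsScalarTower.algebraMap_apply P.O K K', IsScalarTower.algebraMap_apply k K K']; rfl

/-- `O_P ⊗ k' → K'` -/
noncomputable def constMap : P.O ⊗[k] k' →ₐ[P.O] K' :=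
  haveI := tower_O (K' := K') P
  Algebra.TensorProduct.lift (Algebra.ofId P.O K') (IsScalarTower.toAlgHom k k' K') fun _ _ => .all _ _

omit [FiniteDimensional k k'] in
theorem constMap_tmul (a : P.O) (c : k') :
    constMap P (a ⊗ₜ c) = algebraMap K K' (a : K) * algebraMap k' K' c := by
  haveI := tower_O (K' := K') P
  rw [constMap, Algebra.TensorProduct.lift_tmul]
  show algebraMap P.O K' a * _ = _
  rw [IsScalarTower.algebraMap_apply P.O K K']; rfl

theorem constMap_injective (h : Function.Bijective (Algebra.TensorProduct.productMap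
    (IsScalarTower.toAlgHom k k' K') (IsScalarTower.toAlgHom k K K'))) :
    Function.Injective (constMap (k' := k') (K' := K') P) := by
  let ι : P.O →ₐ[k] K := { P.O.subtype with commutes' := fun _ => rfl }
  let f : P.O ⊗[k] k' → K' := fun x => Algebra.TensorProduct.productMap
    (IsScalarTower.toAlgHom k k' K') (IsScalarTower.toAlgHom k K K')
      (TensorProduct.comm k K k' (LinearMap.rTensor k' ι.toLinearMap x))
  have hf : Function.Injective f := h.1.comp ((TensorProduct.comm k K k').injective.comp
    (Module.Flat.rTensor_preserves_injective_linearMap ι.toLinearMap (fun a b hab => Subtype.ext hab)))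
  have hfe : ∀ x, f x = constMap P x := fun x => by
    induction x using TensorProduct.induction_on with
    | zero => simp [f]
    | tmul a c =>
      rw [constMap_tmul]
      show Algebra.TensorProduct.productMap (IsScalarTower.toAlgHom k k' K') (IsScalarTower.toAlgHom k K K') (c ⊗ₜ (a : K)) = _
      rw [Algebra.TensorProduct.productMap_apply_tmul, mul_comm]; rfl
    | add a b ha hb => simp only [f, map_add] at ha hb ⊢; rw [ha, hb]
  intro a b hab
  exact hf (by rw [hfe, hfe, hab])

omit [FiniteDimensional k k'] in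
theorem mem_adjoin_of_mem_range (x : P.O ⊗[k] k') :
    constMap P x ∈ Algebra.adjoin P.O (Set.range (algebraMap k' K')) := by
  induction x using TensorProduct.induction_on with
  | zero => rw [map_zero]; exact zero_mem _
  | tmul a c =>
    rw [constMap_tmul, ← algebraMap_O (K' := K') a]
    exact mul_mem (Subalgebra.algebraMap_mem _ _) (Algebra.subset_adjoin ⟨c, rfl⟩)
  | add a b ha hb => rw [map_add]; exact add_mem ha hb

/-- `O_P ⊗ k' → F_P ⊗ k'` -/
noncomputable def constRed : P.O ⊗[k] k' →ₐ[k] ResidueField P.O ⊗[k] k' :=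
  Algebra.TensorProduct.map { residue P.O with commutes' := fun _ => rfl } (AlgHom.id k k')

omit [Algebra k' K'] [IsScalarTower k k' K'] [Algebra K K'] [Field K'] [Algebra k K'] [IsScalarTower k K K'] [Algebra P.O K'] [IsScalarTower P.O K K'] in
theorem exists_div {τ : P.O} (hτ : ∀ a : P.O, residue P.O a = 0 → τ ∣ a) {x : P.O ⊗[k] k'}
    (hx : constRed P x = 0) : ∃ y, x = (τ ⊗ₜ[k] (1 : k')) * y := by
  classical
  let b := Module.finBasis k k'
  set c := TensorProduct.equivFinsuppOfBasisRight (M := P.O) b x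
  have hxc : x = ∑ i, c i ⊗ₜ[k] b i := by
    conv_lhs => rw [← (TensorProduct.equivFinsuppOfBasisRight (M := P.O) b).symm_apply_apply x,
      TensorProduct.equivFinsuppOfBasisRight_symm_apply]
    exact Finsupp.sum_fintype _ _ fun _ => TensorProduct.zero_tmul _ _
  rw [hxc, map_sum] at hx
  have hc0 : ∀ i, residue P.O (c i) = 0 := fun i => by
    have h1 := congrArg (TensorProduct.equivFinsuppOfBasisRight (M := ResidueField P.O) b) hx
    rw [map_sum, map_zero] at h1
    have h2 := DFunLike.congr_fun h1 i
    simp only [constRed, Algebra.TensorProduct.map_tmul, AlgHom.id_apply, Finsupp.coe_finsetSum, Finset.sum_apply,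
      TensorProduct.equivFinsuppOfBasisRight_apply_tmul_apply, Module.Basis.repr_self, Finsupp.coe_zero, Pi.zero_apply] at h2
    rw [Finset.sum_eq_single i (fun j _ hj => by rw [Finsupp.single_eq_of_ne (Ne.symm hj), zero_smul])
      (fun hi => absurd (Finset.mem_univ i) hi), Finsupp.single_eq_same, one_smul] at h2
    exact h2
  choose d hd using fun i => hτ _ (hc0 i)
  refine ⟨∑ i, d i ⊗ₜ[k] b i, ?_⟩
  rw [hxc, Finset.mul_sum]
  exact Finset.sum_congr rfl fun i _ => by rw [Algebra.TensorProduct.tmul_mul_tmul, one_mul, hd i]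

omit [Algebra k' K'] [IsScalarTower k k' K'] [Algebra K K'] [Field K'] [Algebra k K'] [IsScalarTower k K K'] [Algebra P.O K'] [IsScalarTower P.O K K'] [FiniteDimensional k k'] in
theorem exists_param : ∃ τ : P.O, P.1 (τ : K) = exp (-1) ∧ ∀ a : P.O, residue P.O a = 0 → τ ∣ a := by
  obtain ⟨t, ht0, ht⟩ := exists_val_eq P (-1)
  refine ⟨⟨t, (Valuation.mem_valuationSubring_iff P.1 _).2 (by rw [ht]; exact exp_neg_one_le_one')⟩, ht, fun a ha => ?_⟩
  refine ⟨⟨(a : K) / t, (Valuation.mem_valuationSubring_iff P.1 _).2 ?_⟩, Subtype.ext (mul_div_cancel₀ _ ht0).symm⟩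
  rw [map_div₀, ht, div_le_one₀ exp_pos]
  exact ((lt_exp_iff_le P _ 0).1 (((residue_eq_zero_iff_val P a).1 ha).trans_eq exp_zero.symm))

theorem mem_range_of_integral (h : Function.Bijective (Algebra.TensorProduct.productMap
    (IsScalarTower.toAlgHom k k' K') (IsScalarTower.toAlgHom k K K')))
    [IsReduced (ResidueField P.O ⊗[k] k')] {z : K'} (hz : IsIntegral P.O z) :
    z ∈ Set.range (constMap (k' := k') P) := by
  obtain ⟨τ, hτv, hτ⟩ := exists_param P
  have hτ0 : (τ : K) ≠ 0 := fun h0 => by rw [h0, map_zero] at hτv; exact exp_ne_zero hτv.symm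
  have step : ∀ m : ℕ, algebraMap P.O K' (τ ^ (m + 1)) * z ∈ Set.range (constMap (k' := k') P) →
      algebraMap P.O K' (τ ^ m) * z ∈ Set.range (constMap (k' := k') P) := by
    rintro m ⟨x, hx⟩
    obtain ⟨p, hpm, hp⟩ := hz
    set s := τ ^ (m + 1)
    have h1 : aeval x (p.scaleRoots s) = 0 := by
      apply constMap_injective P h
      rw [map_zero, ← aeval_algHom_apply, hx]
      exact scaleRoots_aeval_eq_zero hp
    have h2 : (p.scaleRoots s).map (residue P.O) = X ^ p.natDegree := by
      ext i
      rw [coeff_map, coeff_scaleRoots, coeff_X_pow]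
      split_ifs with hi
      · subst hi; rw [Nat.sub_self, pow_zero, mul_one, hpm.coeff_natDegree, map_one]
      · rcases lt_or_gt_of_ne hi with hlt | hgt
        · rw [map_mul, map_pow, map_pow, (residue_eq_zero_iff_val P τ).2 (by rw [hτv, ← exp_zero, exp_lt_exp]; norm_num),
            zero_pow (Nat.succ_ne_zero m), zero_pow (by omega), mul_zero]
        · rw [coeff_eq_zero_of_natDegree_lt hgt, zero_mul, map_zero]
    have h3 : constRed P x ^ p.natDegree = 0 := by
      have h4 := congrArg (constRed P) h1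
      rw [map_zero, aeval_def] at h4
      rw [← AlgHom.coe_toRingHom, hom_eval₂] at h4
      rw [show ((constRed (k' := k') P : P.O ⊗[k] k' →+* ResidueField P.O ⊗[k] k')).comp (algebraMap P.O (P.O ⊗[k] k')) =
        (algebraMap (ResidueField P.O) (ResidueField P.O ⊗[k] k')).comp (residue P.O) from RingHom.ext fun a => by
          simp [constRed, Algebra.TensorProduct.algebraMap_apply], ← eval₂_map, h2, eval₂_X_pow] at h4
      exact h4
    obtain ⟨y, rfl⟩ := exists_div P hτ (IsReduced.eq_zero _ ⟨_, h3⟩)
    refine ⟨y, ?_⟩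
    rw [map_mul, constMap_tmul, map_one, mul_one, ← algebraMap_O (K' := K') τ, map_pow, pow_succ',
      mul_assoc, ← map_pow] at hx
    exact mul_left_cancel₀ (by rw [algebraMap_O]; exact (_root_.map_ne_zero _).2 hτ0) hx
  obtain ⟨a, ha⟩ := h.2 z
  obtain ⟨n, hn⟩ : ∃ n, ∀ m, n ≤ m → algebraMap P.O K' (τ ^ m) * z ∈ Set.range (constMap (k' := k') P) := by
    rw [← ha]
    clear ha
    induction a using TensorProduct.induction_on with
    | zero => exact ⟨0, fun m _ => ⟨0, by simp⟩⟩
    | tmul c y =>
      refine ⟨(-P.ord y).toNat, fun m hm => ⟨(⟨(τ : K) ^ m * y, ?_⟩ : P.O) ⊗ₜ c, ?_⟩⟩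
      · rw [Valuation.mem_valuationSubring_iff]
        rcases eq_or_ne y 0 with rfl | hy
        · simp
        rw [val_le_one_iff P (mul_ne_zero (pow_ne_zero _ hτ0) hy), ord_mul P (pow_ne_zero _ hτ0) hy, ord_pow,
          show P.ord (τ : K) = 1 by simp [Place.ord, hτv]]
        omega
      · rw [constMap_tmul, algebraMap_O, Algebra.TensorProduct.productMap_apply_tmul]
        show algebraMap K K' ((τ : K) ^ m * y) * _ = algebraMap K K' ((τ : K) ^ m) * (algebraMap k' K' c * algebraMap K K' y)
        rw [map_mul]; ring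
    | add a b ha hb =>
      obtain ⟨n, hn⟩ := ha
      obtain ⟨m, hm⟩ := hb
      refine ⟨max n m, fun l hl => ?_⟩
      obtain ⟨x, hx⟩ := hn l (le_of_max_le_left hl)
      obtain ⟨y, hy⟩ := hm l (le_of_max_le_right hl)
      exact ⟨x + y, by rw [map_add, map_add, mul_add, hx, hy]⟩
  have : ∀ m, algebraMap P.O K' (τ ^ m) * z ∈ Set.range (constMap (k' := k') P) →
      z ∈ Set.range (constMap (k' := k') P) := by
    intro m
    induction m with
    | zero => intro h; rwa [pow_zero, map_one, one_mul] at h
    | succ m ih => exact fun h => ih (step m h)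
  exact this n (hn n le_rfl)

theorem closure_eq (h : Function.Bijective (Algebra.TensorProduct.productMap
    (IsScalarTower.toAlgHom k k' K') (IsScalarTower.toAlgHom k K K')))
    [IsReduced (ResidueField P.O ⊗[k] k')] :
    (integralClosure P.O K').toSubring =
      (Algebra.adjoin P.O (Set.range (algebraMap k' K'))).toSubring := by
  haveI := tower_O (K' := K') P
  ext z
  refine ⟨fun hz => ?_, fun hz => ?_⟩
  · obtain ⟨x, rfl⟩ := mem_range_of_integral P h (show IsIntegral P.O z from hz)
    exact mem_adjoin_of_mem_range P x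
  · refine (Algebra.adjoin_le (S := integralClosure P.O K') ?_) hz
    rintro _ ⟨c, rfl⟩
    exact ((IsIntegral.of_finite k c).map (IsScalarTower.toAlgHom k k' K')).tower_top

theorem e_eq_one (hK : IsFF k K) [FiniteDimensional K K'] [Algebra.IsSeparable K K']
    (h : Function.Bijective (Algebra.TensorProduct.productMap
      (IsScalarTower.toAlgHom k k' K') (IsScalarTower.toAlgHom k K K')))
    [IsReduced (ResidueField P.O ⊗[k] k')] {Q : Place k K'} {e : ℕ} (he : IsOverWith Q P e) : e = 1 := by
  classical
  by_contra he1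
  have he2 : 2 ≤ e := by have := isOverWith_pos he; omega
  obtain ⟨τ, hτv, hτ⟩ := exists_param P
  have hτ0 : (τ : K) ≠ 0 := fun h0 => by rw [h0, map_zero] at hτv; exact exp_ne_zero hτv.symm
  choose s hs0 hs using fun R : Place k K' => exists_val_eq R (-1)
  obtain ⟨z, hz⟩ := exists_approx (finite_over (K' := K') hK P).toFinset s (fun _ => -2)
  have hzv : ∀ R, IsOver R P → R.1 z = exp (-1 : ℤ) := fun R hR => by
    have h2 : R.1 (z - s R) < R.1 (s R) :=
      (hz R ((Set.Finite.mem_toFinset _).2 hR)).trans_lt (by rw [hs, exp_lt_exp]; norm_num)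
    have h3 := Valuation.map_add_eq_of_lt_left R.1 h2
    rw [add_sub_cancel] at h3
    rw [h3, hs]
  have htv : ∀ R (e' : ℕ), IsOverWith R P e' → R.1 (algebraMap K K' (τ : K)) = exp (-(e' : ℤ)) := fun R e' h => by
    rw [h, hτv, ← exp_nsmul, nsmul_eq_mul, mul_neg, mul_one]
  set N := ∑ R ∈ (finite_over (K' := K') hK P).toFinset, eAt (K := K) hK R
  have hzN : IsIntegral P.O (z ^ N / algebraMap K K' (τ : K)) := (integral_iff hK _).2 fun R hR => by
    obtain ⟨e', h'⟩ := id hR
    have hle : e' ≤ N := (place_unique h' (isOverWith_below hK R)).2 ▸ Finset.single_le_sum (f := fun R => eAt (K := K) hK R)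
      (fun _ _ => Nat.zero_le _) ((Set.Finite.mem_toFinset _).2 hR)
    rw [map_div₀, map_pow, hzv R hR, htv R e' h', ← exp_nsmul, ← exp_sub, ← exp_zero, exp_le_exp, nsmul_eq_mul]
    omega
  obtain ⟨x, hx⟩ := mem_range_of_integral (k' := k') P h ((integral_iff hK z).2 fun R hR => by
    rw [hzv R hR]; exact exp_neg_one_le_one')
  obtain ⟨y, hy⟩ := mem_range_of_integral (k' := k') P h hzN
  have hτK : algebraMap K K' (τ : K) ≠ 0 := (_root_.map_ne_zero _).2 hτ0
  have h1 : x ^ N = (τ ⊗ₜ[k] (1 : k')) * y := constMap_injective P h (by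
    rw [map_pow, map_mul, constMap_tmul, map_one, mul_one, hx, hy, mul_div_cancel₀ _ hτK])
  have hres : residue P.O τ = 0 := (residue_eq_zero_iff_val P τ).2 (by rw [hτv, ← exp_zero, exp_lt_exp]; norm_num)
  have h2 : constRed P x ^ N = 0 := by
    rw [← map_pow, h1, map_mul, constRed, Algebra.TensorProduct.map_tmul]
    show (residue P.O τ ⊗ₜ[k] _) * _ = 0
    rw [hres, TensorProduct.zero_tmul, zero_mul]
  obtain ⟨w, rfl⟩ := exists_div P hτ (IsReduced.eq_zero _ ⟨_, h2⟩)
  rw [map_mul, constMap_tmul, map_one, mul_one] at hx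
  have h3 : Q.1 (constMap P w) ≤ 1 :=
    integral_le_one he ((closure_eq (k' := k') P h).ge (mem_adjoin_of_mem_range P w) : _)
  have h4 := congrArg Q.1 hx
  rw [map_mul, htv Q e he, hzv Q ⟨e, he⟩] at h4
  have h5 := h4.symm.trans_le (mul_le_of_le_one_right' h3)
  rw [exp_le_exp] at h5
  omega

end Groth.Agent.FunFldLib
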