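import Groth.Agent.FunFldLib.HomPlane
import Mathlib.RingTheory.Kaehler.Basic

/-! Change of projective coordinates of a plane curve. -/

set_option autoImplicit false
set_option maxHeartbeats 800000

open MvPolynomial

namespace Groth.Agent.FunFldLib

variable {k K : Type*} [Field k] [Field K] [Algebra k K]

local notation "d" => KaehlerDifferential.D k K

theorem D_aeval_fintype {ι : Type*} [Fintype ι] (v : ι → K) (q : MvPolynomial ι k) :
    d (aeval v q) = ∑ i, aeval v (pderiv i q) • d (v i) := by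
  classical
  induction q using MvPolynomial.induction_on with
  | C e => simp
  | add p q hp hq => simp only [map_add, hp, hq, add_smul, Finset.sum_add_distrib]
  | mul_X p j hp =>
    have e : ∀ i, aeval v (pderiv i (p * X j)) • d (v i) =
        v j • (aeval v (pderiv i p) • d (v i)) + if i = j then aeval v p • d (v j) else 0 := fun i => by
      rw [Derivation.leibniz, pderiv_X]
      simp only [smul_eq_mul, map_add, map_mul, aeval_X, add_smul, mul_smul]
      split_ifs with h
      · subst h; simp [add_comm]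
      · simp [Pi.single_eq_of_ne (Ne.symm h)]
    rw [map_mul, aeval_X, Derivation.leibniz, hp,
      Finset.sum_congr rfl fun i _ => e i, Finset.sum_add_distrib, Finset.sum_ite_eq', ← Finset.smul_sum]
    simp [add_comm]

theorem D_algebraMap_mul (c : k) (w : K) : d (algebraMap k K c * w) = algebraMap k K c • d w := by
  rw [Derivation.leibniz, Derivation.map_algebraMap]; simp

/-- the linear substitution -/
noncomputable abbrev linSub (A : Matrix (Fin 3) (Fin 3) k) : Fin 3 → MvPolynomial (Fin 3) k :=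
  fun i => ∑ j, C (A i j) * X j

theorem isHomogeneous_linSub (A : Matrix (Fin 3) (Fin 3) k) {f : MvPolynomial (Fin 3) k} {e : ℕ}
    (hf : f.IsHomogeneous e) : (aeval (linSub A) f).IsHomogeneous e := by
  have h := hf.aeval (linSub A) (n := 1) fun i =>
    IsHomogeneous.sum _ _ _ fun j _ => (isHomogeneous_X k j).C_mul _
  rwa [one_mul] at h

theorem aeval_linSub (A : Matrix (Fin 3) (Fin 3) k) (f : MvPolynomial (Fin 3) k) (u : Fin 3 → K) :
    aeval u (aeval (linSub A) f) = aeval (fun i => ∑ j, algebraMap k K (A i j) * u j) f := by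
  rw [comp_aeval_apply]; simp

theorem pderiv_two_linSub (A : Matrix (Fin 3) (Fin 3) k) (f : MvPolynomial (Fin 3) k) (u : Fin 3 → K) :
    aeval u (pderiv 2 (aeval (linSub A) f)) =
      ∑ i, algebraMap k K (A i 2) * aeval (fun i => ∑ j, algebraMap k K (A i j) * u j) (pderiv i f) := by
  rw [pderiv_aeval_fintype, map_sum]
  refine Finset.sum_congr rfl fun i _ => ?_
  rw [map_mul, aeval_linSub, mul_comm]
  congr 1
  simp [linSub, pderiv_X, Pi.single_apply]

theorem aeval_div_first {m : ℕ} {F : MvPolynomial (Fin 3) k} (hF : F.IsHomogeneous m) {u : Fin 3 → K}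
    (hu0 : u 0 ≠ 0) : aeval ![(1 : K), u 1 / u 0, u 2 / u 0] F = (u 0)⁻¹ ^ m * aeval u F := by
  rw [← aeval_scale hF]
  congr 2
  funext i
  fin_cases i <;> simp [hu0, div_eq_inv_mul]

/-- `dx / f_y = det A z^(e-3) dx' / f'_y'` -/
theorem coord_change (f : MvPolynomial (Fin 3) k) (e : ℕ) (hf : f.IsHomogeneous e)
    (x y : K) (hfxy : aeval ![(1 : K), x, y] f = 0)
    (A : Matrix (Fin 3) (Fin 3) k)
    (u : Fin 3 → K) (hu : ∀ i, ∑ j, algebraMap k K (A i j) * u j = ![(1 : K), x, y] i)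
    (hu0 : u 0 ≠ 0)
    (hfy : aeval ![(1 : K), x, y] (pderiv 2 f) ≠ 0)
    (hfy' : aeval ![(1 : K), u 1 / u 0, u 2 / u 0] (pderiv 2 (aeval (linSub A) f)) ≠ 0) :
    (aeval ![(1 : K), x, y] (pderiv 2 f))⁻¹ • d x =
      (algebraMap k K A.det * (u 0)⁻¹ ^ ((e : ℤ) - 3) *
        (aeval ![(1 : K), u 1 / u 0, u 2 / u 0] (pderiv 2 (aeval (linSub A) f)))⁻¹) •
        d (u 1 / u 0) := by
  set v : Fin 3 → K := ![(1 : K), x, y] with hv
  have hv' : (fun i => ∑ j, algebraMap k K (A i j) * u j) = v := funext hu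
  set S : K := ∑ i, algebraMap k K (A i 2) * aeval v (pderiv i f) with hS
  have hS' : aeval u (pderiv 2 (aeval (linSub A) f)) = S := by rw [pderiv_two_linSub, hv']
  rw [aeval_div_first ((isHomogeneous_linSub A hf).pderiv) hu0, hS'] at hfy' ⊢
  have hS0 : S ≠ 0 := right_ne_zero_of_mul hfy'
  have he : e ≠ 0 := by
    rintro rfl
    apply hfy
    obtain ⟨c, rfl⟩ : ∃ c, f = C c := ⟨_, (totalDegree_eq_zero_iff_eq_C).1 (Nat.le_zero.1 hf.totalDegree_le)⟩
    simp
  have hd : d (v 0) = 0 := by simp [hv]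
  have hdu : ∀ i, d (v i) = ∑ j, algebraMap k K (A i j) • d (u j) := fun i => by
    rw [← hu i, map_sum]
    exact Finset.sum_congr rfl fun j _ => D_algebraMap_mul _ _
  have h1 : aeval v (pderiv 1 f) • d x + aeval v (pderiv 2 f) • d y = 0 := by
    have h := D_aeval_fintype v f
    rw [hfxy, map_zero, Fin.sum_univ_three, hd, smul_zero, zero_add] at h
    simpa [hv] using h.symm
  have hE : aeval v (pderiv 0 f) = -(x * aeval v (pderiv 1 f)) - y * aeval v (pderiv 2 f) := by
    have h := congrArg (aeval v) hf.sum_X_mul_pderiv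
    rw [map_sum, map_nsmul, hfxy, smul_zero, Fin.sum_univ_three] at h
    simp only [map_mul, aeval_X] at h
    simp only [hv, Matrix.cons_val_zero, Matrix.cons_val_one, Matrix.cons_val] at h ⊢
    linear_combination h
  -- the wedge identity
  set a : Fin 3 → Fin 3 → K := fun i j => algebraMap k K (A i j) with ha
  have hdet : algebraMap k K A.det = a 0 0 * a 1 1 * a 2 2 - a 0 0 * a 1 2 * a 2 1 - a 0 1 * a 1 0 * a 2 2
      + a 0 1 * a 1 2 * a 2 0 + a 0 2 * a 1 0 * a 2 1 - a 0 2 * a 1 1 * a 2 0 := by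
    rw [Matrix.det_fin_three]; simp [ha]
  have hw : (a 0 2) • (x • d y - y • d x) - a 1 2 • d y + a 2 2 • d x =
      algebraMap k K A.det • (u 0 • d (u 1) - u 1 • d (u 0)) := by
    have e0 := hu 0; have e1 := hu 1; have e2 := hu 2
    have d0 := hdu 0; have d1 := hdu 1; have d2 := hdu 2
    simp only [Fin.sum_univ_three, hv, Matrix.cons_val_zero, Matrix.cons_val_one, Matrix.cons_val] at e0 e1 e2 d0 d1 d2
    rw [show d (1 : K) = 0 from Derivation.map_one_eq_zero _] at d0
    simp only [← ha] at *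
    have p1 : d y = (a 0 0 * u 0 + a 0 1 * u 1 + a 0 2 * u 2) • d y
        - y • (a 0 0 • d (u 0) + a 0 1 • d (u 1) + a 0 2 • d (u 2)) := by
      rw [e0, ← d0, one_smul, smul_zero, sub_zero]
    have p2 : d x = (a 0 0 * u 0 + a 0 1 * u 1 + a 0 2 * u 2) • d x
        - x • (a 0 0 • d (u 0) + a 0 1 • d (u 1) + a 0 2 • d (u 2)) := by
      rw [e0, ← d0, one_smul, smul_zero, sub_zero]
    conv_lhs => arg 1; arg 2; rw [p1]
    conv_lhs => arg 2; rw [p2]
    rw [d1, d2, ← e1, ← e2, hdet]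
    module
  have key : S • d x = (aeval v (pderiv 2 f) * algebraMap k K A.det) • (u 0 • d (u 1) - u 1 • d (u 0)) := by
    rw [mul_smul, ← hw, hS, Fin.sum_univ_three, hE]
    have h1' : aeval v (pderiv 1 f) • d x = -(aeval v (pderiv 2 f) • d y) := eq_neg_of_add_eq_zero_left h1
    calc _ = (a 1 2 - a 0 2 * x) • (aeval v (pderiv 1 f) • d x)
          + (aeval v (pderiv 2 f) * (a 2 2 - a 0 2 * y)) • d x := by simp only [ha]; module
      _ = _ := by rw [h1']; module
  have hdq : d (u 1 / u 0) = (u 0)⁻¹ • (u 0)⁻¹ • (u 0 • d (u 1) - u 1 • d (u 0)) := by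
    rw [div_eq_mul_inv, Derivation.leibniz, Derivation.leibniz_inv]
    simp only [smul_sub, smul_smul]
    rw [show (u 0)⁻¹ * ((u 0)⁻¹ * u 0) = (u 0)⁻¹ by rw [inv_mul_cancel₀ hu0, mul_one],
      show (-(u 0)⁻¹ ^ 2) = -((u 0)⁻¹ * (u 0)⁻¹) by ring]
    module
  set z := (u 0)⁻¹ with hz
  have hz0 : z ≠ 0 := inv_ne_zero hu0
  have hpow : z ^ ((e : ℤ) - 3) * (z ^ (e - 1) * S)⁻¹ * (z * z) = S⁻¹ := by
    have e1 : ((e - 1 : ℕ) : ℤ) = (e : ℤ) - 1 := by omega
    rw [mul_inv, ← zpow_natCast z (e - 1), e1, zpow_sub₀ hz0, zpow_sub₀ hz0]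
    field_simp
  rw [hdq]
  simp only [smul_smul]
  have : d x = (S⁻¹ * (aeval v (pderiv 2 f) * algebraMap k K A.det)) • (u 0 • d (u 1) - u 1 • d (u 0)) := by
    rw [mul_smul, ← key, smul_smul, inv_mul_cancel₀ hS0, one_smul]
  rw [this, smul_smul]
  congr 1
  rw [← hpow]
  field_simp

end Groth.Agent.FunFldLib
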