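import Groth.Agent.FunFldLib.MapDiv
import Groth.Agent.FunFldLib.Gaps

/-! The affine coordinate ring of a linear system and its conductor. -/

set_option autoImplicit false

open WithZero IsLocalRing

namespace Groth.Agent.FunFldLib

open FunFld

variable {k K : Type*} [Field k] [Field K] [Algebra k K]

theorem exists_generic [Infinite k] (V : Submodule k K) {ι : Type*} (s : Finset ι) (W : ι → Submodule k K)
    (h : ∀ i ∈ s, ∃ v ∈ V, v ∉ W i) : ∃ v ∈ V, ∀ i ∈ s, v ∉ W i := by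
  by_contra! hc
  have hcov : ⋃ i : Option s, ((i.elim ⊥ fun i => (W i.1).comap V.subtype : Submodule k V) : Set V) = Set.univ := by
    refine Set.eq_univ_of_forall fun v => Set.mem_iUnion.2 ?_
    obtain ⟨i, hi, hiv⟩ := hc v v.2
    exact ⟨some ⟨i, hi⟩, hiv⟩
  obtain ⟨i, hi⟩ := Subspace.exists_eq_top_of_iUnion_eq_univ hcov
  cases i with
  | none =>
    obtain ⟨j, hj, hjw⟩ := hc 0 V.zero_mem
    obtain ⟨v, hv, hvW⟩ := h j hj
    have h2 : (⟨v, hv⟩ : V) ∈ (⊥ : Submodule k V) := by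
      have : (⊥ : Submodule k V) = ⊤ := hi
      rw [this]; trivial
    have h3 : v = 0 := congrArg Subtype.val ((Submodule.mem_bot k).1 h2)
    exact hvW (h3 ▸ hjw)
  | some i =>
    obtain ⟨v, hv, hvW⟩ := h i.1 i.2
    have h2 : (⟨v, hv⟩ : V) ∈ ((W i.1).comap V.subtype : Submodule k V) := by
      have : ((W i.1).comap V.subtype : Submodule k V) = ⊤ := hi
      rw [this]; trivial
    exact hvW h2

theorem exists_exact [Infinite k] {V : Submodule k K} {E : Divisor k K} (hE : Exact V E)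
    (S : Finset (Place k K)) : ∃ v ∈ V, ∀ Q ∈ S, Q.1 v = exp (E Q) := by
  obtain ⟨v, hv, hvW⟩ := exists_generic V S (fun Q => F Q (E Q - 1)) fun Q _ => by
    obtain ⟨v, hv, hvQ⟩ := hE.2 Q
    refine ⟨v, hv, fun h => ?_⟩
    have := mem_F.1 h
    rw [hvQ, exp_le_exp] at this
    omega
  refine ⟨v, hv, fun Q hQ => le_antisymm (hE.1 v hv Q) (not_lt.1 fun h => hvW Q hQ ?_)⟩
  exact mem_F.2 ((lt_exp_iff_le Q v _).1 h)

/-- regular outside the support of `E` -/
def InB (E : Divisor k K) (f : K) : Prop := ∀ Q : Place k K, E Q ≤ 0 → Q.1 f ≤ 1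

theorem InB.add {E : Divisor k K} {f g : K} (hf : InB E f) (hg : InB E g) : InB E (f + g) := fun Q h =>
  (Q.1.map_add f g).trans (max_le (hf Q h) (hg Q h))

theorem InB.sub {E : Divisor k K} {f g : K} (hf : InB E f) (hg : InB E g) : InB E (f - g) := fun Q h =>
  (Q.1.map_sub f g).trans (max_le (hf Q h) (hg Q h))

theorem InB.mul {E : Divisor k K} {f g : K} (hf : InB E f) (hg : InB E g) : InB E (f * g) := fun Q h => by
  rw [map_mul]; exact mul_le_one' (hf Q h) (hg Q h)

theorem InB.const (E : Divisor k K) (c : k) : InB E (algebraMap k K c) := fun Q _ => Q.2.1 c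

/-- the subalgebra of `InB` functions -/
def subB (E : Divisor k K) : Subalgebra k K where
  carrier := {f | InB E f}
  algebraMap_mem' := InB.const E
  zero_mem' Q _ := by simp
  one_mem' Q _ := by simp
  add_mem' := InB.add
  mul_mem' := InB.mul

theorem mem_L_nsmul_inB {E : Divisor k K} (hnn : ∀ Q, 0 ≤ E Q) {m : ℕ} {f : K} (hf : f ∈ L (m • E)) : InB E f :=
  fun Q hQ => by
    have := hf Q
    rwa [Finsupp.smul_apply, le_antisymm hQ (hnn Q), smul_zero, exp_zero] at this

theorem mem_L_one (V : Submodule k K) {E : Divisor k K} (hE : Exact V E) {v : K} (hv : v ∈ V) : v ∈ L E :=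
  fun Q => hE.1 v hv Q

theorem adjoin_le_subB {V : Submodule k K} {E : Divisor k K} (hE : Exact V E) (h1 : (1 : K) ∈ V) :
    Algebra.adjoin k (V : Set K) ≤ subB E :=
  Algebra.adjoin_le fun _ hv => mem_L_nsmul_inB (hE.nonneg h1) (m := 1) (by rw [one_smul]; exact mem_L_one V hE hv)

theorem exists_nsmul (hK : IsFF k K) {E : Divisor k K} (hnn : ∀ Q, 0 ≤ E Q) {f : K} (hf : InB E f) :
    ∃ m : ℕ, f ∈ L (m • E) := by
  classical
  rcases eq_or_ne f 0 with rfl | hf0
  · exact ⟨0, zero_mem _⟩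
  refine ⟨∑ Q ∈ E.support, (Q.ord f).natAbs, fun Q => ?_⟩
  rw [Finsupp.smul_apply, nsmul_eq_mul]
  by_cases hQ : E Q = 0
  · rw [hQ, mul_zero, exp_zero]; exact hf Q hQ.le
  rw [val_le_exp_iff Q hf0]
  have h1 : (Q.ord f).natAbs ≤ ∑ Q ∈ E.support, (Q.ord f).natAbs :=
    Finset.single_le_sum (f := fun Q : Place k K => (Q.ord f).natAbs) (fun _ _ => Nat.zero_le _)
      (Finsupp.mem_support_iff.2 hQ)
  have h2 := hnn Q
  have h3 : ((∑ Q ∈ E.support, (Q.ord f).natAbs : ℕ) : ℤ) ≤ ((∑ Q ∈ E.support, (Q.ord f).natAbs : ℕ) : ℤ) * E Q := by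
    nlinarith [Int.natCast_nonneg (∑ Q ∈ E.support, (Q.ord f).natAbs), (show (1 : ℤ) ≤ E Q by omega)]
  omega

theorem poles_eq (hK : IsFF k K) {E : Divisor k K} (hnn : ∀ Q, 0 ≤ E Q) {z : K} (hz : z ∈ L E)
    (hex : ∀ Q, 0 < E Q → Q.1 z = exp (E Q)) : (-div k z) ⊔ 0 = E := Finsupp.ext fun Q => by
  rw [Finsupp.sup_apply, Finsupp.neg_apply, Finsupp.zero_apply, div_apply hK]
  rcases eq_or_ne z 0 with rfl | hz0
  · rw [ord_zero, neg_zero, max_self]
    by_contra hne
    have := hex Q (lt_of_le_of_ne (hnn Q) hne)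
    rw [map_zero] at this
    exact exp_ne_zero this.symm
  rcases eq_or_lt_of_le (hnn Q) with h | h
  · have := hz Q
    rw [← h, exp_zero, val_le_one_iff Q hz0] at this
    rw [← h]; exact max_eq_right (by omega)
  · have := hex Q h
    rw [val_eq_exp Q hz0, exp_inj] at this
    rw [max_eq_left (by omega), this]

theorem deg_pos_of_ne (hK : IsFF k K) {E : Divisor k K} (hnn : ∀ Q, 0 ≤ E Q) (h : E ≠ 0) : 1 ≤ E.deg := by
  by_contra hc
  exact h (eq_zero_of_deg_nonpos hK (fun Q => hnn Q) (by omega))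

/-- an element of `V` whose pole divisor is `E` -/
theorem exists_z [IsAlgClosed k] (hK : IsFunctionField k K) {V : Submodule k K} {E : Divisor k K}
    (hE : Exact V E) (h1 : (1 : K) ∈ V) (hE0 : E ≠ 0) :
    ∃ z ∈ V, Transcendental k z ∧ (-div k z) ⊔ 0 = E := by
  obtain ⟨z, hz, hex⟩ := exists_exact hE E.support
  have hnn := hE.nonneg h1
  have hp := poles_eq hK.1 hnn (mem_L_one V hE hz) fun Q hQ => hex Q (Finsupp.mem_support_iff.2 hQ.ne')
  obtain ⟨Q, hQ⟩ := Finsupp.ne_iff.1 hE0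
  rw [Finsupp.zero_apply] at hQ
  have hQ' := hex Q (Finsupp.mem_support_iff.2 hQ)
  have hz0 : z ≠ 0 := fun h => exp_ne_zero (a := E Q) (by rw [← hQ', h, map_zero])
  refine ⟨z, hz, transcendental_of_ord_ne_zero hK (P := Q) ?_, hp⟩
  rw [val_eq_exp Q hz0, exp_inj] at hQ'
  omega

/-- `B` is finite over `k[z]` -/
theorem exists_span_B [IsAlgClosed k] (hK : IsFunctionField k K) {E : Divisor k K} (hnn : ∀ Q, 0 ≤ E Q)
    (hE0 : E ≠ 0) {z : K} (hz0 : z ≠ 0) (hp : (-div k z) ⊔ 0 = E) :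
    ∃ (r : ℕ) (e : Fin r → K), (∀ i, InB E (e i)) ∧ ∀ f, InB E f →
      ∃ α : Fin r → Algebra.adjoin k ({z} : Set K), f = ∑ i, (α i : K) * e i := by
  classical
  have hd := deg_pos_of_ne hK.1 hnn hE0
  have hord : ∀ Q : Place k K, max (-Q.ord z) 0 = E Q := fun Q => by
    have := congrArg (fun D : Divisor k K => D Q) hp
    simpa only [Finsupp.sup_apply, Finsupp.neg_apply, Finsupp.zero_apply, div_apply hK.1] using this
  obtain ⟨m1, hm1⟩ : ∃ m1 : ℕ, 2 * (genus k K : ℤ) ≤ m1 * E.deg :=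
    ⟨2 * genus k K, by push_cast; nlinarith [Int.natCast_nonneg (genus k K)]⟩
  set L1 := L ((m1 + 1) • E)
  haveI : FiniteDimensional k L1 := finite_L hK.1 _
  let b := Module.finBasis k L1
  refine ⟨_, fun i => (b i : K), fun i => mem_L_nsmul_inB hnn (b i).2, fun f hf => ?_⟩
  obtain ⟨m, hm⟩ := exists_nsmul hK.1 hnn hf
  have hzA : z ∈ Algebra.adjoin k ({z} : Set K) := Algebra.subset_adjoin rfl
  suffices H : ∀ m : ℕ, ∀ f ∈ L (m • E), ∃ α : Fin (Module.finrank k L1) → Algebra.adjoin k ({z} : Set K),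
      f = ∑ i, (α i : K) * (b i : K) from H m f hm
  intro m
  induction m using Nat.strong_induction_on with
  | _ m ih =>
    intro f hf
    by_cases hm : m ≤ m1 + 1
    · have hf1 : f ∈ L1 := L_mono (fun Q => by
        rw [Finsupp.smul_apply, Finsupp.smul_apply, nsmul_eq_mul, nsmul_eq_mul]
        have := hnn Q
        have : (m : ℤ) ≤ ((m1 + 1 : ℕ) : ℤ) := by exact_mod_cast hm
        nlinarith) hf
      refine ⟨fun i => algebraMap k _ (b.repr ⟨f, hf1⟩ i), ?_⟩
      have h3 := congrArg L1.subtype (b.sum_repr ⟨f, hf1⟩)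
      simp only [map_sum, map_smul, Submodule.subtype_apply] at h3
      exact h3.symm.trans (Finset.sum_congr rfl fun i _ => Algebra.smul_def _ _)
    obtain ⟨j, rfl⟩ : ∃ j, m = j + 1 := ⟨m - 1, by omega⟩
    set T := (L (j • E)).map (LinearMap.mulLeft k z) with hT
    haveI : FiniteDimensional k (L (j • E)) := finite_L hK.1 _
    haveI : FiniteDimensional k (L ((j + 1) • E)) := finite_L hK.1 _
    haveI : FiniteDimensional k (L (m1 • E)) := finite_L hK.1 _
    have hinj : Function.Injective (LinearMap.mulLeft k z) := mul_right_injective₀ hz0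
    have hzL : z ∈ L E := fun Q => by rw [val_le_exp_iff Q hz0]; have := hord Q; omega
    have hTle : T ≤ L ((j + 1) • E) := by
      rintro _ ⟨x, hx, rfl⟩
      rw [succ_nsmul, add_comm]
      exact mul_mem_L hzL hx
    have hT1 : Module.finrank k T = ell (j • E) :=
      (LinearEquiv.finrank_eq (Submodule.equivMapOfInjective _ hinj (L (j • E)))).symm
    have hinf : T ⊓ L1 ≤ (L (m1 • E)).map (LinearMap.mulLeft k z) := by
      rintro _ ⟨⟨x, hx, rfl⟩, hx1⟩
      refine ⟨x, fun Q => ?_, rfl⟩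
      have h1 := hx1 Q
      have h2 := hx Q
      rw [Finsupp.smul_apply, nsmul_eq_mul] at h2 ⊢
      rw [LinearMap.mulLeft_apply, map_mul, Finsupp.smul_apply, nsmul_eq_mul, val_eq_exp Q hz0] at h1
      have hQ := hord Q
      rcases eq_or_ne x 0 with rfl | hx0
      · simp
      rw [val_le_exp_iff Q hx0] at h2 ⊢
      rw [val_eq_exp Q hx0, ← exp_add, exp_le_exp] at h1
      rcases le_or_gt 0 (Q.ord z) with h | h
      · rw [max_eq_right (by omega)] at hQ
        rw [← hQ] at h2 ⊢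
        simpa using h2
      · rw [max_eq_left (by omega)] at hQ
        push_cast at h1
        nlinarith
    have hinf1 : Module.finrank k ↥(T ⊓ L1) ≤ ell (m1 • E) :=
      (Submodule.finrank_mono hinf).trans
        (LinearEquiv.finrank_eq (Submodule.equivMapOfInjective _ hinj (L (m1 • E)))).ge
    have hsum := Submodule.finrank_sup_add_finrank_inf_eq T L1
    have hL1 : L1 ≤ L ((j + 1) • E) := L_mono fun Q => by
      rw [Finsupp.smul_apply, Finsupp.smul_apply, nsmul_eq_mul, nsmul_eq_mul]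
      have := hnn Q
      have : ((m1 + 1 : ℕ) : ℤ) ≤ ((j + 1 : ℕ) : ℤ) := by exact_mod_cast (by omega : m1 + 1 ≤ j + 1)
      nlinarith
    have hmem : f ∈ T ⊔ L1 := by
      rw [Submodule.eq_of_le_of_finrank_le (sup_le hTle hL1) ?_]
      · exact hf
      have e1 : (ell (j • E) : ℤ) = j * E.deg + 1 - genus k K := by
        rw [ell_large hK (by rw [deg_nsmul]; nlinarith), deg_nsmul]
      have e2 : (ell (m1 • E) : ℤ) = m1 * E.deg + 1 - genus k K := by
        rw [ell_large hK (by rw [deg_nsmul]; omega), deg_nsmul]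
      have e3 : (ell ((m1 + 1) • E) : ℤ) = (m1 + 1 : ℕ) * E.deg + 1 - genus k K := by
        rw [ell_large hK (by rw [deg_nsmul]; push_cast; nlinarith), deg_nsmul]
      have e4 : (ell ((j + 1) • E) : ℤ) = (j + 1 : ℕ) * E.deg + 1 - genus k K := by
        rw [ell_large hK (by rw [deg_nsmul]; push_cast; nlinarith), deg_nsmul]
      have e5 : Module.finrank k L1 = ell ((m1 + 1) • E) := rfl
      have e6 : Module.finrank k (L ((j + 1) • E)) = ell ((j + 1) • E) := rfl
      push_cast at e3 e4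
      zify at hT1 hinf1 hsum e5 e6 ⊢
      linarith
    obtain ⟨_, ⟨x, hx, rfl⟩, y, hy, hxy⟩ := Submodule.mem_sup.1 hmem
    obtain ⟨α, hα⟩ := ih j (by omega) x hx
    obtain ⟨β, hβ⟩ := ih (m1 + 1) (by omega) y hy
    refine ⟨fun i => ⟨z, hzA⟩ * α i + β i, ?_⟩
    rw [← hxy, hβ, hα, LinearMap.mulLeft_apply, Finset.mul_sum, ← Finset.sum_add_distrib]
    refine Finset.sum_congr rfl fun i _ => ?_
    push_cast
    ring

/-- approximation with poles allowed only on the support of `E` -/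
theorem approx [IsAlgClosed k] (hK : IsFunctionField k K) {E : Divisor k K} (hnn : ∀ Q, 0 ≤ E Q) (hE0 : E ≠ 0)
    (N : Divisor k K) (hN : ∀ Q, 0 ≤ N Q) (hNE : ∀ Q, 0 < N Q → E Q = 0) (a : Place k K → K)
    (ha : ∀ Q, 0 < N Q → Q.1 (a Q) ≤ 1) :
    ∃ c, InB E c ∧ ∀ Q, 0 < N Q → Q.1 (c - a Q) ≤ exp (-N Q) := by
  classical
  suffices H : ∀ (n : ℕ) (N : Divisor k K), (∀ Q, 0 ≤ N Q) → (∀ Q, 0 < N Q → E Q = 0) →
      (∀ Q, 0 < N Q → Q.1 (a Q) ≤ 1) → N.deg.toNat ≤ n →
      ∃ c, InB E c ∧ ∀ Q, 0 < N Q → Q.1 (c - a Q) ≤ exp (-N Q) from H _ N hN hNE ha le_rfl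
  intro n
  induction n with
  | zero =>
    intro N hN _ _ hdeg
    refine ⟨0, fun Q _ => by simp, fun Q hQ => ?_⟩
    have := eq_zero_of_deg_nonpos hK.1 (D := N) (fun Q => hN Q) (by omega)
    rw [this, Finsupp.zero_apply] at hQ
    omega
  | succ n ih =>
    intro N hN hNE ha hdeg
    by_cases h0 : ∀ Q, N Q = 0
    · exact ⟨0, fun Q _ => by simp, fun Q hQ => by rw [h0] at hQ; omega⟩
    push Not at h0
    obtain ⟨P, hP⟩ := h0
    have hPpos : 0 < N P := lt_of_le_of_ne (hN P) (Ne.symm hP)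
    set N' := N - Finsupp.single P 1 with hN'
    have hN'P : N' P = N P - 1 := by rw [hN', Finsupp.sub_apply, Finsupp.single_eq_same]
    have hN'Q : ∀ Q, Q ≠ P → N' Q = N Q := fun Q h => by
      rw [hN', Finsupp.sub_apply, Finsupp.single_eq_of_ne h, sub_zero]
    have hN'0 : ∀ Q, 0 ≤ N' Q := fun Q => by
      rcases eq_or_ne Q P with rfl | h
      · omega
      · rw [hN'Q Q h]; exact hN Q
    have hsub : ∀ Q, 0 < N' Q → 0 < N Q := fun Q => by
      rcases eq_or_ne Q P with rfl | h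
      · omega
      · rw [hN'Q Q h]; exact id
    have hdeg' : N'.deg = N.deg - 1 := by
      rw [hN', deg_sub, deg_single, deg_eq_one hK P]; rfl
    obtain ⟨c, hc, hca⟩ := ih N' hN'0 (fun Q h => hNE Q (hsub Q h)) (fun Q h => ha Q (hsub Q h)) (by omega)
    have hr : P.1 (a P - c) ≤ exp (-N' P) := by
      rcases eq_or_lt_of_le (hN'0 P) with h | h
      · rw [← h, neg_zero, exp_zero]
        exact (P.1.map_sub _ _).trans (max_le (ha P hPpos) (hc P (hNE P hPpos).le))
      · rw [Valuation.map_sub_swap]; exact hca P h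
    -- a function with exact order `N' P` at `P`
    have hd := deg_pos_of_ne hK.1 hnn hE0
    obtain ⟨m, hm⟩ : ∃ m : ℕ, 2 * (genus k K : ℤ) + N'.deg ≤ m * E.deg :=
      ⟨(2 * (genus k K : ℤ) + N'.deg).toNat, by nlinarith [Int.self_le_toNat (2 * (genus k K : ℤ) + N'.deg)]⟩
    haveI : FiniteDimensional k (L (m • E - N')) := finite_L hK.1 _
    have e1 : (ell (m • E - N') : ℤ) = m * E.deg - N'.deg + 1 - genus k K := by
      rw [ell_large hK (by rw [deg_sub, deg_nsmul]; omega), deg_sub, deg_nsmul]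
    have e2 : (ell (m • E - N' - Finsupp.single P 1) : ℤ) = m * E.deg - N'.deg - 1 + 1 - genus k K := by
      rw [ell_large hK (by rw [deg_sub, deg_sub, deg_nsmul, deg_single, deg_eq_one hK P]; omega), deg_sub, deg_sub,
        deg_nsmul, deg_single, deg_eq_one hK P]
      push_cast; ring
    obtain ⟨h, hh, hhP⟩ : ∃ h ∈ L (m • E - N'), P.1 h = exp (-N' P) := by
      have hle : L (m • E - N' - Finsupp.single P 1) ≤ L (m • E - N') := L_mono fun Q => by
        rw [Finsupp.sub_apply, Finsupp.single_apply]; split_ifs <;> omega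
      rcases finrank_inf_succ hK (L (m • E - N')) (m • E - N') P with ⟨_, hr⟩ | ⟨⟨v, hv, hvP⟩, _⟩
      · rw [inf_eq_right.2 hle, inf_idem] at hr
        change ell _ = ell _ at hr
        omega
      · refine ⟨v, hv.1, ?_⟩
        rw [hvP, Finsupp.sub_apply, Finsupp.smul_apply, hNE P hPpos, smul_zero, zero_sub]
    have hh0 : h ≠ 0 := fun h0 => exp_ne_zero (a := -N' P) (by rw [← hhP, h0, map_zero])
    obtain ⟨c0, hc0⟩ := exists_const_sub P (deg_eq_one hK P) hh0 (y := a P - c) (hhP ▸ hr)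
    have hhB : InB E h := fun Q hQ => by
      have := hh Q
      rw [Finsupp.sub_apply, Finsupp.smul_apply, le_antisymm hQ (hnn Q), smul_zero, zero_sub] at this
      exact this.trans (by rw [← exp_zero, exp_le_exp]; have := hN'0 Q; omega)
    refine ⟨c + c0 • h, hc.add ?_, fun Q hQ => ?_⟩
    · rw [Algebra.smul_def]; exact (InB.const E c0).mul hhB
    rcases eq_or_ne Q P with rfl | hne
    · rw [hhP, lt_exp_iff_le] at hc0
      rw [show c + c0 • h - a Q = -(a Q - c - c0 • h) by ring, Valuation.map_neg]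
      exact hc0.trans (exp_le_exp.2 (by omega))
    · rw [show c + c0 • h - a Q = (c - a Q) + c0 • h by ring]
      refine (Q.1.map_add _ _).trans (max_le (hN'Q Q hne ▸ hca Q (by rw [hN'Q Q hne]; exact hQ)) ?_)
      refine (val_smul_le Q c0 h).trans ((hh Q).trans (exp_le_exp.2 ?_))
      rw [Finsupp.sub_apply, Finsupp.smul_apply, hNE Q hQ, smul_zero, hN'Q Q hne]
      omega

theorem num_den [IsAlgClosed k] (hK : IsFunctionField k K) {E : Divisor k K} (hnn : ∀ Q, 0 ≤ E Q) (hE0 : E ≠ 0)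
    {P : Place k K} (hPE : E P = 0) {z : K} (hz : P.1 z ≤ 1) :
    ∃ w, InB E w ∧ P.1 w = 1 ∧ InB E (z * w) := by
  classical
  rcases eq_or_ne z 0 with rfl | hz0
  · exact ⟨1, fun Q _ => by simp, map_one _, fun Q _ => by simp⟩
  let N : Divisor k K := ((-div k z) ⊔ 0).filter (fun Q => E Q = 0) + Finsupp.single P 1
  have hNval : ∀ Q, N Q = (if E Q = 0 then max (-Q.ord z) 0 else 0) + if P = Q then 1 else 0 := fun Q => by
    simp only [N, Finsupp.add_apply, Finsupp.filter_apply, Finsupp.sup_apply, Finsupp.neg_apply, Finsupp.zero_apply,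
      div_apply hK.1, Finsupp.single_apply]
  have hzP : max (-P.ord z) 0 = 0 := max_eq_right (by have := (val_le_one_iff P hz0).1 hz; omega)
  obtain ⟨w, hw, hwa⟩ := approx hK hnn hE0 N (fun Q => by rw [hNval]; split_ifs <;> omega)
    (fun Q hQ => by
      rw [hNval] at hQ
      by_contra hne
      rw [if_neg hne] at hQ
      split_ifs at hQ with h
      · exact hne (h ▸ hPE)
      · omega)
    (fun Q => if P = Q then 1 else 0) (fun Q _ => by by_cases h : P = Q <;> simp [h])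
  have hw1 : P.1 w = 1 := by
    have := hwa P (by rw [hNval, if_pos hPE, hzP, if_pos rfl]; omega)
    rw [hNval, if_pos hPE, hzP, if_pos rfl, if_pos rfl] at this
    have hlt : P.1 (w - 1) < P.1 (1 : K) := by rw [map_one]; exact this.trans_lt (by rw [← exp_zero, exp_lt_exp]; omega)
    rw [show w = (w - 1) + 1 by ring, Valuation.map_add_eq_of_lt_right P.1 hlt, map_one]
  refine ⟨w, hw, hw1, fun Q hQ => ?_⟩
  have hQ0 : E Q = 0 := le_antisymm hQ (hnn Q)
  rcases le_or_gt 0 (Q.ord z) with h | h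
  · rw [map_mul]; exact mul_le_one' ((val_le_one_iff Q hz0).2 h) (hw Q hQ)
  have hne : P ≠ Q := by
    rintro rfl
    have := (val_le_one_iff P hz0).1 hz
    omega
  have := hwa Q (by rw [hNval, if_pos hQ0, max_eq_left (by omega), if_neg hne]; omega)
  rw [hNval, if_pos hQ0, max_eq_left (by omega), if_neg hne, if_neg hne, sub_zero, add_zero, neg_neg] at this
  rw [map_mul, val_eq_exp Q hz0]
  refine (mul_le_mul' le_rfl this).trans ?_
  rw [← exp_add, ← exp_zero, exp_le_exp]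
  omega

theorem exists_zero_off [IsAlgClosed k] (hK : IsFunctionField k K) {E : Divisor k K} {z : K}
    (hz : Transcendental k z) (hp : (-div k z) ⊔ 0 = E) : ∃ P : Place k K, E P = 0 := by
  obtain ⟨P, hP⟩ := exists_place_val_lt_one hK.1 hz
  refine ⟨P, ?_⟩
  rw [← hp, Finsupp.sup_apply, Finsupp.neg_apply, Finsupp.zero_apply, div_apply hK.1]
  refine max_eq_right ?_
  rcases eq_or_ne z 0 with rfl | h
  · simp
  · have := (val_lt_one_iff P h).1 hP; omega

/-- The conductor is a unit at a place which is separated and has a parameter. -/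
theorem exists_unit_conductor [IsAlgClosed k] (hK : IsFunctionField k K) {V : Submodule k K} {E : Divisor k K}
    (hE : Exact V E) (h1 : (1 : K) ∈ V) (hE0 : E ≠ 0) (A : Subalgebra k K) (hVA : ∀ v ∈ V, v ∈ A)
    (hAB : ∀ a ∈ A, InB E a) {P : Place k K} (hPE : E P = 0)
    (hsep : ∀ Q, Q ≠ P → E Q = 0 → ∃ a ∈ A, P.1 a < 1 ∧ Q.1 a = 1)
    (ht : ∃ t ∈ A, P.1 t = exp (-1)) :
    ∃ w ∈ A, P.1 w = 1 ∧ ∀ f, InB E f → w * f ∈ A := by
  classical
  have hnn := hE.nonneg h1
  obtain ⟨z, hzV, hz, hp⟩ := exists_z hK hE h1 hE0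
  have hz0 : z ≠ 0 := fun h => hz (h ▸ isAlgebraic_zero)
  obtain ⟨r, e, heB, hspan⟩ := exists_span_B hK hnn hE0 hz0 hp
  have hzA : Algebra.adjoin k ({z} : Set K) ≤ A := Algebra.adjoin_le (Set.singleton_subset_iff.2 (hVA z hzV))
  obtain ⟨t, htA, htP⟩ := ht
  have ht0 : t ≠ 0 := fun h => exp_ne_zero (a := (-1 : ℤ)) (by rw [← htP, h, map_zero])
  let Z : Finset (Place k K) := (finite_zeros hK.1 t).toFinset.filter fun Q => E Q = 0 ∧ Q ≠ P
  have hZ : ∀ Q, Q ∈ Z ↔ 0 < Q.ord t ∧ E Q = 0 ∧ Q ≠ P := fun Q => by simp [Z]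
  obtain ⟨s, hs, hsW⟩ := exists_generic (A.toSubmodule ⊓ F P (-1)) Z (fun Q => F Q (-1)) fun Q hQ => by
    obtain ⟨-, hQE, hQP⟩ := (hZ Q).1 hQ
    obtain ⟨a, haA, haP, haQ⟩ := hsep Q hQP hQE
    refine ⟨a, ⟨haA, mem_F.2 ((lt_one_iff_le P a).1 haP)⟩, fun h => ?_⟩
    have := (lt_one_iff_le Q a).2 (mem_F.1 h)
    rw [haQ] at this; exact lt_irrefl _ this
  have hsA : s ∈ A := (Submodule.mem_inf.1 hs).1
  have hsP : P.1 s < 1 := (lt_one_iff_le P s).2 (mem_F.1 (Submodule.mem_inf.1 hs).2)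
  have hsQ : ∀ Q ∈ Z, Q.1 s = 1 := fun Q hQ =>
    le_antisymm (hAB s hsA Q ((hZ Q).1 hQ).2.1.le) (not_lt.1 fun h => hsW Q hQ (mem_F.2 ((lt_one_iff_le Q s).1 h)))
  -- decomposition
  have dec : ∀ f, InB E f → ∃ (c0 : k) (g c : K), InB E g ∧ InB E c ∧ f = algebraMap k K c0 + t * g + s * c := by
    intro f hf
    obtain ⟨c0, hc0⟩ := exists_const hK P (hf P hPE.le)
    set f' := f - algebraMap k K c0
    have hf' : InB E f' := hf.sub (InB.const E c0)
    let N : Divisor k K := (div k t).filter fun Q => Q ∈ Z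
    have hNval : ∀ Q, N Q = if Q ∈ Z then Q.ord t else 0 := fun Q => by
      simp only [N, Finsupp.filter_apply, div_apply hK.1]
    obtain ⟨c, hc, hca⟩ := approx hK hnn hE0 N
      (fun Q => by rw [hNval]; split_ifs with h; exacts [((hZ Q).1 h).1.le, le_rfl])
      (fun Q hQ => by rw [hNval] at hQ; split_ifs at hQ with h; exacts [((hZ Q).1 h).2.1, absurd hQ (lt_irrefl _)])
      (fun Q => f' / s) (fun Q hQ => by
        rw [hNval] at hQ
        split_ifs at hQ with h
        · rw [map_div₀, hsQ Q h, div_one]; exact hf' Q ((hZ Q).1 h).2.1.le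
        · exact absurd hQ (lt_irrefl _))
    refine ⟨c0, (f' - s * c) / t, c, fun Q hQ => ?_, hc, ?_⟩
    · have hQ0 : E Q = 0 := le_antisymm hQ (hnn Q)
      rw [map_div₀]
      refine div_le_one_of_le₀ ?_ zero_le
      by_cases hQP : Q = P
      · subst hQP
        rw [htP, ← lt_one_iff_le]
        refine (Q.1.map_sub _ _).trans_lt (max_lt hc0 ?_)
        rw [map_mul]
        exact (mul_le_of_le_one_right' (hc Q hQ)).trans_lt hsP
      by_cases hQZ : Q ∈ Z
      · have h2 := hca Q (by rw [hNval, if_pos hQZ]; exact ((hZ Q).1 hQZ).1)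
        rw [hNval, if_pos hQZ, ← val_eq_exp Q ht0] at h2
        have hs0 : s ≠ 0 := fun h => by simpa [h] using hsQ Q hQZ
        rw [show f' - s * c = -(s * (c - f' / s)) by field_simp; ring, Valuation.map_neg, map_mul, hsQ Q hQZ, one_mul]
        exact h2
      · have htQ : Q.1 t = 1 := le_antisymm (hAB t htA Q hQ) (not_lt.1 fun h =>
          hQZ ((hZ Q).2 ⟨(val_lt_one_iff Q ht0).1 h, hQ0, hQP⟩))
        rw [htQ]
        exact (hf'.sub ((hAB s hsA |> fun h => h).mul hc)) Q hQ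
    · rw [mul_div_cancel₀ _ ht0]; ring
  choose c0 g c hg hc heq using fun i => dec (e i) (heB i)
  choose α hα using fun i => hspan (g i) (hg i)
  choose β hβ using fun i => hspan (c i) (hc i)
  let T : Matrix (Fin r) (Fin r) A := fun i j =>
    ⟨t * α i j + s * β i j, A.add_mem (A.mul_mem htA (hzA (α i j).2)) (A.mul_mem hsA (hzA (β i j).2))⟩
  set M : Matrix (Fin r) (Fin r) A := 1 - T with hM
  have hMe : ∀ i, ∑ j, (M i j : K) * e j = algebraMap k K (c0 i) := fun i => by
    have h1 : ∀ j, (M i j : K) * e j =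
        (if i = j then e j else 0) - (t * ((α i j : K) * e j) + s * ((β i j : K) * e j)) := fun j => by
      rw [hM, Matrix.sub_apply, Matrix.one_apply]
      split_ifs <;> simp [T] <;> ring
    rw [Finset.sum_congr rfl fun j _ => h1 j, Finset.sum_sub_distrib, Finset.sum_ite_eq, if_pos (Finset.mem_univ i),
      Finset.sum_add_distrib, ← Finset.mul_sum, ← Finset.mul_sum, ← hα i, ← hβ i, heq i]
    ring
  have hdet : ∀ l, (M.det : K) * e l ∈ A := fun l => by
    have h1 := congrArg (fun N : Matrix (Fin r) (Fin r) A => ∑ j, (N l j : K) * e j) (Matrix.adjugate_mul M)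
    have h2 : ∑ j, (((M.det • (1 : Matrix (Fin r) (Fin r) A)) l j : A) : K) * e j = (M.det : K) * e l := by
      rw [Finset.sum_eq_single l] <;> simp +contextual [Matrix.smul_apply, Matrix.one_apply, Ne.symm]
    rw [← h2, ← h1]
    simp only [Matrix.mul_apply, AddSubmonoidClass.coe_finsetSum, MulMemClass.coe_mul, Finset.sum_mul]
    rw [Finset.sum_comm]
    refine A.sum_mem fun i _ => ?_
    rw [show ∑ j, (M.adjugate l i : K) * (M i j : K) * e j = (M.adjugate l i : K) * ∑ j, (M i j : K) * e j by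
      rw [Finset.mul_sum]; exact Finset.sum_congr rfl fun j _ => by ring, hMe]
    exact A.mul_mem (M.adjugate l i).2 (A.algebraMap_mem _)
  let ρ : A →+* ResidueField P.O := (residue P.O).comp
    (A.val.toRingHom.codRestrict P.O.toSubring fun a => hAB a a.2 P hPE.le)
  have hρ : ∀ a : A, ρ a = 0 ↔ P.1 (a : K) < 1 := fun a => residue_eq_zero_iff_val P _
  have hρdet : ρ M.det = 1 := by
    rw [RingHom.map_det, show ρ.mapMatrix M = 1 from ?_, Matrix.det_one]
    ext i j
    have hT0 : ρ (T i j) = 0 := by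
      rw [hρ]
      refine (P.1.map_add _ _).trans_lt (max_lt ?_ ?_)
      · rw [map_mul, htP]
        exact (mul_le_of_le_one_right' (hAB _ (hzA (α i j).2) P hPE.le)).trans_lt exp_neg_one_lt_one
      · rw [map_mul]
        exact (mul_le_of_le_one_right' (hAB _ (hzA (β i j).2) P hPE.le)).trans_lt hsP
    rw [RingHom.mapMatrix_apply, Matrix.map_apply, hM, Matrix.sub_apply, map_sub, hT0, sub_zero, Matrix.one_apply,
      Matrix.one_apply]
    split_ifs <;> simp
  refine ⟨M.det, M.det.2, ?_, fun f hf => ?_⟩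
  · refine le_antisymm (hAB _ M.det.2 P hPE.le) (not_lt.1 fun h => ?_)
    rw [(hρ _).2 h] at hρdet
    exact zero_ne_one hρdet
  · obtain ⟨γ, hγ⟩ := hspan f hf
    rw [hγ, Finset.mul_sum]
    refine A.sum_mem fun i _ => ?_
    rw [mul_left_comm]
    exact A.mul_mem (hzA (γ i).2) (hdet i)

/-- local to global: if the conductor has no common zero it is trivial -/
theorem inB_mem_of_forall [IsAlgClosed k] (hK : IsFunctionField k K) {V : Submodule k K} {E : Divisor k K}
    (hE : Exact V E) (h1 : (1 : K) ∈ V) (hE0 : E ≠ 0) (A : Subalgebra k K) (hAB : ∀ a ∈ A, InB E a)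
    (h : ∀ P : Place k K, E P = 0 → ∃ w ∈ A, P.1 w = 1 ∧ ∀ f, InB E f → w * f ∈ A)
    {f : K} (hf : InB E f) : f ∈ A := by
  classical
  have hnn := hE.nonneg h1
  let C : Submodule k K :=
    { carrier := {a | a ∈ A ∧ ∀ f, InB E f → a * f ∈ A}
      zero_mem' := ⟨A.zero_mem, fun f _ => by simp⟩
      add_mem' := fun {a b} ha hb => ⟨A.add_mem ha.1 hb.1, fun f hf => by
        rw [add_mul]; exact A.add_mem (ha.2 f hf) (hb.2 f hf)⟩
      smul_mem' := fun c a ha => ⟨A.smul_mem ha.1 c, fun f hf => by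
        rw [smul_mul_assoc]; exact A.smul_mem (ha.2 f hf) c⟩ }
  obtain ⟨z, hzV, hz, hp⟩ := exists_z hK hE h1 hE0
  obtain ⟨P0, hP0⟩ := exists_zero_off hK hz hp
  obtain ⟨t, htA, ht1, htc⟩ := h P0 hP0
  have ht0 : t ≠ 0 := fun h => by simp [h] at ht1
  let Z : Finset (Place k K) := (finite_zeros hK.1 t).toFinset.filter fun Q => E Q = 0
  have hZ : ∀ Q, Q ∈ Z ↔ 0 < Q.ord t ∧ E Q = 0 := fun Q => by simp [Z]
  obtain ⟨s, hs, hsW⟩ := exists_generic C Z (fun Q => F Q (-1)) fun Q hQ => by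
    obtain ⟨w, hwA, hw1, hwc⟩ := h Q ((hZ Q).1 hQ).2
    refine ⟨w, ⟨hwA, hwc⟩, fun h => ?_⟩
    have := (lt_one_iff_le Q w).2 (mem_F.1 h)
    rw [hw1] at this; exact lt_irrefl _ this
  have hsA : s ∈ A := hs.1
  have hsQ : ∀ Q ∈ Z, Q.1 s = 1 := fun Q hQ =>
    le_antisymm (hAB s hsA Q ((hZ Q).1 hQ).2.le) (not_lt.1 fun h => hsW Q hQ (mem_F.2 ((lt_one_iff_le Q s).1 h)))
  let N : Divisor k K := (div k t).filter fun Q => Q ∈ Z
  have hNval : ∀ Q, N Q = if Q ∈ Z then Q.ord t else 0 := fun Q => by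
    simp only [N, Finsupp.filter_apply, div_apply hK.1]
  obtain ⟨c, hc, hca⟩ := approx hK hnn hE0 N
    (fun Q => by rw [hNval]; split_ifs with h; exacts [((hZ Q).1 h).1.le, le_rfl])
    (fun Q hQ => by rw [hNval] at hQ; split_ifs at hQ with h; exacts [((hZ Q).1 h).2, absurd hQ (lt_irrefl _)])
    (fun Q => f / s) (fun Q hQ => by
      rw [hNval] at hQ
      split_ifs at hQ with h
      · rw [map_div₀, hsQ Q h, div_one]; exact hf Q ((hZ Q).1 h).2.le
      · exact absurd hQ (lt_irrefl _))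
  have hg : InB E ((f - s * c) / t) := fun Q hQ => by
    rw [map_div₀]
    refine div_le_one_of_le₀ ?_ zero_le
    by_cases hQZ : Q ∈ Z
    · have h2 := hca Q (by rw [hNval, if_pos hQZ]; exact ((hZ Q).1 hQZ).1)
      rw [hNval, if_pos hQZ, ← val_eq_exp Q ht0] at h2
      have hs0 : s ≠ 0 := fun h => by simpa [h] using hsQ Q hQZ
      rw [show f - s * c = -(s * (c - f / s)) by field_simp; ring, Valuation.map_neg, map_mul, hsQ Q hQZ, one_mul]
      exact h2
    · have htQ : Q.1 t = 1 := le_antisymm (hAB t htA Q hQ) (not_lt.1 fun h =>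
        hQZ ((hZ Q).2 ⟨(val_lt_one_iff Q ht0).1 h, le_antisymm hQ (hnn Q)⟩))
      rw [htQ]
      exact (hf.sub ((hAB s hsA |> fun h => h).mul hc)) Q hQ
  rw [show f = t * ((f - s * c) / t) + s * c by rw [mul_div_cancel₀ _ ht0]; ring]
  exact A.add_mem (htc _ hg) (hs.2 c hc)

end Groth.Agent.FunFldLib
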