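import Groth.Agent.FunFldLib.DiffLocal
import Groth.Agent.FunFldLib.Embedding

/-! The degree of the divisor of a differential. -/

set_option autoImplicit false

open WithZero
open scoped IntermediateField.algebraAdjoinAdjoin

namespace Groth.Agent.FunFldLib

open FunFld

variable {k K : Type*} [Field k] [Field K] [Algebra k K]

/-- the filtration by pole order -/
noncomputable def lev (E : Divisor k K) (j : ℤ) : Submodule k K := L (j • E)

theorem mem_lev {E : Divisor k K} {j : ℤ} {y : K} : y ∈ lev E j ↔ ∀ P : Place k K, P.1 y ≤ exp (j * E P) :=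
  forall_congr' fun P => by rw [Finsupp.smul_apply, smul_eq_mul]

theorem lev_mono {E : Divisor k K} (hnn : ∀ P, 0 ≤ E P) {i j : ℤ} (h : i ≤ j) : lev E i ≤ lev E j := fun y hy =>
  mem_lev.2 fun P => (mem_lev.1 hy P).trans (exp_le_exp.2 (mul_le_mul_of_nonneg_right h (hnn P)))

section Reduced

variable {x : K} {E : Divisor k K}

theorem mul_x_mem (hxv : ∀ P : Place k K, P.1 x ≤ exp (E P)) {j : ℤ} {y : K} (hy : y ∈ lev E j) : x * y ∈ lev E (j + 1) :=
  mem_lev.2 fun P => by
    rw [map_mul, add_mul, one_mul, exp_add, mul_comm (exp _)]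
    exact mul_le_mul' (hxv P) (mem_lev.1 hy P)

theorem of_mul_x_mem (hex : ∀ P : Place k K, 0 < E P → P.1 x = exp (E P)) (hnn : ∀ P, 0 ≤ E P) {j : ℤ} {y : K}
    (hy : y ∈ lev E j) (hxy : x * y ∈ lev E j) : y ∈ lev E (j - 1) :=
  mem_lev.2 fun P => by
    rcases eq_or_lt_of_le (hnn P) with h | h
    · have := mem_lev.1 hy P
      rw [← h, mul_zero] at this ⊢
      exact this
    · have := mem_lev.1 hxy P
      rw [map_mul, hex P h] at this
      rcases eq_or_ne y 0 with rfl | hy0
      · simp
      rw [val_eq_exp P hy0, ← exp_add, exp_le_exp] at this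
      rw [val_le_exp_iff P hy0]
      linarith [sub_mul j 1 (E P)]

/-- the level-`j` combination -/
noncomputable def comb {n : ℕ} (x : K) (b : Fin n → K) (e : Fin n → ℕ) (j : ℕ) (c : Fin n → k) : K :=
  ∑ i, c i • (x ^ (j - e i) * b i)

theorem comb_mem (hnn : ∀ P, 0 ≤ E P) (hxv : ∀ P : Place k K, P.1 x ≤ exp (E P)) {n : ℕ} {b : Fin n → K} {e : Fin n → ℕ}
    (hb : ∀ i, b i ∈ lev E (e i)) (j : ℕ) {c : Fin n → k} (hc : ∀ i, j < e i → c i = 0) : comb x b e j c ∈ lev E j := by
  refine sum_mem fun i _ => ?_
  rcases Nat.lt_or_ge j (e i) with h | h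
  · rw [hc i h, zero_smul]; exact zero_mem _
  refine Submodule.smul_mem _ _ ?_
  have key : ∀ m : ℕ, x ^ m * b i ∈ lev E ((e i + m : ℕ) : ℤ) := fun m => by
    induction m with
    | zero => simpa using hb i
    | succ m ih =>
      rw [pow_succ', mul_assoc]
      exact lev_mono hnn (by push_cast; omega) (mul_x_mem hxv ih)
  exact lev_mono hnn (by omega) (key (j - e i))

theorem indep_up (hnn : ∀ P, 0 ≤ E P) (hxv : ∀ P : Place k K, P.1 x ≤ exp (E P))
    (hex : ∀ P : Place k K, 0 < E P → P.1 x = exp (E P)) {n : ℕ} {b : Fin n → K} {e : Fin n → ℕ}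
    (hb : ∀ i, b i ∈ lev E (e i)) {m : ℕ} (he : ∀ i, e i ≤ m)
    (hC : ∀ j ≤ m, ∀ c : Fin n → k, (∀ i, j < e i → c i = 0) → comb x b e j c ∈ lev E ((j : ℤ) - 1) → c = 0) :
    ∀ (j : ℕ) (c : Fin n → k), (∀ i, j < e i → c i = 0) → comb x b e j c ∈ lev E ((j : ℤ) - 1) → c = 0 := by
  intro j
  induction j with
  | zero => exact hC 0 (Nat.zero_le m)
  | succ j ih =>
    intro c hc hmem
    rcases Nat.lt_or_ge j m with h | h
    · exact hC (j + 1) h c hc hmem
    have hc' : ∀ i, j < e i → c i = 0 := fun i hi => absurd ((he i).trans h) (not_le.2 hi)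
    refine ih c hc' (of_mul_x_mem hex hnn (comb_mem hnn hxv hb j hc') ?_)
    have e1 : x * comb x b e j c = comb x b e (j + 1) c := by
      rw [comb, comb, Finset.mul_sum]
      refine Finset.sum_congr rfl fun i _ => ?_
      rw [Nat.succ_sub ((he i).trans h), pow_succ', mul_smul_comm, mul_assoc]
    rw [e1]
    exact lev_mono hnn (by push_cast; omega) hmem

theorem finite_lev (hK : IsFF k K) (E : Divisor k K) (j : ℤ) : FiniteDimensional k (lev E j) := finite_L hK (j • E)

theorem finrank_level (hK : IsFF k K) {n : ℕ} (b : Fin n → K) (e : Fin n → ℕ) {j : ℕ} (he : ∀ i, e i ≤ j) (U : Submodule k K)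
    (hC : ∀ c : Fin n → k, comb x b e j c ∈ lev E ((j : ℤ) - 1) → c = 0)
    (hU : U = lev E ((j : ℤ) - 1) ⊔ Submodule.span k (Set.range fun i => x ^ (j - e i) * b i)) :
    Module.finrank k U = Module.finrank k (lev E ((j : ℤ) - 1)) + n := by
  have hli : LinearIndependent k fun i => x ^ (j - e i) * b i := Fintype.linearIndependent_iff.2 fun c hc i =>
    congrFun (hC c (by rw [comb, hc]; exact zero_mem _)) i
  have hdisj : lev E ((j : ℤ) - 1) ⊓ Submodule.span k (Set.range fun i => x ^ (j - e i) * b i) = ⊥ := by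
    rw [eq_bot_iff]
    intro y hy
    obtain ⟨c, rfl⟩ := (Submodule.mem_span_range_iff_exists_fun k).1 hy.2
    have := hC c hy.1
    simp [this]
  haveI := finite_lev hK E ((j : ℤ) - 1)
  haveI : FiniteDimensional k (Submodule.span k (Set.range fun i => x ^ (j - e i) * b i)) :=
    FiniteDimensional.span_of_finite k (Set.finite_range _)
  have := Submodule.finrank_sup_add_finrank_inf_eq (lev E ((j : ℤ) - 1)) (Submodule.span k (Set.range fun i => x ^ (j - e i) * b i))
  rw [hdisj, finrank_bot, add_zero, finrank_span_eq_card hli, Fintype.card_fin] at this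
  rw [hU]; exact this

theorem exists_reduced (hK : IsFunctionField k K) (hE : E ≠ 0) (hnn : ∀ P, 0 ≤ E P)
    (hxv : ∀ P : Place k K, P.1 x ≤ exp (E P)) (hex : ∀ P : Place k K, 0 < E P → P.1 x = exp (E P)) (m : ℕ) :
    ∃ (n : ℕ) (b : Fin n → K) (e : Fin n → ℕ), (∀ i, e i ≤ m) ∧ (∀ i, b i ∈ lev E (e i)) ∧
      (∀ j ≤ m, ∀ f ∈ lev E (j : ℤ), ∃ c : Fin n → k, (∀ i, j < e i → c i = 0) ∧ f - comb x b e j c ∈ lev E ((j : ℤ) - 1)) ∧
      (∀ j ≤ m, ∀ c : Fin n → k, (∀ i, j < e i → c i = 0) → comb x b e j c ∈ lev E ((j : ℤ) - 1) → c = 0) ∧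
      (Module.finrank k (lev E (m : ℤ)) : ℤ) = n * (m + 1) - ∑ i, (e i : ℤ) := by
  classical
  induction m with
  | zero =>
    have h0 : lev E ((0 : ℕ) : ℤ) = L 0 := by rw [lev, Nat.cast_zero, zero_smul]
    have hm1 : lev E (((0 : ℕ) : ℤ) - 1) = ⊥ := by
      rw [lev, Nat.cast_zero, zero_sub, neg_one_smul]
      refine L_eq_bot hK ?_
      rw [deg_neg]
      have := deg_pos_of_ne hK.1 hnn hE
      omega
    refine ⟨1, fun _ => 1, fun _ => 0, fun _ => le_rfl, fun _ => mem_lev.2 fun P => by simp, ?_, ?_, ?_⟩
    · intro j hj f hf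
      obtain rfl := Nat.le_zero.1 hj
      rw [h0] at hf
      obtain ⟨c, hc⟩ : ∃ c : k, algebraMap k K c = f := hK.2 f (isAlgebraic_of_mem_L_zero hK.1 hf)
      refine ⟨fun _ => c, fun i hi => absurd hi (by simp), ?_⟩
      rw [hm1, Submodule.mem_bot]
      simp [comb, ← hc, Algebra.algebraMap_eq_smul_one]
    · intro j hj c _ hmem
      obtain rfl := Nat.le_zero.1 hj
      rw [hm1, Submodule.mem_bot] at hmem
      simp [comb] at hmem
      funext i; rw [Subsingleton.elim i 0]; exact hmem
    · have := (ell_zero hK).2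
      rw [ell] at this
      rw [h0, this]; simp
  | succ m ih =>
    obtain ⟨n, b, e, he, hb, hB, hC, hD⟩ := ih
    have hC' := indep_up hnn hxv hex hb he hC
    set Φr := Submodule.span k (Set.range fun i => x ^ (m + 1 - e i) * b i) with hΦr
    set U := lev E (((m + 1 : ℕ) : ℤ) - 1) ⊔ Φr with hU
    have hUle : U ≤ lev E ((m + 1 : ℕ) : ℤ) := by
      refine sup_le (lev_mono hnn (by omega)) (Submodule.span_le.2 ?_)
      rintro _ ⟨i, rfl⟩
      have := comb_mem hnn hxv hb (m + 1) (c := fun l : Fin n => if l = i then (1 : k) else 0)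
        (fun l hl => absurd hl (not_lt.2 ((he l).trans (Nat.le_succ m))))
      simpa [comb, ite_smul] using this
    obtain ⟨W', hW'⟩ := Submodule.exists_isCompl U
    set W := W' ⊓ lev E ((m + 1 : ℕ) : ℤ) with hW
    haveI := finite_lev hK.1 E ((m + 1 : ℕ) : ℤ)
    haveI : FiniteDimensional k W := Submodule.finiteDimensional_of_le inf_le_right
    haveI : FiniteDimensional k U := Submodule.finiteDimensional_of_le hUle
    have hsum : U ⊔ W = lev E ((m + 1 : ℕ) : ℤ) := by
      rw [hW, ← sup_inf_assoc_of_le W' hUle, hW'.sup_eq_top, top_inf_eq]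
    have hdisj : U ⊓ W = ⊥ := eq_bot_iff.2 ((inf_le_inf_left U inf_le_left).trans hW'.inf_eq_bot.le)
    let w := Module.finBasis k W
    let b' := Fin.append b fun i => (w i : K)
    let e' := Fin.append e fun _ : Fin (Module.finrank k W) => m + 1
    have hcomb : ∀ (j : ℕ) (c : Fin (n + Module.finrank k W) → k), comb x b' e' j c =
        comb x b e j (fun i => c (Fin.castAdd _ i)) + ∑ i, c (Fin.natAdd n i) • (x ^ (j - (m + 1)) * (w i : K)) := fun j c => by
      rw [comb, comb, Fin.sum_univ_add]; simp [b', e']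
    have hWsum : ∀ c : Fin (Module.finrank k W) → k, ∑ i, c i • (x ^ (m + 1 - (m + 1)) * (w i : K)) = ((∑ i, c i • w i : W) : K) :=
      fun c => by simp
    have hUc : ∀ c : Fin n → k, comb x b e (m + 1) c ∈ U := fun c => Submodule.mem_sup_right
      ((Submodule.mem_span_range_iff_exists_fun k).2 ⟨c, rfl⟩)
    refine ⟨n + Module.finrank k W, b', e', fun i => ?_, fun i => ?_, ?_, ?_, ?_⟩
    · induction i using Fin.addCases with
      | left i => simpa [e'] using (he i).trans (Nat.le_succ m)
      | right i => simp [e']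
    · induction i using Fin.addCases with
      | left i => simpa [b', e'] using hb i
      | right i => simpa [b', e'] using (w i).2.2
    · intro j hj f hf
      rcases Nat.lt_or_ge j (m + 1) with h | h
      · obtain ⟨c, hc0, hc⟩ := hB j (Nat.lt_succ_iff.1 h) f hf
        refine ⟨Fin.append c 0, fun i hi => ?_, ?_⟩
        · induction i using Fin.addCases with
          | left i => simpa using hc0 i (by simpa [e'] using hi)
          | right i => simp
        · rw [hcomb]; simpa using hc
      · obtain rfl : j = m + 1 := le_antisymm hj h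
        rw [← hsum, Submodule.mem_sup] at hf
        obtain ⟨u, hu, v, hv, rfl⟩ := hf
        obtain ⟨u0, hu0, u1, hu1, rfl⟩ := Submodule.mem_sup.1 hu
        obtain ⟨c, rfl⟩ := (Submodule.mem_span_range_iff_exists_fun k).1 hu1
        refine ⟨Fin.append c (fun i => w.repr ⟨v, hv⟩ i), fun i hi => ?_, ?_⟩
        · induction i using Fin.addCases with
          | left i => simp [e'] at hi; have := he i; omega
          | right i => simp [e'] at hi
        · rw [hcomb]
          simp only [Fin.append_right]
          simp only [Fin.append_left]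
          rw [hWsum, w.sum_repr]
          simpa [comb] using hu0
    · intro j hj c hc0 hmem
      rw [hcomb] at hmem
      rcases Nat.lt_or_ge j (m + 1) with h | h
      · have h2 : ∀ i : Fin (Module.finrank k W), c (Fin.natAdd n i) = 0 := fun i => hc0 _ (by simpa [e'] using h)
        simp only [h2, zero_smul, Finset.sum_const_zero, add_zero] at hmem
        have h1 := hC j (Nat.lt_succ_iff.1 h) _ (fun i hi => hc0 _ (by simpa [e'] using hi)) hmem
        funext i
        induction i using Fin.addCases with
        | left i => exact congrFun h1 i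
        | right i => exact h2 i
      · obtain rfl : j = m + 1 := le_antisymm hj h
        rw [hWsum] at hmem
        have hmemU : ((∑ i, c (Fin.natAdd n i) • w i : W) : K) ∈ U := by
          have := sub_mem (show _ ∈ U from Submodule.mem_sup_left hmem) (hUc fun i => c (Fin.castAdd _ i))
          rwa [add_sub_cancel_left] at this
        have h0 : ((∑ i, c (Fin.natAdd n i) • w i : W) : K) = 0 := by
          have : ((∑ i, c (Fin.natAdd n i) • w i : W) : K) ∈ U ⊓ W := ⟨hmemU, SetLike.coe_mem _⟩
          rwa [hdisj, Submodule.mem_bot] at this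
        have h2 := Fintype.linearIndependent_iff.1 w.linearIndependent _ (Subtype.ext h0)
        rw [h0, add_zero] at hmem
        have h1 := hC' (m + 1) _ (fun i hi => absurd ((he i).trans (Nat.le_succ m)) (not_le.2 hi)) hmem
        funext i
        induction i using Fin.addCases with
        | left i => exact congrFun h1 i
        | right i => exact h2 i
    · have h1 := finrank_level hK.1 (x := x) (E := E) b e (j := m + 1) (fun i => (he i).trans (Nat.le_succ m)) U
        (fun c hc => hC' (m + 1) c (fun i hi => absurd ((he i).trans (Nat.le_succ m)) (not_le.2 hi)) hc) hU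
      have h2 := Submodule.finrank_sup_add_finrank_inf_eq U W
      rw [hdisj, finrank_bot, add_zero, hsum, h1, show (((m + 1 : ℕ) : ℤ) - 1) = (m : ℤ) by push_cast; ring] at h2
      rw [h2]
      push_cast
      rw [hD, Fin.sum_univ_add]
      simp [e']
      ring

end Reduced

theorem adjoin_sub_const (x : K) (a : k) :
    IntermediateField.adjoin k ({x - algebraMap k K a} : Set K) = IntermediateField.adjoin k ({x} : Set K) := by
  apply le_antisymm <;> rw [IntermediateField.adjoin_simple_le_iff]
  · exact sub_mem (IntermediateField.mem_adjoin_simple_self k x) (IntermediateField.algebraMap_mem _ a)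
  · simpa using add_mem (IntermediateField.mem_adjoin_simple_self k (x - algebraMap k K a)) (IntermediateField.algebraMap_mem _ a)

theorem adjoin_inv (x : K) : IntermediateField.adjoin k ({x⁻¹} : Set K) = IntermediateField.adjoin k ({x} : Set K) := by
  apply le_antisymm <;> rw [IntermediateField.adjoin_simple_le_iff]
  · exact inv_mem (IntermediateField.mem_adjoin_simple_self k x)
  · simpa using inv_mem (IntermediateField.mem_adjoin_simple_self k x⁻¹)

theorem sum_zeros [IsAlgClosed k] (hK : IsFunctionField k K) {π : K} (hπ : Transcendental k π)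
    (S : Finset (Place k K)) (hS : ∀ P, P ∈ S ↔ 0 < P.ord π) :
    ∑ P ∈ S, P.ord π = Module.finrank (IntermediateField.adjoin k ({π} : Set K)) K := by
  have h1 := deg_poles hK.1 (x := π⁻¹) (fun h => hπ (IsAlgebraic.inv_iff.1 h))
  rw [adjoin_inv, deg_eq_sum _ S (fun P hP => (hS P).2 ?_)] at h1
  · rw [← h1]
    refine Finset.sum_congr rfl fun P hP => ?_
    have := (hS P).1 hP
    rw [Finsupp.sup_apply, Finsupp.neg_apply, div_apply hK.1, ord_inv, neg_neg, Finsupp.zero_apply, deg_eq_one hK P,
      max_eq_left this.le, Nat.cast_one, mul_one]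
  · rw [Finsupp.mem_support_iff, Finsupp.sup_apply, Finsupp.neg_apply, div_apply hK.1, ord_inv, neg_neg,
      Finsupp.zero_apply] at hP
    by_contra hle
    exact hP (max_eq_right (not_lt.1 hle))

/-- the divisor of a differential has degree `2g - 2` -/
theorem deg_dx [IsAlgClosed k] (hK : IsFunctionField k K) {x : K} {Hx : K →ₐ[k] PowerSeries K}
    (hHx : LocRes.IsHasseFamily x Hx) (γ : Place k K → ℤ)
    (hγ : ∀ P : Place k K, ∃ (t : K) (H : K →ₐ[k] PowerSeries K),
      P.1 t = exp (-1) ∧ LocRes.IsHasseFamily t H ∧ γ P = P.ord (LocRes.hasseD H 1 x)) :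
    ∃ T : Finset (Place k K), (∀ P, P ∉ T → γ P = 0) ∧ ∑ P ∈ T, γ P = 2 * (genus k K : ℤ) - 2 := by
  classical
  have hT := transcendental_of_family hK hHx
  set F := IntermediateField.adjoin k ({x} : Set K) with hF
  haveI : FiniteDimensional F K := finite_adjoin hK.1 hT
  haveI : Algebra.IsSeparable F K := isSeparable_of_family hK hHx
  set d := Module.finrank F K with hd
  have hd0 : 0 < d := Module.finrank_pos
  have hx0 : x ≠ 0 := fun h => hT (h ▸ isAlgebraic_zero)
  set E : Divisor k K := (-FunFld.div k x) ⊔ 0 with hEdef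
  have hEP : ∀ P, E P = max (-P.ord x) 0 := fun P => by
    rw [hEdef, Finsupp.sup_apply, Finsupp.neg_apply, div_apply hK.1, Finsupp.zero_apply]
  have hnn : ∀ P, 0 ≤ E P := fun P => by rw [hEP]; exact le_max_right _ _
  have hdegE : E.deg = d := deg_poles hK.1 hT
  have hE0 : E ≠ 0 := fun h => by rw [h, deg_zero] at hdegE; omega
  have hxv : ∀ P : Place k K, P.1 x ≤ exp (E P) := fun P => by
    rw [val_le_exp_iff P hx0, hEP]; have := le_max_left (-P.ord x) 0; omega
  have hex : ∀ P : Place k K, 0 < E P → P.1 x = exp (E P) := fun P h => by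
    rw [val_eq_exp P hx0]; congr 1
    rw [hEP] at h ⊢
    rcases max_cases (-P.ord x) 0 with h1 | h1 <;> omega
  obtain ⟨n, b, e, he, hb, hB, hC, hD⟩ := exists_reduced hK hE0 hnn hxv hex (2 * genus k K + 1)
  set M := 2 * genus k K + 1
  have hC' := indep_up hnn hxv hex hb he hC
  have hlarge : ∀ j : ℕ, 2 * genus k K ≤ j → (Module.finrank k (lev E (j : ℤ)) : ℤ) = j * d + 1 - genus k K := fun j hj => by
    have hdeg : ((j : ℤ) • E).deg = j * d := by
      rw [natCast_zsmul, deg_nsmul, hdegE]
    have := ell_large hK (D := (j : ℤ) • E) (by rw [hdeg]; nlinarith)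
    rw [hdeg, ell] at this
    exact this
  have hn : n = d := by
    have hUeq : lev E (M : ℤ) = lev E ((M : ℤ) - 1) ⊔ Submodule.span k (Set.range fun i => x ^ (M - e i) * b i) := by
      refine le_antisymm (fun f hf => ?_) (sup_le (lev_mono hnn (by omega)) (Submodule.span_le.2 ?_))
      · obtain ⟨c, -, hc⟩ := hB M le_rfl f hf
        rw [← sub_add_cancel f (comb x b e M c)]
        exact add_mem (Submodule.mem_sup_left hc) (Submodule.mem_sup_right ((Submodule.mem_span_range_iff_exists_fun k).2 ⟨c, rfl⟩))
      · rintro _ ⟨i, rfl⟩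
        have := comb_mem hnn hxv hb M (c := fun l : Fin n => if l = i then (1 : k) else 0) (fun l hl => absurd hl (not_lt.2 (he l)))
        simpa [comb, ite_smul] using this
    have h1 := finrank_level hK.1 (x := x) (E := E) b e he _ (fun c hc => hC M le_rfl c (fun i hi => absurd (he i) (not_le.2 hi)) hc) hUeq
    have h2 := hlarge M (by omega)
    have h3 := hlarge (2 * genus k K) le_rfl
    rw [show ((M : ℤ) - 1) = ((2 * genus k K : ℕ) : ℤ) by simp [M]] at h1
    rw [h1] at h2
    push_cast at h2 h3
    rw [h3] at h2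
    simp only [M] at h2
    push_cast at h2
    nlinarith
  clear_value d
  subst hn
  have hesum : (∑ i, (e i : ℤ)) = n + genus k K - 1 := by
    have := hlarge M (by omega)
    rw [hD] at this
    linarith
  have hxm : ∀ (m : ℕ) (i), x ^ m * b i = (⟨x, IntermediateField.mem_adjoin_simple_self k x⟩ : F) ^ m • b i := fun m i => rfl
  -- the reduced family is a basis over `F`
  have hli : LinearIndependent F b := by
    refine (LinearIndependent.iff_fractionRing (Algebra.adjoin k ({x} : Set K)) F).1 ?_
    rw [Fintype.linearIndependent_iff]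
    intro c hc
    choose q hq using fun i => (show ∃ q : Polynomial k, Polynomial.aeval x q = (c i : K) by
      have := (c i).2
      exact (AlgHom.mem_range _).1 ((SetLike.ext_iff.1 (Algebra.adjoin_singleton_eq_range_aeval k x) _).1 this))
    have hsum : ∑ i, Polynomial.aeval x (q i) * b i = 0 := by
      rw [← hc]; exact Finset.sum_congr rfl fun i _ => by rw [hq]; rfl
    by_contra! hne
    obtain ⟨i0, hi0⟩ := hne
    have hq0 : q i0 ≠ 0 := fun h => hi0 (Subtype.ext (by rw [← hq, h, map_zero]; rfl))
    set J := (Finset.univ.filter fun i => q i ≠ 0).sup fun i => (q i).natDegree + e i with hJ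
    obtain ⟨i1, hi1, hi1J⟩ := Finset.exists_mem_eq_sup (Finset.univ.filter fun i => q i ≠ 0) ⟨i0, by simp [hq0]⟩
      (fun i => (q i).natDegree + e i)
    rw [← hJ] at hi1J
    rw [Finset.mem_filter] at hi1
    have hle : ∀ i, q i ≠ 0 → (q i).natDegree + e i ≤ J := fun i hi =>
      Finset.le_sup (f := fun i => (q i).natDegree + e i) (by simp [hi])
    let c0 : Fin n → k := fun i => if e i ≤ J then (q i).coeff (J - e i) else 0
    have hlow : ∀ i (l : ℕ), l + e i < J → x ^ l * b i ∈ lev E ((J : ℤ) - 1) := fun i l hl => by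
      have := comb_mem hnn hxv hb (l + e i) (c := fun s : Fin n => if s = i then (1 : k) else 0)
        (fun s hs => if_neg fun h => by subst h; omega)
      have h2 : x ^ l * b i ∈ lev E ((l + e i : ℕ) : ℤ) := by simpa [comb, ite_smul] using this
      exact lev_mono hnn (by omega) h2
    have hmem : comb x b e J c0 ∈ lev E ((J : ℤ) - 1) := by
      have : comb x b e J c0 = -(∑ i, (Polynomial.aeval x (q i) * b i - c0 i • (x ^ (J - e i) * b i))) := by
        rw [Finset.sum_sub_distrib, hsum, zero_sub, neg_neg]; rfl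
      rw [this]
      refine neg_mem (sum_mem fun i _ => ?_)
      rcases eq_or_ne (q i) 0 with h | h
      · simp [c0, h]
      have hiJ := hle i h
      rw [Polynomial.aeval_eq_sum_range' (show (q i).natDegree < J - e i + 1 by omega), Finset.sum_range_succ, add_mul]
      simp only [c0, show e i ≤ J by omega, if_true, smul_mul_assoc, add_sub_cancel_right, Finset.sum_mul]
      exact sum_mem fun l hl => Submodule.smul_mem _ _ (hlow i l (by have := Finset.mem_range.1 hl; omega))
    have h0 := congrFun (hC' J c0 (fun i hi => if_neg (not_le.2 hi)) hmem) i1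
    have hJ1 : J - e i1 = (q i1).natDegree := by omega
    simp only [c0, show e i1 ≤ J by omega, if_true, hJ1, Pi.zero_apply] at h0
    exact hi1.2 (Polynomial.leadingCoeff_eq_zero.1 h0)
  haveI : Nonempty (Fin n) := ⟨⟨0, hd0⟩⟩
  let B : Module.Basis (Fin n) F K := basisOfLinearIndependentOfCardEqFinrank hli (by rw [Fintype.card_fin, ← hd])
  have hBb : ⇑B = b := coe_basisOfLinearIndependentOfCardEqFinrank _ _
  set D : K := (Algebra.discr F B : K) with hDdef
  have hD0 : D ≠ 0 := fun h => Algebra.discr_not_zero_of_basis F B (Subtype.ext h)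
  -- finite places
  have hfin : ∀ a : k, ∀ S : Finset (Place k K), (∀ P, P ∈ S ↔ 0 < P.ord (x - algebraMap k K a)) →
      ∑ P ∈ S, ((n : ℤ) * γ P - P.ord D) = 0 ∧ ((∀ P ∈ S, P.ord D = 0) → ∀ P ∈ S, γ P = 0) := by
    intro a S hS
    have hπ : Transcendental k (x - algebraMap k K a) := fun h => hT (by
      simpa using IsAlgebraic.add h (isAlgebraic_algebraMap a))
    have hπ0 : x - algebraMap k K a ≠ 0 := fun h => hπ (h ▸ isAlgebraic_zero)
    have hxint : ∀ P ∈ S, P.1 x ≤ 1 := fun P hP => by
      rw [show x = (x - algebraMap k K a) + algebraMap k K a by ring]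
      exact (P.1.map_add _ _).trans (max_le ((val_lt_one_iff P hπ0).2 ((hS P).1 hP)).le (P.2.1 a))
    have hEz : ∀ P ∈ S, E P = 0 := fun P hP => by
      rw [hEP, max_eq_right]
      have := (val_le_one_iff P hx0).1 (hxint P hP)
      omega
    have hder : ∀ P ∈ S, ∃ (t : K) (H : K →ₐ[k] PowerSeries K),
        P.1 t = exp (-1) ∧ LocRes.IsHasseFamily t H ∧ γ P = P.ord (LocRes.hasseD H 1 (x - algebraMap k K a)) := fun P _ => by
      obtain ⟨t, H, h1, h2, h3⟩ := hγ P
      refine ⟨t, H, h1, h2, ?_⟩
      rw [h3, LocRes.hasseD_apply, LocRes.hasseD_apply, map_sub, map_sub, AlgHom.commutes, PowerSeries.algebraMap_apply,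
        PowerSeries.coeff_C, if_neg one_ne_zero, sub_zero]
    have hres : ∀ c : Fin n → k, (∀ P : Place k K, 0 < P.ord (x - algebraMap k K a) →
        P.1 (∑ i, c i • B i) ≤ P.1 (x - algebraMap k K a)) → c = 0 := fun c hc => by
      -- residual independence
      by_contra hne
      obtain ⟨i0, hi0⟩ := Function.ne_iff.1 hne
      obtain ⟨i1, hi1, hmax⟩ := Finset.exists_max_image (Finset.univ.filter fun i => c i ≠ 0) e ⟨i0, by simpa using hi0⟩
      rw [Finset.mem_filter] at hi1
      have hmax' : ∀ i, c i ≠ 0 → e i ≤ e i1 := fun i hi => hmax i (by simp [hi])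
      set g0 := ∑ i, c i • B i with hg0
      set y := g0 / (x - algebraMap k K a) with hy
      have hg0mem : g0 ∈ lev E (e i1 : ℤ) := sum_mem fun i _ => by
        rcases eq_or_ne (c i) 0 with h | h
        · rw [h, zero_smul]; exact zero_mem _
        · rw [hBb]; exact Submodule.smul_mem _ _ (lev_mono hnn (by have := hmax' i h; omega) (hb i))
      have hymem : y ∈ lev E ((e i1 : ℤ) - 1) := mem_lev.2 fun P => by
        rw [hy, map_div₀, div_le_iff₀ (zero_lt_iff.2 (val_ne_zero P hπ0))]
        rcases eq_or_lt_of_le (hnn P) with h | h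
        · rw [← h, mul_zero, exp_zero, one_mul]
          rcases lt_or_ge 0 (P.ord (x - algebraMap k K a)) with h1 | h1
          · exact hc P h1
          · have hxP : P.1 (x - algebraMap k K a) = 1 := by
              refine le_antisymm ((Valuation.map_sub _ _ _).trans (max_le ?_ (P.2.1 a))) ?_
              · simpa [← h] using hxv P
              · exact not_lt.1 fun hlt => absurd ((val_lt_one_iff P hπ0).1 hlt) (not_lt.2 h1)
            rw [hxP]
            simpa [← h] using mem_lev.1 hg0mem P
        · have hxP : P.1 (x - algebraMap k K a) = exp (E P) := by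
            rw [sub_eq_add_neg, Valuation.map_add_eq_of_lt_left _ ?_, hex P h]
            rw [Valuation.map_neg, hex P h]
            exact (P.2.1 a).trans_lt (by rw [← exp_zero, exp_lt_exp]; exact h)
          rw [hxP, ← exp_add, show ((e i1 : ℤ) - 1) * E P + E P = (e i1 : ℤ) * E P by ring]
          exact mem_lev.1 hg0mem P
      have hgy : g0 = x * y - a • y := by
        rw [Algebra.smul_def, ← sub_mul, hy, mul_div_cancel₀ _ hπ0]
      have hprev : ∀ c' : Fin n → k, (∀ i, e i1 ≤ e i → c' i = 0) →
          comb x b e (e i1) (fun i => (if e i = e i1 then c i else 0) - c' i) ∈ lev E ((e i1 : ℤ) - 1) → False := by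
        intro c' hc' hmem
        have := congrFun (hC' (e i1) _ (fun i hi => by simp [show e i ≠ e i1 by omega, hc' i (by omega)]) hmem) i1
        simp [hc' i1 le_rfl] at this
        exact hi1.2 this
      have htop : comb x b e (e i1) (fun i => if e i = e i1 then c i else 0) - g0 ∈ lev E ((e i1 : ℤ) - 1) := by
        rw [hg0, hBb, comb, ← Finset.sum_sub_distrib]
        refine sum_mem fun i _ => ?_
        by_cases h : e i = e i1
        · simp [h]
        · rw [if_neg h, zero_smul, zero_sub]
          refine neg_mem ?_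
          rcases eq_or_ne (c i) 0 with h0 | h0
          · rw [h0, zero_smul]; exact zero_mem _
          · exact Submodule.smul_mem _ _ (lev_mono hnn (by have := hmax' i h0; omega) (hb i))
      rcases Nat.eq_zero_or_pos (e i1) with h0 | h0
      · refine hprev 0 (fun i _ => rfl) ?_
        have hy0 : y = 0 := by
          have hbot : lev E ((e i1 : ℤ) - 1) = ⊥ := by
            rw [lev, h0, Nat.cast_zero, zero_sub, neg_one_smul]
            exact L_eq_bot hK (by rw [deg_neg, hdegE]; omega)
          rwa [hbot, Submodule.mem_bot] at hymem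
        rw [hgy, hy0, mul_zero, smul_zero, sub_zero, sub_zero] at htop
        simpa using htop
      obtain ⟨j, hj⟩ : ∃ j, e i1 = j + 1 := ⟨e i1 - 1, by omega⟩
      obtain ⟨c', hc'0, hc'⟩ := hB j (by have := he i1; omega) y (by
        rwa [show (j : ℤ) = (e i1 : ℤ) - 1 by omega])
      refine hprev c' (fun i hi => hc'0 i (by omega)) ?_
      have hxc : x * comb x b e j c' = comb x b e (e i1) c' := by
        rw [comb, comb, Finset.mul_sum]
        refine Finset.sum_congr rfl fun i _ => ?_
        rcases Nat.lt_or_ge j (e i) with h | h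
        · rw [hc'0 i h, zero_smul, zero_smul, mul_zero]
        · rw [hj, Nat.succ_sub h, pow_succ', mul_smul_comm, mul_assoc]
      have hsplit : comb x b e (e i1) (fun i => (if e i = e i1 then c i else 0) - c' i) =
          (comb x b e (e i1) (fun i => if e i = e i1 then c i else 0) - g0) + x * (y - comb x b e j c') + -(a • y) := by
        have : comb x b e (e i1) (fun i => (if e i = e i1 then c i else 0) - c' i) =
            comb x b e (e i1) (fun i => if e i = e i1 then c i else 0) - comb x b e (e i1) c' := by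
          simp only [comb, sub_smul, Finset.sum_sub_distrib]
        rw [this, ← hxc, hgy]
        ring
      rw [hsplit]
      refine add_mem (add_mem htop ?_) (neg_mem (Submodule.smul_mem _ _ hymem))
      exact lev_mono hnn (by omega) (mul_x_mem hxv hc')
    have hbint : ∀ i, ∀ P : Place k K, 0 < P.ord (x - algebraMap k K a) → P.1 (B i) ≤ 1 := fun i P hP => by
      rw [hBb]
      have := mem_lev.1 (hb i) P
      rwa [hEz P ((hS P).2 hP), mul_zero, exp_zero] at this
    obtain ⟨v, hv, hvsum⟩ := local_discr F hπ (adjoin_sub_const x a).symm hK B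
      hres hbint S hS γ hder
    have hsum := sum_zeros hK hπ S hS
    rw [adjoin_sub_const, ← hd] at hsum
    refine ⟨?_, fun h => ?_⟩
    · rw [Finset.sum_sub_distrib, ← Finset.mul_sum, ← hvsum, Finset.sum_congr rfl hv, ← Finset.mul_sum, hsum]
      ring
    · have hv0 : v = 0 := by
        rcases S.eq_empty_or_nonempty with rfl | ⟨P, hP⟩
        · rw [Finset.sum_empty] at hsum; omega
        have := hv P hP
        rw [h P hP] at this
        exact (mul_eq_zero.1 this.symm).resolve_right (ne_of_gt ((hS P).1 hP))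
      rw [hv0] at hvsum
      refine (Finset.sum_eq_zero_iff_of_nonneg fun P hP => ?_).1 hvsum.symm
      obtain ⟨t, H, h1, h2, h3⟩ := hγ P
      rw [h3]
      rcases eq_or_ne (LocRes.hasseD H 1 x) 0 with h0 | h0
      · rw [h0, ord_zero]
      · exact (val_le_one_iff P h0).1 (hasseD_integral hK h1 h2 1 (hxint P hP))
  -- the places at infinity
  have hinf : ∀ S : Finset (Place k K), (∀ P, P ∈ S ↔ 0 < P.ord x⁻¹) →
      ∑ P ∈ S, ((n : ℤ) * γ P - P.ord D) = n * (2 * (genus k K : ℤ) - 2) := by
    intro S hS
    have hπ : Transcendental k x⁻¹ := fun h => hT (IsAlgebraic.inv_iff.1 h)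
    have hord : ∀ P ∈ S, 0 < E P ∧ P.ord x⁻¹ = E P := fun P hP => by
      have := (hS P).1 hP
      rw [ord_inv] at this ⊢
      rw [hEP, max_eq_left this.le]
      exact ⟨this, rfl⟩
    let u : F := ⟨x⁻¹, inv_mem (IntermediateField.mem_adjoin_simple_self k x)⟩
    have hu0 : u ≠ 0 := fun h => inv_ne_zero hx0 (congrArg Subtype.val h)
    let wu : Fin n → Fˣ := fun i => Units.mk0 (u ^ e i) (pow_ne_zero _ hu0)
    let B' := B.unitsSMul wu
    have hB' : ∀ i, B' i = x⁻¹ ^ e i * b i := fun i => by
      rw [Module.Basis.unitsSMul_apply, hBb]; rfl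
    have hder : ∀ P ∈ S, ∃ (t : K) (H : K →ₐ[k] PowerSeries K),
        P.1 t = exp (-1) ∧ LocRes.IsHasseFamily t H ∧ γ P + 2 * E P = P.ord (LocRes.hasseD H 1 x⁻¹) := fun P hP => by
      obtain ⟨t, H, h1, h2, h3⟩ := hγ P
      refine ⟨t, H, h1, h2, ?_⟩
      rw [← hasseDer_apply h2, Derivation.leibniz_inv, hasseDer_apply, smul_eq_mul, neg_mul, ord_neg,
        ord_mul P (pow_ne_zero _ (inv_ne_zero hx0)) (hasseD_one_ne_zero hK hHx h2), ord_pow, (hord P hP).2, h3]
      push_cast; ring
    have hres : ∀ c : Fin n → k, (∀ P : Place k K, 0 < P.ord x⁻¹ → P.1 (∑ i, c i • B' i) ≤ P.1 x⁻¹) → c = 0 := fun c hc => by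
      by_contra hne
      obtain ⟨i0, hi0⟩ := Function.ne_iff.1 hne
      obtain ⟨i1, hi1, hmax⟩ := Finset.exists_max_image (Finset.univ.filter fun i => c i ≠ 0) e ⟨i0, by simpa using hi0⟩
      rw [Finset.mem_filter] at hi1
      have hmax' : ∀ i, e i1 < e i → c i = 0 := fun i hi => by
        by_contra h; exact absurd (hmax i (by simp [h])) (not_le.2 hi)
      have hh : comb x b e (e i1) c = x ^ e i1 * ∑ i, c i • B' i := by
        rw [comb, Finset.mul_sum]
        refine Finset.sum_congr rfl fun i _ => ?_
        rcases Nat.lt_or_ge (e i1) (e i) with h | h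
        · rw [hmax' i h, zero_smul, zero_smul, mul_zero]
        · rw [hB', mul_smul_comm, inv_pow, ← mul_assoc, pow_sub₀ x hx0 h]
      refine hi1.2 (congrFun (hC' (e i1) c hmax' (mem_lev.2 fun P => ?_)) i1)
      rcases eq_or_lt_of_le (hnn P) with h | h
      · have := mem_lev.1 (comb_mem hnn hxv hb (e i1) hmax') P
        rw [← h, mul_zero] at this ⊢
        exact this
      · have hP : 0 < P.ord x⁻¹ := by
          rw [ord_inv]; rw [hEP] at h
          rcases max_cases (-P.ord x) 0 with h1 | h1 <;> omega
        rw [hh, map_mul, map_pow, hex P h]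
        refine (mul_le_mul' le_rfl (hc P hP)).trans ?_
        rw [map_inv₀, hex P h, ← exp_nsmul, ← exp_neg, ← exp_add, exp_le_exp, nsmul_eq_mul, sub_mul, one_mul]
        omega
    have hbint : ∀ i, ∀ P : Place k K, 0 < P.ord x⁻¹ → P.1 (B' i) ≤ 1 := fun i P hP => by
      have hE' := hord P ((hS P).2 hP)
      rw [hB', map_mul, map_pow, map_inv₀, hex P hE'.1]
      refine (mul_le_mul' le_rfl (mem_lev.1 (hb i) P)).trans ?_
      rw [← exp_neg, ← exp_nsmul, ← exp_add, ← exp_zero, exp_le_exp, nsmul_eq_mul]
      simp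
    obtain ⟨v, hv, hvsum⟩ := local_discr F hπ (adjoin_inv x).symm hK B' hres hbint S hS _ hder
    have hsum := sum_zeros hK hπ S hS
    rw [adjoin_inv, ← hd] at hsum
    have hscale : Algebra.discr F B' = (∏ i, u ^ e i) ^ 2 * Algebra.discr F B := by
      have : ⇑B' = Matrix.vecMul B ((Matrix.diagonal fun i => u ^ e i).map (algebraMap F K)) := funext fun i => by
        rw [hB', hBb, Matrix.diagonal_map (map_zero _), Matrix.vecMul_diagonal]
        simp only [Function.comp_apply, map_pow]
        rw [mul_comm]; rfl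
      rw [this, Algebra.discr_of_matrix_vecMul, Matrix.det_diagonal]
    have hDord : ∀ P ∈ S, P.ord D = v * P.ord x⁻¹ - 2 * (∑ i, (e i : ℤ)) * P.ord x⁻¹ := fun P hP => by
      have h1 := hv P hP
      rw [hscale, Finset.prod_pow_eq_pow_sum, ← pow_mul, IntermediateField.coe_mul, IntermediateField.coe_pow,
        ord_mul P (pow_ne_zero _ (inv_ne_zero hx0)) hD0, ord_pow] at h1
      push_cast at h1
      linarith
    rw [Finset.sum_sub_distrib, ← Finset.mul_sum, Finset.sum_congr rfl hDord, Finset.sum_sub_distrib, ← Finset.mul_sum,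
      ← Finset.mul_sum, hsum]
    rw [Finset.sum_add_distrib, ← Finset.mul_sum, ← Finset.sum_congr rfl fun P hP => (hord P hP).2, hsum] at hvsum
    rw [hesum, hvsum]
    ring
  -- summing up
  let key : Place k K → Option k := fun P =>
    if h : P.1 x ≤ 1 then some (exists_const hK P h).choose else none
  have hkey : ∀ P a, key P = some a ↔ 0 < P.ord (x - algebraMap k K a) := fun P a => by
    have hπ0 : x - algebraMap k K a ≠ 0 := fun h => hT (sub_eq_zero.1 h ▸ isAlgebraic_algebraMap a)
    simp only [key]
    by_cases h : P.1 x ≤ 1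
    · rw [dif_pos h, Option.some_inj, ← val_lt_one_iff P hπ0]
      have hspec := (exists_const hK P h).choose_spec
      exact ⟨fun he => he ▸ hspec, fun hlt => const_unique hspec hlt⟩
    · rw [dif_neg h]
      refine iff_of_false (by simp) fun hlt => h ?_
      rw [show x = (x - algebraMap k K a) + algebraMap k K a by ring]
      exact (P.1.map_add _ _).trans (max_le ((val_lt_one_iff P hπ0).2 hlt).le (P.2.1 a))
  have hkey0 : ∀ P, key P = none ↔ 0 < P.ord x⁻¹ := fun P => by
    simp only [key]
    by_cases h : P.1 x ≤ 1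
    · rw [dif_pos h]
      refine iff_of_false (by simp) ?_
      rw [ord_inv]
      have := (val_le_one_iff P hx0).1 h
      omega
    · rw [dif_neg h]
      refine iff_of_true rfl ?_
      rw [ord_inv]
      by_contra hle
      exact h ((val_le_one_iff P hx0).2 (by omega))
  have hfib : ∀ o : Option k, {P | key P = o}.Finite := fun o => by
    rcases o with _ | a
    · exact (finite_zeros hK.1 x⁻¹).subset fun P hP => (hkey0 P).1 hP
    · exact (finite_zeros hK.1 (x - algebraMap k K a)).subset fun P hP => (hkey P a).1 hP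
  set K0 : Finset (Option k) := insert none ((FunFld.div k D).support.image key) with hK0
  set T : Finset (Place k K) := K0.biUnion fun o => (hfib o).toFinset with hTdef
  have hmemT : ∀ P, P ∈ T ↔ key P ∈ K0 := fun P => by simp [hTdef]
  have hD_T : ∀ P, P ∉ T → P.ord D = 0 := fun P hP => by
    by_contra h
    refine hP ((hmemT P).2 (Finset.mem_insert_of_mem (Finset.mem_image_of_mem key ?_)))
    rw [Finsupp.mem_support_iff, div_apply hK.1]
    exact h
  refine ⟨T, fun P hP => ?_, ?_⟩
  · obtain ⟨a, ha⟩ : ∃ a, key P = some a := by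
      rcases h : key P with _ | a
      · exact absurd ((hmemT P).2 (h ▸ Finset.mem_insert_self _ _)) hP
      · exact ⟨a, rfl⟩
    refine (hfin a (hfib (some a)).toFinset fun Q => by rw [Set.Finite.mem_toFinset]; exact hkey Q a).2 (fun Q hQ => ?_) P
      ((hfib (some a)).mem_toFinset.2 ha)
    refine hD_T Q fun h => hP ((hmemT P).2 ?_)
    have := (hfib (some a)).mem_toFinset.1 hQ
    rw [ha, ← this]; exact (hmemT Q).1 h
  · have h1 : ∑ P ∈ T, ((n : ℤ) * γ P - P.ord D) = n * (2 * (genus k K : ℤ) - 2) := by
      rw [← Finset.sum_fiberwise_of_maps_to (fun P hP => (hmemT P).1 hP), Finset.sum_eq_single none]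
      · rw [show T.filter (fun P => key P = none) = (hfib none).toFinset from Finset.ext fun P => by
          simp only [Finset.mem_filter, Set.Finite.mem_toFinset, Set.mem_ofPred_eq, and_iff_right_iff_imp]
          exact fun h => (hmemT P).2 (h ▸ Finset.mem_insert_self _ _)]
        exact hinf _ fun P => by rw [Set.Finite.mem_toFinset]; exact hkey0 P
      · intro o ho hne
        obtain ⟨a, rfl⟩ := Option.ne_none_iff_exists'.1 hne
        rw [show T.filter (fun P => key P = some a) = (hfib (some a)).toFinset from Finset.ext fun P => by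
          simp only [Finset.mem_filter, Set.Finite.mem_toFinset, Set.mem_ofPred_eq, and_iff_right_iff_imp]
          exact fun h => (hmemT P).2 (h ▸ ho)]
        exact (hfin a _ fun P => by rw [Set.Finite.mem_toFinset]; exact hkey P a).1
      · exact fun h => absurd (Finset.mem_insert_self _ _) h
    have h2 : ∑ P ∈ T, P.ord D = 0 := by
      have h := deg_div hK.1 D
      rw [deg_eq_sum _ T (fun P hP => by
        by_contra hPT
        rw [Finsupp.mem_support_iff, div_apply hK.1] at hP
        exact hP (hD_T P hPT))] at h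
      rw [← h]
      exact Finset.sum_congr rfl fun P _ => by rw [div_apply hK.1, deg_eq_one hK P, Nat.cast_one, mul_one]
    rw [Finset.sum_sub_distrib, ← Finset.mul_sum, h2, sub_zero] at h1
    exact mul_left_cancel₀ (by omega : (n : ℤ) ≠ 0) h1

end Groth.Agent.FunFldLib
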