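import Groth.Agent.FunFldLib.DiffExp

/-! The different exponent from an Eisenstein-type equation. -/

set_option autoImplicit false
set_option maxHeartbeats 800000

open WithZero Polynomial

universe u v w'

namespace Groth.Agent.FunFldLib

open FunFld

variable {k : Type u} {K : Type v} {K' : Type w'} {F F' : Type*} [Field k] [Field K] [Field K'] [Algebra k K] [Algebra K K']
  [Algebra k K'] [IsScalarTower k K K'] [Field F] [Algebra k F] [Field F'] [Algebra k F']

theorem val_D_int {f : LaurentSeries F} (h : Valued.v f ≤ 1) : Valued.v (LocRes.D F f) ≤ 1 := val_D_le_one h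

theorem diff_core (hK : IsFunctionField k K) (hg : IsGeometric k K) {P : Place k K} {Q : Place k K'} {e : ℕ}
    (he : IsOverWith Q P e) {φ : K →ₐ[k] LaurentSeries F} (hφ : LocRes.IsExpansionAt P.1 φ)
    {ψ : K' →ₐ[k] LaurentSeries F'} (hψ : LocRes.IsExpansionAt Q.1 ψ) {x : K}
    (hx : LocRes.vDiff φ 1 x ≠ 0) (hx' : LocRes.vDiff ψ 1 (algebraMap K K' x) ≠ 0)
    {s : K'} (hs : Q.1 s = exp (-1)) {f : Polynomial K} (hfs : aeval s f = 0)
    (hint : ∀ i, P.1 (f.coeff i) ≤ 1) (h0 : P.1 (f.coeff 0) = exp (-1)) :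
    Q.ord (aeval s (derivative f)) = LocRes.diffExp φ ψ e x := by
  obtain ⟨t, -, ht⟩ := exists_val_eq P (-1)
  obtain ⟨-, hDφt⟩ := ordDiff_param hφ ht
  obtain ⟨hDψt, hd⟩ := diffExp_eq hK hg he hφ hψ hx hx' ht
  have hvt : Valued.v (LocRes.D F (φ t)) = 1 := val_D_param (by rw [hφ.1, ht])
  have hvs : Valued.v (LocRes.D F' (ψ s)) = 1 := val_D_param (by rw [hψ.1, hs])
  choose δ hδ1 hδ2 using fun i => D_above hK hg φ ψ hDφt (f.coeff i)
  have hδ : ∀ i, P.1 (δ i) = Valued.v (LocRes.D F (φ (f.coeff i))) := fun i => by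
    rw [hδ1, map_mul, hφ.1, hvt, mul_one]
  have hδint : ∀ i, P.1 (δ i) ≤ 1 := fun i => by rw [hδ]; exact val_D_le_one (by rw [hφ.1]; exact hint i)
  have hδ0 : P.1 (δ 0) = 1 := by rw [hδ]; exact val_D_param (by rw [hφ.1, h0])
  set N := f.natDegree + 1
  set S : K' := ∑ i ∈ Finset.range N, algebraMap K K' (δ i) * s ^ i with hS
  have hder : aeval s (derivative f) = ∑ i ∈ Finset.range N, algebraMap K K' (f.coeff i) * ((i : K') * s ^ (i - 1)) := by
    conv_lhs => rw [f.as_sum_range_C_mul_X_pow]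
    rw [map_sum, map_sum]
    refine Finset.sum_congr rfl fun i _ => ?_
    rw [derivative_C_mul_X_pow]
    simp only [map_mul, map_natCast, aeval_C, map_pow, aeval_X]
    ring
  have hsum : aeval s f = ∑ i ∈ Finset.range N, algebraMap K K' (f.coeff i) * s ^ i := by
    conv_lhs => rw [f.as_sum_range_C_mul_X_pow]
    simp [map_sum, N]
  have key : (0 : LaurentSeries F') =
      ψ S * LocRes.D F' (ψ (algebraMap K K' t)) + ψ (aeval s (derivative f)) * LocRes.D F' (ψ s) := by
    have h := congrArg (fun z => LocRes.D F' (ψ z)) (hsum.symm.trans hfs)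
    simp only [map_zero] at h
    rw [← h, hS, hder, map_sum, map_sum, map_sum, map_sum, Finset.sum_mul, Finset.sum_mul, ← Finset.sum_add_distrib]
    refine Finset.sum_congr rfl fun i _ => ?_
    rw [map_mul, Derivation.leibniz, map_pow, Derivation.leibniz_pow, hδ2]
    simp only [map_mul, map_pow, map_natCast, smul_eq_mul, nsmul_eq_mul]
    ring
  have hQs : Q.1 s < 1 := by rw [hs]; exact exp_neg_one_lt_one
  have hS1 : Q.1 S = 1 := by
    have h := Valuation.map_sum_eq_of_lt Q.1 (s := Finset.range N) (f := fun i => algebraMap K K' (δ i) * s ^ i) (j := 0)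
      (Finset.mem_range.2 (Nat.succ_pos _)) fun i hi => by
        have hi0 : i ≠ 0 := fun h => (Finset.mem_sdiff.1 hi).2 (Finset.mem_singleton.2 h)
        simp only [pow_zero, mul_one]
        rw [map_mul, map_pow, he, he, hδ0, one_pow]
        exact (mul_le_of_le_one_left' (pow_le_one₀ zero_le (hδint i))).trans_lt (pow_lt_one₀ zero_le hQs hi0)
    rw [hS, h, pow_zero, mul_one, he, hδ0, one_pow]
  have h2 : Valued.v (ψ (aeval s (derivative f)) * LocRes.D F' (ψ s)) =
      Valued.v (ψ S * LocRes.D F' (ψ (algebraMap K K' t))) := by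
    rw [eq_neg_of_add_eq_zero_right key.symm, Valuation.map_neg]
  rw [map_mul, map_mul, hvs, mul_one, hψ.1, hψ.1, hS1, one_mul] at h2
  rw [hd, Place.ord, h2]

variable [FiniteDimensional K K']

omit [Algebra k K] [IsScalarTower k K K'] in
theorem distinct_max {P : Valuation K (WithZero (Multiplicative ℤ))} {Q : Valuation K' (WithZero (Multiplicative ℤ))}
    {n : ℕ} (he : ∀ z, Q (algebraMap K K' z) = P z ^ n) {s : K'} (hs : Q s = exp (-1)) (a : ℕ → K) (m : ℕ) (hm : m ≤ n)
    (hne : ∃ i < m, a i ≠ 0) :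
    ∃ j < m, a j ≠ 0 ∧ Q (∑ i ∈ Finset.range m, algebraMap K K' (a i) * s ^ i) = P (a j) ^ n * exp (-(j : ℤ)) ∧
      ∀ i < m, P (a i) ^ n * exp (-(i : ℤ)) ≤ P (a j) ^ n * exp (-(j : ℤ)) := by
  classical
  have hterm : ∀ i, Q (algebraMap K K' (a i) * s ^ i) = P (a i) ^ n * exp (-(i : ℤ)) := fun i => by
    rw [map_mul, he, map_pow, hs, ← exp_nsmul, nsmul_eq_mul, mul_neg, mul_one]
  obtain ⟨i₀, hi₀, hai₀⟩ := hne
  obtain ⟨j, hj, hmax⟩ := Finset.exists_max_image (Finset.range m) (fun i => P (a i) ^ n * exp (-(i : ℤ)))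
    ⟨i₀, Finset.mem_range.2 hi₀⟩
  have hj0 : a j ≠ 0 := fun h0 => by
    have := hmax i₀ (Finset.mem_range.2 hi₀)
    rw [h0, map_zero, zero_pow (by omega), zero_mul, le_zero_iff, mul_eq_zero] at this
    rcases this with h | h
    · exact ((map_ne_zero P).2 hai₀) (pow_eq_zero_iff (show n ≠ 0 by omega) |>.1 h)
    · exact exp_ne_zero h
  refine ⟨j, Finset.mem_range.1 hj, hj0, ?_, fun i hi => hmax i (Finset.mem_range.2 hi)⟩
  rw [Valuation.map_sum_eq_of_lt Q (j := j) hj (fun i hi => ?_), hterm]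
  have him : i ∈ Finset.range m := (Finset.mem_sdiff.1 hi).1
  have hij : i ≠ j := fun h => (Finset.mem_sdiff.1 hi).2 (Finset.mem_singleton.2 h)
  rw [hterm, hterm]
  refine lt_of_le_of_ne (hmax i him) fun heq => ?_
  rcases eq_or_ne (a i) 0 with h0 | h0
  · rw [h0, map_zero, zero_pow (by omega), zero_mul] at heq
    exact mul_ne_zero (pow_ne_zero _ ((map_ne_zero P).2 hj0)) exp_ne_zero heq.symm
  · rw [← exp_log ((map_ne_zero P).2 h0), ← exp_log ((map_ne_zero P).2 hj0), ← exp_nsmul, ← exp_nsmul,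
      ← exp_add, ← exp_add, exp_inj] at heq
    simp only [nsmul_eq_mul] at heq
    have h3 : (n : ℤ) ∣ ((i : ℤ) - j) := ⟨log (P (a i)) - log (P (a j)), by linear_combination -heq⟩
    have h4 : ((i : ℤ) - j) = 0 := Int.eq_zero_of_abs_lt_dvd h3 (by
      have := Finset.mem_range.1 him; have := Finset.mem_range.1 hj
      rw [abs_lt]; omega)
    omega

theorem eisenstein {P : Place k K} {Q : Place k K'} {e : ℕ} (he : IsOverWith Q P e) (hn : e = Module.finrank K K')
    {s : K'} (hs : Q.1 s = exp (-1)) :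
    (∀ i, P.1 ((minpoly K s).coeff i) ≤ 1) ∧ P.1 ((minpoly K s).coeff 0) = exp (-1) := by
  have hi : IsIntegral K s := IsIntegral.of_finite K s
  set f := minpoly K s
  set m := f.natDegree with hm
  have hme : m ≤ e := hn ▸ minpoly.natDegree_le s
  have hlead : f.coeff m = 1 := (minpoly.monic hi).coeff_natDegree
  have hsum : ∑ i ∈ Finset.range (m + 1), algebraMap K K' (f.coeff i) * s ^ i = 0 := by
    rw [← minpoly.aeval K s, aeval_eq_sum_range]
    simp [f, m, Algebra.smul_def]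
  have hme' : m = e := by
    by_contra hne
    obtain ⟨j, -, hj0, hj, -⟩ := distinct_max he hs f.coeff (m + 1) (by omega) ⟨m, by omega, by rw [hlead]; exact one_ne_zero⟩
    rw [hsum, map_zero] at hj
    exact mul_ne_zero (pow_ne_zero _ ((map_ne_zero P.1).2 hj0)) exp_ne_zero hj.symm
  have h0 : f.coeff 0 ≠ 0 := fun h => by
    have := minpoly.coeff_zero_ne_zero hi (fun hs0 => by rw [hs0, map_zero] at hs; exact exp_ne_zero hs.symm)
    exact this h
  rw [Finset.sum_range_succ, hlead, map_one, one_mul] at hsum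
  have hQ : Q.1 (∑ i ∈ Finset.range m, algebraMap K K' (f.coeff i) * s ^ i) = exp (-(e : ℤ)) := by
    rw [eq_neg_of_add_eq_zero_left hsum, Valuation.map_neg, map_pow, hs, ← exp_nsmul, hme', nsmul_eq_mul, mul_neg, mul_one]
  obtain ⟨j, hj, hj0, hjv, hjmax⟩ := distinct_max he hs f.coeff m hme ⟨0, minpoly.natDegree_pos hi, h0⟩
  rw [hQ] at hjv
  rw [← exp_log ((map_ne_zero P.1).2 hj0), ← exp_nsmul, ← exp_add, exp_inj, nsmul_eq_mul] at hjv
  have hj' : j = 0 := by
    have h3 : (e : ℤ) ∣ (j : ℤ) := ⟨log (P.1 (f.coeff j)) + 1, by linear_combination hjv⟩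
    have := Int.eq_zero_of_abs_lt_dvd h3 (by rw [Nat.abs_cast]; omega)
    omega
  subst hj'
  have hl : log (P.1 (f.coeff 0)) = -1 := by
    have h5 : ((e : ℤ)) * (log (P.1 (f.coeff 0)) + 1) = 0 := by push_cast at hjv; linear_combination -hjv
    rcases mul_eq_zero.1 h5 with h | h
    · omega
    · omega
  have hP0 : P.1 (f.coeff 0) = exp (-1) := by rw [← exp_log ((map_ne_zero P.1).2 h0), hl]
  refine ⟨fun i => ?_, hP0⟩
  rcases lt_trichotomy i m with hlt | rfl | hgt
  · have h6 := hjmax i hlt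
    rw [hP0, ← exp_nsmul, ← exp_add] at h6
    rcases eq_or_ne (f.coeff i) 0 with h | h
    · rw [h, map_zero]; exact zero_le
    rw [← exp_log ((map_ne_zero P.1).2 h), ← exp_nsmul, ← exp_add, exp_le_exp] at h6
    rw [← exp_log ((map_ne_zero P.1).2 h)]
    refine (exp_le_exp.2 ?_).trans_eq exp_zero
    simp only [nsmul_eq_mul] at h6
    push_cast at h6
    nlinarith
  · rw [hlead, map_one]
  · rw [coeff_eq_zero_of_natDegree_lt hgt, map_zero]; exact zero_le

end Groth.Agent.FunFldLib
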