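import Groth.Agent.FunFldLib.WrCore
import Mathlib.RingTheory.Discriminant
import Mathlib.LinearAlgebra.Matrix.Charpoly.Coeff
import Mathlib.RingTheory.Norm.Basic
import Mathlib.LinearAlgebra.FiniteDimensional.Lemmas

/-! The discriminant at the zeros of a separating function measures the zeros of its differential. -/

set_option autoImplicit false

open WithZero Polynomial

namespace Groth.Agent.FunFldLib

open FunFld

variable {k K : Type*} [Field k] [Field K] [Algebra k K]

theorem ord_prod_zpow (P : Place k K) {ι : Type*} (s : Finset ι) (g : ι → K) (n : ι → ℤ) (hg : ∀ i ∈ s, g i ≠ 0) :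
    (∏ i ∈ s, g i ^ n i) ≠ 0 ∧ P.ord (∏ i ∈ s, g i ^ n i) = ∑ i ∈ s, n i * P.ord (g i) := by
  classical
  induction s using Finset.induction_on with
  | empty => exact ⟨one_ne_zero, by simpa using ord_algebraMap P (1 : k)⟩
  | insert a s ha ih =>
    obtain ⟨h1, h2⟩ := ih fun i hi => hg i (Finset.mem_insert_of_mem hi)
    have h3 : g a ^ n a ≠ 0 := zpow_ne_zero _ (hg a (Finset.mem_insert_self a s))
    rw [Finset.prod_insert ha, Finset.sum_insert ha]
    exact ⟨mul_ne_zero h3 h1, by rw [ord_mul P h3 h1, h2, ord_zpow]⟩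

theorem val_aeval_at_zero (P : Place k K) {π : K} (hπ : P.1 π < 1) (r : k[X]) :
    P.1 (aeval π r - algebraMap k K (r.eval 0)) < 1 := by
  obtain ⟨h, hh⟩ : X ∣ r - C (r.eval 0) := X_dvd_iff.2 (by simp [coeff_zero_eq_eval_zero])
  have e : aeval π r - algebraMap k K (r.eval 0) = π * aeval π h := by
    have := congrArg (aeval π) hh
    simpa using this
  rw [e, map_mul]
  exact (mul_le_of_le_one_right' (val_aeval_le_one P.1 (fun c => P.2.1 c) hπ.le h)).trans_lt hπ

theorem val_aeval_unit (P : Place k K) {π : K} (hπ : P.1 π < 1) {r : k[X]} (hr : r.eval 0 ≠ 0) :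
    P.1 (aeval π r) = 1 := val_eq_one_of_sub (val_aeval_at_zero P hπ r) hr

variable {π : K} (F : IntermediateField k K) (hπ : Transcendental k π) (hF : F = IntermediateField.adjoin k ({π} : Set K))

include hπ hF

omit hπ in
theorem pi_mem : π ∈ F := hF ▸ IntermediateField.mem_adjoin_simple_self k π

theorem exists_form {f : K} (hf : f ∈ F) (hf0 : f ≠ 0) :
    ∃ (v : ℤ) (r s : k[X]), r.eval 0 ≠ 0 ∧ s.eval 0 ≠ 0 ∧ f = π ^ v * (aeval π r / aeval π s) := by
  rw [hF] at hf
  obtain ⟨r, s, rfl⟩ := (IntermediateField.mem_adjoin_simple_iff k f).1 hf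
  have hr : r ≠ 0 := fun h => hf0 (by simp [h])
  have hs : s ≠ 0 := fun h => hf0 (by simp [h])
  obtain ⟨r1, hr1, hr1'⟩ := exists_eq_pow_rootMultiplicity_mul_and_not_dvd r hr 0
  obtain ⟨s1, hs1, hs1'⟩ := exists_eq_pow_rootMultiplicity_mul_and_not_dvd s hs 0
  rw [map_zero, sub_zero, X_dvd_iff, coeff_zero_eq_eval_zero] at hr1' hs1'
  refine ⟨(r.rootMultiplicity 0 : ℤ) - s.rootMultiplicity 0, r1, s1, hr1', hs1', ?_⟩
  have hπ0 : π ≠ 0 := fun h => hπ (h ▸ isAlgebraic_zero)
  conv_lhs => rw [hr1, hs1]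
  simp only [map_zero, sub_zero, map_mul, map_pow, aeval_X]
  rw [zpow_sub₀ hπ0, zpow_natCast, zpow_natCast]
  field_simp

theorem ord_mem {f : K} (hf : f ∈ F) (hf0 : f ≠ 0) :
    ∃ v : ℤ, ∀ P : Place k K, 0 < P.ord π → P.ord f = v * P.ord π := by
  obtain ⟨v, r, s, hr, hs, rfl⟩ := exists_form F hπ hF hf hf0
  refine ⟨v, fun P hP => ?_⟩
  have hπ0 : π ≠ 0 := fun h => hπ (h ▸ isAlgebraic_zero)
  have h1 := (val_lt_one_iff P hπ0).2 hP
  have hq : P.1 (aeval π r / aeval π s) = 1 := by
    rw [map_div₀, val_aeval_unit P h1 hr, val_aeval_unit P h1 hs, div_one]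
  have hq0 : aeval π r / aeval π s ≠ 0 := fun h => by simp [h] at hq
  rw [ord_mul P (zpow_ne_zero _ hπ0) hq0, ord_zpow, (val_eq_one_iff P hq0).1 hq, add_zero]

theorem repr_int {f : K} (hf : f ∈ F) {P0 : Place k K} (hP0 : 0 < P0.ord π) (hint : P0.1 f ≤ 1) :
    ∃ r s : k[X], s.eval 0 ≠ 0 ∧ f = aeval π r / aeval π s := by
  rcases eq_or_ne f 0 with rfl | hf0
  · exact ⟨0, 1, by simp, by simp⟩
  obtain ⟨v, r, s, hr, hs, he⟩ := exists_form F hπ hF hf hf0
  have hπ0 : π ≠ 0 := fun h => hπ (h ▸ isAlgebraic_zero)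
  have h1 := (val_lt_one_iff P0 hπ0).2 hP0
  have hq : P0.1 (aeval π r / aeval π s) = 1 := by
    rw [map_div₀, val_aeval_unit P0 h1 hr, val_aeval_unit P0 h1 hs, div_one]
  have hv : 0 ≤ v := by
    rw [he, map_mul, hq, mul_one, val_le_one_iff P0 (zpow_ne_zero _ hπ0), ord_zpow] at hint
    exact nonneg_of_mul_nonneg_left hint hP0
  obtain ⟨m, rfl⟩ := Int.eq_ofNat_of_zero_le hv
  exact ⟨X ^ m * r, s, hs, by rw [he, zpow_natCast, map_mul, map_pow, aeval_X, mul_div_assoc]⟩

theorem int_all {f : K} (hf : f ∈ F) {P0 : Place k K} (hP0 : 0 < P0.ord π) (hint : P0.1 f ≤ 1) (P : Place k K)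
    (hP : 0 < P.ord π) : P.1 f ≤ 1 := by
  obtain ⟨r, s, hs, rfl⟩ := repr_int F hπ hF hf hP0 hint
  have h1 := (val_lt_one_iff P (show π ≠ 0 from fun h => hπ (h ▸ isAlgebraic_zero))).2 hP
  rw [map_div₀, val_aeval_unit P h1 hs, div_one]
  exact val_aeval_le_one P.1 (fun c => P.2.1 c) h1.le r

theorem unit_all {f : K} (hf : f ∈ F) {P0 : Place k K} (hP0 : 0 < P0.ord π) (h : P0.1 f = 1) (P : Place k K)
    (hP : 0 < P.ord π) : P.1 f = 1 := by
  refine le_antisymm (int_all F hπ hF hf hP0 h.le P hP) ?_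
  have := int_all F hπ hF (inv_mem hf) hP0 (by rw [map_inv₀, h, inv_one]) P hP
  rw [map_inv₀] at this
  rcases eq_or_ne f 0 with rfl | hf0
  · simp at h
  · exact (inv_le_one₀ (zero_lt_iff.2 (val_ne_zero P hf0))).1 this

theorem decomp {f : K} (hf : f ∈ F) {P0 : Place k K} (hP0 : 0 < P0.ord π) (hint : P0.1 f ≤ 1) :
    ∃ (γ : k) (g : K), g ∈ F ∧ f = algebraMap k K γ + π * g ∧ ∀ P : Place k K, 0 < P.ord π → P.1 g ≤ 1 := by
  obtain ⟨r, s, hs, rfl⟩ := repr_int F hπ hF hf hP0 hint
  obtain ⟨h, hh⟩ : X ∣ r - C (r.eval 0 / s.eval 0) * s := X_dvd_iff.2 (by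
    rw [coeff_zero_eq_eval_zero, eval_sub, eval_mul, eval_C, div_mul_cancel₀ _ hs, sub_self])
  have hmem : ∀ q : k[X], aeval π q ∈ F := fun q =>
    Algebra.adjoin_le (S := F.toSubalgebra) (Set.singleton_subset_iff.2 (pi_mem F hF)) (aeval_mem_adjoin_singleton k π)
  refine ⟨r.eval 0 / s.eval 0, aeval π h / aeval π s, div_mem (hmem _) (hmem _), ?_, fun P hP => ?_⟩
  · have hs' : aeval π s ≠ 0 := fun h0 => hs (by
      rw [transcendental_iff_injective.1 hπ (h0.trans (map_zero _).symm)]; simp)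
    have := congrArg (aeval π) hh
    simp only [map_sub, map_mul, aeval_C, aeval_X] at this
    field_simp
    linear_combination this
  · have h1 := (val_lt_one_iff P (show π ≠ 0 from fun h => hπ (h ▸ isAlgebraic_zero))).2 hP
    rw [map_div₀, val_aeval_unit P h1 hs, div_one]
    exact val_aeval_le_one P.1 (fun c => P.2.1 c) h1.le h

theorem deriv_int {f : K} (hf : f ∈ F) {P0 : Place k K} (hP0 : 0 < P0.ord π) (hint : P0.1 f ≤ 1)
    (δ : Derivation k K K) : ∃ q : K, q ∈ F ∧ δ f = q * δ π ∧ ∀ P : Place k K, 0 < P.ord π → P.1 q ≤ 1 := by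
  obtain ⟨r, s, hs, rfl⟩ := repr_int F hπ hF hf hP0 hint
  have hmem : ∀ q : k[X], aeval π q ∈ F := fun q =>
    Algebra.adjoin_le (S := F.toSubalgebra) (Set.singleton_subset_iff.2 (pi_mem F hF)) (aeval_mem_adjoin_singleton k π)
  refine ⟨aeval π (derivative r * s - r * derivative s) / aeval π (s * s), div_mem (hmem _) (hmem _), ?_, fun P hP => ?_⟩
  · rw [δ.leibniz_div, δ.map_aeval, δ.map_aeval]
    simp only [smul_eq_mul, map_sub, map_mul]
    have hs' : aeval π s ≠ 0 := fun h0 => hs (by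
      rw [transcendental_iff_injective.1 hπ (h0.trans (map_zero _).symm)]; simp)
    field_simp
  · have h1 := (val_lt_one_iff P (show π ≠ 0 from fun h => hπ (h ▸ isAlgebraic_zero))).2 hP
    rw [map_div₀, val_aeval_unit P h1 (r := s * s) (by simp [hs]), div_one]
    exact val_aeval_le_one P.1 (fun c => P.2.1 c) h1.le _

omit hπ hF in
/-- multiplicities of the roots of a small polynomial in a separating function -/
theorem root_mult {S : Finset (Place k K)} {c : Place k K → k} (hc : Set.InjOn c S) {y : K} (e : Place k K → ℕ)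
    (hy : ∀ P ∈ S, P.1 (y - algebraMap k K (c P)) = exp (-1)) {q : k[X]} (hq : q ≠ 0)
    (h : ∀ P ∈ S, P.1 (aeval y q) ≤ exp (-(e P : ℤ))) :
    ∑ P ∈ S, e P ≤ q.natDegree ∧
      (q.natDegree ≤ ∑ P ∈ S, e P → ∀ P ∈ S, P.1 (aeval y q) = exp (-(e P : ℤ))) := by
  classical
  have key : ∀ P ∈ S, P.1 (aeval y q) = exp (-(q.rootMultiplicity (c P) : ℤ)) := by
    intro P hP
    obtain ⟨q', hq', hndvd⟩ := exists_eq_pow_rootMultiplicity_mul_and_not_dvd q hq (c P)
    rw [dvd_iff_isRoot, IsRoot.def] at hndvd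
    conv_lhs => rw [hq']
    rw [map_mul, map_pow, map_sub, aeval_X, aeval_C, map_mul, val_param_pow (hy P hP)]
    have : P.1 (aeval y q') = 1 := by
      obtain ⟨h', hh⟩ : X - C (c P) ∣ q' - C (q'.eval (c P)) := dvd_iff_isRoot.2 (by simp)
      refine val_eq_one_of_sub (c := q'.eval (c P)) ?_ hndvd
      have e1 : aeval y q' - algebraMap k K (q'.eval (c P)) = (y - algebraMap k K (c P)) * aeval y h' := by
        have := congrArg (aeval y) hh
        simpa using this
      have hy1 : P.1 y ≤ 1 := by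
        rw [show y = (y - algebraMap k K (c P)) + algebraMap k K (c P) by ring]
        exact (P.1.map_add _ _).trans (max_le ((hy P hP).le.trans exp_neg_one_lt_one.le) (P.2.1 _))
      rw [e1, map_mul, hy P hP]
      exact (mul_le_of_le_one_right' (val_aeval_le_one P.1 (fun c => P.2.1 c) hy1 h')).trans_lt exp_neg_one_lt_one
    rw [this, mul_one]
  have hle : ∀ P ∈ S, e P ≤ q.rootMultiplicity (c P) := fun P hP => by
    have := h P hP
    rw [key P hP, exp_le_exp] at this
    omega
  have hsum : ∑ P ∈ S, q.rootMultiplicity (c P) ≤ q.natDegree := by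
    refine le_trans ?_ (Polynomial.card_roots' q)
    rw [← Finset.sum_image (f := fun a => q.rootMultiplicity a) hc]
    calc ∑ a ∈ S.image c, q.rootMultiplicity a = ∑ a ∈ S.image c, q.roots.count a := by
          simp only [count_roots]
      _ ≤ ∑ a ∈ S.image c ∪ q.roots.toFinset, q.roots.count a := Finset.sum_le_sum_of_subset Finset.subset_union_left
      _ = q.roots.card := Multiset.sum_count_eq_card fun a ha => Finset.mem_union_right _ (Multiset.mem_toFinset.2 ha)
  have hsum2 := Finset.sum_le_sum hle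
  refine ⟨hsum2.trans hsum, fun hdeg P hP => ?_⟩
  rw [key P hP, (Finset.sum_eq_sum_iff_of_le hle).1 (le_antisymm hsum2 (hsum.trans hdeg)) P hP]

theorem coords_int [IsAlgClosed k] {d : ℕ} (b : Module.Basis (Fin d) F K) {P0 : Place k K} (hP0 : 0 < P0.ord π)
    (hres : ∀ c : Fin d → k, (∀ P : Place k K, 0 < P.ord π → P.1 (∑ i, c i • b i) ≤ P.1 π) → c = 0)
    (hbint : ∀ i, ∀ P : Place k K, 0 < P.ord π → P.1 (b i) ≤ 1)
    {f : K} (hf : ∀ P : Place k K, 0 < P.ord π → P.1 f ≤ 1) (i : Fin d) :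
    P0.1 (b.repr f i : K) ≤ 1 := by
  classical
  have hπ0 : π ≠ 0 := fun h => hπ (h ▸ isAlgebraic_zero)
  let πF : F := ⟨π, pi_mem F hF⟩
  have hsmul : ∀ g : K, ∀ i, (b.repr (π * g) i : K) = π * (b.repr g i : K) := fun g i => by
    rw [show π * g = πF • g from rfl, map_smul, Finsupp.smul_apply, smul_eq_mul]; rfl
  have step : ∀ f : K, (∀ P : Place k K, 0 < P.ord π → P.1 f ≤ 1) →
      (∀ i, P0.1 (b.repr (π * f) i : K) ≤ 1) → ∀ i, P0.1 (b.repr f i : K) ≤ 1 := by
    intro f hf hc
    choose γ g hgF hge hgint using fun i => decomp F hπ hF (b.repr (π * f) i).2 hP0 (hc i)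
    have hsum : π * f = ∑ i, γ i • b i + π * ∑ i, g i * b i := by
      conv_lhs => rw [← b.sum_repr (π * f)]
      rw [Finset.mul_sum, ← Finset.sum_add_distrib]
      refine Finset.sum_congr rfl fun i _ => ?_
      rw [show b.repr (π * f) i • b i = (b.repr (π * f) i : K) * b i from rfl, hge i, Algebra.smul_def]
      ring
    have hγ : γ = 0 := hres γ fun P hP => by
      have e : ∑ i, γ i • b i = π * (f - ∑ i, g i * b i) := by rw [mul_sub, hsum]; ring
      rw [e, map_mul]
      refine mul_le_of_le_one_right' ((Valuation.map_sub _ _ _).trans (max_le (hf P hP) ?_))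
      exact Valuation.map_sum_le _ fun i _ => by rw [map_mul]; exact mul_le_one' (hgint i P hP) (hbint i P hP)
    intro i
    have h2 := hge i
    rw [hγ, Pi.zero_apply, map_zero, zero_add, hsmul] at h2
    rw [mul_left_cancel₀ hπ0 h2]
    exact hgint i P0 hP0
  obtain ⟨N, hN⟩ : ∃ N : ℕ, ∀ i, P0.1 (b.repr (π ^ N * f) i : K) ≤ 1 := by
    refine ⟨∑ i, (P0.ord (b.repr f i : K)).natAbs, fun i => ?_⟩
    have e : ∀ m : ℕ, (b.repr (π ^ m * f) i : K) = π ^ m * (b.repr f i : K) := fun m => by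
      induction m with
      | zero => simp
      | succ m ih => rw [pow_succ', mul_assoc, hsmul, ih, mul_assoc]
    rw [e]
    rcases eq_or_ne (b.repr f i : K) 0 with h | h
    · rw [h]; simp
    rw [val_le_one_iff P0 (mul_ne_zero (pow_ne_zero _ hπ0) h), ord_mul P0 (pow_ne_zero _ hπ0) h, ord_pow]
    have h1 : (P0.ord (b.repr f i : K)).natAbs ≤ ∑ i, (P0.ord (b.repr f i : K)).natAbs :=
      Finset.single_le_sum (f := fun i => (P0.ord (b.repr f i : K)).natAbs) (fun _ _ => Nat.zero_le _) (Finset.mem_univ i)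
    have h2 : (1 : ℤ) ≤ P0.ord π := hP0
    have h3 := le_mul_of_one_le_right (a := ((∑ i, (P0.ord (b.repr f i : K)).natAbs : ℕ) : ℤ)) (by positivity) h2
    omega
  revert hf i
  induction N generalizing f with
  | zero => intro _ i; simpa using hN i
  | succ N ih =>
    intro hf i
    refine step f hf (ih (fun j => by rw [← mul_assoc, ← pow_succ]; exact hN j) (fun P hP => ?_)) i
    rw [map_mul]
    exact mul_le_one' ((val_lt_one_iff P hπ0).2 hP).le (hf P hP)

/-- the local discriminant formula -/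
theorem local_discr [IsAlgClosed k] (hK : IsFunctionField k K) [FiniteDimensional F K] [Algebra.IsSeparable F K]
    {d : ℕ} (b : Module.Basis (Fin d) F K)
    (hres : ∀ c : Fin d → k, (∀ P : Place k K, 0 < P.ord π → P.1 (∑ i, c i • b i) ≤ P.1 π) → c = 0)
    (hbint : ∀ i, ∀ P : Place k K, 0 < P.ord π → P.1 (b i) ≤ 1)
    (S : Finset (Place k K)) (hS : ∀ P, P ∈ S ↔ 0 < P.ord π)
    (γ : Place k K → ℤ) (hγ : ∀ P ∈ S, ∃ (t : K) (H : K →ₐ[k] PowerSeries K),
      P.1 t = exp (-1) ∧ LocRes.IsHasseFamily t H ∧ γ P = P.ord (LocRes.hasseD H 1 π)) :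
    ∃ v : ℤ, (∀ P ∈ S, P.ord (Algebra.discr F b : K) = v * P.ord π) ∧ v = ∑ P ∈ S, γ P := by
  classical
  have hπ0 : π ≠ 0 := fun h => hπ (h ▸ isAlgebraic_zero)
  have hπv : ∀ P ∈ S, P.1 π < 1 := fun P hP => (val_lt_one_iff P hπ0).2 ((hS P).1 hP)
  have hd : d = Module.finrank F K := by rw [Module.finrank_eq_card_basis b, Fintype.card_fin]
  have hadj : IntermediateField.adjoin k ({π⁻¹} : Set K) = F := by
    rw [hF]
    apply le_antisymm <;> rw [IntermediateField.adjoin_simple_le_iff]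
    · exact inv_mem (IntermediateField.mem_adjoin_simple_self k π)
    · simpa using inv_mem (IntermediateField.mem_adjoin_simple_self k π⁻¹)
  have hdeg : ∑ P ∈ S, P.ord π = d := by
    have h1 := deg_poles hK.1 (x := π⁻¹) (fun h => hπ (IsAlgebraic.inv_iff.1 h))
    rw [hadj, ← hd, deg_eq_sum _ S (fun P hP => (hS P).2 ?_)] at h1
    · rw [← h1]
      refine Finset.sum_congr rfl fun P hP => ?_
      have := (hS P).1 hP
      rw [Finsupp.sup_apply, Finsupp.neg_apply, div_apply hK.1, ord_inv, neg_neg, Finsupp.zero_apply, deg_eq_one hK P,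
        max_eq_left this.le, Nat.cast_one, mul_one]
    · rw [Finsupp.mem_support_iff, Finsupp.sup_apply, Finsupp.neg_apply, div_apply hK.1, ord_inv, neg_neg,
        Finsupp.zero_apply] at hP
      by_contra hle
      exact hP (max_eq_right (not_lt.1 hle))
  have hd0 : 0 < d := hd ▸ Module.finrank_pos
  obtain ⟨P0, hP0S⟩ : S.Nonempty := by
    rw [Finset.nonempty_iff_ne_empty]; intro h; rw [h, Finset.sum_empty] at hdeg; omega
  have hP0 := (hS P0).1 hP0S
  -- the valuation of `F` over zero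
  let vv : F → ℤ := fun f => if h : (f : K) = 0 then 0 else (ord_mem F hπ hF f.2 h).choose
  have hvv : ∀ f : F, f ≠ 0 → ∀ P ∈ S, P.ord (f : K) = vv f * P.ord π := fun f hf P hP => by
    have hf' : (f : K) ≠ 0 := fun h => hf (Subtype.ext h)
    simp only [vv, dif_neg hf']
    exact (ord_mem F hπ hF f.2 hf').choose_spec P ((hS P).1 hP)
  have vv_mul : ∀ f g : F, f ≠ 0 → g ≠ 0 → vv (f * g) = vv f + vv g := fun f g hf hg => by
    have h1 := hvv _ (mul_ne_zero hf hg) P0 hP0S
    rw [IntermediateField.coe_mul, ord_mul P0 (fun h => hf (Subtype.ext h)) (fun h => hg (Subtype.ext h)),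
      hvv f hf P0 hP0S, hvv g hg P0 hP0S, ← add_mul] at h1
    exact (mul_right_cancel₀ hP0.ne' h1).symm
  have vv_unit : ∀ f : F, f ≠ 0 → P0.1 (f : K) = 1 → vv f = 0 := fun f hf h => by
    have := hvv f hf P0 hP0S
    rw [(val_eq_one_iff P0 fun h' => hf (Subtype.ext h')).1 h] at this
    exact (mul_eq_zero.1 this.symm).resolve_right hP0.ne'
  let O : Subring F := (P0.1.comap (algebraMap F K)).integer
  have hO : ∀ f : F, f ∈ O ↔ P0.1 (f : K) ≤ 1 := fun f => Iff.rfl
  have hcoords : ∀ f : K, (∀ P ∈ S, P.1 f ≤ 1) → ∀ i, b.repr f i ∈ O := fun f hf i =>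
    coords_int F hπ hF b hP0 hres hbint (fun P hP => hf P ((hS P).2 hP)) i
  -- characteristic polynomials of integral elements
  have hchar : ∀ f : K, (∀ P ∈ S, P.1 f ≤ 1) → (∀ j, P0.1 (((Algebra.leftMulMatrix b f).charpoly.coeff j : F) : K) ≤ 1) ∧
      aeval f (Algebra.leftMulMatrix b f).charpoly = 0 := by
    intro f hf
    refine ⟨?_, ?_⟩
    · have hM : ∀ i j, Algebra.leftMulMatrix b f i j ∈ O := fun i j => by
        rw [Algebra.leftMulMatrix_eq_repr_mul]
        exact hcoords _ (fun P hP => by rw [map_mul]; exact mul_le_one' (hf P hP) (hbint j P ((hS P).1 hP))) i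
      let M0 : Matrix (Fin d) (Fin d) O := Matrix.of fun i j => ⟨_, hM i j⟩
      have e : M0.map O.subtype = Algebra.leftMulMatrix b f := by ext i j; rfl
      intro j
      rw [← e, Matrix.charpoly_map, Polynomial.coeff_map]
      exact (M0.charpoly.coeff j).2
    · refine Algebra.leftMulMatrix_injective b ?_
      rw [map_zero, ← aeval_algHom_apply, Matrix.aeval_self_charpoly]
  have hnorm : ∀ f : K, (∀ P ∈ S, P.1 f ≤ 1) → P0.1 ((Algebra.norm F f : F) : K) ≤ 1 ∧
      ((∃ P ∈ S, P.1 f < 1) → P0.1 ((Algebra.norm F f : F) : K) < 1) := by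
    intro f hf
    obtain ⟨hint, hzero⟩ := hchar f hf
    set χ := (Algebra.leftMulMatrix b f).charpoly with hχ
    have hN : P0.1 ((Algebra.norm F f : F) : K) = P0.1 ((χ.coeff 0 : F) : K) := by
      rw [Algebra.norm_eq_matrix_det b, Matrix.det_eq_sign_charpoly_coeff, IntermediateField.coe_mul, map_mul]
      rcases neg_one_pow_eq_or F (Fintype.card (Fin d)) with h | h <;> rw [h] <;> simp [χ]
    rw [hN]
    refine ⟨hint 0, fun ⟨P, hP, hlt⟩ => ?_⟩
    refine lt_of_le_of_ne (hint 0) fun h1 => ?_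
    have h1' := unit_all F hπ hF (χ.coeff 0).2 hP0 h1 P ((hS P).1 hP)
    rw [aeval_eq_sum_range, Finset.sum_range_succ', pow_zero, Algebra.smul_def, mul_one, add_eq_zero_iff_eq_neg] at hzero
    have h2 : P.1 (∑ x ∈ Finset.range χ.natDegree, χ.coeff (x + 1) • f ^ (x + 1)) < 1 := by
      refine Valuation.map_sum_lt _ one_ne_zero fun x _ => ?_
      rw [show χ.coeff (x + 1) • f ^ (x + 1) = ((χ.coeff (x + 1) : F) : K) * f ^ (x + 1) from rfl, map_mul, map_pow]
      exact (mul_le_of_le_one_left' (int_all F hπ hF (χ.coeff _).2 hP0 (hint _) P ((hS P).1 hP))).trans_lt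
        (pow_lt_one₀ zero_le hlt (Nat.succ_ne_zero x))
    rw [hzero, Valuation.map_neg] at h2
    exact h2.ne h1'
  have hNne : ∀ f : K, f ≠ 0 → Algebra.norm F f ≠ 0 := fun f hf => Algebra.norm_ne_zero_iff.2 hf
  let ψ : K → ℤ := fun f => vv (Algebra.norm F f)
  have ψ_mul : ∀ f g : K, f ≠ 0 → g ≠ 0 → ψ (f * g) = ψ f + ψ g := fun f g hf hg => by
    simp only [ψ, map_mul]; exact vv_mul _ _ (hNne f hf) (hNne g hg)
  have ψ_one : ψ 1 = 0 := vv_unit _ (hNne 1 one_ne_zero) (by simp)
  have ψ_nonneg : ∀ f : K, f ≠ 0 → (∀ P ∈ S, P.1 f ≤ 1) → 0 ≤ ψ f ∧ ((∃ P ∈ S, P.1 f < 1) → 0 < ψ f) := by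
    intro f hf0 hf
    have hN0 := hNne f hf0
    have h1 := hvv _ hN0 P0 hP0S
    have hN0' : ((Algebra.norm F f : F) : K) ≠ 0 := fun h => hN0 (Subtype.ext h)
    refine ⟨?_, fun h => ?_⟩
    · have := (val_le_one_iff P0 hN0').1 (hnorm f hf).1
      rw [h1] at this
      exact nonneg_of_mul_nonneg_left this hP0
    · have := (val_lt_one_iff P0 hN0').1 ((hnorm f hf).2 h)
      rw [h1] at this
      exact pos_of_mul_pos_left this hP0.le
  have ψ_unit : ∀ f : K, f ≠ 0 → (∀ P ∈ S, P.ord f = 0) → ψ f = 0 := fun f hf0 hf => by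
    have h1 := (ψ_nonneg f hf0 fun P hP => ((val_eq_one_iff P hf0).2 (hf P hP)).le).1
    have h2 := (ψ_nonneg f⁻¹ (inv_ne_zero hf0) fun P hP => by
      rw [map_inv₀, (val_eq_one_iff P hf0).2 (hf P hP), inv_one]).1
    have h3 := ψ_mul f f⁻¹ hf0 (inv_ne_zero hf0)
    rw [mul_inv_cancel₀ hf0, ψ_one] at h3
    omega
  choose t0 ht0 using fun P : Place k K => exists_val_eq P (-1)
  have hp : ∀ P : Place k K, ∃ p : K, p ≠ 0 ∧ (P ∈ S → P.ord p = 1 ∧ ∀ Q ∈ S, Q ≠ P → Q.ord p = 0) := by
    intro P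
    by_cases hP : P ∈ S
    swap
    · exact ⟨1, one_ne_zero, fun h => absurd h hP⟩
    obtain ⟨p, hp⟩ := exists_approx S (fun Q => if Q = P then t0 P else 1) (fun _ => -2)
    have hval : P.1 p = exp (-1) := by
      have h1 := hp P hP
      rw [if_pos rfl] at h1
      rw [show p = t0 P + (p - t0 P) by ring, Valuation.map_add_eq_of_lt_left _ (h1.trans_lt (by
        rw [(ht0 P).2, exp_lt_exp]; omega)), (ht0 P).2]
    refine ⟨p, (ord_param hval).1, fun _ => ⟨(ord_param hval).2, fun Q hQ hne => ?_⟩⟩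
    have h1 := hp Q hQ
    rw [if_neg hne] at h1
    refine (val_eq_one_iff Q (ord_param hval).1).1 (val_eq_one_of_sub (c := (1 : k)) (by rw [map_one]; exact h1.trans_lt (by rw [← exp_zero, exp_lt_exp]; omega)) one_ne_zero)
  choose p hp0 hp1 using hp
  have hdecomp : ∀ f : K, f ≠ 0 → ψ f = ∑ P ∈ S, P.ord f * ψ (p P) := by
    intro f hf
    obtain ⟨hg0, -⟩ := ord_prod_zpow P0 S p (fun P => P.ord f) fun P _ => hp0 P
    set g := ∏ P ∈ S, p P ^ P.ord f with hg
    have hu : ψ (f / g) = 0 := ψ_unit _ (div_ne_zero hf hg0) fun Q hQ => by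
      rw [ord_div Q hf hg0, hg, (ord_prod_zpow Q S p (fun P => P.ord f) fun P _ => hp0 P).2,
        Finset.sum_eq_single Q (fun P hP hne => by rw [(hp1 P hP).2 Q hQ hne.symm, mul_zero]) (fun h => absurd hQ h),
        (hp1 Q hQ).1, mul_one, sub_self]
    have hψp : ∀ (s : Finset (Place k K)), ψ (∏ P ∈ s, p P ^ P.ord f) = ∑ P ∈ s, P.ord f * ψ (p P) := by
      intro s
      induction s using Finset.induction_on with
      | empty => simp [ψ_one]
      | insert a s ha ih =>
        rw [Finset.prod_insert ha, Finset.sum_insert ha, ψ_mul _ _ (zpow_ne_zero _ (hp0 a))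
          (ord_prod_zpow P0 s p (fun P => P.ord f) fun P _ => hp0 P).1, ih]
        congr 1
        have hpow : ∀ m : ℕ, ψ (p a ^ m) = m * ψ (p a) := fun m => by
          induction m with
          | zero => simp [ψ_one]
          | succ m ihm => rw [pow_succ, ψ_mul _ _ (pow_ne_zero _ (hp0 a)) (hp0 a), ihm]; push_cast; ring
        obtain ⟨m, hm | hm⟩ := Int.eq_nat_or_neg (a.ord f)
        · rw [hm, zpow_natCast, hpow]
        · rw [hm, zpow_neg, zpow_natCast]
          have := ψ_mul _ _ (pow_ne_zero m (hp0 a)) (inv_ne_zero (pow_ne_zero m (hp0 a)))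
          rw [mul_inv_cancel₀ (pow_ne_zero m (hp0 a)), ψ_one, hpow] at this
          rw [neg_mul]; omega
    have := ψ_mul (f / g) g (div_ne_zero hf hg0) hg0
    rw [div_mul_cancel₀ f hg0, hu, zero_add, hg, hψp] at this
    exact this
  have ψp_pos : ∀ P ∈ S, 1 ≤ ψ (p P) := fun P hP => by
    refine (ψ_nonneg _ (hp0 P) fun Q hQ => (val_le_one_iff Q (hp0 P)).2 ?_).2 ⟨P, hP, ?_⟩
    · rcases eq_or_ne Q P with rfl | hne
      · rw [(hp1 Q hP).1]; exact zero_le_one
      · rw [(hp1 P hP).2 Q hQ hne]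
    · rw [val_lt_one_iff P (hp0 P), (hp1 P hP).1]; exact zero_lt_one
  have ψp : ∀ P ∈ S, ψ (p P) = 1 := by
    have hvπ : vv ⟨π, pi_mem F hF⟩ = 1 := by
      have := hvv ⟨π, pi_mem F hF⟩ (fun h => hπ0 (congrArg Subtype.val h)) P0 hP0S
      exact mul_right_cancel₀ hP0.ne' (this.symm.trans (one_mul _).symm)
    have hψπ : ψ π = d := by
      have hpow : ∀ m : ℕ, vv (⟨π, pi_mem F hF⟩ ^ m) = m := fun m => by
        induction m with
        | zero => exact vv_unit _ (by simp) (by simp)
        | succ m ih =>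
          rw [pow_succ, vv_mul _ _ (pow_ne_zero _ fun h => hπ0 (congrArg Subtype.val h))
            (fun h => hπ0 (congrArg Subtype.val h)), ih, hvπ]
          push_cast; rfl
      change vv (Algebra.norm F (algebraMap F K ⟨π, pi_mem F hF⟩)) = _
      rw [Algebra.norm_algebraMap_of_basis b, Fintype.card_fin, hpow]
    have hsum := hdecomp π hπ0
    rw [hψπ, ← hdeg] at hsum
    intro P hP
    have h := (Finset.sum_eq_sum_iff_of_le fun Q hQ => le_mul_of_one_le_right ((hS Q).1 hQ).le (ψp_pos Q hQ)).1 hsum P hP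
    exact mul_left_cancel₀ ((hS P).1 hP).ne' ((mul_one _).trans h).symm
  have hψ : ∀ f : K, f ≠ 0 → ψ f = ∑ P ∈ S, P.ord f := fun f hf => by
    rw [hdecomp f hf]
    exact Finset.sum_congr rfl fun P hP => by rw [ψp P hP, mul_one]
  -- a separating primitive element
  choose t H ht hH hγe using hγ
  let c : Place k K → k := fun P => if h : P ∈ S then Infinite.natEmbedding k (S.equivFin ⟨P, h⟩) else 0
  have hc : Set.InjOn c S := fun P hP Q hQ h => by
    simp only [c, Finset.mem_coe.1 hP, Finset.mem_coe.1 hQ, dif_pos] at h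
    simpa [Fin.val_inj] using (Infinite.natEmbedding k).injective h
  obtain ⟨y, hy⟩ := exists_approx S (fun P => if h : P ∈ S then algebraMap k K (c P) + t P h else 0) (fun _ => -2)
  have hy' : ∀ (P : Place k K) (hP : P ∈ S), P.1 (y - algebraMap k K (c P) - t P hP) ≤ exp (-2) := fun P hP => by
    have := hy P hP
    rw [dif_pos hP] at this
    rwa [sub_sub]
  have hy1 : ∀ P ∈ S, P.1 (y - algebraMap k K (c P)) = exp (-1) := fun P hP => by
    rw [show y - algebraMap k K (c P) = t P hP + (y - algebraMap k K (c P) - t P hP) by ring,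
      Valuation.map_add_eq_of_lt_left _ ((hy' P hP).trans_lt (by rw [ht P hP, exp_lt_exp]; omega)), ht P hP]
  have hyint : ∀ P ∈ S, P.1 y ≤ 1 := fun P hP => by
    rw [show y = (y - algebraMap k K (c P)) + algebraMap k K (c P) by ring]
    exact (P.1.map_add _ _).trans (max_le ((hy1 P hP).le.trans exp_neg_one_lt_one.le) (P.2.1 _))
  let e : Place k K → ℕ := fun P => (P.ord π).toNat
  have he : ∀ P ∈ S, P.1 π = exp (-(e P : ℤ)) := fun P hP => by
    rw [val_eq_exp P hπ0, Int.toNat_of_nonneg ((hS P).1 hP).le]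
  have hesum : ∑ P ∈ S, e P = d := by
    have : ((∑ P ∈ S, e P : ℕ) : ℤ) = d := by
      rw [← hdeg, Nat.cast_sum]
      exact Finset.sum_congr rfl fun P hP => Int.toNat_of_nonneg ((hS P).1 hP).le
    exact_mod_cast this
  -- powers of `y` form a basis with unit determinant
  let Pw : Matrix (Fin d) (Fin d) F := Matrix.of fun i j => b.repr (y ^ (j : ℕ)) i
  choose γ1 g1 hg1F hg1e hg1int using fun i j => decomp F hπ hF (Pw i j).2 hP0
    (hcoords (y ^ (j : ℕ)) (fun P hP => by rw [map_pow]; exact pow_le_one' (hyint P hP) _) i)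
  have hPw : ∀ j : Fin d, y ^ (j : ℕ) = ∑ i, (Pw i j : K) * b i := fun j => (b.sum_repr (y ^ (j : ℕ))).symm
  have hdetPw : P0.1 ((Pw.det : F) : K) = 1 := by
    have hne : (Matrix.of γ1).det ≠ 0 := fun h0 => by
      obtain ⟨β, hβ0, hβ⟩ := Matrix.exists_mulVec_eq_zero_iff.2 h0
      let q : k[X] := ∑ j, C (β j) * X ^ (j : ℕ)
      have hq : q ≠ 0 := fun hq0 => hβ0 (funext fun j => by
        have := congrArg (fun r : k[X] => r.coeff j) hq0
        simpa [q, finsetSum_coeff, coeff_X_pow, Fin.val_inj] using this)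
      have hqd : q.natDegree < d := by
        have : q.degree < (d : ℕ) := (degree_sum_le _ _).trans_lt ((Finset.sup_lt_iff (WithBot.bot_lt_coe d)).2 fun j _ =>
          (degree_C_mul_X_pow_le _ _).trans_lt (WithBot.coe_lt_coe.2 j.isLt))
        exact (natDegree_lt_iff_degree_lt hq).2 this
      have hqy : aeval y q = π * ∑ i, (∑ j, algebraMap k K (β j) * g1 i j) * b i := by
        simp only [q, map_sum, map_mul, map_pow, aeval_C, aeval_X, hPw, hg1e]
        rw [Finset.mul_sum]
        simp only [Finset.mul_sum, Finset.sum_mul]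
        rw [Finset.sum_comm]
        refine Finset.sum_congr rfl fun i _ => ?_
        have : ∑ j, algebraMap k K (β j) * (algebraMap k K (γ1 i j) * b i) = 0 := by
          have h1 := congrArg (algebraMap k K) (congrFun hβ i)
          simp only [Matrix.mulVec, dotProduct, Matrix.of_apply, map_sum, map_mul, Pi.zero_apply, map_zero] at h1
          rw [← zero_mul (b i), ← h1, Finset.sum_mul]
          exact Finset.sum_congr rfl fun j _ => by ring
        rw [← add_zero (∑ j, π * (algebraMap k K (β j) * g1 i j * b i)), ← this, ← Finset.sum_add_distrib]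
        exact Finset.sum_congr rfl fun j _ => by ring
      have := (root_mult hc e hy1 hq fun P hP => by
        rw [hqy, map_mul, he P hP]
        refine mul_le_of_le_one_right' (Valuation.map_sum_le _ fun i _ => ?_)
        rw [map_mul]
        refine mul_le_one' (Valuation.map_sum_le _ fun j _ => ?_) (hbint i P ((hS P).1 hP))
        rw [map_mul]
        exact mul_le_one' (P.2.1 _) (hg1int i j P ((hS P).1 hP))).1
      omega
    have hc1 := det_congr (P := P0) (Pw.map (algebraMap F K)) (Matrix.of γ1) fun i j => by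
      change P0.1 ((Pw i j : K) - algebraMap k K (γ1 i j)) < 1
      rw [hg1e i j, add_sub_cancel_left, map_mul]
      exact (mul_le_of_le_one_right' (hg1int i j P0 hP0)).trans_lt (hπv P0 hP0S)
    rw [← RingHom.mapMatrix_apply, ← RingHom.map_det] at hc1
    exact val_eq_one_of_sub hc1 hne
  have hPw0 : Pw.det ≠ 0 := fun h => by rw [h] at hdetPw; simp at hdetPw
  have hpows : (fun j : Fin d => y ^ (j : ℕ)) = Matrix.vecMul b (Pw.map (algebraMap F K)) := funext fun j => by
    rw [hPw j]; simp only [Matrix.vecMul, dotProduct, Matrix.map_apply]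
    exact Finset.sum_congr rfl fun i _ => mul_comm _ _
  have hD0 : Algebra.discr F b ≠ 0 := Algebra.discr_not_zero_of_basis F b
  have hDpow : Algebra.discr F (fun j : Fin d => y ^ (j : ℕ)) = Pw.det ^ 2 * Algebra.discr F b := by
    rw [hpows, Algebra.discr_of_matrix_vecMul]
  have hli : LinearIndependent F (fun j : Fin d => y ^ (j : ℕ)) := by
    by_contra h
    have := Algebra.discr_zero_of_not_linearIndependent F h
    rw [hDpow] at this
    exact mul_ne_zero (pow_ne_zero _ hPw0) hD0 this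
  haveI : Nonempty (Fin d) := ⟨⟨0, hd0⟩⟩
  let pb : PowerBasis F K :=
    { gen := y
      dim := d
      basis := basisOfLinearIndependentOfCardEqFinrank hli (by rw [Fintype.card_fin, hd])
      basis_eq_pow := fun i => by rw [coe_basisOfLinearIndependentOfCardEqFinrank] }
  obtain ⟨hmint, hmzero⟩ := hchar y hyint
  set m := (Algebra.leftMulMatrix b y).charpoly with hmdef
  have hmmonic : m.Monic := Matrix.charpoly_monic _
  have hmdeg : m.natDegree = d := by rw [hmdef, Matrix.charpoly_natDegree_eq_dim, Fintype.card_fin]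
  have hmin : minpoly F y = m := by
    have hint : IsIntegral F y := IsIntegral.of_finite F y
    refine (eq_of_monic_of_dvd_of_natDegree_le (minpoly.monic hint) hmmonic (minpoly.dvd F y hmzero) ?_).symm
    rw [hmdeg]
    exact (pb.natDegree_minpoly).ge
  have hm'0 : aeval y (derivative m) ≠ 0 := by
    rw [← hmin]
    exact (Algebra.IsSeparable.isSeparable F y).aeval_derivative_ne_zero (minpoly.aeval F y)
  have hvD : vv (Algebra.discr F b) = ∑ P ∈ S, P.ord (aeval y (derivative m)) := by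
    have h1 : Algebra.discr F pb.basis = Pw.det ^ 2 * Algebra.discr F b := by
      rw [← hDpow]; congr 1; exact funext fun i => pb.basis_eq_pow i
    rw [Algebra.discr_powerBasis_eq_norm, hmin] at h1
    have hsign : ∀ m : ℕ, vv ((-1 : F) ^ m) = 0 := fun m => vv_unit _ (by simp) (by simp)
    have h2 := congrArg vv h1
    rw [vv_mul _ _ (by simp) (hNne _ hm'0), hsign, zero_add, vv_mul _ _ (pow_ne_zero _ hPw0) hD0,
      vv_unit (Pw.det ^ 2) (pow_ne_zero _ hPw0) (by rw [IntermediateField.coe_pow, map_pow, hdetPw, one_pow]), zero_add] at h2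
    rw [← h2, ← hψ _ hm'0]
  refine ⟨vv (Algebra.discr F b), fun P hP => hvv _ hD0 P hP, ?_⟩
  rw [hvD]
  refine Finset.sum_congr rfl fun P hP => ?_
  rw [hγe P hP]
  -- differentiate the equation of `y`
  let δ : Derivation k K K := hasseDer (hH P hP)
  have hPπ := (hS P).1 hP
  choose γ2 g2 hg2F hg2e hg2int using fun j => decomp F hπ hF (m.coeff j).2 hP0 (hmint j)
  choose q2 hq2F hq2e hq2int using fun j => deriv_int F hπ hF (f := g2 j) (hg2F j) hP0 (hg2int j P0 hP0) δ
  let mb : k[X] := ∑ j ∈ Finset.range (d + 1), C (γ2 j) * X ^ j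
  have hγd : γ2 d = 1 := by
    refine const_unique (P := P0) (y := (1 : K)) ?_ (by simp)
    have : ((m.coeff d : F) : K) = 1 := by rw [← hmdeg, hmmonic.coeff_natDegree]; rfl
    conv_lhs => rw [← this, hg2e d]
    rw [add_sub_cancel_left, map_mul]
    exact (mul_le_of_le_one_right' (hg2int d P0 hP0)).trans_lt (hπv P0 hP0S)
  have hmbd : mb.coeff d = 1 := by simp [mb, finsetSum_coeff, coeff_X_pow, hγd]
  have hmb0 : mb ≠ 0 := fun h => by simp [h] at hmbd
  have hmbdeg : mb.natDegree ≤ d := natDegree_sum_le_of_forall_le _ _ fun j hj =>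
    (natDegree_C_mul_X_pow_le _ _).trans (by have := Finset.mem_range.1 hj; omega)
  let B : K := ∑ j ∈ Finset.range (d + 1), g2 j * y ^ j
  have hBint : ∀ Q ∈ S, Q.1 B ≤ 1 := fun Q hQ => Valuation.map_sum_le _ fun j _ => by
    rw [map_mul, map_pow]; exact mul_le_one' (hg2int j Q ((hS Q).1 hQ)) (pow_le_one' (hyint Q hQ) _)
  have hmy : aeval y mb + π * B = 0 := by
    rw [← hmzero, aeval_eq_sum_range' (show m.natDegree < d + 1 by omega), Finset.mul_sum]
    simp only [mb, map_sum, map_mul, map_pow, aeval_C, aeval_X]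
    rw [← Finset.sum_add_distrib]
    refine Finset.sum_congr rfl fun j _ => ?_
    rw [show m.coeff j • y ^ j = ((m.coeff j : F) : K) * y ^ j from rfl, hg2e j]
    ring
  have hB1 : P.1 B = 1 := by
    have hle : ∀ Q ∈ S, Q.1 (aeval y mb) ≤ exp (-(e Q : ℤ)) := fun Q hQ => by
      rw [eq_neg_of_add_eq_zero_left hmy, Valuation.map_neg, map_mul, he Q hQ]
      exact mul_le_of_le_one_right' (hBint Q hQ)
    have heq := (root_mult hc e hy1 hmb0 hle).2 (by rw [hesum]; exact hmbdeg) P hP
    rw [eq_neg_of_add_eq_zero_left hmy, Valuation.map_neg, map_mul, he P hP] at heq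
    exact (mul_eq_left₀ exp_ne_zero).1 heq
  let A : K := ∑ j ∈ Finset.range (d + 1), (g2 j + π * q2 j) * y ^ j
  have hA1 : P.1 A = 1 := by
    have : A = B + π * ∑ j ∈ Finset.range (d + 1), q2 j * y ^ j := by
      simp only [A, B, Finset.mul_sum, ← Finset.sum_add_distrib]
      exact Finset.sum_congr rfl fun j _ => by ring
    rw [this, Valuation.map_add_eq_of_lt_left _ ?_, hB1]
    rw [hB1, map_mul]
    refine (mul_le_of_le_one_right' (Valuation.map_sum_le _ fun j _ => ?_)).trans_lt (hπv P hP)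
    rw [map_mul, map_pow]
    exact mul_le_one' (hq2int j P hPπ) (pow_le_one' (hyint P hP) _)
  have hδy : P.1 (δ y) = 1 := by
    have hz : P.1 ((y - algebraMap k K (c P) - t P hP) / t P hP ^ 2) ≤ 1 := by
      rw [map_div₀, val_param_pow (ht P hP), div_le_one₀ exp_pos]
      exact (hy' P hP).trans (by rw [exp_le_exp]; omega)
    have := hasseD_congr hK (ht P hP) (hH P hP) (y := y) (c := fun i => if i = 0 then c P else 1) (m := 2) hz (by
      have := (ord_param (ht P hP)).1
      simp [Finset.sum_range_succ, Algebra.smul_def]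
      field_simp
      ring) (j := 1) (by omega)
    simp only [one_ne_zero, if_false] at this
    exact val_eq_one_of_sub this one_ne_zero
  have hkey : aeval y (derivative m) * δ y = -(A * δ π) := by
    have h0 : δ (aeval y m) = 0 := by rw [hmzero, map_zero]
    have hder : aeval y (derivative m) = ∑ j ∈ Finset.range (d + 1), ((m.coeff j : F) : K) * ((j : K) * y ^ (j - 1)) := by
      conv_lhs => rw [m.as_sum_range' (d + 1) (by omega)]
      simp only [derivative_sum, map_sum, derivative_monomial, aeval_monomial]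
      refine Finset.sum_congr rfl fun j _ => ?_
      rw [map_mul, map_natCast, mul_assoc]; rfl
    rw [aeval_eq_sum_range' (show m.natDegree < d + 1 by omega), map_sum] at h0
    have hterm : ∀ j, δ (m.coeff j • y ^ j) =
        ((m.coeff j : F) : K) * ((j : K) * y ^ (j - 1)) * δ y + (g2 j + π * q2 j) * y ^ j * δ π := fun j => by
      rw [show m.coeff j • y ^ j = ((m.coeff j : F) : K) * y ^ j from rfl, δ.leibniz, δ.leibniz_pow, hg2e j, map_add,
        δ.map_algebraMap, δ.leibniz, hq2e j]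
      simp only [smul_eq_mul, nsmul_eq_mul, zero_add]
      ring
    simp only [hterm, Finset.sum_add_distrib, ← Finset.sum_mul] at h0
    rw [hder]
    linear_combination h0
  have hδπ : δ π ≠ 0 := fun h => by
    rw [h, mul_zero, neg_zero, mul_eq_zero] at hkey
    rcases hkey with h' | h'
    · exact hm'0 h'
    · rw [h', map_zero] at hδy; exact zero_ne_one hδy
  have hA0 : A ≠ 0 := fun h => by rw [h, map_zero] at hA1; exact zero_ne_one hA1
  have hy0 : δ y ≠ 0 := fun h => by rw [h, map_zero] at hδy; exact zero_ne_one hδy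
  have h3 := congrArg P.ord hkey
  rw [ord_mul P hm'0 hy0, ord_neg, ord_mul P hA0 hδπ, (val_eq_one_iff P hA0).1 hA1, (val_eq_one_iff P hy0).1 hδy,
    add_zero, zero_add] at h3
  exact h3

end Groth.Agent.FunFldLib
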