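import Groth.Agent.FunFldLib.WDiv
import Mathlib.RingTheory.Unramified.Field
import Mathlib.RingTheory.Kaehler.Basic

/-! Orders of differentials `u dv` through the Kähler module. -/

set_option autoImplicit false
set_option maxHeartbeats 800000

open WithZero

namespace Groth.Agent.FunFldLib

open FunFld

variable {k K : Type*} [Field k] [Field K] [Algebra k K]

local notation "d" => KaehlerDifferential.D k K

theorem derivation_vanish {M : Type*} [AddCommGroup M] [Module K M] [Module k M] [IsScalarTower k K M]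
    (t : K) [Algebra.IsSeparable (IntermediateField.adjoin k ({t} : Set K)) K]
    (δ : Derivation k K M) (hδ : δ t = 0) (y : K) : δ y = 0 := by
  set F := IntermediateField.adjoin k ({t} : Set K) with hF
  have hmem : ∀ c : K, c ∈ F → δ c = 0 := by
    intro c hc
    refine IntermediateField.adjoin_induction k (p := fun c _ => δ c = 0) (fun x hx => ?_) (fun r => ?_)
      (fun a b _ _ ha hb => ?_) (fun a _ ha => ?_) (fun a b _ _ ha hb => ?_) hc
    · rw [Set.mem_singleton_iff] at hx; rw [hx, hδ]
    · exact δ.map_algebraMap r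
    · rw [map_add, ha, hb, add_zero]
    · rw [Derivation.leibniz_inv, ha, smul_zero]
    · rw [Derivation.leibniz, ha, hb, smul_zero, smul_zero, add_zero]
  let δ' : Derivation F K M := Derivation.mk'
    { toFun := δ
      map_add' := map_add δ
      map_smul' := fun c z => by
        simp only [RingHom.id_apply]
        rw [IntermediateField.smul_def, smul_eq_mul, Derivation.leibniz, hmem c c.2, smul_zero, add_zero,
          IntermediateField.smul_def] }
    fun a b => δ.leibniz a b
  haveI : Algebra.FormallyUnramified F K := Algebra.FormallyUnramified.of_isSeparable F K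
  have : δ'.liftKaehlerDifferential (KaehlerDifferential.D F K y) = δ y :=
    δ'.liftKaehlerDifferential_comp_D y
  rw [← this, Subsingleton.elim (KaehlerDifferential.D F K y) 0, map_zero]

variable [IsAlgClosed k]

theorem D_eq_hasse_smul (hK : IsFunctionField k K) {t : K} (hT : Transcendental k t)
    {H : K →ₐ[k] PowerSeries K} (hH : LocRes.IsHasseFamily t H) (y : K) :
    d y = LocRes.hasseD H 1 y • d t := by
  haveI : Algebra.IsSeparable (IntermediateField.adjoin k ({t} : Set K)) K :=
    isSeparable_of_derivation hK hT (hasseDer hH) (by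
      rw [hasseDer_apply, hasseD_self hH, if_neg one_ne_zero, if_pos rfl])
  have h := derivation_vanish t (d - (LinearMap.toSpanSingleton K (Ω[K⁄k]) (d t)).compDer (hasseDer hH)) (by
    rw [Derivation.sub_apply, show ((LinearMap.toSpanSingleton K (Ω[K⁄k]) (d t)).compDer (hasseDer hH)) t =
      hasseDer hH t • d t from rfl, hasseDer_apply, hasseD_self hH, if_neg one_ne_zero, if_pos rfl, one_smul, sub_self]) y
  rw [Derivation.sub_apply, sub_eq_zero] at h
  rw [h]
  simp [hasseDer_apply]

theorem hasseD_ne_zero_of_d (hK : IsFunctionField k K) {x : K} (hdx : d x ≠ 0) {P : Place k K} {t : K}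
    (ht : P.1 t = exp (-1)) {H : K →ₐ[k] PowerSeries K} (hH : LocRes.IsHasseFamily t H) :
    LocRes.hasseD H 1 x ≠ 0 := fun h => hdx (by
  rw [D_eq_hasse_smul hK (transcendental_of_ord_ne_zero hK (P := P) (x := t) (by rw [(ord_param ht).2]; omega)) hH x,
    h, zero_smul])

variable {Φ : Place k K → (K →ₐ[k] LaurentSeries k)}

theorem ordDiff_formula (hK : IsFunctionField k K) (hΦ : ∀ P : Place k K, LocRes.IsExpansionAt P.1 (Φ P))
    {u x : K} (hu : u ≠ 0) (hdx : d x ≠ 0) (P : Place k K) :
    LocRes.ordDiff (Φ P) u x = P.ord u + LocRes.ordDiff (Φ P) 1 x := by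
  obtain ⟨t, H, ht, hH, -⟩ := gam_spec hK P 1
  have h := hasseD_ne_zero_of_d hK hdx ht hH
  rw [ordDiff_eq hK (hΦ P) ht hH, ordDiff_eq hK (hΦ P) ht hH, one_mul, ord_mul P hu h]

theorem ordDiff_congr {P : Place k K} {u x u' x' : K} (h : u • d x = u' • d x') :
    LocRes.ordDiff (Φ P) u x = LocRes.ordDiff (Φ P) u' x' := by
  letI := (Φ P).toRingHom.toAlgebra
  haveI : IsScalarTower k K (LaurentSeries k) := LocRes.isScalarTower_exp (Φ P)
  have h' := congrArg (LocRes.dExp (Φ P)).liftKaehlerDifferential h
  rw [map_smul, map_smul, Derivation.liftKaehlerDifferential_comp_D, Derivation.liftKaehlerDifferential_comp_D] at h'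
  have h'' : Φ P u * LocRes.D k (Φ P x) = Φ P u' * LocRes.D k (Φ P x') := h'
  rw [LocRes.ordDiff, LocRes.ordDiff, LocRes.vDiff, LocRes.vDiff, h'']

theorem divDiff_finite (hK : IsFunctionField k K) (hΦ : ∀ P : Place k K, LocRes.IsExpansionAt P.1 (Φ P))
    {u x : K} (hu : u ≠ 0) (hdx : d x ≠ 0) :
    (Function.support fun P : Place k K => LocRes.ordDiff (Φ P) u x).Finite := by
  obtain ⟨s, Hs, hs⟩ := exists_separating_var hK
  have hc : ∀ P : Place k K, LocRes.ordDiff (Φ P) u x = P.ord u + P.ord (LocRes.hasseD Hs 1 x) + gam hK P s := by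
    intro P
    obtain ⟨t, Ht, ht, hHt, hg⟩ := gam_spec hK P s
    have h0 := hasseD_ne_zero_of_d hK hdx ht hHt
    have hch := hasseD_one_chain hK hs hHt x
    rw [hch] at h0
    rw [ordDiff_eq hK (hΦ P) ht hHt, hch, hg, ord_mul P hu h0, ord_mul P (left_ne_zero_of_mul h0) (right_ne_zero_of_mul h0)]
    ring
  refine ((((finite_support_ord' hK.1 u).union (finite_support_ord' hK.1 (LocRes.hasseD Hs 1 x))).union
    (gam_finite hK hs))).subset fun P hP => ?_
  simp only [Function.mem_support, hc, Set.mem_union] at hP ⊢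
  omega

theorem divDiff_apply (hK : IsFunctionField k K) (hΦ : ∀ P : Place k K, LocRes.IsExpansionAt P.1 (Φ P))
    {u x : K} (hu : u ≠ 0) (hdx : d x ≠ 0) (P : Place k K) :
    divDiff Φ u x P = LocRes.ordDiff (Φ P) u x := by
  rw [divDiff, dif_pos (divDiff_finite hK hΦ hu hdx)]; rfl

/-- `div (c u dx) = div c + div (u dx)` -/
theorem divDiff_smul (hK : IsFunctionField k K) (hΦ : ∀ P : Place k K, LocRes.IsExpansionAt P.1 (Φ P))
    {u x c w x' : K} (hu : u ≠ 0) (hdx : d x ≠ 0) (h : u • d x = (c * w) • d x') :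
    divDiff Φ u x = FunFld.div k c + divDiff Φ w x' := by
  have h0 : (c * w) • d x' ≠ 0 := h ▸ smul_ne_zero hu hdx
  have hcw : c * w ≠ 0 := left_ne_zero_of_smul h0
  have hdx' : d x' ≠ 0 := right_ne_zero_of_smul h0
  refine Finsupp.ext fun P => ?_
  rw [Finsupp.add_apply, div_apply hK.1, divDiff_apply hK hΦ hu hdx, divDiff_apply hK hΦ (right_ne_zero_of_mul hcw) hdx',
    ordDiff_congr h, ordDiff_formula hK hΦ hcw hdx', ordDiff_formula hK hΦ (right_ne_zero_of_mul hcw) hdx',
    ord_mul P (left_ne_zero_of_mul hcw) (right_ne_zero_of_mul hcw)]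
  ring

end Groth.Agent.FunFldLib
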