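import Groth.Agent.FunFldLib.Galois
import Groth.Agent.FunFldLib.Riemann

/-! Riemann bound and fundamental equality without assuming that the constants are algebraically closed. -/

set_option autoImplicit false

open WithZero IntermediateField

namespace Groth.Agent.FunFldLib

open FunFld IsLocalRing

section

variable {k K : Type*} [Field k] [Field K] [Algebra k K]

theorem delta_mono' (hK : IsFF k K) {D E : Divisor k K} (h : D ≤ E) : delta D ≤ delta E := by
  have := (ell_mono_le hK h).2
  simp only [delta]; omega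

theorem mulRight_mem_L' (hK : IsFF k K) {z : K} (hz : z ≠ 0) (D : Divisor k K) {y : K} :
    y * z ∈ L D ↔ y ∈ L (D + div k z) := by
  refine forall_congr' fun P => ?_
  rw [map_mul, Finsupp.add_apply, div_apply hK, val_eq_exp P hz, exp_add]
  rw [← le_div_iff₀ (zero_lt_iff.2 exp_ne_zero), div_eq_mul_inv, ← exp_neg, neg_neg]

theorem ell_add_div' (hK : IsFF k K) {z : K} (hz : z ≠ 0) (D : Divisor k K) :
    ell (D + div k z) = ell D := by
  let e : L (D + div k z) ≃ₗ[k] L D :=
    { toFun := fun y => ⟨(y : K) * z, (mulRight_mem_L' hK hz D).2 y.2⟩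
      invFun := fun y => ⟨(y : K) * z⁻¹, (mulRight_mem_L' hK hz D).1 (by rw [inv_mul_cancel_right₀ hz]; exact y.2)⟩
      map_add' := fun a b => Subtype.ext (add_mul (a : K) b z)
      map_smul' := fun c a => Subtype.ext (smul_mul_assoc c (a : K) z)
      left_inv := fun y => Subtype.ext (mul_inv_cancel_right₀ hz _)
      right_inv := fun y => Subtype.ext (inv_mul_cancel_right₀ hz _) }
  exact e.finrank_eq

theorem delta_add_div' (hK : IsFF k K) {z : K} (hz : z ≠ 0) (D : Divisor k K) :
    delta (D + div k z) = delta D := by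
  simp only [delta, ell_add_div' hK hz, deg_add, deg_div hK, add_zero]

theorem exists_le_add_div' (hK : IsFF k K) {D E : Divisor k K} (h : 1 ≤ ell (E - D)) :
    ∃ z : K, z ≠ 0 ∧ D ≤ E + div k z := by
  have hne : L (E - D) ≠ ⊥ := fun h0 => by rw [ell, h0, finrank_bot] at h; omega
  obtain ⟨z, hz, hz0⟩ := Submodule.exists_mem_ne_zero_of_ne_bot hne
  refine ⟨z, hz0, fun P => ?_⟩
  have := (mem_L_iff hz0).1 hz P
  rw [Finsupp.sub_apply] at this
  rw [Finsupp.add_apply, div_apply hK]; omega

theorem delta_bounded' (hK : IsFF k K) : ∃ γ : ℤ, ∀ D : Divisor k K, delta D ≤ γ := by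
  classical
  obtain ⟨x, hx, -⟩ := id hK
  obtain ⟨C, hC, hCl⟩ := ell_lower hK hx
  set A : Divisor k K := (-div k x) ⊔ 0
  have hA0 : 0 ≤ A := le_sup_right
  have hAdeg := deg_poles hK hx
  haveI := finite_adjoin hK hx
  set n := Module.finrank (IntermediateField.adjoin k ({x} : Set K)) K
  have hn : 0 < n := Module.finrank_pos
  have hl : ∀ l : ℕ, (n : ℤ) * (l + 1) - C.deg ≤ ell (l • A) := by
    intro l
    have h1 := hCl A (fun P => by simp [A, div_apply hK]; omega) hA0 l
    have h2 := (ell_mono_le hK (le_add_of_nonneg_right hC : l • A ≤ l • A + C)).2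
    rw [deg_add] at h2
    omega
  refine ⟨C.deg + 1 - n, fun D => ?_⟩
  set D' := D ⊔ 0
  set l := (C.deg + D'.deg).toNat + 1
  obtain ⟨z, hz, hle⟩ : ∃ z : K, z ≠ 0 ∧ D' ≤ l • A + div k z := by
    refine exists_le_add_div' hK ?_
    have h2 := (ell_mono_le hK (sub_le_self _ (le_sup_right : (0 : Divisor k K) ≤ D') : l • A - D' ≤ l • A)).2
    rw [deg_sub] at h2
    have h1 := hl l
    have h3 : (l : ℤ) ≤ n * l := le_mul_of_one_le_left (Int.natCast_nonneg _) (by omega)
    have h4 := Int.self_le_toNat (C.deg + D'.deg)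
    rw [mul_add, mul_one] at h1
    omega
  have h5 := (delta_mono' hK (le_sup_left : D ≤ D')).trans ((delta_mono' hK hle).trans (delta_add_div' hK hz _).le)
  refine h5.trans ?_
  have h1 := hl l
  simp only [delta, deg_nsmul, A, hAdeg] at *
  rw [mul_add, mul_one, mul_comm] at h1
  omega

end

variable {k K K' : Type*} [Field k] [Field K] [Field K'] [Algebra k K] [Algebra K K'] [Algebra k K']
  [IsScalarTower k K K']

theorem sum_ram_mul_deg' [FiniteDimensional K K'] (hK : IsFF k K) (P : Place k K) (Qs : Finset (Place k K'))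
    (hQs : ∀ Q, Q ∈ Qs ↔ IsOver Q P) :
    (∑ Q ∈ Qs, ramIdx Q P * Q.deg) = Module.finrank K K' * P.deg := by
  classical
  have hP1 := deg_pos hK P
  obtain ⟨γ, hγ⟩ := delta_bounded' hK
  haveI := finite_L_zero hK
  obtain ⟨m, hm⟩ : ∃ m : ℕ, ell (0 : Divisor k K) < ell (Finsupp.single P (m : ℤ)) := by
    refine ⟨(γ + ell (0 : Divisor k K)).toNat + 1, ?_⟩
    have h1 := hγ (Finsupp.single P (((γ + ell (0 : Divisor k K)).toNat + 1 : ℕ) : ℤ))
    simp only [delta, deg_single] at h1
    push_cast at h1 ⊢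
    nlinarith [Int.self_le_toNat (γ + ell (0 : Divisor k K))]
  obtain ⟨x, hx, hx0⟩ : ∃ x ∈ L (Finsupp.single P (m : ℤ)), x ∉ L (0 : Divisor k K) := by
    by_contra! h
    have := Submodule.finrank_mono (show L (Finsupp.single P (m : ℤ)) ≤ L (0 : Divisor k K) from h)
    simp only [ell] at hm
    omega
  have hne : x ≠ 0 := fun h => hx0 (h ▸ zero_mem _)
  have hxo := (mem_L_single_iff P hne (m : ℤ)).1 hx
  have hneg : P.ord x < 0 := by
    by_contra hc
    refine hx0 ((mem_L_iff hne).2 fun Q => ?_)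
    rw [Finsupp.zero_apply, neg_zero]
    rcases eq_or_ne Q P with rfl | h
    · exact not_lt.1 hc
    · exact hxo.2 Q h
  have hT := (fun halg => hneg.ne (ord_eq_zero_of_isAlgebraic P halg) : Transcendental k x)
  have hA : (-div k x) ⊔ 0 = Finsupp.single P (-P.ord x) := Finsupp.ext fun Q => by
    rw [Finsupp.sup_apply, Finsupp.neg_apply, div_apply hK, Finsupp.zero_apply, Finsupp.single_apply]
    split_ifs with hQ
    · subst hQ; omega
    · have := hxo.2 Q (Ne.symm hQ); omega
  have h1 := deg_poles hK hT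
  rw [hA, deg_single] at h1
  have hFF : IsFF k K' := isFF_extension hK
  have h2 := deg_poles hFF (transcendental_algebraMap (K' := K') hT)
  rw [finrank_adjoin_algebraMap, Nat.cast_mul, ← h1] at h2
  rw [deg_eq_sum _ Qs (fun Q hQ => ?_)] at h2
  · have h3 : ∀ Q ∈ Qs, ((-div k (algebraMap K K' x)) ⊔ 0 : Divisor k K') Q * Q.deg =
        (-P.ord x) * ((ramIdx Q P : ℤ) * Q.deg) := fun Q hQ => by
      have hb := (isOver_iff hK Q P).1 ((hQs Q).1 hQ)
      rw [Finsupp.sup_apply, Finsupp.neg_apply, Finsupp.zero_apply, div_apply hFF,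
        ord_algebraMap_eq (isOverWith_below hK Q), ← hb, ramIdx_below, hb,
        max_eq_left (by have := mul_nonpos_of_nonneg_of_nonpos (Int.natCast_nonneg (eAt hK Q)) hneg.le; omega)]
      ring
    rw [Finset.sum_congr rfl h3, ← Finset.mul_sum, mul_assoc] at h2
    have h4 := mul_left_cancel₀ (show (-P.ord x) ≠ 0 by omega) h2
    rw [mul_comm (P.deg : ℤ)] at h4
    exact_mod_cast h4
  · rw [hQs, isOver_iff hK]
    rw [Finsupp.mem_support_iff, Finsupp.sup_apply, Finsupp.neg_apply, Finsupp.zero_apply, div_apply hFF,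
      ord_algebraMap_eq (isOverWith_below hK Q)] at hQ
    by_contra hne'
    have := mul_nonneg (Int.natCast_nonneg (eAt hK Q)) (hxo.2 _ hne')
    exact hQ (max_eq_right (by omega))

theorem card_decomposition_mul_deg' [FiniteDimensional K K'] [IsGalois K K'] (hK : IsFF k K)
    {Q : Place k K'} {P : Place k K} {e : ℕ} (he : IsOverWith Q P e) :
    Nat.card (Q.O.decompositionSubgroup K) * P.deg = e * Q.deg := by
  classical
  have hfin := finite_over (K' := K') hK P
  have h1 := sum_ram_mul_deg' hK P hfin.toFinset fun Q => by simp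
  have hall : ∀ Q' ∈ hfin.toFinset, ramIdx Q' P * Q'.deg = e * Q.deg := by
    intro Q' hQ'
    obtain ⟨e', he'⟩ := (Set.Finite.mem_toFinset hfin).1 hQ'
    obtain ⟨σ, hσ⟩ := exists_twist_eq (K := K) (Q₁ := Q) (Q₂ := Q') fun x => by
      rw [he x, he' x, pow_lt_one_iff_of_nonneg zero_le (show e ≠ 0 from Nat.one_le_iff_ne_zero.1 (isOverWith_pos he)),
        pow_lt_one_iff_of_nonneg zero_le (show e' ≠ 0 from Nat.one_le_iff_ne_zero.1 (isOverWith_pos he'))]
    subst hσ
    have h2 := isOverWith_twist he σ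
    have hb := (isOver_iff hK (twist σ Q) P).1 ⟨e, h2⟩
    rw [deg_twist, ← hb, ramIdx_below, (place_unique (isOverWith_below hK (twist σ Q)) h2).2]
  rw [Finset.sum_congr rfl hall, Finset.sum_const, smul_eq_mul] at h1
  have hc : Nat.card {Q' : Place k K' // IsOver Q' P} = hfin.toFinset.card := Nat.card_eq_card_finite_toFinset hfin
  have h3 := card_mul_card_decomposition hK he
  rw [hc] at h3
  have hpos : 0 < hfin.toFinset.card := Finset.card_pos.2 ⟨Q, (Set.Finite.mem_toFinset hfin).2 ⟨e, he⟩⟩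
  refine Nat.eq_of_mul_eq_mul_left hpos ?_
  rw [← mul_assoc, h3, h1]

end Groth.Agent.FunFldLib
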