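import Mathlib

/-! Wronskians of polynomials in characteristic zero. -/

set_option autoImplicit false

open Polynomial

namespace Groth.Agent.FunFldLib.Wr

variable {k : Type*} [Field k]

/-- the Wronskian -/
noncomputable def wr {n : ℕ} (f : Fin n → k[X]) : k[X] :=
  (Matrix.of fun i j : Fin n => derivative^[(i : ℕ)] (f j)).det

theorem coeff_prod_bound {ι : Type*} (s : Finset ι) (p : ι → k[X]) (e : ι → ℕ) (h : ∀ i ∈ s, (p i).natDegree ≤ e i) :
    (∏ i ∈ s, p i).natDegree ≤ ∑ i ∈ s, e i ∧ (∏ i ∈ s, p i).coeff (∑ i ∈ s, e i) = ∏ i ∈ s, (p i).coeff (e i) := by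
  classical
  induction s using Finset.induction_on with
  | empty => simp
  | insert a s ha ih =>
    rw [Finset.prod_insert ha, Finset.sum_insert ha, Finset.prod_insert ha]
    obtain ⟨h1, h2⟩ := ih fun i hi => h i (Finset.mem_insert_of_mem hi)
    have h3 := h a (Finset.mem_insert_self a s)
    refine ⟨natDegree_mul_le.trans (add_le_add h3 h1), ?_⟩
    rw [coeff_mul_add_eq_of_natDegree_le h3 h1, h2]

theorem natDegree_wr_le {n : ℕ} [CharZero k] (f : Fin n → k[X]) (e : Fin n → ℕ) (he : ∀ j, (f j).natDegree = e j)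
    (hf : ∀ j, f j ≠ 0) (hinj : Function.Injective e) :
    wr f ≠ 0 ∧ (wr f).natDegree + ∑ i : Fin n, (i : ℕ) ≤ ∑ j, e j := by
  classical
  let M' : Matrix (Fin n) (Fin n) k[X] := Matrix.of fun i j => (X : k[X]) ^ (i : ℕ) * derivative^[(i : ℕ)] (f j)
  have hdet : M'.det = (X : k[X]) ^ (∑ i : Fin n, (i : ℕ)) * wr f := by
    rw [wr, ← Finset.prod_pow_eq_pow_sum, ← Matrix.det_mul_column]
    rfl
  have hdeg : ∀ i j : Fin n, (M' i j).natDegree ≤ e j := fun i j => by
    rcases Nat.lt_or_ge (e j) (i : ℕ) with h | h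
    · have : derivative^[(i : ℕ)] (f j) = 0 := iterate_derivative_eq_zero (by rw [he]; exact h)
      simp [M', this]
    · show ((X : k[X]) ^ (i : ℕ) * derivative^[(i : ℕ)] (f j)).natDegree ≤ e j
      refine natDegree_mul_le.trans ?_
      rw [natDegree_X_pow]
      have := natDegree_iterate_derivative (f j) (i : ℕ)
      rw [he] at this; omega
  have hco : ∀ i j : Fin n, (M' i j).coeff (e j) = ((e j).descFactorial i : k) * (f j).leadingCoeff := fun i j => by
    show ((X : k[X]) ^ (i : ℕ) * derivative^[(i : ℕ)] (f j)).coeff (e j) = _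
    rw [coeff_X_pow_mul']
    split_ifs with h
    · rw [coeff_iterate_derivative, Nat.sub_add_cancel h, nsmul_eq_mul, leadingCoeff, he]
    · rw [Nat.descFactorial_eq_zero_iff_lt.2 (by omega), Nat.cast_zero, zero_mul]
  have hnd : M'.det.natDegree ≤ ∑ j, e j := by
    rw [Matrix.det_apply']
    refine natDegree_sum_le_of_forall_le _ _ fun σ _ => natDegree_mul_le.trans ?_
    rw [natDegree_intCast, zero_add]
    exact (coeff_prod_bound Finset.univ (fun i => M' (σ i) i) e fun i _ => hdeg _ _).1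
  have hcoeff : M'.det.coeff (∑ j, e j) = (Matrix.of fun i j : Fin n => ((e j).descFactorial i : k) * (f j).leadingCoeff).det := by
    rw [Matrix.det_apply', Matrix.det_apply', finsetSum_coeff]
    refine Finset.sum_congr rfl fun σ _ => ?_
    rw [← C_eq_intCast, coeff_C_mul, (coeff_prod_bound Finset.univ (fun i => M' (σ i) i) e fun i _ => hdeg _ _).2]
    congr 1
    exact Finset.prod_congr rfl fun i _ => hco _ _
  have hne : (Matrix.of fun i j : Fin n => ((e j).descFactorial i : k) * (f j).leadingCoeff).det ≠ 0 := by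
    have h1 : (Matrix.of fun i j : Fin n => ((e j).descFactorial i : k) * (f j).leadingCoeff) =
        Matrix.of fun i j => (fun j => (f j).leadingCoeff) j *
          ((Matrix.of fun a b : Fin n => (descPochhammer k (b : ℕ)).eval ((e a : ℕ) : k)).transpose) i j := by
      ext i j
      simp [descPochhammer_eval_eq_descFactorial, mul_comm]
    rw [h1, Matrix.det_mul_row, Matrix.det_transpose, ← Matrix.det_eval_matrixOfPolynomials_eq_det_vandermonde
      (fun a : Fin n => ((e a : ℕ) : k)) (fun b => descPochhammer k (b : ℕ)) (fun i => descPochhammer_natDegree k i)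
      (fun i => monic_descPochhammer k i)]
    refine mul_ne_zero (Finset.prod_ne_zero_iff.2 fun j _ => leadingCoeff_ne_zero.2 (hf j)) ?_
    exact Matrix.det_vandermonde_ne_zero_iff.2 fun a b h => hinj (Nat.cast_injective h)
  have hM : M'.det ≠ 0 := fun h => hne (by rw [← hcoeff, h, coeff_zero])
  have hw : wr f ≠ 0 := fun h => hM (by rw [hdet, h, mul_zero])
  refine ⟨hw, ?_⟩
  rw [hdet, natDegree_mul (pow_ne_zero _ X_ne_zero) hw, natDegree_X_pow] at hnd
  omega

theorem iterate_derivative_sum {n : ℕ} (m : ℕ) (c : Fin n → k) (f : Fin n → k[X]) :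
    derivative^[m] (∑ j, c j • f j) = ∑ j, c j • derivative^[m] (f j) := by
  induction m with
  | zero => simp
  | succ m ih => simp only [Function.iterate_succ_apply', ih, map_sum, derivative_smul]

theorem exists_wr_change {n : ℕ} (f g : Fin n → k[X]) (h : ∀ j, g j ∈ Submodule.span k (Set.range f))
    (h' : ∀ j, f j ∈ Submodule.span k (Set.range g)) : wr g ∣ wr f ∧ wr f ∣ wr g := by
  have key : ∀ f g : Fin n → k[X], (∀ j, g j ∈ Submodule.span k (Set.range f)) → wr f ∣ wr g := by
    intro f g h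
    choose c hc using fun j => Submodule.mem_span_range_iff_exists_fun k |>.1 (h j)
    refine ⟨(Matrix.of fun l j : Fin n => C (c j l)).det, ?_⟩
    rw [wr, wr, ← Matrix.det_mul]
    congr 1
    refine Matrix.ext fun i j => ?_
    rw [Matrix.of_apply, ← hc j, iterate_derivative_sum, Matrix.mul_apply]
    refine Finset.sum_congr rfl fun l _ => ?_
    rw [Matrix.of_apply, Matrix.of_apply, smul_eq_C_mul, mul_comm]
  exact ⟨key g f h', key f g h⟩

theorem pow_dvd_wr {n : ℕ} (g : Fin n → k[X]) (a : k) (m : Fin n → ℕ) (hm : ∀ j, (X - C a) ^ m j ∣ g j) :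
    (X - C a) ^ ((∑ j, m j) - ∑ i : Fin n, (i : ℕ)) ∣ wr g := by
  rw [wr, Matrix.det_apply']
  refine Finset.dvd_sum fun σ _ => Dvd.dvd.mul_left ?_ _
  have h1 : (∑ j, m j) - ∑ i : Fin n, (i : ℕ) ≤ ∑ j, (m j - (σ j : ℕ)) := by
    have h2 : ∑ j, m j ≤ ∑ j, ((m j - (σ j : ℕ)) + (σ j : ℕ)) := Finset.sum_le_sum fun j _ => by omega
    rw [Finset.sum_add_distrib, Equiv.sum_comp σ fun i : Fin n => (i : ℕ)] at h2
    omega
  refine (pow_dvd_pow _ h1).trans ?_
  rw [← Finset.prod_pow_eq_pow_sum]
  exact Finset.prod_dvd_prod_of_dvd _ _ fun j _ => pow_sub_dvd_iterate_derivative_of_pow_dvd (σ j) (hm j)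

theorem sum_le_of_dvd (p : k[X]) (hp : p ≠ 0) (S : Finset k) (m : k → ℕ) (h : ∀ a ∈ S, (X - C a) ^ m a ∣ p) :
    ∑ a ∈ S, m a ≤ p.natDegree := by
  classical
  have h1 : (∏ a ∈ S, (X - C a) ^ m a) ∣ p := by
    refine Finset.prod_dvd_of_coprime (fun a _ b _ hab => ?_) h
    exact (pairwise_coprime_X_sub_C Function.injective_id hab).pow
  have h2 := natDegree_le_of_dvd h1 hp
  rwa [natDegree_prod _ _ fun a _ => pow_ne_zero _ (X_sub_C_ne_zero a),
    Finset.sum_congr rfl fun a _ => (natDegree_pow _ _).trans (by rw [natDegree_X_sub_C, mul_one])] at h2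

end Groth.Agent.FunFldLib.Wr
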