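import Mathlib
import Groth.Agent.FunFldLib.GenusOne
import Groth.Agent.FunFldLib.Wronskian

/-! Linear series on function fields: vanishing orders, two-place bound, Plücker bound in genus zero. -/

set_option autoImplicit false

open WithZero

namespace Groth.Agent.FunFldLib

open FunFld

variable {k K : Type*} [Field k] [Field K] [Algebra k K]

/-- `dim V(-zP)` -/
noncomputable abbrev dimAt (V : Submodule k K) (D : Divisor k K) (P : Place k K) (z : ℤ) : ℕ :=
  Module.finrank k ↥(V ⊓ L (D - Finsupp.single P z))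

/-- `∑_{n=1}^{d} dim V(-nP)` -/
noncomputable abbrev vsum (V : Submodule k K) (D : Divisor k K) (P : Place k K) (d : ℕ) : ℕ :=
  ∑ n ∈ Finset.range d, dimAt V D P ((n : ℤ) + 1)

theorem finite_V (hK : IsFunctionField k K) {V : Submodule k K} {D : Divisor k K} (hV : V ≤ L D) :
    FiniteDimensional k V :=
  haveI := finite_L hK.1 D
  Submodule.finiteDimensional_of_le hV

variable [IsAlgClosed k]

theorem exists_orders (hK : IsFunctionField k K) {V : Submodule k K} {D : Divisor k K} {d r : ℕ} (hD : D.deg = d)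
    (hV : V ≤ L D) (hVr : Module.finrank k V = r + 1) (P : Place k K) :
    ∃ (v : Fin (r + 1) → K) (m : Fin (r + 1) → ℕ), (∀ i, v i ∈ V ∧ v i ≠ 0) ∧ Function.Injective m ∧
      (∀ i, P.ord (v i) + D P = m i) ∧ (∀ i, m i ≤ d) ∧ V = Submodule.span k (Set.range v) ∧
      ∀ z : ℤ, dimAt V D P z = (Finset.univ.filter fun i => z ≤ m i).card := by
  classical
  have hP := deg_eq_one hK P
  haveI := finite_V hK hV
  obtain ⟨hfin, hcard⟩ := finrank_eq_ncard_ordSet P hP V
  rw [hVr, Set.ncard_eq_toFinset_card _ hfin] at hcard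
  let e := hfin.toFinset.equivFinOfCardEq hcard
  choose v hv hv0 hvo using fun i : Fin (r + 1) => (Set.Finite.mem_toFinset hfin).1 (e.symm i).2
  have hbd : ∀ i, 0 ≤ P.ord (v i) + D P ∧ P.ord (v i) + D P ≤ d := fun i => by
    have h1 := (mem_L_iff (hv0 i)).1 (hV (hv i))
    refine ⟨by have := h1 P; omega, ?_⟩
    have h2 : Finsupp.single P (P.ord (v i) + D P) ≤ D + div k (v i) := fun Q => by
      rw [Finsupp.single_apply, Finsupp.add_apply, div_apply hK.1]
      split_ifs with hQ
      · subst hQ; omega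
      · have := h1 Q; omega
    have h3 := deg_mono h2
    rw [deg_single, hP, deg_add, deg_div hK.1, hD] at h3
    omega
  refine ⟨v, fun i => (P.ord (v i) + D P).toNat, fun i => ⟨hv i, hv0 i⟩, fun i j h => ?_,
    fun i => (Int.toNat_of_nonneg (hbd i).1).symm, fun i => by have := (hbd i).2; show (P.ord (v i) + D P).toNat ≤ d; omega, ?_, fun z => ?_⟩
  · have hi := (hbd i).1
    have hj := (hbd j).1
    simp only at h
    exact e.symm.injective (Subtype.ext (by rw [← hvo i, ← hvo j]; omega))
  · have hli : LinearIndependent k v := linearIndependent_of_ord_injective P v hv0 fun i j h =>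
      e.symm.injective (Subtype.ext (by rw [← hvo i, ← hvo j]; exact h))
    refine (Submodule.eq_of_le_of_finrank_eq (Submodule.span_le.2 (Set.range_subset_iff.2 hv)) ?_).symm
    rw [finrank_span_eq_card hli, hVr, Fintype.card_fin]
  · haveI : FiniteDimensional k ↥(V ⊓ L (D - Finsupp.single P z)) := Submodule.finiteDimensional_of_le inf_le_left
    obtain ⟨hf2, hc2⟩ := finrank_eq_ncard_ordSet P hP (V ⊓ L (D - Finsupp.single P z))
    show Module.finrank k ↥(V ⊓ L (D - Finsupp.single P z)) = _
    rw [← hc2]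
    have hset : ordSet P (V ⊓ L (D - Finsupp.single P z)) =
        (fun i => P.ord (v i)) '' {i : Fin (r + 1) | z ≤ ((P.ord (v i) + D P).toNat : ℤ)} := by
      ext o
      constructor
      · rintro ⟨x, ⟨hxV, hxL⟩, hx0, rfl⟩
        have hmem : P.ord x ∈ hfin.toFinset := (Set.Finite.mem_toFinset hfin).2 ⟨x, hxV, hx0, rfl⟩
        have heq : P.ord (v (e ⟨_, hmem⟩)) = P.ord x := by rw [hvo, Equiv.symm_apply_apply]
        refine ⟨e ⟨_, hmem⟩, ?_, heq⟩
        have h1 := (mem_L_iff hx0).1 hxL P
        rw [Finsupp.sub_apply, Finsupp.single_eq_same] at h1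
        show z ≤ _
        omega
      · rintro ⟨i, hi, rfl⟩
        refine ⟨v i, ⟨hv i, (mem_L_iff (hv0 i)).2 fun Q => ?_⟩, hv0 i, rfl⟩
        have h1 := (mem_L_iff (hv0 i)).1 (hV (hv i)) Q
        rw [Finsupp.sub_apply, Finsupp.single_apply]
        split_ifs with hQ
        · subst hQ
          change z ≤ _ at hi
          have := (hbd i).1; omega
        · omega
    rw [hset, Set.ncard_image_of_injective _ (fun i j h => e.symm.injective (Subtype.ext (by rw [← hvo i, ← hvo j]; exact h))),
      Set.ncard_eq_toFinset_card']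
    congr 1
    ext i; simp

theorem dimAt_le (hK : IsFunctionField k K) {V : Submodule k K} {D : Divisor k K} {r : ℕ}
    (hV : V ≤ L D) (hVr : Module.finrank k V = r + 1) (P : Place k K) (z : ℤ) : dimAt V D P z ≤ r + 1 := by
  haveI := finite_V hK hV
  rw [← hVr]
  exact Submodule.finrank_mono inf_le_left

theorem vsum_eq (hK : IsFunctionField k K) {V : Submodule k K} {D : Divisor k K} {d : ℕ} {r : ℕ} (P : Place k K)
    {v : Fin (r + 1) → K} {m : Fin (r + 1) → ℕ} (hm : ∀ i, m i ≤ d)
    (hdim : ∀ z : ℤ, dimAt V D P z = (Finset.univ.filter fun i => z ≤ m i).card) :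
    vsum V D P d = ∑ i, m i := by
  classical
  simp only [vsum, hdim, Finset.card_filter]
  rw [Finset.sum_comm]
  refine Finset.sum_congr rfl fun i _ => ?_
  rw [← Finset.card_filter]
  have : (Finset.range d).filter (fun n : ℕ => (n : ℤ) + 1 ≤ (m i : ℤ)) = Finset.range (m i) := by
    ext n; simp only [Finset.mem_filter, Finset.mem_range]; have := hm i; omega
  rw [this, Finset.card_range]

theorem sum_range_le_of_injective {n : ℕ} (m : Fin n → ℕ) (hm : Function.Injective m) :
    ∑ i : Fin n, (i : ℕ) ≤ ∑ i, m i := by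
  classical
  rw [← Fin.sum_univ_eq_sum_range (fun i => i) n |>.symm, ← Finset.sum_image (f := fun x => x) hm.injOn]
  · set s := Finset.univ.image m
    have hs : s.card = n := by rw [Finset.card_image_of_injective _ hm, Finset.card_univ, Fintype.card_fin]
    clear_value s
    subst hs
    clear m hm
    induction s using Finset.induction_on_max with
    | empty => simp
    | insert a s hlt ih =>
      have ha : a ∉ s := fun h => lt_irrefl a (hlt a h)
      rw [Finset.card_insert_of_notMem ha, Finset.sum_range_succ, Finset.sum_insert ha, add_comm a]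
      refine add_le_add ih ?_
      have : s ⊆ Finset.range a := fun x hx => Finset.mem_range.2 (hlt x hx)
      simpa using Finset.card_le_card this

theorem sum_fin_twice (n : ℕ) : 2 * ∑ i : Fin (n + 1), (i : ℕ) = n * (n + 1) := by
  rw [Fin.sum_univ_eq_sum_range (fun i => i) (n + 1), mul_comm, Finset.sum_range_id_mul_two, mul_comm]; simp

theorem two_vsum_ge (hK : IsFunctionField k K) {V : Submodule k K} {D : Divisor k K} {d r : ℕ} (hD : D.deg = d)
    (hV : V ≤ L D) (hVr : Module.finrank k V = r + 1) (P : Place k K) : r * (r + 1) ≤ 2 * vsum V D P d := by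
  obtain ⟨v, m, -, hinj, -, hm, -, hdim⟩ := exists_orders hK hD hV hVr P
  rw [vsum_eq hK P (v := v) hm hdim, ← sum_fin_twice]
  exact Nat.mul_le_mul_left 2 (sum_range_le_of_injective m hinj)

/-- a cusp gives weight at least `r` -/
theorem two_vsum_ge_of_cusp (hK : IsFunctionField k K) {V : Submodule k K} {D : Divisor k K} {d r : ℕ} (hD : D.deg = d)
    (hV : V ≤ L D) (hVr : Module.finrank k V = r + 1) (P : Place k K) (hcusp : r ≤ dimAt V D P 2) :
    r * (r + 1) + 2 * r ≤ 2 * vsum V D P d := by
  classical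
  obtain ⟨v, m, -, hinj, -, hm, -, hdim⟩ := exists_orders hK hD hV hVr P
  rw [vsum_eq hK P (v := v) hm hdim, ← sum_fin_twice]
  rw [hdim] at hcusp
  -- shift the orders `≥ 2` down by one
  let m' : Fin (r + 1) → ℕ := fun i => if 2 ≤ m i then m i - 1 else 0
  have hle : (Finset.univ.filter fun i => ¬ 2 ≤ m i).card ≤ 1 := by
    have h := Finset.card_filter_add_card_filter_not (s := (Finset.univ : Finset (Fin (r + 1)))) (fun i => 2 ≤ m i)
    rw [Finset.card_univ, Fintype.card_fin] at h
    have e : (Finset.univ.filter fun i => (2 : ℤ) ≤ m i) = Finset.univ.filter fun i => 2 ≤ m i :=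
      Finset.filter_congr fun i _ => by simp
    rw [e] at hcusp
    omega
  have hinj' : Function.Injective m' := by
    intro i j h
    simp only [m'] at h
    split_ifs at h with hi hj hj
    · exact hinj (by omega)
    · omega
    · omega
    · exact Finset.card_le_one.1 hle i (Finset.mem_filter.2 ⟨Finset.mem_univ _, hi⟩) j (Finset.mem_filter.2 ⟨Finset.mem_univ _, hj⟩)
  have h1 := sum_range_le_of_injective m' hinj'
  have h2 : ∑ i, m' i + (Finset.univ.filter fun i => 2 ≤ m i).card ≤ ∑ i, m i := by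
    rw [Finset.card_filter, ← Finset.sum_add_distrib]
    refine Finset.sum_le_sum fun i _ => ?_
    simp only [m']; split_ifs <;> omega
  have h3 : r ≤ (Finset.univ.filter fun i => 2 ≤ m i).card := by
    have e : (Finset.univ.filter fun i => (2 : ℤ) ≤ m i) = Finset.univ.filter fun i => 2 ≤ m i :=
      Finset.filter_congr fun i _ => by simp
    rwa [e] at hcusp
  omega

/-- two-place bound -/
theorem dimAt_add_le (hK : IsFunctionField k K) {V : Submodule k K} {D : Divisor k K} {d r : ℕ} (hD : D.deg = d)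
    (hV : V ≤ L D) (hVr : Module.finrank k V = r + 1) {P Q : Place k K} (hPQ : P ≠ Q) {a b : ℤ} (hab : (d : ℤ) < a + b) :
    dimAt V D P a + dimAt V D Q b ≤ r + 1 := by
  classical
  haveI := finite_V hK hV
  set U := V ⊓ L (D - Finsupp.single P a)
  set W := V ⊓ L (D - Finsupp.single Q b)
  have hbot : U ⊓ W = ⊥ := by
    rw [Submodule.eq_bot_iff]
    rintro x ⟨⟨hxV, hxP⟩, -, hxQ⟩
    by_contra hx0
    have h1 := (mem_L_iff hx0).1 (hV hxV)
    have h2 := (mem_L_iff hx0).1 hxP P
    have h3 := (mem_L_iff hx0).1 hxQ Q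
    rw [Finsupp.sub_apply, Finsupp.single_eq_same] at h2 h3
    have hle : Finsupp.single P a + Finsupp.single Q b ≤ D + div k x := fun R => by
      simp only [Finsupp.add_apply, div_apply hK.1, Finsupp.single_apply]
      by_cases hP : P = R
      · subst hP; rw [if_pos rfl, if_neg (Ne.symm hPQ)]; omega
      · by_cases hQ : Q = R
        · subst hQ; rw [if_neg hP, if_pos rfl]; omega
        · rw [if_neg hP, if_neg hQ]; have := h1 R; omega
    have := deg_mono hle
    rw [deg_add, deg_single, deg_single, deg_add, deg_div hK.1, hD, deg_eq_one hK P, deg_eq_one hK Q] at this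
    push_cast at this
    omega
  have h := Submodule.finrank_sup_add_finrank_inf_eq U W
  rw [hbot, finrank_bot, add_zero] at h
  have h2 : Module.finrank k ↥(U ⊔ W) ≤ Module.finrank k V := Submodule.finrank_mono (sup_le inf_le_left inf_le_left)
  show Module.finrank k U + Module.finrank k W ≤ _
  omega

theorem vsum_add_le (hK : IsFunctionField k K) {V : Submodule k K} {D : Divisor k K} {d r : ℕ} (hD : D.deg = d)
    (hV : V ≤ L D) (hVr : Module.finrank k V = r + 1) {P Q : Place k K} (hPQ : P ≠ Q) :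
    vsum V D P d + vsum V D Q d ≤ (r + 1) * d := by
  rw [vsum, vsum, ← Finset.sum_range_reflect (fun n => dimAt V D Q ((n : ℤ) + 1)), ← Finset.sum_add_distrib]
  refine (Finset.sum_le_sum fun n hn => dimAt_add_le hK hD hV hVr hPQ ?_).trans (by simp [mul_comm])
  rw [Finset.mem_range] at hn
  omega

omit [IsAlgClosed k] in
theorem vsum_add_eq_of_compatible {K' : Type*} [Field K'] [Algebra k K'] {V : Submodule k K} {D : Divisor k K}
    {V' : Submodule k K'} {D' : Divisor k K'} {d r : ℕ} {P : Place k K} {Q : Place k K'}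
    (h : ∀ m : ℕ, m ≤ d + 1 → dimAt V D P (m : ℤ) + dimAt V' D' Q ((d : ℤ) + 1 - m) = r + 1) :
    vsum V D P d + vsum V' D' Q d = (r + 1) * d := by
  rw [vsum, vsum, ← Finset.sum_range_reflect (fun n => dimAt V' D' Q ((n : ℤ) + 1)), ← Finset.sum_add_distrib]
  refine (Finset.sum_congr rfl fun n hn => ?_).trans (by simp [mul_comm] : ∑ _n ∈ Finset.range d, (r + 1) = _)
  rw [Finset.mem_range] at hn
  have h1 := h (n + 1) (by omega)
  rw [show ((n + 1 : ℕ) : ℤ) = (n : ℤ) + 1 from Nat.cast_succ n,
    show (d : ℤ) + 1 - ((n : ℤ) + 1) = ((d - 1 - n : ℕ) : ℤ) + 1 by omega] at h1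
  exact h1

theorem plucker (hK : IsFunctionField k K) [CharZero k] (hg0 : genus k K = 0) {V : Submodule k K} {D : Divisor k K}
    {d r : ℕ} (hD : D.deg = d) (hV : V ≤ L D) (hVr : Module.finrank k V = r + 1) (S : Finset (Place k K)) :
    ∑ P ∈ S, ((2 * vsum V D P d : ℤ) - r * (r + 1)) ≤ 2 * ((r : ℤ) + 1) * d - 2 * (r * (r + 1)) := by
  classical
  obtain ⟨T, hT⟩ := exists_transcendental hK
  obtain ⟨P0, -⟩ := exists_place_val_lt_one hK.1 hT
  have hP0 := deg_eq_one hK P0
  have hl1 : ∀ n : ℕ, (ell (Finsupp.single P0 (n : ℤ)) : ℤ) = n + 1 := fun n => by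
    rw [ell_large hK (by rw [deg_single, hP0, hg0]; simp), deg_single, hP0, hg0]; simp
  obtain ⟨x, hxL, hx0, hxo⟩ := exists_ord_eq_of_large hK hP0 (m := 1) (by omega)
  push_cast at hxL hxo
  have hxT := transcendental_of_ord_ne_zero hK (P := P0) (x := x) (by omega)
  rw [mem_L_single_iff P0 hx0] at hxL
  have hval : ∀ (p : Polynomial k), p ≠ 0 → Polynomial.aeval x p ≠ 0 := fun p hp h => hxT ⟨p, hp, h⟩
  -- value of `x` at a place other than `P0`
  have ha : ∀ P : Place k K, P ≠ P0 → ∃ a : k, 0 < P.ord (x - algebraMap k K a) := fun P hP => by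
    obtain ⟨a, ha⟩ := exists_const_sub P (deg_eq_one hK P) (x := (1 : K)) one_ne_zero (y := x)
      (by rw [map_one, val_le_one_iff P hx0]; exact hxL.2 P hP)
    rw [map_one, Algebra.smul_def, mul_one] at ha
    have hne : x - algebraMap k K a ≠ 0 := fun h => hxT (by rw [sub_eq_zero.1 h]; exact isAlgebraic_algebraMap a)
    exact ⟨a, (val_lt_one_iff P hne).1 ha⟩
  choose! aP haP using ha
  have hzero : ∀ (a : k) (P : Place k K), 0 < P.ord (x - algebraMap k K a) →
      P.ord (x - algebraMap k K a) = 1 ∧ ∀ Q : Place k K, 0 < Q.ord (x - algebraMap k K a) → Q = P := by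
    intro a P hP
    set y := x - algebraMap k K a
    have hy0 : y ≠ 0 := fun h => by rw [h, ord_zero] at hP; omega
    have hyT := transcendental_of_ord_ne_zero hK (P := P) (x := y) (by omega)
    have h1 : ∀ Q : Place k K, -(Finsupp.single P0 (1 : ℤ)) Q ≤ Q.ord y := fun Q => by
      have h2 := le_ord_add Q (x := x) (y := -algebraMap k K a) (by rwa [← sub_eq_add_neg])
      rw [ord_neg, ord_algebraMap, ← sub_eq_add_neg] at h2
      change min (Q.ord x) 0 ≤ Q.ord y at h2
      rw [Finsupp.single_apply]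
      split_ifs with hQ
      · subst hQ; omega
      · have := hxL.2 Q (Ne.symm hQ); omega
    have hne : ∀ R : Place k K, 0 < R.ord y → R ≠ P0 := fun R hR h => by
      have h2 : P0.ord y = -1 := by
        have h3 : P0.1 y = P0.1 x := P0.1.map_sub_eq_of_lt_left (by
          refine lt_of_le_of_lt (P0.2.1 a) ?_
          rw [val_eq_exp P0 hx0, hxo, ← exp_zero, exp_lt_exp]; omega)
        simp only [Place.ord, h3] at *
        exact hxo
      rw [h] at hR; omega
    have hdeg : ∀ Q : Place k K, 0 < Q.ord y → (Finsupp.single P (P.ord y) + (if Q = P then 0 else Finsupp.single Q (1 : ℤ))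
        - Finsupp.single P0 1 : Divisor k K) ≤ div k y := fun Q hQ R => by
      rw [Finsupp.sub_apply, Finsupp.add_apply, div_apply hK.1]
      have := h1 R
      rw [Finsupp.single_apply] at this
      have hPne := hne P hP
      have hQne := hne Q hQ
      split_ifs with hQP <;> simp only [Finsupp.single_apply, Finsupp.zero_apply] <;> split_ifs at this ⊢ <;>
        subst_vars <;> first | omega | simp_all
    refine ⟨?_, fun Q hQ => ?_⟩
    · have h3 := deg_mono (hdeg P hP)
      rw [if_pos rfl, add_zero, deg_sub, deg_single, deg_single, deg_div hK.1, hP0, deg_eq_one hK P] at h3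
      push_cast at h3; omega
    · by_contra hQP
      have h3 := deg_mono (hdeg Q hQ)
      rw [if_neg hQP, deg_sub, deg_add, deg_single, deg_single, deg_single, deg_div hK.1, hP0, deg_eq_one hK P, deg_eq_one hK Q] at h3
      push_cast at h3; omega
  have hordP0 : ∀ p : Polynomial k, p ≠ 0 → P0.ord (Polynomial.aeval x p) = -(p.natDegree : ℤ) := by
    intro p hp
    have hv : P0.1 (Polynomial.aeval x p) = exp (p.natDegree : ℤ) := by
      rw [Polynomial.aeval_eq_sum_range, Valuation.map_sum_eq_of_lt P0.1 (Finset.self_mem_range_succ _)]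
      · rw [val_smul P0 (by simpa using hp), map_pow, val_eq_exp P0 hx0, hxo, ← exp_nsmul]; simp
      · intro i hi
        rw [Finset.mem_sdiff, Finset.mem_range, Finset.mem_singleton] at hi
        rw [val_smul P0 (c := p.coeff p.natDegree) (by simpa using hp)]
        refine (val_smul_le P0 _ _).trans_lt ?_
        rw [map_pow, map_pow, val_eq_exp P0 hx0, hxo, ← exp_nsmul, ← exp_nsmul, exp_lt_exp]
        simp; omega
    simp [Place.ord, hv]
  have hordP : ∀ (P : Place k K), P ≠ P0 → ∀ p : Polynomial k, p ≠ 0 → ∀ m : ℕ, P.ord (Polynomial.aeval x p) = m →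
      (Polynomial.X - Polynomial.C (aP P)) ^ m ∣ p := by
    intro P hP p hp m hm
    obtain ⟨q, hq, hnd⟩ := Polynomial.exists_eq_pow_rootMultiplicity_mul_and_not_dvd p hp (aP P)
    have hq0 : q ≠ 0 := fun h => hnd (by rw [h]; exact dvd_zero _)
    have hy := hzero _ P (haP P hP)
    have hx' : x - algebraMap k K (aP P) ≠ 0 := fun h => by rw [h, ord_zero] at hy; omega
    have hqo : P.ord (Polynomial.aeval x q) = 0 := by
      obtain ⟨q1, hq1⟩ := Polynomial.X_sub_C_dvd_sub_C_eval (a := aP P) (p := q)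
      have hqa : q.eval (aP P) ≠ 0 := fun h => hnd (Polynomial.dvd_iff_isRoot.2 h)
      have he : Polynomial.aeval x q = (x - algebraMap k K (aP P)) * Polynomial.aeval x q1 + algebraMap k K (q.eval (aP P)) := by
        have := congrArg (Polynomial.aeval x) hq1
        simp only [map_sub, map_mul, Polynomial.aeval_X, Polynomial.aeval_C] at this
        linear_combination this
      have hv : P.1 (Polynomial.aeval x q) = 1 := by
        rw [he, P.1.map_add_eq_of_lt_right, val_algebraMap P hqa]
        rw [val_algebraMap P hqa, map_mul]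
        exact mul_lt_one_of_nonneg_of_lt_one_left zero_le ((val_lt_one_iff P hx').2 (haP P hP))
          (val_aeval_le_one P.1 P.2.1 ((val_le_one_iff P hx0).2 (hxL.2 P hP)) q1)
      simp [Place.ord, hv]
    have h3 : P.ord (Polynomial.aeval x p) = (p.rootMultiplicity (aP P) : ℤ) := by
      conv_lhs => rw [hq]
      rw [map_mul, map_pow, map_sub, Polynomial.aeval_X, Polynomial.aeval_C,
        ord_mul P (pow_ne_zero _ hx') (hval q hq0), ord_pow, hy.1, hqo]
      ring
    rw [hm, Nat.cast_inj] at h3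
    rw [h3]; exact Dvd.intro q hq.symm
  -- move `D` to `d · P0`
  have hell : 1 ≤ ell (D - Finsupp.single P0 (d : ℤ)) := by
    have := ell_large hK (D := D - Finsupp.single P0 (d : ℤ)) (by rw [deg_sub, deg_single, hP0, hD, hg0]; simp)
    rw [deg_sub, deg_single, hP0, hD, hg0] at this
    omega
  obtain ⟨z, hz, hz0⟩ := exists_div_of_deg_zero hK (by rw [deg_sub, deg_single, hP0, hD]; simp) hell
  have hzd : D + div k z = Finsupp.single P0 (d : ℤ) := by
    rw [← sub_eq_zero, ← hz0]; abel
  -- `L(d P0)` consists of polynomials in `x`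
  have hpoly : ∀ f ∈ L D, ∃ p : Polynomial k, f = Polynomial.aeval x p * z := by
    intro f hf
    have h1 : f / z ∈ L (Finsupp.single P0 (d : ℤ)) := by
      rw [← hzd, ← mulRight_mem_L hK hz D, div_mul_cancel₀ _ hz]; exact hf
    have hli : LinearIndependent k (fun j : Fin (d + 1) => x ^ (j : ℕ)) :=
      linearIndependent_of_ord_injective P0 _ (fun j => pow_ne_zero _ hx0) fun i j h => by
        simp only [ord_pow, hxo] at h; exact Fin.ext (by omega)
    haveI := finite_L hK.1 (Finsupp.single P0 (d : ℤ))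
    have hspan : Submodule.span k (Set.range fun j : Fin (d + 1) => x ^ (j : ℕ)) = L (Finsupp.single P0 (d : ℤ)) := by
      refine Submodule.eq_of_le_of_finrank_le (Submodule.span_le.2 ?_) ?_
      · rintro _ ⟨j, rfl⟩
        rw [SetLike.mem_coe, mem_L_single_iff P0 (pow_ne_zero _ hx0)]
        refine ⟨by rw [ord_pow, hxo]; have := j.2; omega, fun Q hQ => by rw [ord_pow]; have := hxL.2 Q hQ; positivity⟩
      · rw [finrank_span_eq_card hli, Fintype.card_fin]
        have := hl1 d; simp only [ell] at this; omega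
    rw [← hspan, Submodule.mem_span_range_iff_exists_fun] at h1
    obtain ⟨c, hc⟩ := h1
    refine ⟨∑ j : Fin (d + 1), Polynomial.C (c j) * Polynomial.X ^ (j : ℕ), ?_⟩
    rw [← div_mul_cancel₀ f hz, ← hc]
    simp [Algebra.smul_def]
  -- per place data
  choose v m hv hinj hvo hm hspanV hdim using fun P : Place k K => exists_orders hK hD hV hVr P
  choose p hp using fun (P : Place k K) (i : Fin (r + 1)) => hpoly _ (hV (hv P i).1)
  have hp0 : ∀ P i, p P i ≠ 0 := fun P i h => (hv P i).2 (by rw [hp, h, map_zero, zero_mul])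
  have hord : ∀ P i, (m P i : ℤ) = P.ord (Polynomial.aeval x (p P i)) + Finsupp.single P0 (d : ℤ) P := fun P i => by
    rw [← hvo, ← hzd, Finsupp.add_apply, div_apply hK.1, hp, ord_mul P (hval _ (hp0 P i)) hz]; ring
  have hchange : ∀ P, Wr.wr (p P) ∣ Wr.wr (p P0) := fun P => by
    have hcl : ∀ P P' i, p P i ∈ Submodule.span k (Set.range (p P')) := fun P P' i => by
      have h1 : v P i ∈ Submodule.span k (Set.range (v P')) := hspanV P' ▸ (hv P i).1
      obtain ⟨c, hc⟩ := (Submodule.mem_span_range_iff_exists_fun k).1 h1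
      refine (Submodule.mem_span_range_iff_exists_fun k).2 ⟨c, transcendental_iff_injective.1 hxT ?_⟩
      rw [map_sum]
      refine mul_right_cancel₀ hz ?_
      rw [Finset.sum_mul, ← hp P i, ← hc]
      refine Finset.sum_congr rfl fun j _ => ?_
      rw [map_smul, hp P' j, smul_mul_assoc]
    exact (Wr.exists_wr_change _ _ (hcl P0 P) (hcl P P0)).2
  set I := ∑ i : Fin (r + 1), (i : ℕ)
  have hI := sum_fin_twice r
  have hdeg0 : ∀ i, (p P0 i).natDegree + m P0 i = d := fun i => by
    have := hord P0 i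
    rw [hordP0 _ (hp0 P0 i), Finsupp.single_eq_same] at this
    omega
  obtain ⟨hw, hwd⟩ := Wr.natDegree_wr_le (p P0) (fun i => (p P0 i).natDegree) (fun i => rfl) (hp0 P0)
    (fun i j h => hinj P0 (by have := hdeg0 i; have := hdeg0 j; simp only at h; omega))
  have hsum0 : ∑ i, (p P0 i).natDegree + ∑ i, m P0 i = (r + 1) * d := by
    rw [← Finset.sum_add_distrib, Finset.sum_congr rfl fun i _ => hdeg0 i]; simp
  have hroots : ∀ P, P ≠ P0 → (Polynomial.X - Polynomial.C (aP P)) ^ ((∑ i, m P i) - I) ∣ Wr.wr (p P0) := fun P hP => by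
    refine (Wr.pow_dvd_wr (p P) (aP P) (m P) fun i => ?_).trans (hchange P)
    refine hordP P hP _ (hp0 P i) _ ?_
    have := hord P i
    rw [Finsupp.single_eq_of_ne hP, add_zero] at this
    exact this.symm
  set S' := S.erase P0
  have hinjA : Set.InjOn aP S' := fun P hP Q hQ h => by
    have hP' := (Finset.mem_erase.1 hP).1
    have hQ' := (Finset.mem_erase.1 hQ).1
    have h1 := haP Q hQ'
    rw [← h] at h1
    exact ((hzero _ P (haP P hP')).2 Q h1).symm
  have hb := Wr.sum_le_of_dvd _ hw (S'.image aP) (fun a => if h : ∃ P ∈ S', aP P = a then (∑ i, m h.choose i) - I else 0)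
    fun a ha => by
      obtain ⟨P, hP, rfl⟩ := Finset.mem_image.1 ha
      have h : ∃ Q ∈ S', aP Q = aP P := ⟨P, hP, rfl⟩
      rw [dif_pos h, hinjA h.choose_spec.1 hP h.choose_spec.2]
      exact hroots P (Finset.mem_erase.1 hP).1
  rw [Finset.sum_image hinjA, Finset.sum_congr rfl (g := fun P => (∑ i, m P i) - I) fun P hP => by
    have h : ∃ Q ∈ S', aP Q = aP P := ⟨P, hP, rfl⟩
    rw [dif_pos h, hinjA h.choose_spec.1 hP h.choose_spec.2]] at hb
  have hvs : ∀ P, (vsum V D P d : ℤ) = ∑ i, (m P i : ℤ) := fun P => by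
    rw [vsum_eq hK P (v := v P) (hm P) (hdim P)]; push_cast; rfl
  have hgeI : ∀ P, I ≤ ∑ i, m P i := fun P => sum_range_le_of_injective _ (hinj P)
  have hS' : ∑ P ∈ S', ((2 * vsum V D P d : ℤ) - r * (r + 1)) ≤ 2 * ((Wr.wr (p P0)).natDegree : ℤ) := by
    have h1 : ∑ P ∈ S', ((2 * vsum V D P d : ℤ) - r * (r + 1)) = 2 * ((∑ P ∈ S', ((∑ i, m P i) - I) : ℕ) : ℤ) := by
      rw [Nat.cast_sum, Finset.mul_sum]
      refine Finset.sum_congr rfl fun P _ => ?_
      rw [hvs, Nat.cast_sub (hgeI P)]; have e3 : 2 * (I : ℤ) = (r : ℤ) * (r + 1) := by exact_mod_cast hI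
      push_cast; linarith
    rw [h1]; exact_mod_cast Nat.mul_le_mul_left 2 hb
  have hP0w : (0 : ℤ) ≤ 2 * vsum V D P0 d - r * (r + 1) := by
    have := two_vsum_ge hK hD hV hVr P0
    push_cast at this ⊢
    linarith [(Int.ofNat_le.2 this)]
  have hle : ∑ P ∈ S, ((2 * vsum V D P d : ℤ) - r * (r + 1)) ≤
      ((2 * vsum V D P0 d : ℤ) - r * (r + 1)) + ∑ P ∈ S', ((2 * vsum V D P d : ℤ) - r * (r + 1)) := by
    by_cases hmem : P0 ∈ S
    · rw [← Finset.add_sum_erase S _ hmem]
    · rw [show S' = S from Finset.erase_eq_of_notMem hmem]; omega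
  rw [hvs P0] at hle
  have e1 : ((∑ i, (p P0 i).natDegree : ℕ) : ℤ) + ((∑ i, m P0 i : ℕ) : ℤ) = ((r + 1) * d : ℕ) := by exact_mod_cast hsum0
  have e2 : ((Wr.wr (p P0)).natDegree : ℤ) + (I : ℤ) ≤ ((∑ i, (p P0 i).natDegree : ℕ) : ℤ) := by exact_mod_cast hwd
  have e3 : 2 * (I : ℤ) = (r : ℤ) * (r + 1) := by exact_mod_cast hI
  push_cast at e1 e2
  linarith

end Groth.Agent.FunFldLib
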