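import Groth.Agent.FunFldLib.DiffExp
import Mathlib.RingTheory.Unramified.Field
import Mathlib.FieldTheory.PurelyInseparable.Basic
import Mathlib.FieldTheory.IntermediateField.Algebraic
import Mathlib.FieldTheory.Perfect

/-! Basic properties of geometric function fields. -/

set_option autoImplicit false
set_option maxHeartbeats 800000

open TensorProduct

universe u v

namespace Groth.Agent.FunFldLib

open FunFld

variable {k : Type u} {K : Type v} [Field k] [Field K] [Algebra k K]

local notation "d" => KaehlerDifferential.D k K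

theorem exists_d_ne_zero (hK : IsFunctionField k K) (hg : IsGeometric k K) :
    ∃ s : K, Transcendental k s ∧ Algebra.IsSeparable (IntermediateField.adjoin k ({s} : Set K)) K ∧ d s ≠ 0 := by
  obtain ⟨s, hT, hsep⟩ := exists_separating_el hK hg
  refine ⟨s, hT, hsep, fun h0 => ?_⟩
  haveI := finite_adjoin hK.1 hT
  haveI := hsep
  obtain ⟨H, hH⟩ := exists_family s hT
  have h1 := congrArg (hasseDer hH).liftKaehlerDifferential h0
  rw [Derivation.liftKaehlerDifferential_comp_D, hasseDer_apply, hasseD_self hH, if_neg one_ne_zero, if_pos rfl,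
    map_zero] at h1
  exact one_ne_zero h1

theorem finrank_omega (hK : IsFunctionField k K) (hg : IsGeometric k K) :
    Module.finrank K (Ω[K⁄k]) = 1 := by
  obtain ⟨s, -, -, hs⟩ := exists_d_ne_zero hK hg
  refine finrank_eq_one (d s) hs fun w => ?_
  have hw : w ∈ (⊤ : Submodule K (Ω[K⁄k])) := trivial
  rw [← KaehlerDifferential.span_range_derivation] at hw
  induction hw using Submodule.span_induction with
  | mem w hw => obtain ⟨y, rfl⟩ := hw; obtain ⟨a, ha⟩ := exists_ratio hK hg hs y; exact ⟨a, ha.symm⟩
  | zero => exact ⟨0, zero_smul _ _⟩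
  | add a b _ _ ha hb => obtain ⟨x, rfl⟩ := ha; obtain ⟨y, rfl⟩ := hb; exact ⟨x + y, add_smul _ _ _⟩
  | smul c a _ ha => obtain ⟨x, rfl⟩ := ha; exact ⟨c * x, mul_smul _ _ _⟩

theorem separating_iff (hK : IsFunctionField k K) (hg : IsGeometric k K) (x : K) :
    Algebra.IsSeparable (IntermediateField.adjoin k ({x} : Set K)) K ↔ d x ≠ 0 := by
  obtain ⟨s, -, -, hs⟩ := exists_d_ne_zero hK hg
  constructor
  · intro hsep h0
    exact hs (derivation_vanish x d h0 s)
  · intro hx
    have hT : Transcendental k x := fun halg => hx (by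
      obtain ⟨c, rfl⟩ := hK.2 x halg
      exact Derivation.map_algebraMap _ c)
    haveI := finite_adjoin hK.1 hT
    set E := IntermediateField.adjoin k ({x} : Set K) with hE
    haveI : Subsingleton (Ω[K⁄E]) := by
      refine subsingleton_of_forall_eq 0 fun w => ?_
      have hw : w ∈ (⊤ : Submodule K (Ω[K⁄E])) := trivial
      rw [← KaehlerDifferential.span_range_derivation] at hw
      induction hw using Submodule.span_induction with
      | mem w hw =>
        obtain ⟨y, rfl⟩ := hw
        obtain ⟨a, ha⟩ := exists_ratio hK hg hx y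
        have h1 := congrArg (KaehlerDifferential.map k E K K) ha
        rw [map_smul, KaehlerDifferential.map_D, KaehlerDifferential.map_D, Algebra.algebraMap_self] at h1
        rw [RingHom.id_apply, RingHom.id_apply] at h1
        rw [h1]
        have h2 : KaehlerDifferential.D E K x = 0 :=
          (KaehlerDifferential.D E K).map_algebraMap ⟨x, IntermediateField.mem_adjoin_simple_self k x⟩
        rw [h2, smul_zero]
      | zero => rfl
      | add a b _ _ ha hb => rw [ha, hb, add_zero]
      | smul c a _ ha => rw [ha, smul_zero]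
    haveI : Algebra.FormallyUnramified E K := ⟨inferInstance⟩
    exact Algebra.FormallyUnramified.isSeparable E K

section CharP

variable (p : ℕ) [Fact p.Prime] [CharP K p]

local notation "M" => IntermediateField.adjoin k (Set.range fun y : K => y ^ p)

theorem d_eq_zero_of_mem {x : K} (hx : x ∈ M) : d x = 0 := by
  induction hx using IntermediateField.adjoin_induction with
  | mem x hx =>
    obtain ⟨y, rfl⟩ := hx
    rw [Derivation.leibniz_pow, ← Nat.cast_smul_eq_nsmul K, CharP.cast_eq_zero K p, zero_smul]
  | algebraMap r => exact Derivation.map_algebraMap _ r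
  | add a b _ _ ha hb => rw [map_add, ha, hb, add_zero]
  | inv a _ ha => rw [Derivation.leibniz_inv, ha, smul_zero]
  | mul a b _ _ ha hb => rw [Derivation.leibniz, ha, hb, smul_zero, smul_zero, add_zero]

theorem pow_mem_M (y : K) : y ^ p ∈ M := IntermediateField.subset_adjoin k _ ⟨y, rfl⟩

theorem finrank_M (hK : IsFunctionField k K) (hg : IsGeometric k K) : Module.finrank M K = p := by
  obtain ⟨s, hT, hsep, hs⟩ := exists_d_ne_zero hK hg
  have hp : p.Prime := Fact.out
  haveI := finite_adjoin hK.1 hT
  have hsM : s ∉ M := fun h => hs (d_eq_zero_of_mem p h)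
  have htop : IntermediateField.adjoin M ({s} : Set K) = ⊤ := by
    set L := IntermediateField.adjoin M ({s} : Set K) with hL
    haveI : Algebra.IsSeparable (IntermediateField.adjoin k ({s} : Set K)) K := hsep
    have hle : ∀ y ∈ IntermediateField.adjoin k ({s} : Set K), y ∈ L := fun y hy =>
      (IntermediateField.adjoin_le_iff.2 (Set.singleton_subset_iff.2
        (IntermediateField.mem_adjoin_simple_self M s)) :
        IntermediateField.adjoin k ({s} : Set K) ≤ L.restrictScalars k) hy
    letI : Algebra (IntermediateField.adjoin k ({s} : Set K)) L := (IntermediateField.inclusion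
      (show IntermediateField.adjoin k ({s} : Set K) ≤ L.restrictScalars k from hle)).toRingHom.toAlgebra
    haveI : IsScalarTower (IntermediateField.adjoin k ({s} : Set K)) L K := IsScalarTower.of_algebraMap_eq' rfl
    haveI : Algebra.IsSeparable L K := Algebra.isSeparable_tower_top_of_isSeparable (IntermediateField.adjoin k ({s} : Set K)) L K
    haveI : ExpChar L p := ExpChar.prime hp
    haveI : IsPurelyInseparable L K := (isPurelyInseparable_iff_pow_mem L p).2 fun y =>
      ⟨1, ⟨⟨y ^ p, L.algebraMap_mem ⟨y ^ p, pow_mem_M p y⟩⟩, by rw [pow_one]; rfl⟩⟩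
    have hsur := IsPurelyInseparable.surjective_algebraMap_of_isSeparable L K
    refine eq_top_iff.2 fun y _ => ?_
    obtain ⟨z, rfl⟩ := hsur y
    exact z.2
  set a : M := ⟨s ^ p, pow_mem_M p s⟩
  have hirr : Irreducible (Polynomial.X ^ p - Polynomial.C a) := X_pow_sub_C_irreducible_of_prime hp fun b hb => by
    have h1 : (b : K) ^ p = s ^ p := congrArg Subtype.val hb
    exact hsM (frobenius_inj K p h1 ▸ b.2)
  have hmin : minpoly M s = Polynomial.X ^ p - Polynomial.C a :=
    (minpoly.eq_of_irreducible_of_monic hirr (by simp [a]) (Polynomial.monic_X_pow_sub_C a hp.ne_zero)).symm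
  have hint : IsIntegral M s := ⟨Polynomial.X ^ p - Polynomial.C a, Polynomial.monic_X_pow_sub_C a hp.ne_zero, by simp [a]⟩
  rw [← IntermediateField.finrank_top', ← htop, IntermediateField.adjoin.finrank hint, hmin,
    Polynomial.natDegree_X_pow_sub_C]

theorem mem_M_iff (hK : IsFunctionField k K) (hg : IsGeometric k K) (x : K) : x ∈ M ↔ d x = 0 := by
  refine ⟨d_eq_zero_of_mem p, fun h => ?_⟩
  by_contra hx
  obtain ⟨s, -, -, hs⟩ := exists_d_ne_zero hK hg
  have hp : p.Prime := Fact.out
  have hf := finrank_M p hK hg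
  haveI : FiniteDimensional M K := Module.finite_of_finrank_pos (by rw [hf]; exact hp.pos)
  haveI := IntermediateField.isSimpleOrder_of_finrank_prime M K (hf.symm ▸ hp)
  have htop : IntermediateField.adjoin M ({x} : Set K) = ⊤ := (eq_bot_or_eq_top _).resolve_left fun hbot => by
    rw [IntermediateField.adjoin_simple_eq_bot_iff, IntermediateField.mem_bot] at hbot
    obtain ⟨z, rfl⟩ := hbot
    exact hx z.2
  apply hs
  suffices H : ∀ y ∈ IntermediateField.adjoin M ({x} : Set K), d y = 0 from H s (htop ▸ trivial)
  intro y hy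
  induction hy using IntermediateField.adjoin_induction with
  | mem y hy => rw [Set.mem_singleton_iff] at hy; rw [hy, h]
  | algebraMap r => exact d_eq_zero_of_mem p r.2
  | add a b _ _ ha hb => rw [map_add, ha, hb, add_zero]
  | inv a _ ha => rw [Derivation.leibniz_inv, ha, smul_zero]
  | mul a b _ _ ha hb => rw [Derivation.leibniz, ha, hb, smul_zero, smul_zero, add_zero]

end CharP

theorem irreducible_map_of_closed (hK : ∀ y : K, IsAlgebraic k y → y ∈ Set.range (algebraMap k K))
    {q : Polynomial k} (hqm : q.Monic) (hq : Irreducible q) : Irreducible (q.map (algebraMap k K)) := by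
  have hdeg := hq.natDegree_pos
  refine ⟨fun hu => by
    have := Polynomial.natDegree_eq_zero_of_isUnit hu
    rw [Polynomial.natDegree_map] at this; omega, fun a b hab => ?_⟩
  have hab0 : a * b ≠ 0 := hab ▸ (hqm.map _).ne_zero
  have ha0 := left_ne_zero_of_mul hab0
  have hb0 := right_ne_zero_of_mul hab0
  set g := a * Polynomial.C a.leadingCoeff⁻¹ with hg
  have hgm : g.Monic := Polynomial.monic_mul_leadingCoeff_inv ha0
  have hgd : g ∣ q.map (algebraMap k K) := ⟨Polynomial.C a.leadingCoeff * b, by
    rw [hab, hg, mul_assoc, ← mul_assoc (Polynomial.C a.leadingCoeff⁻¹), ← map_mul,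
      inv_mul_cancel₀ (Polynomial.leadingCoeff_ne_zero.2 ha0), map_one, one_mul]⟩
  have hl : g ∈ Polynomial.lifts (algebraMap k K) := by
    rw [Polynomial.lifts_iff_coeff_lifts]
    exact fun n => hK _ (Polynomial.isIntegral_coeff_of_dvd _ _ hqm hgm hgd n).isAlgebraic
  obtain ⟨g₀, hg₀, -, hg₀m⟩ := Polynomial.lifts_and_degree_eq_and_monic hl hgm
  have hd0 : g₀ ∣ q := (Polynomial.map_dvd_map _ (algebraMap k K).injective hg₀m).1 (hg₀ ▸ hgd)
  have hgdeg : g₀.natDegree = a.natDegree := by
    rw [← Polynomial.natDegree_map (algebraMap k K), hg₀, hg, Polynomial.natDegree_mul_C (inv_ne_zero (Polynomial.leadingCoeff_ne_zero.2 ha0))]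
  rcases hq.dvd_iff.1 hd0 with h | h
  · left
    rw [Polynomial.isUnit_iff_degree_eq_zero, Polynomial.degree_eq_natDegree ha0, ← hgdeg,
      Polynomial.natDegree_eq_zero_of_isUnit h, Nat.cast_zero]
  · right
    have h1 := congrArg Polynomial.natDegree (Polynomial.eq_of_monic_of_associated hqm hg₀m h)
    have h2 := congrArg Polynomial.natDegree hab
    rw [Polynomial.natDegree_map, Polynomial.natDegree_mul ha0 hb0] at h2
    rw [Polynomial.isUnit_iff_degree_eq_zero, Polynomial.degree_eq_natDegree hb0]
    norm_cast
    omega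

theorem geometric_of_perfect [PerfectField k] (hK : IsFunctionField k K) : IsGeometric k K := by
  intro k' _ _ hfin
  obtain ⟨α, hα⟩ := Field.exists_primitive_element k k'
  have hint : IsIntegral k α := IsIntegral.of_finite k α
  haveI : Fact (Irreducible ((minpoly k α).map (algebraMap k K))) :=
    ⟨irreducible_map_of_closed hK.2 (minpoly.monic hint) (minpoly.irreducible hint)⟩
  set qK := (minpoly k α).map (algebraMap k K) with hqK
  have hqK0 : qK ≠ 0 := ((minpoly.monic hint).map _).ne_zero
  let pb := (IntermediateField.adjoin.powerBasis hint).map ((IntermediateField.equivOfEq hα).trans IntermediateField.topEquiv)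
  have hgen : pb.gen = α := by simp [pb]
  let f : k' →ₐ[k] AdjoinRoot qK := pb.lift (AdjoinRoot.root qK) (by
    rw [hgen, ← Polynomial.aeval_map_algebraMap K]
    exact AdjoinRoot.aeval_eq qK ▸ AdjoinRoot.mk_self)
  let Φ : K ⊗[k] k' →ₐ[K] AdjoinRoot qK := Algebra.TensorProduct.lift (Algebra.ofId K _) f fun _ _ => .all _ _
  have hsur : Function.Surjective Φ := by
    rw [← AlgHom.range_eq_top, eq_top_iff, ← AdjoinRoot.adjoinRoot_eq_top, Algebra.adjoin_le_iff, Set.singleton_subset_iff]
    refine ⟨(1 : K) ⊗ₜ α, ?_⟩
    show Algebra.TensorProduct.lift (Algebra.ofId K _) f _ _ = _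
    rw [Algebra.TensorProduct.lift_tmul, map_one, one_mul, ← hgen, PowerBasis.lift_gen]
  haveI : FiniteDimensional k k' := hfin
  haveI : FiniteDimensional K (AdjoinRoot qK) := (AdjoinRoot.powerBasis hqK0).finite
  have hrank : Module.finrank K (K ⊗[k] k') = Module.finrank K (AdjoinRoot qK) := by
    rw [Module.finrank_baseChange, (AdjoinRoot.powerBasis hqK0).finrank, AdjoinRoot.powerBasis_dim, hqK,
      Polynomial.natDegree_map, pb.finrank, ← pb.natDegree_minpoly, hgen]
  have hbij : Function.Bijective Φ :=
    ⟨(LinearMap.injective_iff_surjective_of_finrank_eq_finrank hrank (f := Φ.toLinearMap)).2 hsur, hsur⟩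
  exact ((Algebra.TensorProduct.comm k k' K).toRingEquiv.trans (AlgEquiv.ofBijective Φ hbij).toRingEquiv).toMulEquiv.isField
    (Field.toIsField _)

end Groth.Agent.FunFldLib
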