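import Groth.Agent.FunFldLib.GeomBasic
import Mathlib.FieldTheory.PurelyInseparable.PerfectClosure

/-! The field `k K^p` and separable places. -/

set_option autoImplicit false
set_option maxHeartbeats 800000

open WithZero

universe u v

namespace Groth.Agent.FunFldLib

open FunFld

variable {k : Type u} {K : Type v} [Field k] [Field K] [Algebra k K] (p : ℕ) [Fact p.Prime] [CharP K p]

local notation "M" => IntermediateField.adjoin k (Set.range fun y : K => y ^ p)

theorem insep_deg_iff (hK : IsFunctionField k K) (hg : IsGeometric k K) (K₀ : IntermediateField k K) :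
    (IsPurelyInseparable K₀ K ∧ Module.finrank K₀ K = p) ↔ K₀ = M := by
  have hp : p.Prime := Fact.out
  haveI : ExpChar K₀ p := ExpChar.prime hp
  constructor
  · rintro ⟨hpi, hd⟩
    haveI := hpi
    haveI : FiniteDimensional K₀ K := Module.finite_of_finrank_pos (by rw [hd]; exact hp.pos)
    have hle : M ≤ K₀ := IntermediateField.adjoin_le_iff.2 fun z hz => by
      obtain ⟨y, rfl⟩ := hz
      obtain ⟨n, a, ha⟩ := IsPurelyInseparable.minpoly_eq_X_pow_sub_C K₀ p y
      have hdeg : p ^ n ∣ p := by
        have := minpoly.degree_dvd (K := K₀) (x := y) (IsIntegral.of_finite K₀ y)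
        rwa [ha, Polynomial.natDegree_X_pow_sub_C, hd] at this
      have hy : y ^ p ^ n = (a : K) := by
        have := minpoly.aeval K₀ y
        rw [ha, map_sub, map_pow, Polynomial.aeval_X, Polynomial.aeval_C, sub_eq_zero] at this
        exact this
      obtain ⟨r, hr⟩ := hdeg
      show y ^ p ∈ K₀
      conv => arg 2; rw [hr]
      rw [pow_mul, hy]
      exact pow_mem a.2 r
    haveI : FiniteDimensional M K := Module.finite_of_finrank_pos (by rw [finrank_M p hK hg]; exact hp.pos)
    exact (IntermediateField.eq_of_le_of_finrank_eq' hle ((finrank_M p hK hg).trans hd.symm)).symm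
  · rintro rfl
    exact ⟨(isPurelyInseparable_iff_pow_mem _ p).2 fun y => ⟨1, ⟨⟨y ^ p, pow_mem_M p y⟩, by rw [pow_one]; rfl⟩⟩,
      finrank_M p hK hg⟩

theorem isFunctionField_M (hK : IsFunctionField k K) (hg : IsGeometric k K) : IsFunctionField k M := by
  have hp : p.Prime := Fact.out
  obtain ⟨⟨x, hx, hfin⟩, hc⟩ := hK
  haveI : FiniteDimensional M K := Module.finite_of_finrank_pos (by rw [finrank_M p ⟨⟨x, hx, hfin⟩, hc⟩ hg]; exact hp.pos)
  refine ⟨⟨⟨x ^ p, pow_mem_M p x⟩, ?_, ?_⟩, fun y hy => ?_⟩
  · intro h
    have h2 : IsAlgebraic k (x ^ p) :=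
      (isAlgebraic_algHom_iff (IntermediateField.val M) Subtype.val_injective).2 h
    exact hx (IsAlgebraic.of_pow hp.pos h2)
  · set E := IntermediateField.adjoin k ({(⟨x ^ p, pow_mem_M p x⟩ : M)} : Set M)
    set E' := IntermediateField.adjoin k ({x ^ p} : Set K)
    have hmap : E.map (IntermediateField.val M) = E' := by
      rw [IntermediateField.adjoin_map]; simp [E']
    haveI : FiniteDimensional E' K := finite_adjoin ⟨x, hx, hfin⟩ (fun h => hx (IsAlgebraic.of_pow hp.pos h))
    let e : E ≃ₐ[k] E' := (E.equivMap (IntermediateField.val M)).trans (IntermediateField.equivOfEq hmap)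
    haveI : Module.Finite E K := by
      obtain ⟨S, hS⟩ := (Module.Finite.fg_top : (⊤ : Submodule E' K).FG)
      refine ⟨⟨S, eq_top_iff.2 fun z _ => ?_⟩⟩
      have hz : z ∈ Submodule.span E' (S : Set K) := hS ▸ Submodule.mem_top
      induction hz using Submodule.span_induction with
      | mem z hz => exact Submodule.subset_span hz
      | zero => exact zero_mem _
      | add a b _ _ ha hb => exact add_mem (ha trivial) (hb trivial)
      | smul c a _ ha =>
        have hc : (c : K) = ((e.symm c : E) : M) := congrArg Subtype.val (e.apply_symm_apply c).symm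
        rw [IntermediateField.smul_def, hc]
        exact Submodule.smul_mem _ (e.symm c) (ha trivial)
    exact Module.Finite.of_injective ((IsScalarTower.toAlgHom E M K).toLinearMap) Subtype.val_injective
  · obtain ⟨c, hc'⟩ := hc (y : K) ((isAlgebraic_algHom_iff (IntermediateField.val M) Subtype.val_injective).2 hy)
    exact ⟨c, Subtype.ext hc'⟩

include p in
theorem d_param_ne_zero (hK : IsFunctionField k K) (hg : IsGeometric k K) (P : Place k K)
    [Algebra.IsSeparable k (IsLocalRing.ResidueField P.O)] {t : K} (ht : P.1 t = exp (-1)) :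
    KaehlerDifferential.D k K t ≠ 0 := by
  intro h0
  have hp : p.Prime := Fact.out
  have htM : t ∈ M := (mem_M_iff p hK hg t).2 h0
  haveI : FiniteDimensional M K := Module.finite_of_finrank_pos (by rw [finrank_M p hK hg]; exact hp.pos)
  have hM := isFunctionField_M p hK hg
  obtain ⟨P₀, e, he⟩ := exists_restrict (K := M) hM.1 P
  haveI : CharP k p := (algebraMap k K).charP (algebraMap k K).injective p
  haveI : ExpChar k p := ExpChar.prime hp
  haveI hfin : @Module.Finite k (IsLocalRing.ResidueField P.O) _ _ Algebra.toModule := finite_residue hK.1 P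
  have hsur : Function.Surjective (resMap he) := fun z => by
    obtain ⟨w, rfl⟩ := IsLocalRing.residue_surjective z
    set F := (resMap he).fieldRange
    have hzp : IsLocalRing.residue P.O w ^ p ∈ F := by
      have hle : P₀.1 ⟨(w : K) ^ p, pow_mem_M p (w : K)⟩ ≤ 1 := by
        refine (pow_le_one_iff (show e ≠ 0 by have := isOverWith_pos he; omega)).1 ((he _).symm.trans_le ?_)
        show P.1 ((w : K) ^ p) ≤ 1
        rw [map_pow]; exact pow_le_one₀ zero_le ((Valuation.mem_valuationSubring_iff P.1 _).1 w.2)
      refine ⟨IsLocalRing.residue P₀.O ⟨_, (Valuation.mem_valuationSubring_iff P₀.1 _).2 hle⟩, ?_⟩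
      show IsLocalRing.residue P.O _ = _
      rw [← map_pow]
      rfl
    have hs := IntermediateField.adjoin_simple_eq_adjoin_pow_expChar_of_isSeparable' k (IsLocalRing.ResidueField P.O)
      (a := IsLocalRing.residue P.O w) p
    have : IntermediateField.adjoin k {IsLocalRing.residue P.O w} ≤ F := by
      rw [hs, IntermediateField.adjoin_simple_le_iff]; exact hzp
    exact AlgHom.mem_fieldRange.1 (this (IntermediateField.mem_adjoin_simple_self k _))
  have hd : P.deg = P₀.deg := by
    refine le_antisymm ?_ (deg_le_of_over hM.1 he)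
    haveI := finite_residue hM.1 P₀
    exact LinearMap.finrank_le_finrank_of_surjective (f := (resMap he).toLinearMap) hsur
  classical
  have hep : p ≤ e := by
    have hsum := sum_ram_mul_deg hM P₀ (finite_over (K' := K) hM.1 P₀).toFinset fun Q' => by simp
    rw [finrank_M p hK hg] at hsum
    have huniq : (finite_over (K' := K) hM.1 P₀).toFinset = {P} := by
      refine Finset.eq_singleton_iff_unique_mem.2 ⟨by rw [Set.Finite.mem_toFinset]; exact ⟨e, he⟩, fun Q' hQ' => ?_⟩
      rw [Set.Finite.mem_toFinset] at hQ'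
      obtain ⟨e', he'⟩ := hQ'
      refine eq_of_forall_le_one fun x hx => ?_
      have h1 := he' ⟨x ^ p, pow_mem_M p x⟩
      have h2 := he ⟨x ^ p, pow_mem_M p x⟩
      have hx' : (algebraMap M K ⟨x ^ p, pow_mem_M p x⟩) = x ^ p := rfl
      rw [hx', map_pow] at h1 h2
      have h3 : P₀.1 ⟨x ^ p, pow_mem_M p x⟩ ≤ 1 :=
        (pow_le_one_iff (show e' ≠ 0 by have := isOverWith_pos he'; omega)).1 (h1.symm.trans_le (pow_le_one₀ zero_le hx))
      exact (pow_le_one_iff hp.ne_zero).1 (h2.trans_le (pow_le_one₀ zero_le h3))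
    rw [huniq, Finset.sum_singleton] at hsum
    have hr : ramIdx P P₀ = e := by
      obtain ⟨hb, he''⟩ := place_unique (isOverWith_below hM.1 P) he
      rw [← hb, ramIdx_below, he'']
    rw [hr, hd] at hsum
    have := Nat.eq_of_mul_eq_mul_right (deg_pos hM.1 P₀) hsum
    omega
  have h1 := ord_algebraMap_eq he ⟨t, htM⟩
  rw [show algebraMap M K ⟨t, htM⟩ = t from rfl, (ord_param ht).2] at h1
  have h2 := Int.eq_one_of_mul_eq_one_right (Int.natCast_nonneg e) h1.symm
  have h3 := hp.two_le
  omega

end Groth.Agent.FunFldLib
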