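import Groth.Statements.S12588
import Mathlib.RingTheory.PolynomialAlgebra
import Mathlib.FieldTheory.RatFunc.AsPolynomial
import Mathlib.RingTheory.IntegralClosure.IsIntegralClosure.Basic

/-! The rational function field is geometric. -/

set_option autoImplicit false
set_option maxHeartbeats 800000

open TensorProduct Polynomial

universe u

namespace Groth.Agent.FunFldLib

open FunFld

variable (k : Type u) [Field k] (k' : Type u) [Field k'] [Algebra k k']

/-- `k(x) → k'(x)` -/
noncomputable def ratBase : RatFunc k →ₐ[k] RatFunc k' :=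
  RatFunc.liftAlgHom ((IsScalarTower.toAlgHom k (Polynomial k') (RatFunc k')).comp (Polynomial.mapAlgHom (Algebra.ofId k k')))
    fun q hq => by
      rw [Submonoid.mem_comap, mem_nonZeroDivisors_iff_ne_zero]
      exact (map_ne_zero_iff _ (RatFunc.algebraMap_injective k')).2
        ((Polynomial.map_ne_zero_iff (algebraMap k k').injective).2 (nonZeroDivisors.ne_zero hq))

theorem ratFunc_isGeometric : IsGeometric k (RatFunc k) := by
  intro k' _ _ hfin
  let Φ : k' ⊗[k] RatFunc k →ₐ[k] RatFunc k' :=
    Algebra.TensorProduct.productMap (IsScalarTower.toAlgHom k k' (RatFunc k')) (ratBase k k')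
  let ιp : k' ⊗[k] Polynomial k →ₐ[k] k' ⊗[k] RatFunc k :=
    Algebra.TensorProduct.map (AlgHom.id k k') (IsScalarTower.toAlgHom k (Polynomial k) (RatFunc k))
  have hbase : ∀ q : Polynomial k, ratBase k k' (algebraMap _ (RatFunc k) q) =
      algebraMap (Polynomial k') (RatFunc k') (q.map (algebraMap k k')) := fun q => by
    rw [ratBase, RatFunc.liftAlgHom_apply]
    simp
  have hpoly : ∀ p : k' ⊗[k] Polynomial k, Φ (ιp p) = 0 → p = 0 := by
    have hcomm : ∀ p : k' ⊗[k] Polynomial k,
        Φ (ιp p) = algebraMap (Polynomial k') (RatFunc k') ((polyEquivTensor k k').symm p) := by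
      intro p
      induction p using TensorProduct.induction_on with
      | zero => simp
      | add a b ha hb => simp only [map_add, ha, hb]
      | tmul c q =>
        simp only [ιp, Φ, Algebra.TensorProduct.map_tmul, Algebra.TensorProduct.productMap_apply_tmul,
          AlgHom.id_apply, IsScalarTower.toAlgHom_apply, hbase, polyEquivTensor_symm_apply_tmul_eq_smul]
        rw [Polynomial.smul_eq_C_mul, map_mul, RatFunc.algebraMap_C, ← RatFunc.algebraMap_eq_C]
    intro p hp
    rw [hcomm] at hp
    exact (polyEquivTensor k k').symm.injective ((RatFunc.algebraMap_injective k' (hp.trans (map_zero _).symm)).trans (map_zero _).symm)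
  have hclear : ∀ t : k' ⊗[k] RatFunc k, ∃ (q : Polynomial k) (p : k' ⊗[k] Polynomial k), q ≠ 0 ∧
      t * ((1 : k') ⊗ₜ[k] algebraMap _ (RatFunc k) q) = ιp p := by
    intro t
    induction t using TensorProduct.induction_on with
    | zero => exact ⟨1, 0, one_ne_zero, by rw [zero_mul, map_zero]⟩
    | tmul c r =>
      refine ⟨r.denom, c ⊗ₜ r.num, r.denom_ne_zero, ?_⟩
      rw [Algebra.TensorProduct.tmul_mul_tmul, mul_one]
      simp only [ιp, Algebra.TensorProduct.map_tmul, AlgHom.id_apply, IsScalarTower.toAlgHom_apply]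
      congr 1
      conv_lhs => arg 1; rw [← RatFunc.num_div_denom r]
      rw [div_mul_cancel₀ _ (RatFunc.algebraMap_ne_zero r.denom_ne_zero)]
    | add a b ha hb =>
      obtain ⟨q, p, hq, e⟩ := ha
      obtain ⟨q', p', hq', e'⟩ := hb
      refine ⟨q * q', p * ((1 : k') ⊗ₜ q') + p' * ((1 : k') ⊗ₜ q), mul_ne_zero hq hq', ?_⟩
      rw [map_add, map_mul ιp, map_mul ιp, ← e, ← e']
      simp only [ιp, Algebra.TensorProduct.map_tmul, AlgHom.id_apply, IsScalarTower.toAlgHom_apply, map_mul]
      rw [mul_assoc a, mul_assoc b, Algebra.TensorProduct.tmul_mul_tmul, Algebra.TensorProduct.tmul_mul_tmul, mul_one,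
        mul_comm (algebraMap _ (RatFunc k) q') (algebraMap _ (RatFunc k) q), add_mul]
  have hinj : Function.Injective Φ := by
    refine (injective_iff_map_eq_zero Φ).2 fun t ht => ?_
    obtain ⟨q, p, hq, e⟩ := hclear t
    have h1 : Φ (ιp p) = 0 := by rw [← e, map_mul, ht, zero_mul]
    rw [hpoly p h1, map_zero] at e
    have hu : IsUnit ((1 : k') ⊗ₜ[k] algebraMap (Polynomial k) (RatFunc k) q) :=
      ((RatFunc.algebraMap_ne_zero hq).isUnit).map (Algebra.TensorProduct.includeRight : RatFunc k →ₐ[k] k' ⊗[k] RatFunc k)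
    exact hu.mul_left_eq_zero.1 e
  haveI : IsDomain (k' ⊗[k] RatFunc k) := Function.Injective.isDomain Φ.toRingHom hinj
  letI : Algebra (RatFunc k) (k' ⊗[k] RatFunc k) := Algebra.TensorProduct.rightAlgebra
  haveI : Module.Finite (RatFunc k) (k' ⊗[k] RatFunc k) :=
    Module.Finite.equiv (Algebra.TensorProduct.commRight k (RatFunc k) k').toLinearEquiv
  exact isField_of_isIntegral_of_isField' (R := RatFunc k) (Field.toIsField _)

end Groth.Agent.FunFldLib
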