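import Groth.Agent.FunFldLib.GeomBasic
import Groth.Agent.FunFldLib.RatGeometric
import Mathlib.FieldTheory.RatFunc.AsPolynomial
import Mathlib.FieldTheory.SeparableClosure
import Mathlib.RingTheory.Unramified.Field
import Mathlib.FieldTheory.PurelyInseparable.Basic

/-! Separably generated function fields with closed constants are geometric. -/

set_option autoImplicit false
set_option maxHeartbeats 1000000

open TensorProduct

universe u v

namespace Groth.Agent.FunFldLib

open FunFld

variable {k : Type u} {K : Type v} [Field k] [Field K] [Algebra k K]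

theorem isField_of_separable (hK : IsFunctionField k K) (k' : Type u) [Field k'] [Algebra k k'] [FiniteDimensional k k']
    [Algebra.IsSeparable k k'] : IsField (k' ⊗[k] K) := by
  obtain ⟨α, hα⟩ := Field.exists_primitive_element k k'
  have hint : IsIntegral k α := IsIntegral.of_finite k α
  haveI : Fact (Irreducible ((minpoly k α).map (algebraMap k K))) :=
    ⟨irreducible_map_of_closed hK.2 (minpoly.monic hint) (minpoly.irreducible hint)⟩
  set qK := (minpoly k α).map (algebraMap k K) with hqK
  have hqK0 : qK ≠ 0 := ((minpoly.monic hint).map _).ne_zero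
  let pb := (IntermediateField.adjoin.powerBasis hint).map ((IntermediateField.equivOfEq hα).trans IntermediateField.topEquiv)
  have hgen : pb.gen = α := by simp [pb]
  let f : k' →ₐ[k] AdjoinRoot qK := pb.lift (AdjoinRoot.root qK) (by
    rw [hgen, ← Polynomial.aeval_map_algebraMap K]
    exact AdjoinRoot.aeval_eq qK ▸ AdjoinRoot.mk_self)
  let Φ : K ⊗[k] k' →ₐ[K] AdjoinRoot qK := Algebra.TensorProduct.lift (Algebra.ofId K _) f fun _ _ => .all _ _
  have hsur : Function.Surjective Φ := by
    rw [← AlgHom.range_eq_top, eq_top_iff, ← AdjoinRoot.adjoinRoot_eq_top, Algebra.adjoin_le_iff, Set.singleton_subset_iff]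
    refine ⟨(1 : K) ⊗ₜ α, ?_⟩
    show Algebra.TensorProduct.lift (Algebra.ofId K _) f _ _ = _
    rw [Algebra.TensorProduct.lift_tmul, map_one, one_mul, ← hgen, PowerBasis.lift_gen]
  haveI : FiniteDimensional K (AdjoinRoot qK) := (AdjoinRoot.powerBasis hqK0).finite
  have hrank : Module.finrank K (K ⊗[k] k') = Module.finrank K (AdjoinRoot qK) := by
    rw [Module.finrank_baseChange, (AdjoinRoot.powerBasis hqK0).finrank, AdjoinRoot.powerBasis_dim, hqK,
      Polynomial.natDegree_map, pb.finrank, ← pb.natDegree_minpoly, hgen]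
  have hbij : Function.Bijective Φ :=
    ⟨(LinearMap.injective_iff_surjective_of_finrank_eq_finrank hrank (f := Φ.toLinearMap)).2 hsur, hsur⟩
  exact ((Algebra.TensorProduct.comm k k' K).toRingEquiv.trans (AlgEquiv.ofBijective Φ hbij).toRingEquiv).toMulEquiv.isField
    (Field.toIsField _)

theorem isReduced_tensor_aux (F : Type v) [Field F] [Algebra k F] [Algebra F K] [IsScalarTower k F K]
    [Algebra.IsSeparable F K] [FiniteDimensional F K] (k' : Type u) [Field k'] [Algebra k k']
    (hL : IsField (F ⊗[k] k')) : IsReduced (k' ⊗[k] K) := by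
  haveI : Algebra.FormallyUnramified F K := Algebra.FormallyUnramified.of_isSeparable F K
  haveI : (⊥ : Ideal (F ⊗[k] k')).IsMaximal := by
    haveI : Nontrivial (F ⊗[k] k') := ⟨hL.exists_pair_ne⟩
    refine Ideal.isMaximal_iff.2 ⟨fun h => one_ne_zero ((Submodule.mem_bot _).1 h), fun J x _ hx hxJ => ?_⟩
    obtain ⟨y, hy⟩ := hL.mul_inv_cancel (show x ≠ 0 from fun h => hx ((Submodule.mem_bot _).2 h))
    exact hy ▸ J.mul_mem_right y hxJ
  letI := Ideal.Quotient.field (⊥ : Ideal (F ⊗[k] k'))
  haveI : IsReduced (((F ⊗[k] k') ⧸ (⊥ : Ideal (F ⊗[k] k'))) ⊗[F] K) :=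
    Algebra.FormallyUnramified.isReduced_of_field ((F ⊗[k] k') ⧸ (⊥ : Ideal (F ⊗[k] k'))) _
  let e₂ := Algebra.TensorProduct.congr (AlgEquiv.quotientBot F (F ⊗[k] k')) (AlgEquiv.refl : K ≃ₐ[F] K)
  haveI : IsReduced ((F ⊗[k] k') ⊗[F] K) := isReduced_of_injective e₂.symm e₂.symm.injective
  let E : (F ⊗[k] k') ⊗[F] K ≃+* k' ⊗[k] K :=
    (Algebra.TensorProduct.comm F (F ⊗[k] k') K).toRingEquiv.trans
      ((Algebra.TensorProduct.cancelBaseChange k F F K k').toRingEquiv.trans
        (Algebra.TensorProduct.comm k K k').toRingEquiv)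
  exact isReduced_of_injective E.symm E.symm.injective

theorem isReduced_tensor (hK : IsFunctionField k K) {s : K} (hs : Transcendental k s)
    [Algebra.IsSeparable (IntermediateField.adjoin k ({s} : Set K)) K]
    (k' : Type u) [Field k'] [Algebra k k'] [hfin : FiniteDimensional k k'] : IsReduced (k' ⊗[k] K) := by
  haveI := finite_adjoin hK.1 hs
  let e : RatFunc k ≃ₐ[k] IntermediateField.adjoin k ({s} : Set K) := RatFunc.algEquivOfTranscendental s hs
  exact isReduced_tensor_aux (IntermediateField.adjoin k ({s} : Set K)) k'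
    (((Algebra.TensorProduct.comm k (IntermediateField.adjoin k ({s} : Set K)) k').toRingEquiv.trans
      (Algebra.TensorProduct.congr (AlgEquiv.refl : k' ≃ₐ[k] k') e.symm).toRingEquiv).toMulEquiv.isField
      (ratFunc_isGeometric k k' hfin))

theorem isField_insep_aux (ks k' : Type u) [Field ks] [Field k'] [Algebra k ks] [Algebra k k'] [Algebra ks k']
    [IsScalarTower k ks k'] [IsPurelyInseparable ks k'] [IsReduced (k' ⊗[k] K)]
    (hB : IsField (ks ⊗[k] K)) : IsField (k' ⊗[k] K) := by
  set q := ringExpChar k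
  haveI : ExpChar k q := ringExpChar.of_eq rfl
  haveI : ExpChar ks q := expChar_of_injective_algebraMap (algebraMap k ks).injective q
  let f : ks ⊗[k] K →ₐ[k] k' ⊗[k] K := Algebra.TensorProduct.map (IsScalarTower.toAlgHom k ks k') (AlgHom.id k K)
  haveI : Nontrivial (k' ⊗[k] K) :=
    (Algebra.TensorProduct.includeRight_injective (A := k') (B := K) (algebraMap k k').injective).nontrivial
  haveI : ExpChar (k' ⊗[k] K) q := expChar_of_injective_algebraMap (algebraMap k (k' ⊗[k] K)).injective q
  have hpow : ∀ a : k' ⊗[k] K, ∃ (n : ℕ) (b : ks ⊗[k] K), a ^ q ^ n = f b := by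
    intro a
    induction a using TensorProduct.induction_on with
    | zero => exact ⟨0, 0, by simp⟩
    | tmul c y =>
      obtain ⟨n, b, hb⟩ := IsPurelyInseparable.pow_mem ks q c
      refine ⟨n, b ⊗ₜ (y ^ q ^ n), ?_⟩
      rw [Algebra.TensorProduct.tmul_pow, ← hb]
      rfl
    | add x y hx hy =>
      obtain ⟨n, b, hb⟩ := hx
      obtain ⟨m, c, hc⟩ := hy
      refine ⟨n + m, b ^ q ^ m + c ^ q ^ n, ?_⟩
      rw [add_pow_expChar_pow, map_add, map_pow, map_pow, ← hb, ← hc, ← pow_mul, ← pow_mul, ← pow_add, ← pow_add,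
        add_comm m n]
  refine ⟨exists_pair_ne _, mul_comm, fun {a} ha => ?_⟩
  obtain ⟨n, b, hb⟩ := hpow a
  have hb0 : b ≠ 0 := fun h => pow_ne_zero (q ^ n) ha (by rw [hb, h, map_zero])
  obtain ⟨c, hc⟩ := hB.mul_inv_cancel hb0
  exact isUnit_iff_exists_inv.1 ((isUnit_pow_iff (pow_ne_zero n (expChar_pos ks q).ne')).1
    (hb ▸ isUnit_iff_exists_inv.2 ⟨f c, by rw [← map_mul, hc, map_one]⟩))

theorem geometric_of_separating (hK : IsFunctionField k K) {s : K} (hs : Transcendental k s)
    [Algebra.IsSeparable (IntermediateField.adjoin k ({s} : Set K)) K] : IsGeometric k K := by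
  intro k' _ _ hfin
  haveI := isReduced_tensor hK hs k'
  exact isField_insep_aux (separableClosure k k') k' (isField_of_separable hK (separableClosure k k'))

end Groth.Agent.FunFldLib
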