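import Groth.Prelude.Def_W4c6gradedringsgwSect
import Groth.Agent.FunFldLib.Gaps
import Groth.Agent.FunFldLib.MapDiv
import Mathlib.Algebra.MonoidAlgebra.MapDomain

/-! The associated graded of the section ring of a point: the semigroup algebra. -/

set_option autoImplicit false

open WithZero Polynomial

namespace Groth.Agent.FunFldLib

open FunFld W4c6gradedringsgw

variable {k K : Type*} [Field k] [Field K] [Algebra k K]

/-- the constant term of an integral element -/
noncomputable def resC (P : Place k K) (z : K) : k :=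
  open Classical in if h : ∃ c : k, P.1 (z - algebraMap k K c) < 1 then h.choose else 0

theorem resC_eq {P : Place k K} {z : K} {c : k} (h : P.1 (z - algebraMap k K c) < 1) : resC P z = c := by
  have h' : ∃ c : k, P.1 (z - algebraMap k K c) < 1 := ⟨c, h⟩
  rw [resC, dif_pos h']
  exact const_unique h'.choose_spec h

theorem resC_zero (P : Place k K) : resC P (0 : K) = (0 : k) := resC_eq (by
  rw [map_zero, sub_zero, map_zero]; exact zero_lt_one)

theorem resC_one (P : Place k K) : resC P (1 : K) = (1 : k) := resC_eq (by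
  rw [map_one, sub_self, map_zero]; exact zero_lt_one)

theorem resC_algebraMap (P : Place k K) (c : k) : resC P (algebraMap k K c) = c := resC_eq (by
  rw [sub_self, map_zero]; exact zero_lt_one)

theorem resC_spec [IsAlgClosed k] (hK : IsFunctionField k K) (P : Place k K) {z : K} (hz : P.1 z ≤ 1) :
    P.1 (z - algebraMap k K (resC P z)) < 1 := by
  obtain ⟨c, hc⟩ := exists_const hK P hz
  rwa [resC_eq hc]

theorem resC_add [IsAlgClosed k] (hK : IsFunctionField k K) (P : Place k K) {y z : K} (hy : P.1 y ≤ 1) (hz : P.1 z ≤ 1) :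
    resC P (y + z) = resC P y + resC P z := resC_eq (by
  rw [map_add, add_sub_add_comm]
  exact (P.1.map_add _ _).trans_lt (max_lt (resC_spec hK P hy) (resC_spec hK P hz)))

theorem resC_mul [IsAlgClosed k] (hK : IsFunctionField k K) (P : Place k K) {y z : K} (hy : P.1 y ≤ 1) (hz : P.1 z ≤ 1) :
    resC P (y * z) = resC P y * resC P z := resC_eq (by
  rw [map_mul, show y * z - algebraMap k K (resC P y) * algebraMap k K (resC P z) =
    (y - algebraMap k K (resC P y)) * z + algebraMap k K (resC P y) * (z - algebraMap k K (resC P z)) by ring]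
  refine (P.1.map_add _ _).trans_lt (max_lt ?_ ?_) <;> rw [map_mul]
  · exact (mul_le_of_le_one_right' hz).trans_lt (resC_spec hK P hy)
  · exact (mul_le_of_le_one_left' (P.2.1 _)).trans_lt (resC_spec hK P hz))

theorem resC_sum [IsAlgClosed k] (hK : IsFunctionField k K) (P : Place k K) {ι : Type*} (s : Finset ι) {f : ι → K}
    (hf : ∀ i ∈ s, P.1 (f i) ≤ 1) : resC P (∑ i ∈ s, f i) = ∑ i ∈ s, resC P (f i) := by
  classical
  induction s using Finset.induction with
  | empty => rw [Finset.sum_empty, Finset.sum_empty, resC_zero]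
  | insert a s ha ih =>
    rw [Finset.sum_insert ha, Finset.sum_insert ha, resC_add hK P (hf a (Finset.mem_insert_self a s))
      (P.1.map_sum_le fun i hi => hf i (Finset.mem_insert_of_mem hi)), ih fun i hi => hf i (Finset.mem_insert_of_mem hi)]

theorem zsmul_single_one (P : Place k K) (n : ℤ) :
    n • (Finsupp.single P 1 : Divisor k K) = Finsupp.single P n := by
  rw [Finsupp.smul_single, smul_eq_mul, mul_one]

variable [IsAlgClosed k] (hK : IsFunctionField k K) (P : Place k K) {π : K} (hπ : P.1 π = exp (-1))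

include hπ in
theorem int_coeff (p : sectRing (Finsupp.single P 1 : Divisor k K)) (n : ℕ) :
    P.1 ((p : K[X]).coeff n * π ^ n) ≤ 1 := by
  have h := p.2 n P
  rw [zsmul_single_one, Finsupp.single_eq_same] at h
  rw [map_mul, map_pow, hπ, ← exp_nsmul, nsmul_eq_mul, mul_neg, mul_one]
  calc P.1 ((p : K[X]).coeff n) * exp (-(n : ℤ)) ≤ exp (n : ℤ) * exp (-(n : ℤ)) := mul_le_mul' h le_rfl
    _ = 1 := by rw [← exp_add, add_neg_cancel, exp_zero]

/-- the leading coefficient map -/
noncomputable def lc (π : K) (p : sectRing (Finsupp.single P 1 : Divisor k K)) (n : ℕ) : k :=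
  resC P ((p : K[X]).coeff n * π ^ n)

include hK hπ in
theorem lc_mul (p q : sectRing (Finsupp.single P 1 : Divisor k K)) (n : ℕ) :
    lc P π (p * q) n = ∑ x ∈ Finset.HasAntidiagonal.antidiagonal n, lc P π p x.1 * lc P π q x.2 := by
  simp only [lc]
  rw [Subalgebra.coe_mul, coeff_mul, Finset.sum_mul,
    Finset.sum_congr rfl fun x hx => show (p : K[X]).coeff x.1 * (q : K[X]).coeff x.2 * π ^ n =
      ((p : K[X]).coeff x.1 * π ^ x.1) * ((q : K[X]).coeff x.2 * π ^ x.2) by
        rw [← Finset.HasAntidiagonal.mem_antidiagonal.1 hx, pow_add]; ring,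
    resC_sum hK P _ fun x _ => by
      rw [map_mul]; exact mul_le_one' (int_coeff P hπ p _) (int_coeff P hπ q _)]
  exact Finset.sum_congr rfl fun x _ => resC_mul hK P (int_coeff P hπ p _) (int_coeff P hπ q _)

include hK hπ in
theorem lc_support (p : sectRing (Finsupp.single P 1 : Divisor k K)) {n : ℕ} (h : lc P π p n ≠ 0) :
    n ∈ (p : K[X]).support := by
  rw [Polynomial.mem_support_iff]
  intro h0
  refine h ?_
  rw [lc, h0, zero_mul, resC_zero]

/-- the map to the semigroup algebra inside the polynomial ring -/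
noncomputable def grHom : sectRing (Finsupp.single P 1 : Divisor k K) →ₐ[k] k[X] where
  toFun p := ∑ n ∈ (p : K[X]).support, C (lc P π p n) * X ^ n
  map_one' := by
    ext m
    simp only [finset_sum_coeff, coeff_C_mul_X_pow]
    rw [Finset.sum_ite_eq]
    simp only [lc, OneMemClass.coe_one, Polynomial.mem_support_iff, coeff_one]
    rcases eq_or_ne m 0 with rfl | h
    · simp only [if_true, one_ne_zero, ne_eq, not_false_eq_true, pow_zero, mul_one]
      rw [if_pos (by rw [Polynomial.mem_support_iff, coeff_one]; simp)]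
      exact resC_one P
    · simp [h, resC_zero]
  map_mul' p q := by
    have e : ∀ (r : sectRing (Finsupp.single P 1 : Divisor k K)) (m : ℕ),
        (∑ n ∈ (r : K[X]).support, C (lc P π r n) * X ^ n).coeff m = lc P π r m := fun r m => by
      simp only [finset_sum_coeff, coeff_C_mul_X_pow, Finset.sum_ite_eq]
      split_ifs with h
      · rfl
      · exact (by_contra fun h' => h (lc_support hK P hπ r (Ne.symm h')))
    ext m
    rw [e, coeff_mul, lc_mul hK P hπ]
    simp only [e]
  map_zero' := by simp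
  map_add' p q := by
    have e : ∀ (r : sectRing (Finsupp.single P 1 : Divisor k K)) (m : ℕ),
        (∑ n ∈ (r : K[X]).support, C (lc P π r n) * X ^ n).coeff m = lc P π r m := fun r m => by
      simp only [finset_sum_coeff, coeff_C_mul_X_pow, Finset.sum_ite_eq]
      split_ifs with h
      · rfl
      · exact (by_contra fun h' => h (lc_support hK P hπ r (Ne.symm h')))
    ext m
    rw [coeff_add, e, e, e]
    simp only [lc, Subalgebra.coe_add, coeff_add, add_mul]
    exact resC_add hK P (int_coeff P hπ p _) (int_coeff P hπ q _)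
  commutes' c := by
    have e : ∀ (r : sectRing (Finsupp.single P 1 : Divisor k K)) (m : ℕ),
        (∑ n ∈ (r : K[X]).support, C (lc P π r n) * X ^ n).coeff m = lc P π r m := fun r m => by
      simp only [finset_sum_coeff, coeff_C_mul_X_pow, Finset.sum_ite_eq]
      split_ifs with h
      · rfl
      · exact (by_contra fun h' => h (lc_support hK P hπ r (Ne.symm h')))
    ext m
    rw [e, Polynomial.algebraMap_apply, coeff_C]
    simp only [lc, Subalgebra.coe_algebraMap, Polynomial.algebraMap_apply, coeff_C]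
    rcases eq_or_ne m 0 with rfl | h
    · simp only [if_true, pow_zero, mul_one, Algebra.algebraMap_self, RingHom.id_apply]
      exact resC_algebraMap P c
    · simp only [if_neg h, zero_mul]
      exact resC_zero P

theorem coeff_grHom (p : sectRing (Finsupp.single P 1 : Divisor k K)) (m : ℕ) :
    (grHom hK P hπ p).coeff m = lc P π p m := by
  change (∑ n ∈ (p : K[X]).support, C (lc P π p n) * X ^ n).coeff m = _
  simp only [finset_sum_coeff, coeff_C_mul_X_pow, Finset.sum_ite_eq]
  split_ifs with h
  · rfl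
  · exact (by_contra fun h' => h (lc_support hK P hπ p (Ne.symm h')))

include hK in
theorem poleOrders_iff (n : ℕ) :
    n ∈ poleOrders P ↔ L (Finsupp.single P (n : ℤ)) ≠ L (Finsupp.single P ((n : ℤ) - 1)) := by
  obtain ⟨h1, h2, h3⟩ := ell_step hK (deg_eq_one hK P) (n : ℤ)
  rw [Ne, h3, poleOrders, Set.mem_setOf_eq, zsmul_single_one, zsmul_single_one]
  omega

include hK hπ in
theorem lc_eq_zero_iff (p : sectRing (Finsupp.single P 1 : Divisor k K)) (n : ℕ) :
    lc P π p n = 0 ↔ (p : K[X]).coeff n ∈ L (Finsupp.single P ((n : ℤ) - 1)) := by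
  have hint := int_coeff P hπ p n
  have hcoef := p.2 n
  rw [zsmul_single_one] at hcoef
  have hspec := resC_spec hK P hint
  have hπ0 : π ≠ 0 := fun h => by rw [h, map_zero] at hπ; exact exp_ne_zero hπ.symm
  constructor
  · intro h Q
    rcases eq_or_ne Q P with rfl | hQ
    · rw [show lc Q π p n = resC Q ((p : K[X]).coeff n * π ^ n) from rfl] at h
      rw [h, map_zero, sub_zero] at hspec
      rw [Finsupp.single_eq_same]
      rw [map_mul, map_pow, hπ, ← exp_nsmul, nsmul_eq_mul, mul_neg, mul_one] at hspec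
      rcases eq_or_ne (Q.1 ((p : K[X]).coeff n)) 0 with h0 | h0
      · rw [h0]; exact zero_le
      · rw [← exp_log h0, ← exp_add] at hspec
        have hspec := exp_lt_exp.1 (hspec.trans_eq exp_zero.symm)
        rw [← exp_log h0, exp_le_exp]; omega
    · rw [Finsupp.single_eq_of_ne hQ]
      have := hcoef Q
      rwa [Finsupp.single_eq_of_ne hQ] at this
  · intro h
    refine resC_eq ?_
    rw [map_zero, sub_zero, map_mul, map_pow, hπ, ← exp_nsmul, nsmul_eq_mul, mul_neg, mul_one]
    have := h P
    rw [Finsupp.single_eq_same] at this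
    refine (mul_le_mul' this le_rfl).trans_lt ?_
    rw [← exp_add]
    refine (exp_lt_exp.2 ?_).trans_eq exp_zero
    omega

include hK hπ in
theorem lc_zero_of_gap (p : sectRing (Finsupp.single P 1 : Divisor k K)) {n : ℕ} (hn : n ∉ poleOrders P) :
    lc P π p n = 0 := by
  rw [poleOrders_iff hK, not_not] at hn
  rw [lc_eq_zero_iff hK P hπ, ← hn]
  have := p.2 n
  rwa [zsmul_single_one] at this

include hK hπ in
theorem exists_lift {n : ℕ} (hn : n ∈ poleOrders P) :
    ∃ (f : K) (hf : C f * X ^ n ∈ sectRing (Finsupp.single P 1 : Divisor k K)),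
      ∀ m, lc P π ⟨_, hf⟩ m = if m = n then 1 else 0 := by
  obtain ⟨x, hx, hx0, hox⟩ := exists_mem_ord_eq hK (deg_eq_one hK P) _ ((poleOrders_iff hK P n).1 hn)
  have hmem : ∀ c : k, C (c • x) * X ^ n ∈ sectRing (Finsupp.single P 1 : Divisor k K) := fun c m => by
    rw [coeff_C_mul_X_pow, zsmul_single_one]
    split_ifs with h
    · subst h; exact Submodule.smul_mem _ c hx
    · exact zero_mem _
  have hint : P.1 (x * π ^ n) ≤ 1 := by
    have h := int_coeff P hπ ⟨_, hmem 1⟩ n
    simpa [one_smul, coeff_C_mul_X_pow] using h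
  have hne : resC P (x * π ^ n) ≠ 0 := fun h => by
    have h1 := resC_spec hK P hint
    rw [h, map_zero, sub_zero, map_mul, map_pow, hπ, ← exp_nsmul, nsmul_eq_mul, mul_neg, mul_one, val_eq_exp P hx0, hox,
      neg_neg, ← exp_add, add_neg_cancel, exp_zero] at h1
    exact lt_irrefl _ h1
  refine ⟨(resC P (x * π ^ n))⁻¹ • x, hmem _, fun m => ?_⟩
  simp only [lc, coeff_C_mul_X_pow]
  split_ifs with h
  · subst h
    rw [Algebra.smul_def, mul_assoc, resC_mul hK P (P.2.1 _) hint, resC_algebraMap, inv_mul_cancel₀ hne]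
  · rw [zero_mul]; exact resC_zero P

include hK in
theorem poleOrders_zero : 0 ∈ poleOrders P := by
  rw [poleOrders_iff hK]
  intro h
  have h1 : (1 : K) ∈ L (Finsupp.single P (((0 : ℕ) : ℤ) - 1)) := h ▸ fun Q => by simp
  have := h1 P
  rw [Finsupp.single_eq_same, map_one, ← exp_zero, exp_le_exp] at this
  omega

include hK in
theorem poleOrders_add {a b : ℕ} (ha : a ∈ poleOrders P) (hb : b ∈ poleOrders P) : a + b ∈ poleOrders P := by
  obtain ⟨x, hx, hx0, hox⟩ := exists_mem_ord_eq hK (deg_eq_one hK P) _ ((poleOrders_iff hK P a).1 ha)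
  obtain ⟨y, hy, hy0, hoy⟩ := exists_mem_ord_eq hK (deg_eq_one hK P) _ ((poleOrders_iff hK P b).1 hb)
  rw [poleOrders_iff hK]
  intro h
  have hm : x * y ∈ L (Finsupp.single P ((a + b : ℕ) : ℤ)) := by
    rw [Nat.cast_add, Finsupp.single_add]; exact W4c6gradedringsgw.mul_mem_L hx hy
  have := (h ▸ hm : x * y ∈ L (Finsupp.single P (((a + b : ℕ) : ℤ) - 1))) P
  rw [Finsupp.single_eq_same, map_mul, val_eq_exp P hx0, val_eq_exp P hy0, hox, hoy, ← exp_add, exp_le_exp] at this
  push_cast at this
  omega

/-- the Weierstrass semigroup -/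
def poleMonoid : AddSubmonoid ℕ where
  carrier := poleOrders P
  zero_mem' := poleOrders_zero hK P
  add_mem' := poleOrders_add hK P

theorem closure_poleOrders : AddSubmonoid.closure (poleOrders P) = poleMonoid hK P :=
  le_antisymm (AddSubmonoid.closure_le.2 subset_rfl) AddSubmonoid.subset_closure

include hK in
theorem exists_unif : ∃ π : K, P.1 π = exp (-1) := by
  obtain ⟨t, ht0, -, hto⟩ := exists_uniformizer P
  exact ⟨t, by rw [val_eq_exp P ht0, hto]⟩

end Groth.Agent.FunFldLib

namespace Groth.Agent.FunFldLib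

open FunFld W4c6gradedringsgw Polynomial

variable {k K : Type*} [Field k] [Field K] [Algebra k K] [IsAlgClosed k]

theorem coeff_one_mem (hK : IsFunctionField k K) (hg : 1 ≤ genus k K) (P : Place k K) :
    L (Finsupp.single P (1 : ℤ)) = LinearMap.range (Algebra.linearMap k K) := by
  rw [← L_zero' hK]
  have key : L (Finsupp.single P (1 : ℤ)) = L (Finsupp.single P ((1 : ℤ) - 1)) := by
    by_contra h
    obtain ⟨x, hx, hne, hox⟩ := exists_mem_ord_eq hK (deg_eq_one hK P) 1 h
    obtain ⟨-, -, -, -, hg0⟩ := exists_simple_pole_of_top hK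
      (adjoin_eq_top_of_simple_pole hK (deg_eq_one hK P) hox fun R hR => ((mem_L_single_iff P hne 1).1 hx).2 R hR)
    omega
  rwa [sub_self, Finsupp.single_zero] at key

theorem coeff_zero_eq (hK : IsFunctionField k K) (P : Place k K) (p : sectRing (Finsupp.single P 1 : Divisor k K)) :
    ∃ c : k, (p : K[X]).coeff 0 = algebraMap k K c := by
  have h := p.2 0
  rw [Nat.cast_zero, zero_smul, L_zero' hK] at h
  obtain ⟨c, hc⟩ := h
  exact ⟨c, hc.symm⟩

theorem ker_grHom (hK : IsFunctionField k K) (hg : 1 ≤ genus k K) (P : Place k K) {π : K} (hπ : P.1 π = WithZero.exp (-1))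
    (t : sectRing (Finsupp.single P 1 : Divisor k K)) {a : K} (ha : a ≠ 0) (ht : (t : K[X]) = C a * X) :
    RingHom.ker (grHom hK P hπ) = Ideal.span {t} := by
  obtain ⟨c, hc⟩ : ∃ c : k, a = algebraMap k K c := by
    have h := t.2 1
    rw [zsmul_single_one, Nat.cast_one, coeff_one_mem hK hg P] at h
    obtain ⟨c, hc⟩ := h
    refine ⟨c, ?_⟩
    rw [ht, coeff_C_mul_X, if_pos rfl] at hc
    exact hc.symm
  ext p
  rw [RingHom.mem_ker, Ideal.mem_span_singleton]
  constructor
  · intro h
    have hlow : ∀ n : ℕ, (p : K[X]).coeff n ∈ L (Finsupp.single P ((n : ℤ) - 1)) := fun n =>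
      (lc_eq_zero_iff hK P hπ p n).1 (by rw [← coeff_grHom hK P hπ, h, Polynomial.coeff_zero])
    have h0 : (p : K[X]).coeff 0 = 0 := by
      obtain ⟨d, hd⟩ := coeff_zero_eq hK P p
      have := hlow 0 P
      rw [hd, Finsupp.single_eq_same] at this
      by_contra hne
      rw [hd] at hne
      have h1 : P.1 (algebraMap k K d) < 1 := this.trans_lt (by rw [← WithZero.exp_zero]; exact WithZero.exp_lt_exp.2 (by omega))
      exact hne (by rw [const_eq_zero h1, map_zero])
    refine ⟨⟨C a⁻¹ * (p : K[X]).divX, fun n => ?_⟩, Subtype.ext ?_⟩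
    · rw [coeff_C_mul, coeff_divX, zsmul_single_one, hc, ← map_inv₀, ← Algebra.smul_def]
      refine Submodule.smul_mem _ _ ?_
      simpa using hlow (n + 1)
    · rw [Subalgebra.coe_mul, ht, ← mul_assoc, mul_comm (C a) X, mul_assoc X, ← map_mul, mul_inv_cancel₀ ha, map_one, mul_one]
      conv_lhs => rw [← X_mul_divX_add (p : K[X]), h0, map_zero, add_zero]
  · rintro ⟨q, rfl⟩
    suffices grHom hK P hπ t = 0 by rw [map_mul, this, zero_mul]
    ext m
    rw [coeff_grHom, Polynomial.coeff_zero, lc_eq_zero_iff hK P hπ, ht, coeff_C_mul_X]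
    split_ifs with h
    · subst h
      rw [Nat.cast_one, sub_self, Finsupp.single_zero, L_zero' hK, hc]
      exact ⟨c, rfl⟩
    · exact zero_mem _

theorem range_grHom (hK : IsFunctionField k K) (P : Place k K) {π : K} (hπ : P.1 π = WithZero.exp (-1)) (f : k[X]) :
    f ∈ (grHom hK P hπ).range ↔ ∀ n, f.coeff n ≠ 0 → n ∈ poleOrders P := by
  constructor
  · rintro ⟨p, rfl⟩ n hn
    by_contra hgap
    exact hn ((coeff_grHom hK P hπ p n).trans (lc_zero_of_gap hK P hπ p hgap))
  · intro h
    rw [f.as_sum_support_C_mul_X_pow]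
    refine Subalgebra.sum_mem _ fun n hn => ?_
    rw [← smul_eq_C_mul]
    refine Subalgebra.smul_mem _ ?_ _
    obtain ⟨x, hx, hlc⟩ := exists_lift hK P hπ (h n (Polynomial.mem_support_iff.1 hn))
    refine ⟨⟨_, hx⟩, ?_⟩
    ext m
    rw [AlgHom.toRingHom_eq_coe, RingHom.coe_coe, coeff_grHom, hlc, coeff_X_pow]

theorem semigroup_range (hK : IsFunctionField k K) (P : Place k K) {π : K} (hπ : P.1 π = WithZero.exp (-1)) :
    (((Polynomial.toFinsuppIsoAlg k).symm.toAlgHom).comp
      (AddMonoidAlgebra.mapDomainAlgHom k k (AddSubmonoid.closure (poleOrders P)).subtype)).range =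
      (grHom hK P hπ).range := by
  ext f
  rw [range_grHom]
  constructor
  · rintro ⟨u, rfl⟩ n hn
    by_contra hgap
    refine hn ?_
    change (Finsupp.mapDomain (AddSubmonoid.closure (poleOrders P)).subtype u.coeff) n = 0
    refine Finsupp.mapDomain_notin_range _ _ ?_
    rintro ⟨⟨m, hm⟩, rfl⟩
    rw [closure_poleOrders hK] at hm
    exact hgap hm
  · intro h
    rw [f.as_sum_support_C_mul_X_pow]
    refine Subalgebra.sum_mem _ fun n hn => ?_
    refine ⟨AddMonoidAlgebra.single ⟨n, AddSubmonoid.subset_closure (h n (Polynomial.mem_support_iff.1 hn))⟩ (f.coeff n), ?_⟩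
    rw [C_mul_X_pow_eq_monomial]
    simp [AddMonoidAlgebra.mapDomainAlgHom, ← Polynomial.ofFinsupp_single]
    rfl

end Groth.Agent.FunFldLib
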