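import Groth.Agent.FunFldLib.GrSect
import Mathlib.Algebra.Module.SpanRank

/-! The embedding dimension of the section ring of a point. -/

set_option autoImplicit false

namespace Groth.Agent.FunFldLib

open FunFld W4c6gradedringsgw Polynomial

variable {k K : Type*} [Field k] [Field K] [Algebra k K] [IsAlgClosed k]
variable (hK : IsFunctionField k K) (hg : 1 ≤ genus k K) (P : Place k K) {π : K} (hπ : P.1 π = WithZero.exp (-1))

include hK in
theorem mem_poleOrders_large {n : ℕ} (hn : 2 * genus k K ≤ n) : n ∈ poleOrders P := by
  have h1 := ell_large hK (D := Finsupp.single P (n : ℤ)) (by rw [deg_single, deg_eq_one hK P]; push_cast; omega)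
  have h2 := ell_large hK (D := Finsupp.single P ((n : ℤ) - 1)) (by rw [deg_single, deg_eq_one hK P]; push_cast; omega)
  rw [deg_single, deg_eq_one hK P] at h1 h2
  push_cast at h1 h2
  rw [poleOrders, Set.mem_setOf_eq, zsmul_single_one, zsmul_single_one]
  omega

include hK hg in
theorem finite_minGens : (minGens (poleOrders P)).Finite := by
  refine (Set.finite_Iio (4 * genus k K)).subset fun n hn => ?_
  by_contra hge
  simp only [Set.mem_Iio, not_lt] at hge
  exact hn.2.2 (2 * genus k K) (mem_poleOrders_large hK P le_rfl) (n - 2 * genus k K)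
    (mem_poleOrders_large hK P (by omega)) (by omega) (by omega) (by omega)

include hK hg hπ in
theorem spanFinrank_irrelevant :
    (RingHom.ker (Polynomial.constantCoeff.comp (sectRing (Finsupp.single P 1 : Divisor k K)).val.toRingHom)).spanFinrank =
      Set.ncard (minGens (poleOrders P)) + 1 := by
  classical
  set R := sectRing (Finsupp.single P 1 : Divisor k K) with hR
  set I := RingHom.ker (Polynomial.constantCoeff.comp R.val.toRingHom) with hI
  have hmemI : ∀ p : R, p ∈ I ↔ (p : K[X]).coeff 0 = 0 := fun p => by
    rw [hI, RingHom.mem_ker]; exact Iff.rfl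
  have hfin := finite_minGens hK hg P
  haveI := hfin.fintype
  have hXmem : (X : K[X]) ∈ R := fun n => by
    rw [coeff_X, zsmul_single_one]
    split_ifs with h
    · subst h
      rw [Nat.cast_one, coeff_one_mem hK hg P]
      exact ⟨1, map_one (algebraMap k K)⟩
    · exact zero_mem _
  let tt : R := ⟨X, hXmem⟩
  choose lf hlf hlc using fun n : ℕ => fun h : n ∈ poleOrders P => exists_lift hK P hπ h
  let gen : Option (minGens (poleOrders P)) → R := fun o => o.elim tt fun n => ⟨_, hlf n.1 n.2.1⟩
  have hgenI : ∀ o, gen o ∈ I := by
    intro o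
    rw [hmemI]
    cases o with
    | none => exact coeff_X_zero
    | some n =>
      change (C (lf n.1 n.2.1) * X ^ n.1).coeff 0 = 0
      rw [coeff_C_mul_X_pow, if_neg (Ne.symm n.2.2.1)]
  set S := Algebra.adjoin k (Set.range gen) with hS
  have key : ∀ (n : ℕ) (p : R), (∀ m, (p : K[X]).coeff m ≠ 0 → m = n) → p ∈ S := by
    intro n
    induction n using Nat.strong_induction_on with
    | _ n ih =>
      intro p hp
      rcases Nat.eq_zero_or_pos n with rfl | hn
      · obtain ⟨c, hc⟩ := coeff_zero_eq hK P p
        have : p = algebraMap k R c := Subtype.ext (by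
          ext m
          rw [Subalgebra.coe_algebraMap, Polynomial.algebraMap_apply, coeff_C]
          split_ifs with h
          · subst h; exact hc
          · exact not_not.1 fun h0 => h (hp m h0))
        rw [this]; exact S.algebraMap_mem c
      -- reduce the top coefficient
      have hlead : ∃ q : R, q ∈ S ∧ (∀ m, (q : K[X]).coeff m ≠ 0 → m = n) ∧ lc P π q n = lc P π p n := by
        by_cases hH : n ∈ poleOrders P
        swap
        · exact ⟨0, S.zero_mem, fun m hm => absurd (Polynomial.coeff_zero m) hm,
            by rw [lc_zero_of_gap hK P hπ p hH, lc_zero_of_gap hK P hπ _ hH]⟩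
        suffices h : ∃ q : R, q ∈ S ∧ (∀ m, (q : K[X]).coeff m ≠ 0 → m = n) ∧ lc P π q n = 1 by
          obtain ⟨q, hqS, hqn, hq1⟩ := h
          refine ⟨lc P π p n • q, S.smul_mem hqS _, fun m hm => hqn m fun h0 => hm ?_, ?_⟩
          · rw [Subalgebra.coe_smul, Polynomial.coeff_smul, h0, smul_zero]
          · rw [← coeff_grHom hK P hπ, map_smul, Polynomial.coeff_smul, coeff_grHom, hq1, smul_eq_mul, mul_one]
        by_cases hgen : n ∈ minGens (poleOrders P)
        · refine ⟨gen (some ⟨n, hgen⟩), Algebra.subset_adjoin ⟨_, rfl⟩, fun m hm => ?_, ?_⟩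
          · change (C (lf n hH) * X ^ n).coeff m ≠ 0 at hm
            rw [coeff_C_mul_X_pow] at hm
            exact not_not.1 fun h => hm (if_neg h)
          · change lc P π ⟨_, hlf n hH⟩ n = 1
            rw [hlc n hH n, if_pos rfl]
        · obtain ⟨a, ha, b, hb, ha0, hb0, hab⟩ : ∃ a ∈ poleOrders P, ∃ b ∈ poleOrders P, a ≠ 0 ∧ b ≠ 0 ∧ a + b = n := by
            by_contra! hc
            exact hgen ⟨hH, by omega, fun a ha b hb ha0 hb0 => hc a ha b hb ha0 hb0⟩
          subst hab
          have hsupp : ∀ (e : ℕ) (he : e ∈ poleOrders P) (m : ℕ), (C (lf e he) * X ^ e).coeff m ≠ 0 → m = e := fun e he m hm => by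
            rw [coeff_C_mul_X_pow] at hm
            exact not_not.1 fun h => hm (if_neg h)
          refine ⟨⟨_, hlf a ha⟩ * ⟨_, hlf b hb⟩, S.mul_mem (ih a (by omega) _ (hsupp a ha)) (ih b (by omega) _ (hsupp b hb)),
            fun m hm => ?_, ?_⟩
          · rw [Subalgebra.coe_mul, show (C (lf a ha) * X ^ a) * (C (lf b hb) * X ^ b) = C (lf a ha * lf b hb) * X ^ (a + b) by
              rw [map_mul, pow_add]; ring, coeff_C_mul_X_pow] at hm
            exact not_not.1 fun h => hm (if_neg h)
          · rw [lc_mul hK P hπ, Finset.sum_eq_single (a, b)]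
            · rw [hlc a ha, hlc b hb, if_pos rfl, if_pos rfl, mul_one]
            · intro x hx hne
              rw [hlc a ha, hlc b hb]
              split_ifs with h1 h2 <;> simp_all [Prod.ext_iff]
            · intro h
              exact absurd (Finset.HasAntidiagonal.mem_antidiagonal.2 (rfl : (a, b).1 + (a, b).2 = a + b)) h
      obtain ⟨q, hqS, hqn, hq⟩ := hlead
      have hlow : ((p - q : R) : K[X]).coeff n ∈ L (Finsupp.single P ((n : ℤ) - 1)) :=
        (lc_eq_zero_iff hK P hπ _ n).1 (by
          rw [← coeff_grHom hK P hπ, map_sub, Polynomial.coeff_sub, coeff_grHom, coeff_grHom, hq, sub_self])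
      have hd : ((p - q : R) : K[X]).divX ∈ R := fun m => by
        rw [coeff_divX, zsmul_single_one]
        rcases eq_or_ne (m + 1) n with h | h
        · subst h; simpa using hlow
        · rw [show ((p - q : R) : K[X]).coeff (m + 1) = 0 by
            rw [AddSubgroupClass.coe_sub, coeff_sub, not_not.1 fun h0 => h (hp _ h0), not_not.1 fun h0 => h (hqn _ h0), sub_zero]]
          exact zero_mem _
      have heq : p = q + tt * ⟨_, hd⟩ := Subtype.ext (by
        have h0 : ((p - q : R) : K[X]).coeff 0 = 0 := by
          rw [AddSubgroupClass.coe_sub, coeff_sub, not_not.1 fun h0 => hn.ne (hp _ h0), not_not.1 fun h0 => hn.ne (hqn _ h0), sub_zero]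
        have := X_mul_divX_add ((p - q : R) : K[X])
        rw [h0, map_zero, add_zero] at this
        rw [Subalgebra.coe_add, Subalgebra.coe_mul]
        change (p : K[X]) = (q : K[X]) + X * ((p - q : R) : K[X]).divX
        rw [this, AddSubgroupClass.coe_sub]; ring)
      rw [heq]
      refine S.add_mem hqS (S.mul_mem (Algebra.subset_adjoin ⟨none, rfl⟩) (ih (n - 1) (by omega) _ fun m hm => ?_))
      change ((p - q : R) : K[X]).divX.coeff m ≠ 0 at hm
      rw [coeff_divX, AddSubgroupClass.coe_sub, coeff_sub] at hm
      rcases eq_or_ne (m + 1) n with h | h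
      · omega
      · exact absurd (by rw [not_not.1 fun h0 => h (hp _ h0), not_not.1 fun h0 => h (hqn _ h0), sub_zero]) hm
  have hall : ∀ p : R, p ∈ S := fun p => by
    have hm : ∀ n, C ((p : K[X]).coeff n) * X ^ n ∈ R := fun n m => by
      rw [coeff_C_mul_X_pow]
      split_ifs with h
      · subst h; exact p.2 m
      · exact zero_mem _
    have : p = ∑ n ∈ (p : K[X]).support, (⟨_, hm n⟩ : R) := Subtype.ext (by
      rw [AddSubmonoidClass.coe_finset_sum]
      exact (p : K[X]).as_sum_support_C_mul_X_pow)
    rw [this]
    refine sum_mem fun n _ => key n _ fun m h => ?_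
    change (C ((p : K[X]).coeff n) * X ^ n).coeff m ≠ 0 at h
    rw [coeff_C_mul_X_pow] at h
    exact not_not.1 fun h' => h (if_neg h')
  have hspan : Submodule.span R (Set.range gen) = I := by
    refine le_antisymm (Submodule.span_le.2 (Set.range_subset_iff.2 hgenI)) fun p hp => ?_
    have : ∀ r : R, r ∈ S → ∃ c : k, r - algebraMap k R c ∈ Submodule.span R (Set.range gen) := by
      intro r hr
      induction hr using Algebra.adjoin_induction with
      | mem x hx => exact ⟨0, by rw [map_zero, sub_zero]; exact Submodule.subset_span hx⟩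
      | algebraMap c => exact ⟨c, by rw [sub_self]; exact zero_mem _⟩
      | add x y _ _ hx hy =>
        obtain ⟨c, hc⟩ := hx
        obtain ⟨d, hd⟩ := hy
        exact ⟨c + d, by rw [map_add, add_sub_add_comm]; exact add_mem hc hd⟩
      | mul x y _ _ hx hy =>
        obtain ⟨c, hc⟩ := hx
        obtain ⟨d, hd⟩ := hy
        refine ⟨c * d, ?_⟩
        rw [map_mul, show x * y - algebraMap k R c * algebraMap k R d =
          y • (x - algebraMap k R c) + algebraMap k R c • (y - algebraMap k R d) by rw [smul_eq_mul, smul_eq_mul]; ring]
        exact add_mem (Submodule.smul_mem _ _ hc) (Submodule.smul_mem _ _ hd)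
    obtain ⟨c, hc⟩ := this p (hall p)
    have h1 : p - algebraMap k R c ∈ I := Submodule.span_le.2 (Set.range_subset_iff.2 hgenI) hc
    have hc0 : c = 0 := by
      rw [hmemI] at h1 hp
      rw [AddSubgroupClass.coe_sub, coeff_sub, hp, Subalgebra.coe_algebraMap, Polynomial.algebraMap_apply, coeff_C_zero,
        zero_sub, neg_eq_zero, map_eq_zero] at h1
      exact h1
    rwa [hc0, map_zero, sub_zero] at hc
  have hcard : Fintype.card (Option (minGens (poleOrders P))) = (minGens (poleOrders P)).ncard + 1 := by
    rw [Fintype.card_option, ← Nat.card_eq_fintype_card, Nat.card_coe_set_eq]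
  have hfg : Submodule.FG (I : Submodule R R) := ⟨Finset.univ.image gen, by rw [Finset.coe_image, Finset.coe_univ, Set.image_univ]; exact hspan⟩
  refine le_antisymm ?_ ?_
  · rw [← hcard, ← hspan]
    refine (Submodule.spanFinrank_span_le_ncard_of_finite (Set.finite_range gen)).trans ?_
    rw [← Nat.card_coe_set_eq, ← Nat.card_eq_fintype_card]
    exact Finite.card_range_le gen
  · obtain ⟨s, hscard, hs⟩ := hfg.exists_span_finset_card_eq_spanFinrank
    rw [← hscard, ← hcard]
    let Φ : R → (Option (minGens (poleOrders P)) → k) := fun p o =>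
      o.elim (resC P ((p : K[X]).coeff 1)) fun n => lc P π p n.1
    have hint1 : ∀ p : R, P.1 ((p : K[X]).coeff 1) ≤ 1 := fun p => by
      have h := p.2 1
      rw [zsmul_single_one, Nat.cast_one, coeff_one_mem hK hg P] at h
      obtain ⟨c, hc⟩ := h
      rw [← hc]; exact P.2.1 c
    have hΦadd : ∀ p q : R, Φ (p + q) = Φ p + Φ q := fun p q => funext fun o => by
      cases o with
      | none =>
        simp only [Φ, Option.elim_none, Pi.add_apply, Subalgebra.coe_add, coeff_add]
        exact resC_add hK P (hint1 p) (hint1 q)
      | some n =>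
        simp only [Φ, Option.elim_some, Pi.add_apply]
        rw [← coeff_grHom hK P hπ, map_add, coeff_add, coeff_grHom, coeff_grHom]
    have hΦmul : ∀ r x : R, x ∈ I → Φ (r * x) = resC P ((r : K[X]).coeff 0) • Φ x := by
      intro r x hx
      rw [hmemI] at hx
      funext o
      cases o with
      | none =>
        simp only [Φ, Option.elim_none, Pi.smul_apply, smul_eq_mul, Subalgebra.coe_mul]
        rw [coeff_mul, Finset.Nat.antidiagonal_succ, Finset.sum_cons, Finset.Nat.antidiagonal_zero]
        simp only [Finset.map_singleton, Finset.sum_singleton, Function.Embedding.coe_prodMap, Function.Embedding.coeFn_mk,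
          Prod.map_apply, Nat.succ_eq_add_one, zero_add, Function.Embedding.refl_apply, hx, mul_zero, add_zero]
        obtain ⟨c, hc⟩ := coeff_zero_eq hK P r
        rw [resC_mul hK P (by rw [hc]; exact P.2.1 c) (hint1 x)]
      | some n =>
        simp only [Φ, Option.elim_some, Pi.smul_apply, smul_eq_mul]
        rw [lc_mul hK P hπ, Finset.sum_eq_single (0, n.1)]
        · simp [lc]
        · intro y hy hne
          have hsum := Finset.HasAntidiagonal.mem_antidiagonal.1 hy
          rcases Nat.eq_zero_or_pos y.2 with h2 | h2
          · have : lc P π x y.2 = 0 := by rw [lc, h2, hx, zero_mul, resC_zero]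
            rw [this, mul_zero]
          rcases Nat.eq_zero_or_pos y.1 with h1 | h1
          · exact absurd (Prod.ext h1 (by omega)) hne
          by_cases ha : y.1 ∈ poleOrders P
          · have hb : y.2 ∉ poleOrders P := fun hb => n.2.2.2 y.1 ha y.2 hb h1.ne' h2.ne' hsum
            rw [lc_zero_of_gap hK P hπ x hb, mul_zero]
          · rw [lc_zero_of_gap hK P hπ r ha, zero_mul]
        · intro h
          exact absurd (Finset.HasAntidiagonal.mem_antidiagonal.2 (zero_add _)) h
    have hmem : ∀ x ∈ I, Φ x ∈ Submodule.span k (Φ '' (s : Set R)) := by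
      intro x hx
      rw [← hs] at hx
      induction hx using Submodule.span_induction with
      | mem y hy => exact Submodule.subset_span ⟨y, hy, rfl⟩
      | zero =>
        have : Φ 0 = 0 := by simpa using hΦadd 0 0
        rw [this]; exact zero_mem _
      | add y z _ _ hy hz => rw [hΦadd]; exact add_mem hy hz
      | smul r y hy hy' => rw [smul_eq_mul, hΦmul r y (hs ▸ hy)]; exact Submodule.smul_mem _ _ hy'
    have htop : Submodule.span k (Φ '' (s : Set R)) = ⊤ := by
      rw [eq_top_iff, ← (Pi.basisFun k (Option (minGens (poleOrders P)))).span_eq, Submodule.span_le]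
      rintro _ ⟨o, rfl⟩
      have : Φ (gen o) = Pi.basisFun k (Option (minGens (poleOrders P))) o := by
        rw [Pi.basisFun_apply]
        funext o'
        cases o with
        | none =>
          cases o' with
          | none => simp only [Φ, gen, tt, Option.elim_none, coeff_X_one, Pi.single_eq_same]; exact resC_one P
          | some n =>
            simp only [Φ, gen, tt, Option.elim_none, Option.elim_some, lc]
            rw [Pi.single_eq_of_ne (by simp), coeff_X]
            split_ifs with h
            · exfalso
              have h1 : (1 : ℕ) ∈ poleOrders P := h ▸ n.2.1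
              rw [poleOrders_iff hK, Nat.cast_one, sub_self, Finsupp.single_zero, coeff_one_mem hK hg P, L_zero' hK] at h1
              exact h1 rfl
            · rw [zero_mul, resC_zero]
        | some n =>
          cases o' with
          | none =>
            simp only [Φ, gen, Option.elim_none, Option.elim_some]
            rw [Pi.single_eq_of_ne (by simp), coeff_C_mul_X_pow]
            split_ifs with h
            · exfalso
              have h1 : (1 : ℕ) ∈ poleOrders P := h ▸ n.2.1
              rw [poleOrders_iff hK, Nat.cast_one, sub_self, Finsupp.single_zero, coeff_one_mem hK hg P, L_zero' hK] at h1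
              exact h1 rfl
            · exact resC_zero P
          | some m =>
            simp only [Φ, gen, Option.elim_some]
            rw [hlc n.1 n.2.1, Pi.single_apply]
            simp [Subtype.ext_iff]
      rw [← this]
      exact hmem _ (hgenI o)
    have h := finrank_span_finset_le_card (R := k) (s.image Φ)
    rw [Set.finrank, Finset.coe_image, htop, finrank_top, Module.finrank_pi] at h
    exact h.trans Finset.card_image_le

end Groth.Agent.FunFldLib
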