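import Groth.Agent.FunFldLib.Cor
import Groth.Prelude.Def_LocRes

/-! Total Hasse derivatives: separability, uniqueness, existence, change of variable. -/

set_option autoImplicit false

open Polynomial

namespace Groth.Agent.FunFldLib

open FunFld

variable {k K : Type*} [Field k] [Field K] [Algebra k K]

theorem hasseD_zero {x : K} {H : K →ₐ[k] PowerSeries K} (hH : LocRes.IsHasseFamily x H) (y : K) :
    LocRes.hasseD H 0 y = y := by
  rw [LocRes.hasseD_apply, PowerSeries.coeff_zero_eq_constantCoeff]; exact hH.2 y

theorem hasseD_self {x : K} {H : K →ₐ[k] PowerSeries K} (hH : LocRes.IsHasseFamily x H) (j : ℕ) :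
    LocRes.hasseD H j x = if j = 0 then x else if j = 1 then 1 else 0 := by
  rw [LocRes.hasseD_apply, hH.1, map_add, PowerSeries.coeff_C, PowerSeries.coeff_X]
  rcases j with _ | _ | j <;> simp

theorem hasseD_algebraMap {H : K →ₐ[k] PowerSeries K} (j : ℕ) (c : k) :
    LocRes.hasseD H j (algebraMap k K c) = if j = 0 then algebraMap k K c else 0 := by
  rw [LocRes.hasseD_apply, AlgHom.commutes, PowerSeries.algebraMap_apply, PowerSeries.coeff_C]

theorem hasseD_mul {H : K →ₐ[k] PowerSeries K} (j : ℕ) (y z : K) :
    LocRes.hasseD H j (y * z) =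
      ∑ p ∈ Finset.HasAntidiagonal.antidiagonal j, LocRes.hasseD H p.1 y * LocRes.hasseD H p.2 z := by
  simp [LocRes.hasseD_apply, map_mul, PowerSeries.coeff_mul]

theorem hasseD_one_mul {x : K} {H : K →ₐ[k] PowerSeries K} (hH : LocRes.IsHasseFamily x H) (y z : K) :
    LocRes.hasseD H 1 (y * z) = y * LocRes.hasseD H 1 z + z * LocRes.hasseD H 1 y := by
  rw [hasseD_mul, show (Finset.HasAntidiagonal.antidiagonal 1 : Finset (ℕ × ℕ)) = {(0, 1), (1, 0)} from rfl,
    Finset.sum_pair (by simp), hasseD_zero hH, hasseD_zero hH]
  ring

theorem transcendental_of_family (hK : IsFunctionField k K) {x : K} {H : K →ₐ[k] PowerSeries K}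
    (hH : LocRes.IsHasseFamily x H) : Transcendental k x := by
  intro halg
  obtain ⟨c, hc⟩ : ∃ c : k, algebraMap k K c = x := hK.2 x halg
  have h1 := hasseD_self hH 1
  rw [← hc, hasseD_algebraMap, if_neg one_ne_zero, if_neg one_ne_zero, if_pos rfl] at h1
  exact zero_ne_one h1

theorem not_pow_of_family (p : ℕ) [Fact p.Prime] [CharP K p] {x : K} {H : K →ₐ[k] PowerSeries K}
    (hH : LocRes.IsHasseFamily x H) (y : K) : y ^ p ≠ x := by
  intro hy
  have hp := (Fact.out : p.Prime)
  have h1 := hasseD_self hH 1
  rw [if_neg one_ne_zero, if_pos rfl, LocRes.hasseD_apply, ← hy, map_pow, PowerSeries.coeff_one_pow,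
    CharP.cast_eq_zero K p, zero_mul, zero_mul] at h1
  exact zero_ne_one h1

theorem hasseD_aeval {x : K} {H : K →ₐ[k] PowerSeries K} (hH : LocRes.IsHasseFamily x H) (r : k[X]) :
    LocRes.hasseD H 1 (aeval x r) = aeval x (derivative r) := by
  rw [LocRes.hasseD_apply]
  induction r using Polynomial.induction_on' with
  | add a b ha hb => simp only [map_add, ha, hb]
  | monomial n c =>
    rw [aeval_monomial, map_mul, AlgHom.commutes, map_pow, derivative_monomial, aeval_monomial,
      PowerSeries.algebraMap_apply, PowerSeries.coeff_C_mul, PowerSeries.coeff_one_pow]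
    have h1 : PowerSeries.coeff 1 (H x) = 1 := by simpa [LocRes.hasseD_apply] using hasseD_self hH 1
    rw [h1, hH.2 x, map_mul, map_natCast]
    ring

/-- a derivation with `δ x = 1` forces `x` to be separating -/
theorem isSeparable_of_derivation [PerfectField k] (hK : IsFunctionField k K) {x : K} (hx : Transcendental k x)
    (δ : Derivation k K K) (hδ : δ x = 1) : Algebra.IsSeparable (IntermediateField.adjoin k ({x} : Set K)) K := by
  classical
  have hδa : ∀ r : k[X], δ (aeval x r) = aeval x (derivative r) := fun r => by
    rw [δ.map_aeval, hδ, smul_eq_mul, mul_one]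
  have hδm : ∀ y z : K, δ (y * z) = y * δ z + z * δ y := fun y z => by
    rw [δ.leibniz, smul_eq_mul, smul_eq_mul]
  set F := IntermediateField.adjoin k ({x} : Set K) with hF
  haveI : FiniteDimensional F K := finite_adjoin hK.1 hx
  obtain ⟨p, hp⟩ := ExpChar.exists K
  cases hp with
  | zero =>
    haveI : CharZero F := charZero_of_injective_algebraMap (algebraMap ℚ F).injective
    infer_instance
  | prime hpp =>
    haveI := Fact.mk hpp
    haveI : CharP k p := (RingHom.charP_iff (algebraMap k K) (algebraMap k K).injective p).2 ‹_›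
    haveI : CharP F p := (RingHom.charP_iff (algebraMap k F) (algebraMap k F).injective p).1 ‹CharP k p›
    haveI : ExpChar k p := ExpChar.prime hpp
    haveI : ExpChar K p := ExpChar.prime hpp
    haveI : ExpChar F p := ExpChar.prime hpp
    haveI : PerfectRing k p := PerfectField.toPerfectRing p
    have hp0 : p ≠ 0 := hpp.ne_zero
    have hDpow : ∀ y : K, δ (y ^ p) = 0 := fun y => by
      rw [δ.leibniz_pow, nsmul_eq_mul, CharP.cast_eq_zero K p, zero_mul]
    have hker : ∀ c : F, δ (c : K) = 0 → ∃ f : F, f ^ p = c := by
      intro c hc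
      obtain ⟨r, s, hrs⟩ := (IntermediateField.mem_adjoin_simple_iff k (c : K)).1 c.2
      by_cases hs : aeval x s = 0
      · exact ⟨0, Subtype.ext (by simp [hrs, hs, hp0])⟩
      obtain ⟨q, hq⟩ : ∃ q : k[X], aeval x q = (c : K) * aeval x s ^ p := ⟨r * s ^ (p - 1), by
        rw [map_mul, map_pow, hrs, div_mul_eq_mul_div, mul_div_assoc, ← pow_sub_one_mul hp0 (aeval x s),
          mul_div_assoc, div_self hs, mul_one]⟩
      have hq' : derivative q = 0 := by
        refine (transcendental_iff_injective.1 hx) ?_
        rw [map_zero, ← hδa, hq, hδm, hDpow, hc, mul_zero, mul_zero, add_zero]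
      obtain ⟨q', hq''⟩ : ∃ q' : k[X], expand k p q' = q :=
        ⟨contract p q, expand_contract p hq' hp0⟩
      obtain ⟨u, hu⟩ : ∃ u : k[X], expand k p q' = u ^ p := by
        refine ⟨q'.map (frobeniusEquiv k p).symm.toRingHom, ?_⟩
        rw [← map_frobenius_expand p, ← map_expand, Polynomial.map_map]
        have : (frobenius k p).comp (frobeniusEquiv k p).symm.toRingHom = RingHom.id k :=
          RingHom.ext fun a => frobenius_apply_frobeniusEquiv_symm k p a
        rw [this, Polynomial.map_id]
      refine ⟨⟨aeval x u / aeval x s, (IntermediateField.mem_adjoin_simple_iff k _).2 ⟨u, s, rfl⟩⟩, Subtype.ext ?_⟩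
      rw [SubmonoidClass.coe_pow, div_pow, ← map_pow, ← hu, hq'', hq, mul_div_assoc, div_self (pow_ne_zero _ hs), mul_one]
    -- the `p`-th powers of a basis are a basis
    let b := Module.finBasis F K
    have hli : LinearIndependent F fun i => b i ^ p := by
      rw [Fintype.linearIndependent_iff]
      suffices H' : ∀ n : ℕ, ∀ c : Fin (Module.finrank F K) → F, (Finset.univ.filter fun i => c i ≠ 0).card = n →
          ∑ i, c i • b i ^ p = 0 → ∀ i, c i = 0 from fun c hc => H' _ c rfl hc
      intro n
      induction n using Nat.strong_induction_on with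
      | _ n ih =>
        intro c hn hc
        by_contra! hne
        obtain ⟨i0, hi0⟩ := hne
        let c' : Fin (Module.finrank F K) → F := fun i => c i / c i0
        have hc' : ∑ i, c' i • b i ^ p = 0 := by
          have : ∀ i, c' i • b i ^ p = (c i0)⁻¹ • (c i • b i ^ p) := fun i => by
            rw [smul_smul, ← div_eq_inv_mul]
          rw [Finset.sum_congr rfl fun i _ => this i, ← Finset.smul_sum, hc, smul_zero]
        have hD : ∀ i, δ (c' i : K) ∈ F := fun i => by
          obtain ⟨r, s, hrs⟩ := (IntermediateField.mem_adjoin_simple_iff k (c' i : K)).1 (c' i).2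
          by_cases hs : aeval x s = 0
          · rw [hrs, hs, div_zero, map_zero]; exact zero_mem F
          have h1 := hδm (c' i : K) (aeval x s)
          rw [hrs, div_mul_cancel₀ _ hs, hδa, hδa, ← hrs] at h1
          have h2 : δ (c' i : K) = (aeval x (derivative r) - (c' i : K) * aeval x (derivative s)) / aeval x s := by
            rw [eq_div_iff hs]; linear_combination -h1
          rw [h2]
          have hmem : ∀ q : k[X], aeval x q ∈ F := fun q => Algebra.adjoin_le (S := F.toSubalgebra)
            (Set.singleton_subset_iff.2 (IntermediateField.mem_adjoin_simple_self k x)) (aeval_mem_adjoin_singleton k x)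
          exact div_mem (sub_mem (hmem _) (mul_mem (c' i).2 (hmem _))) (hmem _)
        let e : Fin (Module.finrank F K) → F := fun i => ⟨_, hD i⟩
        have he : ∑ i, e i • b i ^ p = 0 := by
          have := congrArg (δ) hc'
          simp only [map_zero, map_sum] at this
          rw [← this]
          refine Finset.sum_congr rfl fun i _ => ?_
          change δ (c' i : K) * b i ^ p = δ ((c' i : K) * b i ^ p)
          rw [hδm, hDpow]
          ring
        have he0 : ∀ i, c i = 0 → e i = 0 := fun i hi => Subtype.ext (by simp [e, c', hi])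
        have hei0 : e i0 = 0 := Subtype.ext (by
          simp [e, c', div_self hi0])
        have hall : ∀ i, e i = 0 := by
          refine ih _ ?_ e rfl he
          rw [← hn]
          refine Finset.card_lt_card ((Finset.ssubset_iff_of_subset fun i hi => ?_).2 ⟨i0, by simp [hi0], by simp [hei0]⟩)
          simp only [Finset.mem_filter, Finset.mem_univ, true_and] at hi ⊢
          exact fun h => hi (he0 i h)
        choose f hf using fun i => hker (c' i) (congrArg (fun t : F => (t : K)) (hall i))
        have h0 : ∑ i, f i • b i = 0 := by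
          refine frobenius_inj K p ?_
          rw [map_zero, map_sum, ← hc']
          refine Finset.sum_congr rfl fun i _ => ?_
          simp only [frobenius_def, Algebra.smul_def, mul_pow, ← map_pow, hf]
        have := Fintype.linearIndependent_iff.1 b.linearIndependent f h0 i0
        have h1 := hf i0
        rw [this, zero_pow hp0] at h1
        simp [c', hi0] at h1
    have hspan : Submodule.span F (Set.range fun i => b i ^ p) = ⊤ :=
      hli.span_eq_top_of_card_eq_finrank' (by simp)
    have hpow : ∀ (e : ℕ) (y : K), y ∈ Submodule.span F (Set.range fun z : K => z ^ p ^ e) := by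
      intro e
      induction e with
      | zero => intro y; exact Submodule.subset_span ⟨y, by simp⟩
      | succ e ih =>
        intro y
        have hy : y ∈ Submodule.span F (Set.range fun i => b i ^ p) := hspan ▸ Submodule.mem_top
        refine Submodule.span_le.2 ?_ hy
        rintro _ ⟨i, rfl⟩
        obtain ⟨c, hc⟩ := Finsupp.mem_span_range_iff_exists_finsupp.1 (ih (b i))
        dsimp only [SetLike.mem_coe]
        rw [← hc, Finsupp.sum, sum_pow_char p]
        refine sum_mem fun z _ => ?_
        rw [_root_.smul_pow, ← pow_mul, ← pow_succ]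
        exact Submodule.smul_mem _ _ (Submodule.subset_span ⟨z, rfl⟩)
    set S := separableClosure F K
    haveI : IsPurelyInseparable S K := separableClosure.isPurelyInseparable F K
    choose ee hee using fun i => IsPurelyInseparable.pow_mem S p (b i)
    set e := ∑ i, ee i
    have hbe : ∀ i, b i ^ p ^ e ∈ S := fun i => by
      obtain ⟨u, hu⟩ := hee i
      obtain ⟨l, hl⟩ : ∃ l, e = ee i + l :=
        Nat.exists_eq_add_of_le (Finset.single_le_sum (fun j _ => Nat.zero_le (ee j)) (Finset.mem_univ i))
      rw [hl, pow_add, pow_mul, ← hu]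
      exact (u ^ p ^ l).2
    have hS : ∀ y : K, y ∈ S := by
      intro y
      have hle : Submodule.span F (Set.range fun z : K => z ^ p ^ e) ≤ Subalgebra.toSubmodule S.toSubalgebra := by
        rw [Submodule.span_le]
        rintro _ ⟨z, rfl⟩
        change z ^ p ^ e ∈ S
        rw [← b.sum_repr z, sum_pow_char_pow p e]
        refine sum_mem fun i _ => ?_
        rw [_root_.smul_pow]
        exact S.smul_mem (hbe i)
      exact hle (hpow e y)
    exact ⟨fun y => mem_separableClosure_iff.1 (hS y)⟩

/-- the first Hasse derivative as a derivation -/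
noncomputable def hasseDer {x : K} {H : K →ₐ[k] PowerSeries K} (hH : LocRes.IsHasseFamily x H) : Derivation k K K :=
  Derivation.mk'
    { toFun := LocRes.hasseD H 1
      map_add' := fun y z => by simp [LocRes.hasseD_apply]
      map_smul' := fun c y => by simp [LocRes.hasseD_apply] }
    fun y z => by
      simp only [LinearMap.coe_mk, AddHom.coe_mk, smul_eq_mul]
      exact hasseD_one_mul hH y z

theorem hasseDer_apply {x : K} {H : K →ₐ[k] PowerSeries K} (hH : LocRes.IsHasseFamily x H) (y : K) :
    hasseDer hH y = LocRes.hasseD H 1 y := rfl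

/-- a Hasse family forces its variable to be separating -/
theorem isSeparable_of_family [PerfectField k] (hK : IsFunctionField k K) {x : K} {H : K →ₐ[k] PowerSeries K}
    (hH : LocRes.IsHasseFamily x H) : Algebra.IsSeparable (IntermediateField.adjoin k ({x} : Set K)) K :=
  isSeparable_of_derivation hK (transcendental_of_family hK hH) (hasseDer hH) (by
    rw [hasseDer_apply, hasseD_self hH, if_neg one_ne_zero, if_pos rfl])

/-- two homomorphisms into power series agreeing on a separating variable and on constant terms are equal -/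
theorem family_unique {x : K} [FiniteDimensional (IntermediateField.adjoin k ({x} : Set K)) K]
    [Algebra.IsSeparable (IntermediateField.adjoin k ({x} : Set K)) K] {H H' : K →ₐ[k] PowerSeries K}
    (h : H x = H' x) (hc : ∀ y, PowerSeries.constantCoeff (H y) = y) (hc' : ∀ y, PowerSeries.constantCoeff (H' y) = y) :
    H = H' := by
  set F := IntermediateField.adjoin k ({x} : Set K) with hF
  have hFF : H.toRingHom.comp (algebraMap F K) = H'.toRingHom.comp (algebraMap F K) := by
    have heq : IntermediateField.adjoin k ({x} : Set K) ≤ (RingHom.eqLocusField H.toRingHom H'.toRingHom).toIntermediateField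
        (fun c => by simp [RingHom.eqLocusField, RingHom.eqLocus]) := IntermediateField.adjoin_le_iff.2
      (Set.singleton_subset_iff.2 h)
    exact RingHom.ext fun f => heq f.2
  refine AlgHom.ext fun y => ?_
  set m := minpoly F y with hm
  have hint : IsIntegral F y := IsIntegral.of_finite F y
  let φ : F →+* PowerSeries K := H.toRingHom.comp (algebraMap F K)
  have hu : (m.map φ).eval (H y) = 0 := by
    have := hom_eval₂ m (algebraMap F K) H.toRingHom y
    rw [show eval₂ (algebraMap F K) y m = 0 from minpoly.aeval F y, map_zero] at this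
    rw [eval_map]; exact this.symm
  have hv : (m.map φ).eval (H' y) = 0 := by
    have := hom_eval₂ m (algebraMap F K) H'.toRingHom y
    rw [show eval₂ (algebraMap F K) y m = 0 from minpoly.aeval F y, map_zero, ← hFF] at this
    rw [eval_map]; exact this.symm
  obtain ⟨w, hw⟩ := binomExpansion (m.map φ) (H' y) (H y - H' y)
  rw [add_sub_cancel, hu, hv, zero_add] at hw
  have hunit : (derivative (m.map φ)).eval (H' y) + w * (H y - H' y) ≠ 0 := by
    intro h0
    have h1 := congrArg (PowerSeries.constantCoeff (R := K)) h0
    rw [map_zero, map_add, map_mul, map_sub, hc, hc', sub_self, mul_zero, add_zero,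
      derivative_map, eval_map, hom_eval₂, hc'] at h1
    have h2 : PowerSeries.constantCoeff.comp φ = algebraMap F K := RingHom.ext fun f => hc f
    rw [h2] at h1
    exact (Algebra.IsSeparable.isSeparable F y).aeval_derivative_ne_zero (minpoly.aeval F y) h1
  have : (H y - H' y) * ((derivative (m.map φ)).eval (H' y) + w * (H y - H' y)) = 0 := by linear_combination -hw
  exact sub_eq_zero.1 ((mul_eq_zero.1 this).resolve_right hunit)

theorem family_unique' [PerfectField k] (hK : IsFunctionField k K) {x : K} {H H' : K →ₐ[k] PowerSeries K}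
    (hH : LocRes.IsHasseFamily x H) (hH' : LocRes.IsHasseFamily x H') : H = H' := by
  haveI := finite_adjoin hK.1 (transcendental_of_family hK hH)
  haveI := isSeparable_of_family hK hH
  exact family_unique (hH.1.trans hH'.1.symm) hH.2 hH'.2

/-- existence of a Hasse family at a separating variable -/
theorem exists_family (x : K) (hx : Transcendental k x) [FiniteDimensional (IntermediateField.adjoin k ({x} : Set K)) K]
    [Algebra.IsSeparable (IntermediateField.adjoin k ({x} : Set K)) K] :
    ∃ H : K →ₐ[k] PowerSeries K, LocRes.IsHasseFamily x H := by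
  classical
  set F := IntermediateField.adjoin k ({x} : Set K) with hF
  let σ0 : k[X] →ₐ[k] PowerSeries K := aeval (PowerSeries.C x + PowerSeries.X)
  have hconst : ∀ q : k[X], PowerSeries.constantCoeff (σ0 q) = aeval x q := fun q => by
    have : (PowerSeries.constantCoeff (R := K)).comp σ0.toRingHom = (aeval x : k[X] →ₐ[k] K).toRingHom := by
      refine Polynomial.ringHom_ext (fun c => ?_) (by simp [σ0])
      change PowerSeries.constantCoeff (σ0 (C c)) = aeval x (C c)
      rw [show σ0 (C c) = algebraMap k (PowerSeries K) c from aeval_C _ c, PowerSeries.algebraMap_apply,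
        PowerSeries.constantCoeff_C, aeval_C]
    exact RingHom.congr_fun this q
  have hunit : ∀ q : k[X], q ≠ 0 → IsUnit (σ0 q) := fun q hq => by
    rw [PowerSeries.isUnit_iff_constantCoeff, hconst, isUnit_iff_ne_zero]
    exact fun h => hq (transcendental_iff_injective.1 hx (h.trans (map_zero _).symm))
  have hM : nonZeroDivisors k[X] ≤ Submonoid.comap σ0 (IsUnit.submonoid (PowerSeries K)) := fun q hq =>
    hunit q (nonZeroDivisors.ne_zero hq)
  -- `k(X)` maps to both `F` and the power series
  let j : RatFunc k →ₐ[k] K := RatFunc.liftAlgHom (aeval x) fun q hq => by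
    rw [Submonoid.mem_comap, mem_nonZeroDivisors_iff_ne_zero]
    exact fun h => (nonZeroDivisors.ne_zero hq) (transcendental_iff_injective.1 hx (h.trans (map_zero _).symm))
  have hjR : ∀ f : F, ∃ r : RatFunc k, j r = f := fun f => by
    obtain ⟨r, s, hrs⟩ := (IntermediateField.mem_adjoin_simple_iff k (f : K)).1 f.2
    refine ⟨algebraMap k[X] (RatFunc k) r / algebraMap k[X] (RatFunc k) s, ?_⟩
    rw [map_div₀, RatFunc.liftAlgHom_apply, RatFunc.liftAlgHom_apply]
    simp [hrs]
  choose g hg using hjR
  have jinj : Function.Injective j := j.toRingHom.injective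
  let loc : RatFunc k →+* PowerSeries K := IsLocalization.lift (M := nonZeroDivisors k[X]) (g := σ0.toRingHom)
    fun q => hM q.2
  have hgadd : ∀ a b, g (a + b) = g a + g b := fun a b => jinj (by rw [map_add, hg, hg, hg]; rfl)
  have hgmul : ∀ a b, g (a * b) = g a * g b := fun a b => jinj (by rw [map_mul, hg, hg, hg]; rfl)
  let gh : F →+* RatFunc k :=
    { toFun := g, map_one' := jinj (by rw [hg, map_one]; rfl), map_mul' := hgmul,
      map_zero' := jinj (by rw [hg, map_zero]; rfl), map_add' := hgadd }
  let σ : F →+* PowerSeries K := loc.comp gh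
  have hσc : ∀ f : F, PowerSeries.constantCoeff (σ f) = f := by
    have : (PowerSeries.constantCoeff (R := K)).comp loc = j.toRingHom := by
      refine IsLocalization.ringHom_ext (nonZeroDivisors k[X]) (RingHom.ext fun q => ?_)
      change PowerSeries.constantCoeff (loc (algebraMap k[X] (RatFunc k) q)) = j (algebraMap k[X] (RatFunc k) q)
      rw [show loc (algebraMap k[X] (RatFunc k) q) = σ0 q from IsLocalization.lift_eq _ q, hconst, RatFunc.liftAlgHom_apply]
      simp
    exact fun f => (RingHom.congr_fun this (g f)).trans (hg f)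
  obtain ⟨α, hα⟩ := Field.exists_primitive_element F K
  have hint : IsIntegral F α := IsIntegral.of_finite F α
  set m := minpoly F α with hm
  haveI : IsAdicComplete (Ideal.span {(PowerSeries.X : PowerSeries K)}) (PowerSeries K) := inferInstance
  have hmc : ∀ q : F[X], PowerSeries.constantCoeff ((q.map σ).eval (PowerSeries.C α)) = aeval α q := fun q => by
    rw [eval_map, hom_eval₂, PowerSeries.constantCoeff_C, show (PowerSeries.constantCoeff (R := K)).comp σ = algebraMap F K from
      RingHom.ext hσc]
    rfl
  obtain ⟨y, hy, hyc⟩ := HenselianRing.is_henselian (I := Ideal.span {(PowerSeries.X : PowerSeries K)}) (m.map σ)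
    ((minpoly.monic hint).map σ) (PowerSeries.C α)
    (by rw [Ideal.mem_span_singleton, PowerSeries.X_dvd_iff, hmc]; exact minpoly.aeval F α)
    (by
      refine IsUnit.map _ ?_
      rw [PowerSeries.isUnit_iff_constantCoeff, derivative_map, hmc, isUnit_iff_ne_zero]
      exact (Algebra.IsSeparable.isSeparable F α).aeval_derivative_ne_zero (minpoly.aeval F α))
  rw [Ideal.mem_span_singleton, PowerSeries.X_dvd_iff, map_sub, PowerSeries.constantCoeff_C, sub_eq_zero] at hyc
  let pb := (IntermediateField.adjoin.powerBasis hint).map ((IntermediateField.equivOfEq hα).trans IntermediateField.topEquiv)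
  have hgen : pb.gen = α := by simp [pb]
  letI : Algebra F (PowerSeries K) := σ.toAlgebra
  let L : K →ₐ[F] PowerSeries K := pb.lift y (by
    rw [hgen, ← hm, aeval_def, ← eval_map]; exact hy)
  have hLα : L α = y := by rw [← hgen]; exact pb.lift_gen y _
  have hLc : ∀ z, PowerSeries.constantCoeff (L z) = z := by
    let cc : PowerSeries K →ₐ[F] K := { PowerSeries.constantCoeff (R := K) with commutes' := hσc }
    have : cc.comp L = AlgHom.id F K := pb.algHom_ext (by
      change PowerSeries.constantCoeff (L pb.gen) = pb.gen
      rw [hgen, hLα, hyc])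
    exact fun z => AlgHom.congr_fun this z
  have hLX : ∀ q : k[X], σ ⟨aeval x q, (IntermediateField.mem_adjoin_simple_iff k _).2 ⟨q, 1, by simp⟩⟩ = σ0 q := by
    intro q
    have : g ⟨aeval x q, (IntermediateField.mem_adjoin_simple_iff k _).2 ⟨q, 1, by simp⟩⟩ = algebraMap k[X] (RatFunc k) q :=
      jinj (by rw [hg, RatFunc.liftAlgHom_apply]; simp)
    change loc (g _) = _
    rw [this]; exact IsLocalization.lift_eq _ q
  refine ⟨{ L.toRingHom with commutes' := fun c => ?_ }, ?_, hLc⟩
  · have h1 := L.commutes ⟨aeval x (C c), (IntermediateField.mem_adjoin_simple_iff k _).2 ⟨C c, 1, by simp⟩⟩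
    rw [RingHom.algebraMap_toAlgebra, hLX] at h1
    simpa [σ0] using h1
  · have h1 := L.commutes ⟨aeval x (X : k[X]), (IntermediateField.mem_adjoin_simple_iff k _).2 ⟨X, 1, by simp⟩⟩
    rw [RingHom.algebraMap_toAlgebra, hLX] at h1
    simpa [σ0] using h1

/-- change of variable -/
theorem hasse_change [PerfectField k] (hK : IsFunctionField k K) {s t : K} {Hs Ht : K →ₐ[k] PowerSeries K}
    (hs : LocRes.IsHasseFamily s Hs) (ht : LocRes.IsHasseFamily t Ht) (y : K) :
    Ht y = (Hs y).subst (Ht s - PowerSeries.C s) := by
  haveI := finite_adjoin hK.1 (transcendental_of_family hK hs)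
  haveI := isSeparable_of_family hK hs
  have hc : PowerSeries.constantCoeff (Ht s - PowerSeries.C s) = 0 := by
    rw [map_sub, ht.2, PowerSeries.constantCoeff_C, sub_self]
  have hsub : PowerSeries.HasSubst (Ht s - PowerSeries.C s) := PowerSeries.HasSubst.of_constantCoeff_zero' hc
  let G : K →ₐ[k] PowerSeries K := ((PowerSeries.substAlgHom (R := K) hsub).restrictScalars k).comp Hs
  have hG : ∀ y, G y = (Hs y).subst (Ht s - PowerSeries.C s) := fun y => by
    simp [G, PowerSeries.coe_substAlgHom]
  have heq : Ht = G := by
    refine family_unique (x := s) ?_ ht.2 fun y => ?_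
    · rw [hG, hs.1, PowerSeries.subst_add hsub, PowerSeries.subst_X hsub, PowerSeries.subst_C]
      change Ht s = PowerSeries.C s + (Ht s - PowerSeries.C s)
      ring
    · rw [hG, ← PowerSeries.coeff_zero_eq_constantCoeff_apply, PowerSeries.coeff_subst' hsub,
        finsum_eq_single _ 0 fun d hd => ?_]
      · simp [hs.2]
      · rw [PowerSeries.coeff_zero_eq_constantCoeff_apply, map_pow, hc, zero_pow hd, smul_zero]
  exact (AlgHom.congr_fun heq y).trans (hG y)

end Groth.Agent.FunFldLib
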