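import Groth.Agent.FunFldLib.Adjoint
import Mathlib.RingTheory.MvPolynomial.EulerIdentity
import Mathlib.Algebra.BigOperators.Fin

/-! Projective plane curves: homogenization and nonsingular points. -/

set_option autoImplicit false
set_option linter.unusedSectionVars false

open WithZero MvPolynomial

namespace Groth.Agent.FunFldLib

open FunFld

variable {k K : Type*} [Field k] [Field K] [Algebra k K]

/-- dehomogenization at the variable `j` -/
noncomputable def dh (j : Fin 3) : MvPolynomial (Fin 3) k →ₐ[k] MvPolynomial (Fin 2) k :=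
  aeval (Fin.insertNth j 1 ![X 0, X 1])

/-- exponent of the homogenized monomial -/
noncomputable def homExp (j : Fin 3) (m : ℕ) (t : Fin 2 →₀ ℕ) : Fin 3 →₀ ℕ :=
  Finsupp.equivFunOnFinite.symm (Fin.insertNth j (m - (t 0 + t 1)) ![t 0, t 1])

/-- homogenization in degree `m` -/
noncomputable def homP (j : Fin 3) (m : ℕ) (q : MvPolynomial (Fin 2) k) : MvPolynomial (Fin 3) k :=
  ∑ t ∈ q.support, monomial (homExp j m t) (coeff t q)

/-- exponent after dehomogenization -/
noncomputable def dhExp (j : Fin 3) (s : Fin 3 →₀ ℕ) : Fin 2 →₀ ℕ :=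
  Finsupp.equivFunOnFinite.symm ![s (j.succAbove 0), s (j.succAbove 1)]

theorem dh_monomial (j : Fin 3) (s : Fin 3 →₀ ℕ) (c : k) :
    dh j (monomial s c) = monomial (dhExp j s) c := by
  conv_rhs => rw [← aeval_X_left_apply (monomial (dhExp j s) c),
    show (X : Fin 2 → MvPolynomial (Fin 2) k) = ![X 0, X 1] from funext fun i => by fin_cases i <;> rfl,
    aeval_monomial_two]
  rw [dh, aeval_monomial, Finsupp.prod_fintype _ _ (fun i => pow_zero _), Fin.prod_univ_succAbove _ j,
    Fin.prod_univ_two, Fin.insertNth_apply_same, Fin.insertNth_apply_succAbove, Fin.insertNth_apply_succAbove,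
    one_pow, one_mul]
  simp [dhExp]

theorem degree_three (j : Fin 3) (s : Fin 3 →₀ ℕ) :
    s.degree = s j + (s (j.succAbove 0) + s (j.succAbove 1)) := by
  rw [Finsupp.degree_eq_sum, Fin.sum_univ_succAbove _ j, Fin.sum_univ_two]

theorem isHomogeneous_homP (j : Fin 3) {m : ℕ} {q : MvPolynomial (Fin 2) k} (hq : q.totalDegree ≤ m) :
    (homP j m q).IsHomogeneous m := by
  refine IsHomogeneous.sum _ _ _ fun t ht => isHomogeneous_monomial _ ?_
  have h := support_deg_le q ht
  rw [degree_three j]
  simp only [homExp, Finsupp.equivFunOnFinite_symm_apply_apply, Fin.insertNth_apply_same,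
    Fin.insertNth_apply_succAbove, Matrix.cons_val_zero, Matrix.cons_val_one]
  omega

theorem dh_homP (j : Fin 3) (m : ℕ) (q : MvPolynomial (Fin 2) k) : dh j (homP j m q) = q := by
  conv_rhs => rw [q.as_sum]
  rw [homP, map_sum]
  refine Finset.sum_congr rfl fun t _ => ?_
  rw [dh_monomial, show dhExp j (homExp j m t) = t from
    Finsupp.ext fun i => by fin_cases i <;> simp [dhExp, homExp]]

theorem degree_of_mem {ι : Type*} {m : ℕ} {F : MvPolynomial ι k} (hF : F.IsHomogeneous m) {s : ι →₀ ℕ}
    (hs : s ∈ F.support) : s.degree = m := by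
  rw [Finsupp.degree_eq_weight_one]
  exact hF (mem_support_iff.1 hs)

theorem totalDegree_dh (j : Fin 3) {m : ℕ} {F : MvPolynomial (Fin 3) k} (hF : F.IsHomogeneous m) :
    (dh j F).totalDegree ≤ m := by
  conv_lhs => rw [F.as_sum, map_sum]
  refine (totalDegree_finsetSum _ _).trans (Finset.sup_le fun s hs => ?_)
  rw [dh_monomial]
  refine (totalDegree_monomial_le _ _).trans ?_
  rw [← degree_of_mem hF hs, Finsupp.sum_fintype _ _ (fun _ => rfl), Fin.sum_univ_two, degree_three j]
  simp [dhExp]

theorem dh_eq_zero (j : Fin 3) {m : ℕ} {F : MvPolynomial (Fin 3) k} (hF : F.IsHomogeneous m)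
    (h : dh j F = 0) : F = 0 := by
  classical
  by_contra hne
  obtain ⟨s0, hs0⟩ := Finset.nonempty_of_ne_empty fun he => hne (support_eq_empty.1 he)
  have hc := congrArg (coeff (dhExp j s0)) h
  rw [F.as_sum, map_sum, coeff_sum, coeff_zero, Finset.sum_eq_single s0 ?_ (fun h => absurd hs0 h),
    dh_monomial, coeff_monomial, if_pos rfl] at hc
  · exact mem_support_iff.1 hs0 hc
  intro s hs hne'
  rw [dh_monomial, coeff_monomial, if_neg]
  intro he
  refine hne' (Finsupp.ext fun i => ?_)
  have h0 := DFunLike.congr_fun he 0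
  have h1 := DFunLike.congr_fun he 1
  simp only [dhExp, Finsupp.equivFunOnFinite_symm_apply_apply, Matrix.cons_val_zero, Matrix.cons_val_one] at h0 h1
  have e := degree_of_mem hF hs
  have e0 := degree_of_mem hF hs0
  rw [degree_three j] at e e0
  rcases Fin.eq_self_or_eq_succAbove j i with rfl | ⟨l, rfl⟩
  · omega
  · fin_cases l
    · exact h0
    · exact h1

theorem dh_inj (j : Fin 3) {m : ℕ} {F G : MvPolynomial (Fin 3) k} (hF : F.IsHomogeneous m)
    (hG : G.IsHomogeneous m) (h : dh j F = dh j G) : F = G :=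
  sub_eq_zero.1 (dh_eq_zero j (hF.sub hG) (by rw [map_sub, h, sub_self]))

theorem eq_C_of_isUnit_homogeneous {m : ℕ} {G : MvPolynomial (Fin 3) k} (hG : G.IsHomogeneous m)
    (hu : IsUnit G) : m = 0 ∧ ∃ e : k, G = C e := by
  obtain ⟨e, -, he⟩ := isUnit_iff_eq_C_of_isReduced.1 hu
  exact ⟨hG.inj_right (he ▸ isHomogeneous_C _ e) hu.ne_zero, e, he⟩

/-- a homogeneous polynomial scales -/
theorem aeval_scale {ι A : Type*} [Fintype ι] [CommRing A] [Algebra k A] {m : ℕ} {F : MvPolynomial ι k}
    (hF : F.IsHomogeneous m) (c : A) (v : ι → A) :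
    aeval (fun i => c * v i) F = c ^ m * aeval v F := by
  conv_lhs => rw [F.as_sum]
  conv_rhs => rw [F.as_sum]
  rw [map_sum, map_sum, Finset.mul_sum]
  refine Finset.sum_congr rfl fun s hs => ?_
  rw [aeval_monomial, aeval_monomial, Finsupp.prod_fintype _ _ (fun i => pow_zero _),
    Finsupp.prod_fintype _ _ (fun i => pow_zero _)]
  simp only [mul_pow, Finset.prod_mul_distrib, Finset.prod_pow_eq_pow_sum]
  rw [← Finsupp.degree_eq_sum, degree_of_mem hF hs]
  ring

theorem pderiv_aeval_fintype {ι σ : Type*} [Fintype ι] (l : σ) (v : ι → MvPolynomial σ k) (q : MvPolynomial ι k) :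
    pderiv l (aeval v q) = ∑ i, aeval v (pderiv i q) * pderiv l (v i) := by
  classical
  induction q using MvPolynomial.induction_on with
  | C e => simp
  | add p q hp hq => simp only [map_add, hp, hq, add_mul, Finset.sum_add_distrib]
  | mul_X p j hp =>
    have e : ∀ i, aeval v (pderiv i (p * X j)) * pderiv l (v i) =
        v j * (aeval v (pderiv i p) * pderiv l (v i)) + if i = j then aeval v p * pderiv l (v j) else 0 := fun i => by
      rw [Derivation.leibniz, pderiv_X]
      simp only [smul_eq_mul, map_add, map_mul, aeval_X]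
      split_ifs with h
      · subst h; simp; ring
      · simp [Pi.single_eq_of_ne (Ne.symm h)]; ring
    rw [map_mul, aeval_X, Derivation.leibniz, smul_eq_mul, smul_eq_mul, hp,
      Finset.sum_congr rfl fun i _ => e i, Finset.sum_add_distrib, Finset.sum_ite_eq', Finset.mul_sum]
    simp [add_comm]

theorem pderiv_dh (j : Fin 3) (l : Fin 2) (F : MvPolynomial (Fin 3) k) :
    pderiv l (dh j F) = dh j (pderiv (j.succAbove l) F) := by
  rw [dh, pderiv_aeval_fintype, Fin.sum_univ_succAbove _ j, Fin.sum_univ_two, Fin.insertNth_apply_same,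
    Fin.insertNth_apply_succAbove, Fin.insertNth_apply_succAbove]
  fin_cases l <;> simp

theorem aeval_dh (j : Fin 3) {r : Fin 3 → K} (hr : r j = 1) (F : MvPolynomial (Fin 3) k) :
    aeval ![r (j.succAbove 0), r (j.succAbove 1)] (dh j F) = aeval r F := by
  rw [dh, comp_aeval_apply]
  congr 2
  funext i
  rcases Fin.eq_self_or_eq_succAbove j i with rfl | ⟨l, rfl⟩
  · rw [Fin.insertNth_apply_same, map_one, hr]
  · rw [Fin.insertNth_apply_succAbove]
    fin_cases l <;> simp

theorem gen_ratios {φ : Fin 3 → K} {j : Fin 3} (hj0 : φ j ≠ 0)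
    (hbir : IntermediateField.adjoin k (Set.range fun i => φ i / φ 0) = ⊤) :
    IntermediateField.adjoin k ({φ (j.succAbove 0) / φ j, φ (j.succAbove 1) / φ j} : Set K) = ⊤ := by
  rw [eq_top_iff, ← hbir, IntermediateField.adjoin_le_iff]
  set L := IntermediateField.adjoin k ({φ (j.succAbove 0) / φ j, φ (j.succAbove 1) / φ j} : Set K)
  have hmem : ∀ i, φ i / φ j ∈ L := fun i => by
    rcases Fin.eq_self_or_eq_succAbove j i with rfl | ⟨l, rfl⟩
    · rw [div_self hj0]; exact one_mem L
    · fin_cases l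
      · exact IntermediateField.subset_adjoin k _ (Set.mem_insert _ _)
      · exact IntermediateField.subset_adjoin k _ (Set.mem_insert_of_mem _ rfl)
  rintro _ ⟨i, rfl⟩
  show φ i / φ 0 ∈ L
  rw [show φ i / φ 0 = (φ i / φ j) / (φ 0 / φ j) by rw [div_div_div_cancel_right₀ hj0]]
  exact div_mem (hmem i) (hmem 0)

theorem adjoin_ratios {φ : Fin 3 → K} {j : Fin 3} (hj0 : φ j ≠ 0) :
    Algebra.adjoin k (Set.range fun i => φ i / φ j) =
      Algebra.adjoin k ({φ (j.succAbove 0) / φ j, φ (j.succAbove 1) / φ j} : Set K) := by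
  refine le_antisymm (Algebra.adjoin_le ?_) (Algebra.adjoin_mono ?_)
  · rintro _ ⟨i, rfl⟩
    show φ i / φ j ∈ Algebra.adjoin k _
    rcases Fin.eq_self_or_eq_succAbove j i with rfl | ⟨l, rfl⟩
    · rw [div_self hj0]; exact one_mem _
    · fin_cases l
      · exact Algebra.subset_adjoin (Set.mem_insert _ _)
      · exact Algebra.subset_adjoin (Set.mem_insert_of_mem _ rfl)
  · rintro _ (rfl | rfl) <;> exact ⟨_, rfl⟩

/-- the dehomogenized equation of an irreducible projective curve generates the relations -/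
theorem dh_equation [IsAlgClosed k] (hK : IsFunctionField k K) (j : Fin 3) {φ : Fin 3 → K} (hj0 : φ j ≠ 0)
    (hbir : IntermediateField.adjoin k (Set.range fun i => φ i / φ 0) = ⊤)
    {F : MvPolynomial (Fin 3) k} {d : ℕ} (hF : Irreducible F) (hhom : F.IsHomogeneous d) (hFφ : aeval φ F = 0) :
    aeval (fun i => φ i / φ j) F = 0 ∧
      aeval ![φ (j.succAbove 0) / φ j, φ (j.succAbove 1) / φ j] (dh j F) = 0 ∧
      ∀ g, aeval ![φ (j.succAbove 0) / φ j, φ (j.succAbove 1) / φ j] g = 0 → dh j F ∣ g := by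
  have hr : aeval (fun i => φ i / φ j) F = 0 := by
    rw [show (fun i => φ i / φ j) = fun i => (φ j)⁻¹ * φ i from funext fun i => div_eq_inv_mul _ _,
      aeval_scale hhom, hFφ, mul_zero]
  have hz : aeval ![φ (j.succAbove 0) / φ j, φ (j.succAbove 1) / φ j] (dh j F) = 0 :=
    (aeval_dh j (r := fun i => φ i / φ j) (div_self hj0) F).trans hr
  refine ⟨hr, hz, ?_⟩
  have hgen := gen_ratios hj0 hbir
  have hg0 : dh j F ≠ 0 := fun h => hF.ne_zero (dh_eq_zero j hhom h)
  obtain ⟨g0, hg0i, hg0z, q, hq⟩ : ∃ g0, Irreducible g0 ∧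
      aeval ![φ (j.succAbove 0) / φ j, φ (j.succAbove 1) / φ j] g0 = 0 ∧ g0 ∣ dh j F := by
    suffices ∀ g : MvPolynomial (Fin 2) k, g ≠ 0 →
        aeval ![φ (j.succAbove 0) / φ j, φ (j.succAbove 1) / φ j] g = 0 →
        ∃ g0, Irreducible g0 ∧ aeval ![φ (j.succAbove 0) / φ j, φ (j.succAbove 1) / φ j] g0 = 0 ∧ g0 ∣ g from
      this _ hg0 hz
    intro g hg
    induction g using WfDvdMonoid.induction_on_irreducible with
    | zero => exact absurd rfl hg
    | unit u hu => exact fun h => absurd h (hu.map (aeval _)).ne_zero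
    | mul a i ha hi ih =>
      intro h
      rw [map_mul] at h
      rcases mul_eq_zero.1 h with h | h
      · exact ⟨i, hi, h, dvd_mul_right i a⟩
      · obtain ⟨g0, h1, h2, h3⟩ := ih ha h
        exact ⟨g0, h1, h2, h3.trans (dvd_mul_left a i)⟩
  have hq0 : q ≠ 0 := fun h => hg0 (by rw [hq, h, mul_zero])
  have hdeg : g0.totalDegree + q.totalDegree ≤ d := by
    rw [← totalDegree_mul_of_isDomain hg0i.ne_zero hq0, ← hq]
    exact totalDegree_dh j hhom
  have h1 := isHomogeneous_homP (k := k) j (le_refl g0.totalDegree)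
  have h2 := isHomogeneous_homP (k := k) j (show q.totalDegree ≤ d - g0.totalDegree by omega)
  have h12 := h1.mul h2
  rw [show g0.totalDegree + (d - g0.totalDegree) = d by omega] at h12
  have hFeq := dh_inj j hhom h12 (by rw [map_mul, dh_homP, dh_homP, hq])
  have hqu : IsUnit q := by
    rcases hF.isUnit_or_isUnit hFeq with hu | hu
    · exfalso
      obtain ⟨hd0, -⟩ := eq_C_of_isUnit_homogeneous h1 hu
      rw [totalDegree_eq_zero_iff_eq_C] at hd0
      refine hg0i.not_isUnit ?_
      rw [hd0]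
      refine (isUnit_iff_ne_zero.2 fun h => hg0i.ne_zero ?_).map C
      rw [hd0, h, map_zero]
    · obtain ⟨-, e, he⟩ := eq_C_of_isUnit_homogeneous h2 hu
      have := hu.map (dh (k := k) j)
      rwa [dh_homP] at this
  intro g hg
  rw [hq]
  exact (associated_mul_unit_right g0 q hqu).symm.dvd.trans ((plane_equation hK hgen hg0i hg0z).1 g hg)

/-- nonsingularity at an affine point read through the values of the partial derivatives -/
theorem point_grad [IsAlgClosed k] (hK : IsFunctionField k K) (P : Place k K) {a b : K}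
    (ha : P.1 a ≤ 1) (hb : P.1 b ≤ 1) (hgen : IntermediateField.adjoin k ({a, b} : Set K) = ⊤)
    {f : MvPolynomial (Fin 2) k} (hf : aeval ![a, b] f = 0) (hker : ∀ g, aeval ![a, b] g = 0 → f ∣ g) :
    (∀ z : K, P.1 z ≤ 1 → InPt P a b z) ↔
      P.1 (aeval ![a, b] (pderiv 0 f)) = 1 ∨ P.1 (aeval ![a, b] (pderiv 1 f)) = 1 := by
  obtain ⟨c, hc⟩ := exists_const hK P ha
  obtain ⟨d, hd⟩ := exists_const hK P hb
  obtain ⟨a', rfl⟩ : ∃ a', a = a' + algebraMap k K c := ⟨a - algebraMap k K c, by ring⟩
  obtain ⟨b', rfl⟩ : ∃ b', b = b' + algebraMap k K d := ⟨b - algebraMap k K d, by ring⟩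
  rw [add_sub_cancel_right] at hc hd
  have hgen' : IntermediateField.adjoin k ({a', b'} : Set K) = ⊤ := by
    rw [eq_top_iff, ← hgen, IntermediateField.adjoin_le_iff]
    rintro v (rfl | rfl)
    · exact add_mem (IntermediateField.subset_adjoin k _ (Set.mem_insert _ _)) (IntermediateField.algebraMap_mem _ c)
    · exact add_mem (IntermediateField.subset_adjoin k _ (Set.mem_insert_of_mem _ rfl)) (IntermediateField.algebraMap_mem _ d)
  have hf' : aeval ![a', b'] (shiftP c d f) = 0 := by rw [aeval_shiftP, hf]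
  have hker' : ∀ g, aeval ![a', b'] g = 0 → shiftP c d f ∣ g := fun g hg => by
    obtain ⟨q, hq⟩ := hker (shiftP (-c) (-d) g) (by
      rw [aeval_shiftP, map_neg, map_neg, add_neg_cancel_right, add_neg_cancel_right, hg])
    exact ⟨shiftP c d q, by rw [← map_mul, ← hq, shiftP_shiftP]⟩
  have key : ∀ i, P.1 (aeval ![a' + algebraMap k K c, b' + algebraMap k K d] (pderiv i f)) = 1 ↔
      constantCoeff (pderiv i (shiftP c d f)) ≠ 0 := fun i => by
    rw [← aeval_shiftP, ← pderiv_shiftP]
    refine ⟨fun h h0 => ?_, val_aeval_eq_one P (two_val_lt hc hd)⟩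
    have := val_aeval_sub_const P (two_val_lt hc hd) (pderiv i (shiftP c d f))
    rw [h0, map_zero, sub_zero, h] at this
    exact lt_irrefl _ this
  rw [key, key]
  refine ⟨fun h => grad_of_inPt hc hd ?_ hker' hf' fun z hz => (h z hz).shift, fun h z hz => ?_⟩
  · by_contra hcon
    simp only [not_or, not_not] at hcon
    obtain ⟨u, hu⟩ := exists_transcendental hK
    have : IntermediateField.adjoin k ({a', b'} : Set K) ≤ ⊥ :=
      IntermediateField.adjoin_le_iff.2 (by rintro v (rfl | rfl) <;> simp [hcon])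
    obtain ⟨e, he⟩ := IntermediateField.mem_bot.1 (this (hgen' ▸ IntermediateField.mem_top : u ∈ _))
    exact hu (he ▸ isAlgebraic_algebraMap e)
  · have := inPt_of_grad' hc hd hgen' hf' h z hz
    refine InPt.shift (c := -c) (d := -d) ?_
    rwa [map_neg, map_neg, add_neg_cancel_right, add_neg_cancel_right]

/-- the tangent form vanishes to second order -/
theorem tangent_two (P : Place k K) {a b : K} {c d : k} (hc : P.1 (a - algebraMap k K c) < 1)
    (hd : P.1 (b - algebraMap k K d) < 1) {f : MvPolynomial (Fin 2) k} (hf : aeval ![a, b] f = 0)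
    {e0 e1 : k} (h0 : P.1 (aeval ![a, b] (pderiv 0 f) - algebraMap k K e0) < 1)
    (h1 : P.1 (aeval ![a, b] (pderiv 1 f) - algebraMap k K e1) < 1) :
    P.1 (algebraMap k K e0 * (a - algebraMap k K c) + algebraMap k K e1 * (b - algebraMap k K d)) ≤ exp (-2) := by
  obtain ⟨a', rfl⟩ : ∃ a', a = a' + algebraMap k K c := ⟨a - algebraMap k K c, by ring⟩
  obtain ⟨b', rfl⟩ : ∃ b', b = b' + algebraMap k K d := ⟨b - algebraMap k K d, by ring⟩
  rw [add_sub_cancel_right] at hc hd ⊢
  rw [add_sub_cancel_right]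
  have hab := two_val_lt hc hd
  rw [← aeval_shiftP] at hf h0 h1
  rw [← pderiv_shiftP] at h0 h1
  obtain ⟨c0, G, H, he⟩ := exists_decomp (shiftP c d f)
  rw [he] at hf h0 h1
  have hc0 : c0 = 0 := by
    have := constantCoeff_eq_zero P hab (r := C c0 + X 0 * G + X 1 * H) (by simp [hf])
    simpa using this
  have eG : constantCoeff G = e0 := by
    rw [← (grad_decomp c0 G H).1]
    exact const_unique (val_aeval_sub_const P hab _) h0
  have eH : constantCoeff H = e1 := by
    rw [← (grad_decomp c0 G H).2]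
    exact const_unique (val_aeval_sub_const P hab _) h1
  simp only [hc0, map_zero, zero_add, map_add, map_mul, aeval_X, Matrix.cons_val_zero, Matrix.cons_val_one] at hf
  rw [show algebraMap k K e0 * a' + algebraMap k K e1 * b' =
      -((aeval ![a', b'] G - algebraMap k K e0) * a' + (aeval ![a', b'] H - algebraMap k K e1) * b') by
    linear_combination hf, Valuation.map_neg, show (-2 : ℤ) = -1 + -1 by norm_num, exp_add]
  refine (P.1.map_add _ _).trans (max_le ?_ ?_) <;> rw [map_mul]
  · exact mul_le_mul' ((lt_one_iff_le P _).1 (eG ▸ val_aeval_sub_const P hab G)) ((lt_one_iff_le P _).1 hc)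
  · exact mul_le_mul' ((lt_one_iff_le P _).1 (eH ▸ val_aeval_sub_const P hab H)) ((lt_one_iff_le P _).1 hd)

/-- residues of values -/
theorem residue_aeval {σ : Type*} (P : Place k K) (a : σ → P.O) (g : MvPolynomial σ k) :
    aeval (fun i => IsLocalRing.residue P.O (a i)) g = IsLocalRing.residue P.O (aeval a g) ∧
      ((aeval a g : P.O) : K) = aeval (fun i => (a i : K)) g := by
  induction g using MvPolynomial.induction_on with
  | C c => exact ⟨by rw [aeval_C, aeval_C]; rfl, by rw [aeval_C, aeval_C]; rfl⟩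
  | add p q hp hq => exact ⟨by rw [map_add, map_add, map_add, hp.1, hq.1], by rw [map_add, map_add, AddMemClass.coe_add, hp.2, hq.2]⟩
  | mul_X p i hp => exact ⟨by rw [map_mul, map_mul, aeval_X, aeval_X, map_mul, hp.1], by rw [map_mul, map_mul, aeval_X, aeval_X, MulMemClass.coe_mul, hp.2]⟩

theorem residue_aeval_eq_zero {σ : Type*} (P : Place k K) (a : σ → P.O) (g : MvPolynomial σ k) :
    aeval (fun i => IsLocalRing.residue P.O (a i)) g = 0 ↔ P.1 (aeval (fun i => (a i : K)) g) < 1 := by
  rw [(residue_aeval P a g).1, residue_eq_zero_iff_val, (residue_aeval P a g).2]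

end Groth.Agent.FunFldLib
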