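import Groth.Agent.FunFldLib.WStrong
import Groth.Agent.FunFldLib.RR
import Groth.Agent.FunFldLib.Gaps

/-! In characteristic zero a linear system has finitely many inflection places. -/

set_option autoImplicit false

open WithZero

namespace Groth.Agent.FunFldLib

open FunFld

variable {k K : Type*} [Field k] [Field K] [Algebra k K] [IsAlgClosed k] [CharZero k]

theorem orders_classical (hK : IsFunctionField k K) {n : ℕ} {φ : Fin (n + 1) → K} (hφ : LinearIndependent k φ)
    (P : Place k K) {s : K} {H : K →ₐ[k] PowerSeries K} (hH : LocRes.IsHasseFamily s H) {J : Fin n → ℕ}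
    (hJ : IsOrders K (hcol (AlgHom.id k K) H φ) J) (l : Fin n) : J l ≤ (l : ℕ) + 1 := by
  obtain ⟨y, t, Ht, J', hHt, hy, ht, heff, hnorm, hli, hord, hJ', he⟩ := exists_local hK (AlgHom.id k K) hφ hH hJ P
  obtain ⟨hJ1, f, A, hf0, hf, -, -, hA, hAf⟩ := exists_adapted hK hli heff hnorm ht hHt hJ'
  have hbin := binom_det_ne_zero (k := k) hJ'.1 hJ1 (B := Finset.univ.sup J') (fun r => Finset.le_sup (Finset.mem_univ r))
    (Or.inl ringChar.eq_zero) (le_refl 1)
  have hI : StrictMono fun s : Fin n => (s : ℕ) + 1 := fun a b h => Nat.add_lt_add_right (show (a : ℕ) < b from h) 1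
  have hval := ((wr_core hK (isFixedPt_id P) hf0 ht hHt hJ1 hf hI).2 (Or.inl fun l => Nat.succ_pos _)).2 hbin
  refine orders_le (hcol_zero_ne hli _ Ht) hord hI ((det_wrMat_ne_zero_iff _ Ht (y • φ) _).1 fun h0 => ?_) l
  rw [wrMat_basis_change (AlgHom.id k K) Ht (y • φ) f A hAf, mul_eq_zero] at h0
  rcases h0 with h0 | h0
  · exact hA ((map_eq_zero _).1 h0)
  · rw [h0, map_zero] at hval; exact exp_ne_zero hval.symm

/-- only finitely many integral places see a member vanishing to order above the dimension -/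
theorem finite_inflection (hK : IsFunctionField k K) {n : ℕ} {φ : Fin (n + 1) → K} (hφ : LinearIndependent k φ)
    (h1 : (1 : K) ∈ Submodule.span k (Set.range φ)) :
    {Q : Place k K | (∀ i, Q.1 (φ i) ≤ 1) ∧ ∃ e : ℕ, n < e ∧ ∃ f ∈ Submodule.span k (Set.range φ),
      Q.1 f = exp (-(e : ℤ))}.Finite := by
  classical
  obtain ⟨s, H, hH⟩ := exists_separating_var hK
  obtain ⟨J, hJ⟩ := exists_orders_hcol hK hφ (AlgHom.id k K) hH
  refine (wD hK (AlgHom.id k K) hH φ J).support.finite_toSet.subset fun Q hQ => ?_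
  obtain ⟨hint, e, he, f, hf, hfv⟩ := hQ
  obtain ⟨y, t, Ht, J', hHt, hy, ht, heff, hnorm, hli, hord, hJ', hW⟩ := exists_local hK (AlgHom.id k K) hφ hH hJ Q
  have hspan : ∀ z ∈ Submodule.span k (Set.range φ), Q.1 z ≤ 1 := by
    intro z hz
    induction hz using Submodule.span_induction with
    | mem w hw => obtain ⟨i, rfl⟩ := hw; exact hint i
    | zero => rw [map_zero]; exact zero_le
    | add a b _ _ ha hb => exact (Q.1.map_add a b).trans (max_le ha hb)
    | smul c a _ ha => rw [Algebra.smul_def, map_mul]; exact mul_le_one' (Q.2.1 c) ha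
  have hyspan : ∀ z, z ∈ Submodule.span k (Set.range φ) → y * z ∈ Submodule.span k (Set.range (y • φ)) := by
    intro z hz
    have : Submodule.span k (Set.range (y • φ)) = (Submodule.span k (Set.range φ)).map (LinearMap.mulLeft k y) := by
      rw [Submodule.map_span, ← Set.range_comp]; rfl
    rw [this]; exact ⟨z, hz, rfl⟩
  have hyint : ∀ z ∈ Submodule.span k (Set.range (y • φ)), Q.1 z ≤ 1 := by
    intro z hz
    induction hz using Submodule.span_induction with
    | mem w hw => obtain ⟨i, rfl⟩ := hw; exact hnorm i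
    | zero => rw [map_zero]; exact zero_le
    | add a b _ _ ha hb => exact (Q.1.map_add a b).trans (max_le ha hb)
    | smul c a _ ha => rw [Algebra.smul_def, map_mul]; exact mul_le_one' (Q.2.1 c) ha
  have hy1 : Q.1 y = 1 := by
    refine le_antisymm ?_ ?_
    · have := hyint _ (hyspan 1 h1); rwa [mul_one] at this
    · obtain ⟨z, hz, hzy⟩ : ∃ z ∈ Submodule.span k (Set.range φ), y * z = 1 := by
        have : Submodule.span k (Set.range (y • φ)) = (Submodule.span k (Set.range φ)).map (LinearMap.mulLeft k y) := by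
          rw [Submodule.map_span, ← Set.range_comp]; rfl
        rw [this] at heff; exact heff
      calc (1 : ℤᵐ⁰) = Q.1 y * Q.1 z := by rw [← map_mul, hzy, map_one]
        _ ≤ Q.1 y := mul_le_of_le_one_right' (hspan z hz)
  obtain ⟨l₀, hl₀⟩ := (hJ'.2 e).2 ((hcolAt_jump_iff hK ht hHt (φ := y • φ) hnorm e).2
    ⟨by omega, y * f, hyspan f hf, by rw [map_mul, hy1, one_mul, hfv]⟩)
  rw [Finset.mem_coe, Finsupp.mem_support_iff, hW]
  have hle := (le_wD hK (AlgHom.id k K) hli heff hnorm ht hHt hord hJ' (isFixedPt_id Q)).1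
  have hpos : 0 < ∑ l, ((J' l : ℤ) - J l) := by
    refine Finset.sum_pos' (fun l _ => ?_) ⟨l₀, Finset.mem_univ _, ?_⟩
    · have := orders_le_at hK hli heff hnorm ht hHt hord hJ' l; omega
    · have := orders_classical hK hφ Q hH hJ l₀; have := l₀.isLt; omega
  omega

/-- finitely many torsion points of bounded order on a curve of genus one -/
theorem finite_torsion (hK : IsFunctionField k K) (hg : genus k K = 1) (P : Place k K) (e : ℕ) (he : 1 ≤ e) :
    {Q : Place k K | Q ≠ P ∧ ∃ f ∈ L (Finsupp.single P (e : ℤ)), f ≠ 0 ∧ Q.ord f = (e : ℤ)}.Finite := by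
  classical
  haveI := finite_L hK.1 (Finsupp.single P (e : ℤ))
  have hell := ell_large hK (D := Finsupp.single P (e : ℤ)) (by rw [deg_single, deg_eq_one hK P, hg]; push_cast; omega)
  rw [deg_single, deg_eq_one hK P, hg] at hell
  push_cast at hell
  obtain ⟨n, rfl⟩ : ∃ n, e = n + 1 := ⟨e - 1, by omega⟩
  have hdim : Module.finrank k (L (Finsupp.single P ((n + 1 : ℕ) : ℤ))) = n + 1 := by rw [ell] at hell; omega
  let bb := Module.finBasisOfFinrankEq k _ hdim
  let φ : Fin (n + 1) → K := fun i => bb i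
  have hφ : LinearIndependent k φ := bb.linearIndependent.map' (L _).subtype (Submodule.ker_subtype _)
  have hspan : Submodule.span k (Set.range φ) = L (Finsupp.single P ((n + 1 : ℕ) : ℤ)) := by
    rw [show φ = (L _).subtype ∘ bb from rfl, Set.range_comp, Submodule.span_image, bb.span_eq, Submodule.map_subtype_top]
  refine (finite_inflection hK hφ ?_).subset ?_
  · rw [hspan]
    intro R
    rw [map_one, ← exp_zero, exp_le_exp, Finsupp.single_apply]
    split_ifs <;> omega
  · rintro Q ⟨hQP, f, hf, hf0, hfo⟩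
    refine ⟨fun i => ?_, n + 1, by omega, f, hspan ▸ hf, by rw [val_eq_exp Q hf0, hfo]⟩
    have := (bb i).2 Q
    rwa [Finsupp.single_eq_of_ne hQP, exp_zero] at this

/-- large total weight at two places forces a torsion relation -/
theorem pair_torsion (hK : IsFunctionField k K) {P Q : Place k K} (hPQ : P ≠ Q) {d r : ℕ} {D : Divisor k K}
    (hD : D.deg = d) {V : Submodule k K} (hV : V ≤ L D) (hr : Module.finrank k ↥V = r + 1)
    (hw : (r + 1) * d + 1 ≤
        (∑ n ∈ Finset.range d, Module.finrank k ↥(V ⊓ L (D - Finsupp.single P ((n : ℤ) + 1)))) +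
          (∑ n ∈ Finset.range d, Module.finrank k ↥(V ⊓ L (D - Finsupp.single Q ((n : ℤ) + 1)))) + r) :
    ∃ e : ℕ, 1 ≤ e ∧ e ≤ d ∧ ∃ f ∈ L (Finsupp.single P (e : ℤ)), f ≠ 0 ∧ Q.ord f = (e : ℤ) := by
  classical
  haveI := finite_L hK.1 D
  haveI : FiniteDimensional k V := Submodule.finiteDimensional_of_le hV
  let A : ℕ → Submodule k K := fun m => V ⊓ L (D - Finsupp.single P (m : ℤ))
  let B : ℕ → Submodule k K := fun m => V ⊓ L (D - Finsupp.single Q (m : ℤ))
  have hA0 : Module.finrank k (A 0) = r + 1 := by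
    have e : (D - Finsupp.single P ((0 : ℕ) : ℤ) : Divisor k K) = D := by simp
    change Module.finrank k ↥(V ⊓ L (D - Finsupp.single P ((0 : ℕ) : ℤ))) = r + 1
    rw [e, inf_eq_left.2 hV, hr]
  have hB0 : Module.finrank k (B 0) = r + 1 := by
    have e : (D - Finsupp.single Q ((0 : ℕ) : ℤ) : Divisor k K) = D := by simp
    change Module.finrank k ↥(V ⊓ L (D - Finsupp.single Q ((0 : ℕ) : ℤ))) = r + 1
    rw [e, inf_eq_left.2 hV, hr]
  let E : ℕ → Divisor k K := fun m => D - Finsupp.single P (m : ℤ) - Finsupp.single Q (((d - m : ℕ) : ℤ))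
  have hint : ∀ m, A m ⊓ B (d - m) ≤ L (E m) := by
    rintro m x ⟨⟨-, hxA⟩, -, hxB⟩ R
    rcases eq_or_ne R P with rfl | hR
    · have := hxA R
      simp only [E, Finsupp.sub_apply, Finsupp.single_eq_same, Finsupp.single_eq_of_ne hPQ, sub_zero] at this ⊢
      exact this
    · have h1 := hxA R
      have h2 := hxB R
      simp only [E, Finsupp.sub_apply, Finsupp.single_eq_of_ne hR, sub_zero] at h1 ⊢
      simpa only [Finsupp.sub_apply] using h2
  have hdeg : ∀ m, m ≤ d → (E m).deg = 0 := fun m hm => by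
    simp only [E, deg_sub, deg_single, deg_eq_one hK, hD]; push_cast; omega
  let c : ℕ → ℕ := fun m => Module.finrank k ↥(A m ⊓ B (d - m))
  have hc : ∀ m, Module.finrank k (A m) + Module.finrank k (B (d - m)) ≤ c m + (r + 1) := fun m => by
    haveI : FiniteDimensional k (A m) := Submodule.finiteDimensional_of_le inf_le_left
    haveI : FiniteDimensional k (B (d - m)) := Submodule.finiteDimensional_of_le inf_le_left
    have h := Submodule.finrank_sup_add_finrank_inf_eq (A m) (B (d - m))
    have h2 := Submodule.finrank_mono (sup_le inf_le_left inf_le_left : A m ⊔ B (d - m) ≤ V)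
    simp only [c]; omega
  have hc1 : ∀ m, m ≤ d → c m ≤ 1 := fun m hm => by
    haveI := finite_L hK.1 (E m)
    exact (Submodule.finrank_mono (hint m)).trans (ell_le_one_of_deg_zero hK (hdeg m hm))
  have hsum : 2 ≤ ∑ m ∈ Finset.range (d + 1), c m := by
    have h := Finset.sum_le_sum (s := Finset.range (d + 1)) fun m _ => hc m
    rw [Finset.sum_add_distrib, Finset.sum_add_distrib, Finset.sum_const, Finset.card_range, smul_eq_mul] at h
    have e1 : ∑ m ∈ Finset.range (d + 1), Module.finrank k (A m) =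
        (∑ n ∈ Finset.range d, Module.finrank k ↥(V ⊓ L (D - Finsupp.single P ((n : ℤ) + 1)))) + (r + 1) := by
      rw [Finset.sum_range_succ', hA0]
      exact congrArg (· + (r + 1)) (Finset.sum_congr rfl fun n _ => rfl)
    have e2 : ∑ m ∈ Finset.range (d + 1), Module.finrank k (B (d - m)) =
        (∑ n ∈ Finset.range d, Module.finrank k ↥(V ⊓ L (D - Finsupp.single Q ((n : ℤ) + 1)))) + (r + 1) := by
      have e := Finset.sum_range_reflect (fun m => Module.finrank k (B m)) (d + 1)
      rw [Nat.add_sub_cancel] at e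
      rw [e, Finset.sum_range_succ', hB0]
      exact congrArg (· + (r + 1)) (Finset.sum_congr rfl fun n _ => rfl)
    rw [e1, e2] at h
    nlinarith
  obtain ⟨m₁, hm₁, m₂, hm₂, hlt, h1, h2⟩ : ∃ m₁ ≤ d, ∃ m₂ ≤ d, m₁ < m₂ ∧ c m₁ ≠ 0 ∧ c m₂ ≠ 0 := by
    have hcard : 2 ≤ ((Finset.range (d + 1)).filter fun m => c m ≠ 0).card := by
      refine hsum.trans ?_
      rw [← Finset.sum_filter_ne_zero, Finset.card_eq_sum_ones]
      exact Finset.sum_le_sum fun m hm => hc1 m (by
        have := (Finset.mem_filter.1 hm).1; rw [Finset.mem_range] at this; omega)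
    obtain ⟨a, ha, b, hb, hab⟩ := Finset.one_lt_card.1 (show 1 < _ from hcard)
    simp only [Finset.mem_filter, Finset.mem_range] at ha hb
    rcases lt_or_gt_of_ne hab with h | h
    · exact ⟨a, by omega, b, by omega, h, ha.2, hb.2⟩
    · exact ⟨b, by omega, a, by omega, h, hb.2, ha.2⟩
  have hne : ∀ m, m ≤ d → c m ≠ 0 → ∃ x : K, x ≠ 0 ∧ ∀ R : Place k K, R.ord x = -(E m R) := by
    intro m hm hcm
    obtain ⟨x, hx, hx0⟩ := Submodule.exists_mem_ne_zero_of_ne_bot (fun h => hcm (show Module.finrank k ↥(A m ⊓ B (d - m)) = 0 from h ▸ finrank_bot k K) :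
      A m ⊓ B (d - m) ≠ ⊥)
    refine ⟨x, hx0, fun R => ?_⟩
    have hnn : ∀ S : Place k K, 0 ≤ (E m + FunFld.div k x : Divisor k K) S := fun S => by
      have := (val_le_exp_iff S hx0 _).1 (hint m hx S)
      rw [Finsupp.add_apply, div_apply hK.1]; omega
    have hd0 := deg_eq_sum (E m + FunFld.div k x) (insert R (E m + FunFld.div k x).support) (Finset.subset_insert _ _)
    rw [deg_add, deg_div hK.1, hdeg m hm, add_zero, eq_comm,
      Finset.sum_eq_zero_iff_of_nonneg fun S _ => mul_nonneg (hnn S) (Int.natCast_nonneg _)] at hd0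
    have := hd0 R (Finset.mem_insert_self _ _)
    rw [deg_eq_one hK R, Nat.cast_one, mul_one, Finsupp.add_apply, div_apply hK.1] at this
    omega
  obtain ⟨x₁, hx₁, ho₁⟩ := hne m₁ hm₁ h1
  obtain ⟨x₂, hx₂, ho₂⟩ := hne m₂ hm₂ h2
  have hord : ∀ R : Place k K, R.ord (x₁ / x₂) = E m₂ R - E m₁ R := fun R => by
    rw [div_eq_mul_inv, ord_mul R hx₁ (inv_ne_zero hx₂), ord_inv, ho₁, ho₂]; ring
  refine ⟨m₂ - m₁, by omega, by omega, x₁ / x₂, (mem_L_single_iff P (div_ne_zero hx₁ hx₂) _).2 ⟨?_, fun R hR => ?_⟩,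
    div_ne_zero hx₁ hx₂, ?_⟩
  · rw [hord]; simp only [E, Finsupp.sub_apply, Finsupp.single_eq_same, Finsupp.single_eq_of_ne hPQ]; omega
  · rw [hord]; simp only [E, Finsupp.sub_apply, Finsupp.single_eq_of_ne hR, Finsupp.single_apply]; split_ifs <;> omega
  · rw [hord]; simp only [E, Finsupp.sub_apply, Finsupp.single_eq_same, Finsupp.single_eq_of_ne hPQ.symm]; omega

end Groth.Agent.FunFldLib
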