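import Mathlib.RingTheory.LaurentSeries
import Mathlib.RingTheory.Binomial
import Mathlib.RingTheory.PowerSeries.Basic

/-! Hasse derivatives of Laurent series are a higher derivation. -/

set_option autoImplicit false

open HahnSeries

namespace Groth.Agent.FunFldLib

variable {F : Type*} [Field F]

theorem coeff_mul_Icc (f g : LaurentSeries F) {α β : ℤ} (hf : ∀ a < α, f.coeff a = 0) (hg : ∀ b < β, g.coeff b = 0)
    (N : ℤ) : (f * g).coeff N = ∑ a ∈ Finset.Icc α (N - β), f.coeff a * g.coeff (N - a) := by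
  classical
  rw [HahnSeries.coeff_mul]
  refine Finset.sum_bij_ne_zero (fun ij _ _ => ij.1) (fun ij h1 h2 => ?_) (fun x h1 _ y h3 _ hxy => ?_)
    (fun a _ ha => ?_) (fun ij h1 _ => ?_)
  · have h := (Finset.mem_antidiagonal.1 h1)
    rw [Finset.mem_Icc]
    refine ⟨not_lt.1 fun hlt => h2 (by rw [hf _ hlt, zero_mul]), not_lt.1 fun hlt => h2 ?_⟩
    rw [hg ij.2 (by linarith [h.2.2]), mul_zero]
  · have hx := (Finset.mem_antidiagonal.1 h1).2.2
    have hy := (Finset.mem_antidiagonal.1 h3).2.2
    exact Prod.ext hxy (by linarith)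
  · refine ⟨(a, N - a), Finset.mem_antidiagonal.2 ⟨left_ne_zero_of_mul ha, right_ne_zero_of_mul ha, add_sub_cancel _ _⟩, ha, rfl⟩
  · have h := (Finset.mem_antidiagonal.1 h1).2.2
    rw [show N - ij.1 = ij.2 by linarith]

theorem hasseDeriv_mul (n : ℕ) (f g : LaurentSeries F) :
    LaurentSeries.hasseDeriv F n (f * g) =
      ∑ p ∈ Finset.HasAntidiagonal.antidiagonal n, LaurentSeries.hasseDeriv F p.1 f * LaurentSeries.hasseDeriv F p.2 g := by
  classical
  obtain ⟨α, hα⟩ : ∃ α, ∀ a < α, f.coeff a = 0 := ⟨f.order, fun a ha => coeff_eq_zero_of_lt_order ha⟩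
  obtain ⟨β, hβ⟩ : ∃ β, ∀ b < β, g.coeff b = 0 := ⟨g.order, fun b hb => coeff_eq_zero_of_lt_order hb⟩
  refine HahnSeries.ext (funext fun m => ?_)
  rw [LaurentSeries.hasseDeriv_coeff, coeff_mul_Icc f g hα hβ, Finset.smul_sum, HahnSeries.coeff_sum]
  have hp : ∀ p ∈ Finset.HasAntidiagonal.antidiagonal n,
      (LaurentSeries.hasseDeriv F p.1 f * LaurentSeries.hasseDeriv F p.2 g).coeff m =
        ∑ a ∈ Finset.Icc α (m + n - β), (Ring.choose a p.1 * Ring.choose (m + n - a) p.2) • (f.coeff a * g.coeff (m + n - a)) := by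
    intro p hp
    have hn : (p.1 : ℤ) + p.2 = n := by exact_mod_cast Finset.HasAntidiagonal.mem_antidiagonal.1 hp
    rw [coeff_mul_Icc _ _ (α := α - p.1) (β := β - p.2)
      (fun a ha => by rw [LaurentSeries.hasseDeriv_coeff, hα _ (by omega), smul_zero])
      (fun b hb => by rw [LaurentSeries.hasseDeriv_coeff, hβ _ (by omega), smul_zero])]
    refine Finset.sum_bij' (fun a _ => a + p.1) (fun a _ => a - p.1)
      (fun a ha => by rw [Finset.mem_Icc] at ha ⊢; omega) (fun a ha => by rw [Finset.mem_Icc] at ha ⊢; omega)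
      (fun a _ => by ring) (fun a _ => by ring) (fun a _ => ?_)
    rw [LaurentSeries.hasseDeriv_coeff, LaurentSeries.hasseDeriv_coeff, smul_mul_smul_comm,
      show m - a + p.2 = m + n - (a + p.1) by omega]
  rw [Finset.sum_congr rfl hp, Finset.sum_comm]
  refine Finset.sum_congr rfl fun a _ => ?_
  rw [← Finset.sum_smul, ← Ring.add_choose_eq _ (Commute.all _ _), add_sub_cancel]

/-- `f ↦ ∑ D^{(n)} f T^n` -/
noncomputable def laurentTaylor : LaurentSeries F →+* PowerSeries (LaurentSeries F) where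
  toFun f := PowerSeries.mk fun n => LaurentSeries.hasseDeriv F n f
  map_one' := PowerSeries.ext fun n => by
    rw [PowerSeries.coeff_mk, PowerSeries.coeff_one, ← HahnSeries.single_zero_one, LaurentSeries.hasseDeriv_single]
    rcases n with _ | n
    · simp
    · simp [Ring.choose_zero_succ]
  map_mul' f g := PowerSeries.ext fun n => by
    rw [PowerSeries.coeff_mk, PowerSeries.coeff_mul, hasseDeriv_mul]
    exact Finset.sum_congr rfl fun p _ => by rw [PowerSeries.coeff_mk, PowerSeries.coeff_mk]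
  map_zero' := PowerSeries.ext fun n => by simp
  map_add' f g := PowerSeries.ext fun n => by simp

theorem coeff_laurentTaylor (f : LaurentSeries F) (n : ℕ) :
    PowerSeries.coeff n (laurentTaylor f) = LaurentSeries.hasseDeriv F n f := by
  simp [laurentTaylor]

theorem laurentTaylor_C (c : F) : laurentTaylor (HahnSeries.C c) = PowerSeries.C (HahnSeries.C c) := PowerSeries.ext fun n => by
  rw [coeff_laurentTaylor, PowerSeries.coeff_C, HahnSeries.C_apply, LaurentSeries.hasseDeriv_single]
  rcases n with _ | n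
  · simp
  · simp [Ring.choose_zero_succ]

theorem laurentTaylor_X :
    laurentTaylor (HahnSeries.single 1 1 : LaurentSeries F) = PowerSeries.C (HahnSeries.single 1 1) + PowerSeries.X :=
  PowerSeries.ext fun n => by
    rw [coeff_laurentTaylor, map_add, PowerSeries.coeff_C, PowerSeries.coeff_X, LaurentSeries.hasseDeriv_single]
    rcases n with _ | _ | n
    · simp
    · simp
    · have h : Ring.choose (1 : ℤ) (n + 2) = 0 := by
        rw [show (1 : ℤ) = ((1 : ℕ) : ℤ) from rfl, Ring.choose_natCast, Nat.choose_eq_zero_of_lt (by omega), Nat.cast_zero]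
      simp [h]

end Groth.Agent.FunFldLib
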