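import Mathlib
import Groth.Agent.FunFldLib.GRD

/-! Limit linear series on chains: cusps forced by positive genus, weight bounds along backbones. -/

set_option autoImplicit false

open WithZero

namespace Groth.Agent.FunFldLib

open FunFld

variable {k : Type*} [Field k] [IsAlgClosed k]

section One

variable {K : Type*} [Field K] [Algebra k K]

/-- twice the weight -/
noncomputable abbrev w2 (V : Submodule k K) (D : Divisor k K) (P : Place k K) (d r : ℕ) : ℤ :=
  2 * (vsum V D P d : ℤ) - r * (r + 1)

theorem ell_le_one_of_deg_one (hK : IsFunctionField k K) (hg : 0 < genus k K) {E : Divisor k K} (hd : E.deg = 1) :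
    ell E ≤ 1 := by
  by_contra hc
  obtain ⟨z, hz, hle⟩ := exists_effective hK (D := E) (by omega)
  obtain ⟨R, hR, hER⟩ := exists_eq_single_of_deg_one hK hle (by rw [deg_add, deg_div hK.1, hd]; rfl)
  have h2 : 2 ≤ ell (Finsupp.single R (1 : ℤ)) := by
    have := ell_add_div hK hz E
    rw [hER] at this
    omega
  obtain ⟨x, hx, hx0⟩ : ∃ x ∈ L (Finsupp.single R (1 : ℤ)), x ∉ L (0 : Divisor k K) := by
    by_contra! h
    haveI := (ell_zero hK).1
    have := Submodule.finrank_mono (show L (Finsupp.single R (1 : ℤ)) ≤ L (0 : Divisor k K) from h)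
    have h0 := (ell_zero hK).2
    simp only [ell] at h2 h0
    omega
  have hne : x ≠ 0 := fun h => hx0 (h ▸ zero_mem _)
  rw [mem_L_single_iff R hne] at hx
  have hneg : R.ord x = -1 := by
    by_contra h
    refine hx0 ((mem_L_iff hne).2 fun Q => ?_)
    rw [Finsupp.zero_apply, neg_zero]
    by_cases hQ : Q = R
    · subst hQ; have := hx.1; omega
    · exact hx.2 Q hQ
  obtain ⟨-, -, -, -, hg0⟩ := exists_simple_pole_of_top hK (adjoin_eq_top_of_simple_pole hK hR hneg hx.2)
  omega

theorem div_eq_of_ge (hK : IsFunctionField k K) {D E : Divisor k K} {x : K} (hx : x ≠ 0)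
    (hxL : x ∈ L (D - E)) (hdeg : D.deg ≤ E.deg) : div k x + D = E := by
  have h1 : 0 ≤ (D - E) + div k x := fun Q => by
    have := (mem_L_iff hx).1 hxL Q
    rw [Finsupp.zero_apply, Finsupp.add_apply, div_apply hK.1]
    omega
  have h0 := eq_zero_of_deg_nonpos hK.1 h1 (by rw [deg_add, deg_div hK.1, deg_sub]; omega)
  have h2 : div k x + D = E + ((D - E) + div k x) := by abel
  rw [h2, h0, add_zero]

theorem dimAt_eq_zero (hK : IsFunctionField k K) {V : Submodule k K} {D : Divisor k K} {d : ℕ} (hD : D.deg = d)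
    (P : Place k K) {z : ℤ} (hz : (d : ℤ) < z) : dimAt V D P z = 0 := by
  have : L (D - Finsupp.single P z) = ⊥ := L_eq_bot hK (by rw [deg_sub, deg_single, deg_eq_one hK P, hD]; push_cast; omega)
  show Module.finrank k ↥(V ⊓ L (D - Finsupp.single P z)) = 0
  rw [this, inf_bot_eq, finrank_bot]

theorem dimAt_anti (hK : IsFunctionField k K) (V : Submodule k K) (D : Divisor k K)
    (P : Place k K) {a b : ℤ} (h : a ≤ b) : dimAt V D P b ≤ dimAt V D P a := by
  haveI : FiniteDimensional k ↥(V ⊓ L (D - Finsupp.single P a)) :=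
    haveI := finite_L hK.1 (D - Finsupp.single P a)
    Submodule.finiteDimensional_of_le inf_le_right
  exact Submodule.finrank_mono (inf_le_inf_left V (L_mono (sub_le_sub_left (single_mono P h) D)))

theorem M_nonneg (hK : IsFunctionField k K) {V : Submodule k K} {D : Divisor k K} {d r : ℕ}
    (hD : D.deg = d) (hV : V ≤ L D) (hVr : Module.finrank k V = r + 1) (P : Place k K) :
    0 ≤ w2 V D P d r := by
  have := two_vsum_ge hK hD hV hVr P
  simp only [w2]
  have : (r : ℤ) * (r + 1) ≤ 2 * (vsum V D P d : ℤ) := by exact_mod_cast this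
  omega

theorem w2_add_le (hK : IsFunctionField k K) {V : Submodule k K} {D : Divisor k K} {d r : ℕ}
    (hD : D.deg = d) (hV : V ≤ L D) (hVr : Module.finrank k V = r + 1) {P Q : Place k K} (hPQ : P ≠ Q) :
    w2 V D P d r + w2 V D Q d r ≤ 2 * ((r : ℤ) + 1) * d - 2 * (r * (r + 1)) := by
  have := vsum_add_le hK hD hV hVr hPQ
  have : (vsum V D P d : ℤ) + vsum V D Q d ≤ ((r : ℤ) + 1) * d := by exact_mod_cast this
  simp only [w2]
  linarith

theorem w2_of_cusp (hK : IsFunctionField k K) {V : Submodule k K} {D : Divisor k K} {d r : ℕ}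
    (hD : D.deg = d) (hV : V ≤ L D) (hVr : Module.finrank k V = r + 1) {P : Place k K}
    (hcusp : r ≤ dimAt V D P 2) : 2 * (r : ℤ) ≤ w2 V D P d r := by
  have := two_vsum_ge_of_cusp hK hD hV hVr P hcusp
  have : (r : ℤ) * (r + 1) + 2 * r ≤ 2 * (vsum V D P d : ℤ) := by exact_mod_cast this
  simp only [w2]
  linarith

/-- a member of `V` with given vanishing is seen in the order sequence -/
theorem exists_order_eq (hK : IsFunctionField k K) {V : Submodule k K} {D : Divisor k K} {r : ℕ} {P : Place k K}
    (hV : V ≤ L D) {m : Fin (r + 1) → ℕ}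
    (hdim : ∀ z : ℤ, dimAt V D P z = (Finset.univ.filter fun i => z ≤ m i).card)
    {f : K} (hf : f ∈ V) (hf0 : f ≠ 0) : ∃ i, (m i : ℤ) = P.ord f + D P := by
  classical
  set a := P.ord f + D P with ha
  haveI := finite_V hK hV
  by_contra! hc
  have h1 : dimAt V D P a = dimAt V D P (a + 1) := by
    rw [hdim, hdim]
    congr 1
    refine Finset.filter_congr fun i _ => ?_
    have := hc i
    omega
  haveI : FiniteDimensional k ↥(V ⊓ L (D - Finsupp.single P a)) := Submodule.finiteDimensional_of_le inf_le_left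
  have h2 := Submodule.eq_of_le_of_finrank_eq
    (inf_le_inf_left V (L_mono (sub_le_sub_left (single_mono P (show a ≤ a + 1 by omega)) D))) h1.symm
  have hmem : f ∈ V ⊓ L (D - Finsupp.single P a) := by
    refine ⟨hf, (mem_L_iff hf0).2 fun Q => ?_⟩
    have := (mem_L_iff hf0).1 (hV hf) Q
    rw [Finsupp.sub_apply, Finsupp.single_apply]
    split_ifs with hQ
    · subst hQ; omega
    · omega
  rw [← h2] at hmem
  have := (mem_L_iff hf0).1 hmem.2 P
  rw [Finsupp.sub_apply, Finsupp.single_eq_same] at this
  omega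

/-- at most one member (up to constants) supported on two places, given a cusp elsewhere -/
theorem unique_member (hK : IsFunctionField k K) [CharZero k] (hg0 : genus k K = 0) {V : Submodule k K}
    {D : Divisor k K} {d r : ℕ} (hD : D.deg = d) (hV : V ≤ L D) (hVr : Module.finrank k V = r + 1)
    {Q P P' : Place k K} (hcusp : r ≤ dimAt V D Q 2) (hP : P ≠ Q) (hP' : P' ≠ Q)
    {f g : K} (hf : f ∈ V) (hg : g ∈ V) (hf0 : f ≠ 0) (hg' : g ≠ 0)
    (hfs : ∀ R : Place k K, R ≠ P → R ≠ P' → (div k f + D) R = 0)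
    (hgs : ∀ R : Place k K, R ≠ P → R ≠ P' → (div k g + D) R = 0) :
    ∃ c : k, g = c • f := by
  classical
  have key : ∀ h ∈ V, h ≠ 0 → (∀ R : Place k K, R ≠ P → R ≠ P' → (div k h + D) R = 0) →
      div k h + D = if P = P' then Finsupp.single P (d : ℤ) else
        Finsupp.single P (P.ord h + D P) + Finsupp.single P' ((d : ℤ) - (P.ord h + D P)) := by
    intro h _ hh0 hs
    set E := div k h + D with hE
    have hdeg : E.deg = d := by rw [hE, deg_add, deg_div hK.1, hD, zero_add]
    have hEP : E P = P.ord h + D P := by rw [hE, Finsupp.add_apply, div_apply hK.1]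
    split_ifs with hPP
    · subst hPP
      have h1 : E = Finsupp.single P (E P) := Finsupp.ext fun R => by
        rw [Finsupp.single_apply]; split_ifs with hR
        · rw [hR]
        · exact hs R (Ne.symm hR) (Ne.symm hR)
      have h2 := hdeg
      rw [h1, deg_single, deg_eq_one hK P] at h2
      rw [h1]; congr 1; push_cast at h2; omega
    · have h1 : E = Finsupp.single P (E P) + Finsupp.single P' (E P') := Finsupp.ext fun R => by
        conv_rhs => rw [Finsupp.add_apply, Finsupp.single_apply, Finsupp.single_apply]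
        by_cases hR : P = R
        · subst hR; simp [Ne.symm hPP]
        · by_cases hR' : P' = R
          · subst hR'; simp [hR]
          · simp [hR, hR', hs R (Ne.symm hR) (Ne.symm hR')]
      have h2 := hdeg
      rw [h1, deg_add, deg_single, deg_single, deg_eq_one hK P, deg_eq_one hK P'] at h2
      rw [h1, ← hEP]; congr 2; push_cast at h2; omega
  have hEf := key f hf hf0 hfs
  have hEg := key g hg hg' hgs
  by_cases hsame : div k f + D = div k g + D
  · have hq : g / f ∈ L (0 : Divisor k K) := (mem_L_iff (div_ne_zero hg' hf0)).2 fun R => by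
      have := congrArg (fun E : Divisor k K => E R) hsame
      simp only [Finsupp.add_apply, div_apply hK.1] at this
      rw [Finsupp.zero_apply, ord_div R hg' hf0]
      omega
    rw [L_zero' hK] at hq
    obtain ⟨c, hc⟩ := hq
    refine ⟨c, ?_⟩
    rw [Algebra.smul_def, ← Algebra.linearMap_apply, hc, div_mul_cancel₀ _ hf0]
  exfalso
  have hPP : P ≠ P' := fun h => hsame (by rw [hEf, hEg, if_pos h, if_pos h])
  rw [if_neg hPP] at hEf hEg
  set a := P.ord f + D P
  set b := P.ord g + D P
  have hab : a ≠ b := fun h => hsame (by rw [hEf, hEg, h])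
  set V' := Submodule.span k ({f, g} : Set K) with hV'def
  have hV'V : V' ≤ V := Submodule.span_le.2 (by intro y hy; rcases hy with rfl | rfl <;> assumption)
  have hli : LinearIndependent k ![f, g] := linearIndependent_of_ord_injective P _
    (fun i => by fin_cases i <;> assumption)
    (fun i j h => by
      fin_cases i <;> fin_cases j <;> first | rfl | (exfalso; simp at h; omega))
  have hrange : Set.range ![f, g] = ({f, g} : Set K) := by
    rw [Matrix.range_cons, Matrix.range_cons, Matrix.range_empty, Set.union_empty]; rfl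
  have hV'2 : Module.finrank k V' = 1 + 1 := by
    rw [hV'def, ← hrange, finrank_span_eq_card hli, Fintype.card_fin]
  have hV'L : V' ≤ L D := hV'V.trans hV
  have hvs : ∀ (R : Place k K) (u v : ℤ), R.ord f + D R = u → R.ord g + D R = v → u ≠ v →
      (vsum V' D R d : ℤ) = u + v := by
    intro R u v hu hv huv
    obtain ⟨w, m, -, hinj, -, hm, -, hdim⟩ := exists_orders hK hD hV'L hV'2 R
    obtain ⟨i, hi⟩ := exists_order_eq hK hV'L hdim (Submodule.subset_span (by simp)) hf0
    obtain ⟨j, hj⟩ := exists_order_eq hK hV'L hdim (Submodule.subset_span (by simp) : g ∈ V') hg'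
    have hij : i ≠ j := fun h => huv (by rw [← hu, ← hv, ← hi, ← hj, h])
    rw [vsum_eq hK R (v := w) hm hdim, Fin.sum_univ_two, ← hu, ← hv, ← hi, ← hj]
    push_cast
    fin_cases i <;> fin_cases j <;> simp_all [add_comm]
  have e1 := hvs P a b rfl rfl hab
  have hP'f : P'.ord f + D P' = d - a := by
    have := congrArg (fun E : Divisor k K => E P') hEf
    simpa [div_apply hK.1, hPP] using this
  have hP'g : P'.ord g + D P' = d - b := by
    have := congrArg (fun E : Divisor k K => E P') hEg
    simpa [div_apply hK.1, hPP] using this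
  have e2 := hvs P' _ _ hP'f hP'g (by omega)
  have hc' : 1 ≤ dimAt V' D Q 2 := by
    haveI := finite_V hK hV
    haveI : FiniteDimensional k V' := Submodule.finiteDimensional_of_le hV'V
    set U := V ⊓ L (D - Finsupp.single Q 2)
    have h := Submodule.finrank_sup_add_finrank_inf_eq V' U
    have h2 : Module.finrank k ↥(V' ⊔ U) ≤ Module.finrank k V := Submodule.finrank_mono (sup_le hV'V inf_le_left)
    have e : V' ⊓ U = V' ⊓ L (D - Finsupp.single Q 2) := by
      rw [← inf_assoc, inf_eq_left.2 hV'V]
    rw [e] at h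
    show 1 ≤ Module.finrank k ↥(V' ⊓ L (D - Finsupp.single Q 2))
    change r ≤ Module.finrank k U at hcusp
    omega
  have e3 := w2_of_cusp hK hD hV'L hV'2 hc'
  have hpl := plucker hK hg0 hD hV'L hV'2 {P, P', Q}
  rw [Finset.sum_insert (by simp [hPP, hP]), Finset.sum_pair hP', e1, e2] at hpl
  simp only [w2] at e3
  push_cast at hpl e3
  linarith

end One

theorem w2_add_of_compatible {K K' : Type*} [Field K] [Algebra k K] [Field K'] [Algebra k K'] {V : Submodule k K}
    {D : Divisor k K} {V' : Submodule k K'} {D' : Divisor k K'} {d r : ℕ} {P : Place k K} {Q : Place k K'}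
    (h : ∀ m : ℕ, m ≤ d + 1 → dimAt V D P (m : ℤ) + dimAt V' D' Q ((d : ℤ) + 1 - m) = r + 1) :
    w2 V D P d r + w2 V' D' Q d r = 2 * ((r : ℤ) + 1) * d - 2 * (r * (r + 1)) := by
  have := vsum_add_eq_of_compatible h
  have : (vsum V D P d : ℤ) + vsum V' D' Q d = ((r : ℤ) + 1) * d := by exact_mod_cast this
  simp only [w2]
  linarith

section Chain

variable [CharZero k] {N : ℕ} {Z : Fin (N + 1) → Type*} [∀ i, Field (Z i)] [∀ i, Algebra k (Z i)]
  {d r : ℕ} {D : ∀ i, Divisor k (Z i)} {V : ∀ i, Submodule k (Z i)} {A B : ∀ i, Place k (Z i)}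

/-- along a chain the weight at the upper node does not decrease -/
theorem w2_chain_ge (hZ : ∀ i, IsFunctionField k (Z i)) (hD : ∀ i, (D i).deg = d)
    (hV : ∀ i, V i ≤ L (D i)) (hVr : ∀ i, Module.finrank k (V i) = r + 1)
    (hAB : ∀ i : Fin (N + 1), 0 < (i : ℕ) → (i : ℕ) < N → A i ≠ B i)
    (hcomp : ∀ (l : Fin N) (m : ℕ), m ≤ d + 1 →
      dimAt (V l.castSucc) (D l.castSucc) (B l.castSucc) (m : ℤ) +
        dimAt (V l.succ) (D l.succ) (A l.succ) ((d : ℤ) + 1 - m) = r + 1)
    {c : ℤ} (hc : w2 (V 0) (D 0) (B 0) d r + c ≤ 2 * ((r : ℤ) + 1) * d - 2 * (r * (r + 1)))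
    (l : Fin (N + 1)) (hl : 0 < (l : ℕ)) : c ≤ w2 (V l) (D l) (A l) d r := by
  induction l using Fin.induction with
  | zero => simp at hl
  | succ i ih =>
    have h1 := w2_add_of_compatible (hcomp i)
    by_cases hi : (i : ℕ) = 0
    · have : i.castSucc = 0 := Fin.ext (by simpa using hi)
      rw [this] at h1
      linarith
    · have h2 := w2_add_le (hZ i.castSucc) (hD _) (hV _) (hVr _) (hAB i.castSucc (by simp; omega) (by simp))
      have h3 := ih (by simp; omega)
      linarith

/-- positive genus at the end of a chain forces a cusp at every lower node -/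
theorem cusp_of_chain (hZ : ∀ i, IsFunctionField k (Z i)) (hD : ∀ i, (D i).deg = d)
    (hV : ∀ i, V i ≤ L (D i)) (hVr : ∀ i, Module.finrank k (V i) = r + 1)
    (hAB : ∀ i : Fin (N + 1), 0 < (i : ℕ) → (i : ℕ) < N → A i ≠ B i)
    (hcomp : ∀ (l : Fin N) (m : ℕ), m ≤ d + 1 →
      dimAt (V l.castSucc) (D l.castSucc) (B l.castSucc) (m : ℤ) +
        dimAt (V l.succ) (D l.succ) (A l.succ) ((d : ℤ) + 1 - m) = r + 1)
    (hpos : 0 < genus k (Z (Fin.last N))) (l : Fin N) :
    r ≤ dimAt (V l.castSucc) (D l.castSucc) (B l.castSucc) 2 := by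
  rcases Nat.eq_zero_or_pos d with rfl | hd
  · have := two_vsum_ge (hZ 0) (hD 0) (hV 0) (hVr 0) (A 0)
    simp [vsum] at this
    subst this
    exact Nat.zero_le _
  have key : ∀ j : Fin (N + 1), 0 < (j : ℕ) → dimAt (V j) (D j) (A j) ((d : ℤ) - 1) ≤ 1 := by
    intro j
    induction j using Fin.reverseInduction with
    | last =>
      intro _
      haveI := finite_L (hZ (Fin.last N)).1 (D (Fin.last N) - Finsupp.single (A (Fin.last N)) ((d : ℤ) - 1))
      refine (Submodule.finrank_mono inf_le_right).trans (ell_le_one_of_deg_one (hZ _) hpos ?_)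
      rw [deg_sub, deg_single, deg_eq_one (hZ _) _, hD]; push_cast; ring
    | cast i ih =>
      intro hi
      have h1 := hcomp i 2 (by omega)
      rw [show (d : ℤ) + 1 - ((2 : ℕ) : ℤ) = (d : ℤ) - 1 by push_cast; ring] at h1
      have h2 := ih (by simp)
      have h3 := dimAt_add_le (hZ i.castSucc) (hD _) (hV _) (hVr _) (hAB i.castSucc hi (by simp))
        (a := (d : ℤ) - 1) (b := 2) (by omega)
      push_cast at h1
      omega
  have h1 := hcomp l 2 (by omega)
  rw [show (d : ℤ) + 1 - ((2 : ℕ) : ℤ) = (d : ℤ) - 1 by push_cast; ring] at h1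
  have h2 := key l.succ (by simp)
  push_cast at h1
  omega

variable {T : Finset (Fin (N + 1))} {Q : ∀ i, Place k (Z i)}

section Backbone

variable (hZ : ∀ i, IsFunctionField k (Z i)) (hrat : ∀ i, genus k (Z i) = 0) (hD : ∀ i, (D i).deg = d)
    (hV : ∀ i, V i ≤ L (D i)) (hVr : ∀ i, Module.finrank k (V i) = r + 1)
    (hAB : ∀ i : Fin (N + 1), 0 < (i : ℕ) → (i : ℕ) < N → A i ≠ B i)
    (hcomp : ∀ (l : Fin N) (m : ℕ), m ≤ d + 1 →
      dimAt (V l.castSucc) (D l.castSucc) (B l.castSucc) (m : ℤ) +
        dimAt (V l.succ) (D l.succ) (A l.succ) ((d : ℤ) + 1 - m) = r + 1)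
    (hQA : ∀ i ∈ T, 0 < (i : ℕ) → Q i ≠ A i) (hQB : ∀ i ∈ T, (i : ℕ) < N → Q i ≠ B i)
    (hcusp : ∀ i ∈ T, r ≤ dimAt (V i) (D i) (Q i) 2)

include hZ hrat hD hV hVr hcusp in
theorem tail_plucker (i : Fin (N + 1)) (S : Finset (Place k (Z i))) (hS : i ∈ T → Q i ∉ S) :
    (if i ∈ T then 2 * (r : ℤ) else 0) + ∑ P ∈ S, w2 (V i) (D i) P d r ≤
      2 * ((r : ℤ) + 1) * d - 2 * (r * (r + 1)) := by
  classical
  split_ifs with hi
  · have h1 := plucker (hZ i) (hrat i) (hD i) (hV i) (hVr i) (insert (Q i) S)
    rw [Finset.sum_insert (hS hi)] at h1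
    have h2 := w2_of_cusp (hZ i) (hD i) (hV i) (hVr i) (hcusp i hi)
    simp only [w2] at h2 ⊢
    linarith
  · rw [zero_add]; exact plucker (hZ i) (hrat i) (hD i) (hV i) (hVr i) S

include hZ hrat hD hV hVr hAB hcomp hQA hQB hcusp in
theorem backbone_A (i : Fin (N + 1)) (hi : 0 < (i : ℕ)) :
    2 * (r : ℤ) * (T.filter (· < i)).card ≤ w2 (V i) (D i) (A i) d r := by
  classical
  induction i using Fin.induction with
  | zero => simp at hi
  | succ i ih =>
    have h1 := w2_add_of_compatible (hcomp i)
    have hcard : ((T.filter (· < i.succ)).card : ℤ) =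
        (T.filter (· < i.castSucc)).card + if i.castSucc ∈ T then 1 else 0 := by
      have : T.filter (· < i.succ) = T.filter (· < i.castSucc) ∪ T.filter (· = i.castSucc) := by
        ext x; simp only [Finset.mem_filter, Finset.mem_union, Finset.mem_erase, Fin.lt_def, Fin.ext_iff, Fin.val_succ, Fin.coe_castSucc, ne_eq]; by_cases hx : x ∈ T <;> simp [hx] <;> omega
      rw [this, Finset.card_union_of_disjoint (by
        rw [Finset.disjoint_filter]; intro x _ hx hx'; exact hx.ne hx'), Finset.filter_eq']
      split_ifs <;> simp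
    rw [hcard]
    by_cases hi0 : (i : ℕ) = 0
    · have h2 := tail_plucker hZ hrat hD hV hVr hcusp i.castSucc {B i.castSucc}
        (fun h => by simpa using hQB _ h (by simp))
      rw [Finset.sum_singleton] at h2
      have : T.filter (· < i.castSucc) = ∅ := Finset.filter_eq_empty_iff.2 fun x _ => by
        simp only [Fin.lt_def, Fin.val_succ, Fin.coe_castSucc]; omega
      rw [this, Finset.card_empty]
      split_ifs at h2 ⊢ <;> push_cast <;> linarith
    · have hne := hAB i.castSucc (by simp; omega) (by simp)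
      have h2 := tail_plucker hZ hrat hD hV hVr hcusp i.castSucc {A i.castSucc, B i.castSucc}
        (fun h => by simp [hQA _ h (by simp; omega), hQB _ h (by simp)])
      rw [Finset.sum_pair hne] at h2
      have h3 := ih (by simp; omega)
      split_ifs at h2 ⊢ <;> push_cast <;> linarith

include hZ hrat hD hV hVr hAB hcomp hQA hQB hcusp in
theorem backbone_B (i : Fin (N + 1)) (hi : (i : ℕ) < N) :
    2 * (r : ℤ) * (T.filter (i < ·)).card ≤ w2 (V i) (D i) (B i) d r := by
  classical
  induction i using Fin.reverseInduction with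
  | last => simp at hi
  | cast i ih =>
    have h1 := w2_add_of_compatible (hcomp i)
    have hcard : ((T.filter (i.castSucc < ·)).card : ℤ) =
        (T.filter (i.succ < ·)).card + if i.succ ∈ T then 1 else 0 := by
      have : T.filter (i.castSucc < ·) = T.filter (i.succ < ·) ∪ T.filter (· = i.succ) := by
        ext x; simp only [Finset.mem_filter, Finset.mem_union, Finset.mem_erase, Fin.lt_def, Fin.ext_iff, Fin.val_succ, Fin.coe_castSucc, ne_eq]; by_cases hx : x ∈ T <;> simp [hx] <;> omega
      rw [this, Finset.card_union_of_disjoint (by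
        rw [Finset.disjoint_filter]; intro x _ hx hx'; exact hx.ne' hx'), Finset.filter_eq']
      split_ifs <;> simp
    rw [hcard]
    by_cases hiN : (i : ℕ) + 1 = N
    · have h2 := tail_plucker hZ hrat hD hV hVr hcusp i.succ {A i.succ}
        (fun h => by simpa using hQA _ h (by simp))
      rw [Finset.sum_singleton] at h2
      have : T.filter (i.succ < ·) = ∅ := Finset.filter_eq_empty_iff.2 fun x _ => by
        simp only [Fin.lt_def, Fin.val_succ, Fin.coe_castSucc]; omega
      rw [this, Finset.card_empty]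
      split_ifs at h2 ⊢ <;> push_cast <;> linarith
    · have hlt : (i.succ : ℕ) < N := by simp; omega
      have hne := hAB i.succ (by simp) hlt
      have h2 := tail_plucker hZ hrat hD hV hVr hcusp i.succ {A i.succ, B i.succ}
        (fun h => by simp [hQA _ h (by simp), hQB _ h hlt])
      rw [Finset.sum_pair hne] at h2
      have h3 := ih hlt
      split_ifs at h2 ⊢ <;> push_cast <;> linarith

include hZ hrat hD hV hVr hAB hcomp hQA hQB hcusp in
/-- the backbone bound at any component -/
theorem backbone_bound (i : Fin (N + 1)) (S : Finset (Place k (Z i))) (hSA : 0 < (i : ℕ) → A i ∉ S)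
    (hSB : (i : ℕ) < N → B i ∉ S) :
    ∑ P ∈ S, w2 (V i) (D i) P d r + 2 * (r : ℤ) * (T.erase i).card ≤
      2 * ((r : ℤ) + 1) * d - 2 * (r * (r + 1)) := by
  classical
  let SA : Finset (Place k (Z i)) := if 0 < (i : ℕ) then {A i} else ∅
  let SB : Finset (Place k (Z i)) := if (i : ℕ) < N then {B i} else ∅
  have hlo : 2 * (r : ℤ) * (T.filter (· < i)).card ≤ ∑ P ∈ SA, w2 (V i) (D i) P d r := by
    simp only [SA]; split_ifs with h
    · rw [Finset.sum_singleton]; exact backbone_A hZ hrat hD hV hVr hAB hcomp hQA hQB hcusp i h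
    · have : T.filter (· < i) = ∅ := Finset.filter_eq_empty_iff.2 fun x _ => by simp only [Fin.lt_def, Fin.val_succ, Fin.coe_castSucc]; omega
      simp [this]
  have hhi : 2 * (r : ℤ) * (T.filter (i < ·)).card ≤ ∑ P ∈ SB, w2 (V i) (D i) P d r := by
    simp only [SB]; split_ifs with h
    · rw [Finset.sum_singleton]; exact backbone_B hZ hrat hD hV hVr hAB hcomp hQA hQB hcusp i h
    · have : T.filter (i < ·) = ∅ := Finset.filter_eq_empty_iff.2 fun x _ => by simp only [Fin.lt_def, Fin.val_succ, Fin.coe_castSucc]; omega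
      simp [this]
  have hcard : ((T.erase i).card : ℤ) = (T.filter (· < i)).card + (T.filter (i < ·)).card := by
    have : T.erase i = T.filter (· < i) ∪ T.filter (i < ·) := by
      ext x; simp only [Finset.mem_filter, Finset.mem_union, Finset.mem_erase, Fin.lt_def, Fin.ext_iff, Fin.val_succ, Fin.coe_castSucc, ne_eq]; by_cases hx : x ∈ T <;> simp [hx] <;> omega
    rw [this, Finset.card_union_of_disjoint (by
      rw [Finset.disjoint_filter]; intro x _ hx hx'; exact lt_asymm hx hx')]
    push_cast; rfl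
  have hdAB : Disjoint SA SB := by
    simp only [SA, SB]; split_ifs with h h' <;> simp
    exact hAB i h h'
  have hdS : Disjoint S (SA ∪ SB) := by
    simp only [SA, SB]; rw [Finset.disjoint_union_right]
    constructor <;> split_ifs with h <;> simp [hSA, hSB, h]
  have h1 := plucker (hZ i) (hrat i) (hD i) (hV i) (hVr i) (S ∪ (SA ∪ SB))
  rw [Finset.sum_union hdS, Finset.sum_union hdAB] at h1
  rw [hcard]
  simp only [w2] at hlo hhi ⊢
  linarith

end Backbone

end Chain

end Groth.Agent.FunFldLib
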