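import Groth.Agent.FunFldLib.Embedding

/-! Nonsingular points of projective maps. -/

set_option autoImplicit false

open WithZero IsLocalRing

namespace Groth.Agent.FunFldLib

open FunFld

variable {k K : Type*} [Field k] [Field K] [Algebra k K]

/-- the linear system separates `P` from every other place and has a parameter at `P` -/
def Cond (W : Submodule k K) (E : Divisor k K) (P : Place k K) : Prop :=
  (∀ Q, Q ≠ P → ∃ u ∈ W, P.1 u < exp (E P) ∧ Q.1 u = exp (E Q)) ∧ ∃ u ∈ W, P.1 u = exp (E P - 1)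

theorem val_eq_one_of_sub {P : Place k K} {y : K} {c : k} (h : P.1 (y - algebraMap k K c) < 1) (hc : c ≠ 0) :
    P.1 y = 1 := by
  rw [show y = (y - algebraMap k K c) + algebraMap k K c by ring,
    Valuation.map_add_eq_of_lt_right P.1 (by rwa [val_algebraMap P hc]), val_algebraMap P hc]

theorem sameImage_or_sep [IsAlgClosed k] {ι : Type*} [Fintype ι] [Nonempty ι] (hK : IsFunctionField k K) (φ : ι → K)
    (hφ : (∀ i, φ i ≠ 0) ∨ ∃ i, φ i = 1) (P Q : Place k K) :
    (∃ u ∈ Submodule.span k (Set.range φ), P.1 u < exp (mapDiv k φ P) ∧ Q.1 u = exp (mapDiv k φ Q)) ∨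
      SameImage φ P Q := by
  classical
  obtain ⟨hle, hex⟩ := mapDiv_spec hK.1 φ hφ
  by_cases h : ∃ u ∈ Submodule.span k (Set.range φ), P.1 u < exp (mapDiv k φ P) ∧ Q.1 u = exp (mapDiv k φ Q)
  · exact Or.inl h
  refine Or.inr ?_
  push Not at h
  obtain ⟨j, hj0, hjP, hj⟩ := exists_chart hK.1 φ hφ P
  have hr : ∀ i, P.1 (φ i / φ j) ≤ 1 := fun i => by
    rw [map_div₀]; exact div_le_one_of_le₀ (hj i) zero_le
  choose c hc using fun i => exists_const hK P (hr i)
  have hu : ∀ i, φ i - c i • φ j ∈ Submodule.span k (Set.range φ) ∧ P.1 (φ i - c i • φ j) < exp (mapDiv k φ P) := by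
    intro i
    refine ⟨sub_mem (Submodule.subset_span ⟨i, rfl⟩) (Submodule.smul_mem _ _ (Submodule.subset_span ⟨j, rfl⟩)), ?_⟩
    rw [show φ i - c i • φ j = (φ i / φ j - algebraMap k K (c i)) * φ j by
      rw [sub_mul, div_mul_cancel₀ _ hj0, Algebra.smul_def], map_mul, hjP]
    calc P.1 (φ i / φ j - algebraMap k K (c i)) * exp (mapDiv k φ P)
        < 1 * exp (mapDiv k φ P) := mul_lt_mul_of_pos_right (hc i) exp_pos
      _ = exp (mapDiv k φ P) := one_mul _
  have hQlt : ∀ i, Q.1 (φ i - c i • φ j) < exp (mapDiv k φ Q) := fun i => by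
    refine lt_of_le_of_ne ?_ (h _ (hu i).1 (hu i).2)
    exact (mapDiv_exact hK.1 φ hφ).1 _ (hu i).1 Q
  have hjQ : Q.1 (φ j) = exp (mapDiv k φ Q) := by
    refine le_antisymm (hle Q j) (not_lt.1 fun hlt => ?_)
    obtain ⟨i, -, hi⟩ := hex Q
    refine (hQlt i).ne ?_
    rw [sub_eq_add_neg, Valuation.map_add_eq_of_lt_left Q.1 (by
      rw [Valuation.map_neg, hi]; exact (val_smul_le Q _ _).trans_lt hlt), hi]
  refine ⟨j, hj0, hj, fun i => hjQ ▸ hle Q i, fun i => ⟨c i, hc i, ?_⟩⟩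
  rw [show φ i / φ j - algebraMap k K (c i) = (φ i - c i • φ j) / φ j by
    rw [sub_div, Algebra.smul_def, mul_div_cancel_right₀ _ hj0], map_div₀, hjQ, div_lt_one₀ exp_pos]
  exact hQlt i

theorem inLoc_param [IsAlgClosed k] {ι : Type*} [Fintype ι] [Nonempty ι] (hK : IsFunctionField k K) (φ : ι → K)
    (hφ : (∀ i, φ i ≠ 0) ∨ ∃ i, φ i = 1) {P : Place k K} {t : K} (ht : InLocRing φ P t) (htP : P.1 t = exp (-1)) :
    ∃ u ∈ Submodule.span k (Set.range φ), P.1 u = exp (mapDiv k φ P - 1) := by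
  obtain ⟨j, hj0, hj, a, ha, w, hw, hw1, htw⟩ := ht
  by_contra! h
  have hjP := chart_eq hK.1 φ hφ hj
  have h2 : (exp (-2) : WithZero (Multiplicative ℤ)) ≤ 1 := by rw [← exp_zero, exp_le_exp]; omega
  have hsub : Algebra.adjoin k (Set.range fun i => φ i / φ j) ≤ congrAlg P P (exp (-2)) (exp (-2)) h2 h2 := by
    refine Algebra.adjoin_le ?_
    rintro _ ⟨i, rfl⟩
    obtain ⟨c, hc⟩ := exists_const hK P (y := φ i / φ j) (by rw [map_div₀]; exact div_le_one_of_le₀ (hj i) zero_le)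
    have hle := (lt_one_iff_le P _).1 hc
    have hne : P.1 (φ i / φ j - algebraMap k K c) ≠ exp (-1) := fun he => by
      refine h _ (sub_mem (Submodule.subset_span ⟨i, rfl⟩) (Submodule.smul_mem _ c (Submodule.subset_span ⟨j, rfl⟩))) ?_
      rw [show φ i - c • φ j = (φ i / φ j - algebraMap k K c) * φ j by
        rw [sub_mul, div_mul_cancel₀ _ hj0, Algebra.smul_def], map_mul, he, hjP, ← exp_add,
        show -1 + mapDiv k φ P = mapDiv k φ P - 1 by ring]
    have := (lt_exp_iff_le P _ (-1)).1 (lt_of_le_of_ne hle hne)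
    exact ⟨c, by simpa using this, by simpa using this⟩
  obtain ⟨c, hc, -⟩ := hsub ha
  have haP : P.1 a = exp (-1) := by rw [← htw, map_mul, hw1, mul_one, htP]
  have hc0 : c = 0 := const_eq_zero (P := P) (by
    rw [show algebraMap k K c = a - (a - algebraMap k K c) by ring]
    refine (P.1.map_sub _ _).trans_lt (max_lt (haP ▸ exp_neg_one_lt_one) (hc.trans_lt ?_))
    rw [← exp_zero, exp_lt_exp]; omega)
  rw [hc0, map_zero, sub_zero, haP, exp_le_exp] at hc
  omega

theorem not_sameImage_of_nonsingular {ι : Type*} (φ : ι → K) {P : Place k K} (h : IsNonsingularAt φ P) {Q : Place k K}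
    (hQ : Q ≠ P) : ¬SameImage φ P Q := fun hs => by
  obtain ⟨z, hzQ, hzP⟩ := exists_separating hQ
  exact hzQ.not_ge (sameImage_inLoc φ hs (h z hzP.le)).1

theorem cond_of_nonsingular [IsAlgClosed k] {ι : Type*} [Fintype ι] [Nonempty ι] (hK : IsFunctionField k K) (φ : ι → K)
    (hφ : (∀ i, φ i ≠ 0) ∨ ∃ i, φ i = 1) {P : Place k K} (h : IsNonsingularAt φ P) :
    Cond (Submodule.span k (Set.range φ)) (mapDiv k φ) P := by
  refine ⟨fun Q hQ => ?_, ?_⟩
  · exact (sameImage_or_sep hK φ hφ P Q).resolve_right (not_sameImage_of_nonsingular φ h hQ)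
  · obtain ⟨t, -, htP⟩ := exists_val_eq P (-1)
    exact inLoc_param hK φ hφ (h t (htP ▸ exp_neg_one_lt_one.le)) htP

theorem conductor_of_cond [IsAlgClosed k] (hK : IsFunctionField k K) {V : Submodule k K} {E : Divisor k K}
    (hE : Exact V E) (h1 : (1 : K) ∈ V) (A : Subalgebra k K) (hVA : ∀ v ∈ V, v ∈ A) (hAB : ∀ a ∈ A, InB E a)
    {P : Place k K} (hPE : E P = 0) (hc : Cond V E P) :
    E ≠ 0 ∧ ∃ w ∈ A, P.1 w = 1 ∧ ∀ f, InB E f → w * f ∈ A := by
  obtain ⟨hsep, t, htV, htP⟩ := hc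
  rw [hPE, zero_sub] at htP
  have hE0 : E ≠ 0 := by
    intro h0
    have ht0 : t ≠ 0 := fun h => exp_ne_zero (a := (-1 : ℤ)) (by rw [← htP, h, map_zero])
    have halg := isAlgebraic_of_mem_L_zero hK.1 (x := t) fun Q => h0 ▸ hE.1 t htV Q
    rw [val_eq_exp P ht0, exp_inj, ord_eq_zero_of_isAlgebraic P halg] at htP
    omega
  refine ⟨hE0, exists_unit_conductor hK hE h1 hE0 A hVA hAB hPE (fun Q hQ hQE => ?_) ⟨t, hVA t htV, htP⟩⟩
  obtain ⟨u, hu, huP, huQ⟩ := hsep Q hQ
  rw [hPE, exp_zero] at huP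
  rw [hQE, exp_zero] at huQ
  exact ⟨u, hVA u hu, huP, huQ⟩

theorem Cond.scale (hK : IsFF k K) {W : Submodule k K} {E : Divisor k K} {P : Place k K} (h : Cond W E P)
    {v : K} (hv : v ≠ 0) : Cond (W.map (LinearMap.mulLeft k v⁻¹)) (E + div k v) P := by
  have key : ∀ (Q : Place k K) (x : K), Q.1 (v⁻¹ * x) = exp (div k v Q) * Q.1 x := fun Q x => by
    rw [map_mul, map_inv₀, val_eq_exp Q hv, ← exp_neg, neg_neg, div_apply hK]
  obtain ⟨hsep, t, ht, htP⟩ := h
  refine ⟨fun Q hQ => ?_, _, Submodule.mem_map_of_mem ht, ?_⟩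
  · obtain ⟨u, hu, huP, huQ⟩ := hsep Q hQ
    refine ⟨_, Submodule.mem_map_of_mem hu, ?_, ?_⟩
    · rw [LinearMap.mulLeft_apply, key, Finsupp.add_apply, add_comm, exp_add]
      exact mul_lt_mul_of_pos_left huP exp_pos
    · rw [LinearMap.mulLeft_apply, key, huQ, ← exp_add, Finsupp.add_apply, add_comm]
  · rw [LinearMap.mulLeft_apply, key, htP, ← exp_add, Finsupp.add_apply]
    congr 1; ring

theorem map_span_ratio {ι : Type*} (φ : ι → K) (j : ι) :
    (Submodule.span k (Set.range φ)).map (LinearMap.mulLeft k (φ j)⁻¹) =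
      Submodule.span k (Set.range fun i => φ i / φ j) := by
  rw [Submodule.map_span, ← Set.range_comp]
  congr 2; ext i
  simp [div_eq_inv_mul]

theorem chart_div_zero (hK : IsFF k K) {E : Divisor k K} {P : Place k K} {v : K} (hv : v ≠ 0)
    (h : P.1 v = exp (E P)) : (E + div k v) P = 0 := by
  rw [val_eq_exp P hv, exp_inj] at h
  rw [Finsupp.add_apply, div_apply hK]; omega

theorem nonsingular_of_cond [IsAlgClosed k] {ι : Type*} [Fintype ι] [Nonempty ι] (hK : IsFunctionField k K) (φ : ι → K)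
    (hφ : (∀ i, φ i ≠ 0) ∨ ∃ i, φ i = 1) {P : Place k K}
    (h : Cond (Submodule.span k (Set.range φ)) (mapDiv k φ) P) : IsNonsingularAt φ P := by
  obtain ⟨j, hj0, hjP, hj⟩ := exists_chart hK.1 φ hφ P
  intro z hz
  have hE := (mapDiv_exact hK.1 φ hφ).scale hK.1 hj0
  rw [map_span_ratio] at hE
  have hc := h.scale hK.1 hj0
  rw [map_span_ratio] at hc
  set V := Submodule.span k (Set.range fun i => φ i / φ j) with hV
  set A := Algebra.adjoin k (Set.range fun i => φ i / φ j) with hA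
  have h1 : (1 : K) ∈ V := Submodule.subset_span ⟨j, div_self hj0⟩
  have hVA : ∀ v ∈ V, v ∈ A := fun v hv => Algebra.span_le_adjoin k _ hv
  have hAB : ∀ a ∈ A, InB (mapDiv k φ + div k (φ j)) a := fun a ha => adjoin_le_subB hE h1
    (Algebra.adjoin_mono (by rintro _ ⟨i, rfl⟩; exact Submodule.subset_span ⟨i, rfl⟩) ha)
  have hPE := chart_div_zero (E := mapDiv k φ) hK.1 hj0 hjP
  obtain ⟨hE0, c, hcA, hc1, hcf⟩ := conductor_of_cond hK hE h1 A hVA hAB hPE hc
  obtain ⟨w, hw, hw1, hzw⟩ := num_den hK (hE.nonneg h1) hE0 hPE hz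
  exact ⟨j, hj0, hj, c * (z * w), hcf _ hzw, c * w, hcf _ hw, by rw [map_mul, hc1, hw1, mul_one], by ring⟩

theorem nonsingular_iff_cond [IsAlgClosed k] {ι : Type*} [Fintype ι] [Nonempty ι] (hK : IsFunctionField k K) (φ : ι → K)
    (hφ : (∀ i, φ i ≠ 0) ∨ ∃ i, φ i = 1) (P : Place k K) :
    IsNonsingularAt φ P ↔ Cond (Submodule.span k (Set.range φ)) (mapDiv k φ) P :=
  ⟨cond_of_nonsingular hK φ hφ, nonsingular_of_cond hK φ hφ⟩

theorem cond_iff_codim [IsAlgClosed k] (hK : IsFunctionField k K) {W : Submodule k K} [FiniteDimensional k W]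
    {E : Divisor k K} (hE : Exact W E) (P : Place k K) :
    Cond W E P ↔ ∀ Q : Place k K, Module.finrank k ↥(W ⊓ L (E - Finsupp.single P 1 - Finsupp.single Q 1)) + 2 =
        Module.finrank k W := by
  have hW : W ⊓ L E = W := inf_eq_left.2 fun v hv Q => hE.1 v hv Q
  have step1 : Module.finrank k ↥(W ⊓ L (E - Finsupp.single P 1)) + 1 = Module.finrank k W := by
    rcases finrank_inf_succ hK W E P with ⟨h, -⟩ | ⟨-, h⟩
    · obtain ⟨v, hv, hvP⟩ := hE.2 P
      have := h v (hW.symm ▸ hv)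
      rw [hvP, exp_le_exp] at this; omega
    · rwa [hW] at h
  have hmem : ∀ u : K, u ∈ W → P.1 u ≤ exp (E P - 1) → u ∈ W ⊓ L (E - Finsupp.single P 1) := fun u hu h =>
    ⟨hu, fun R => by
      classical
      rw [Finsupp.sub_apply, Finsupp.single_apply]
      split_ifs with hR
      · exact hR ▸ h
      · rw [sub_zero]; exact hE.1 u hu R⟩
  constructor
  · rintro ⟨hsep, t, ht, htP⟩ Q
    rcases finrank_inf_succ hK W (E - Finsupp.single P 1) Q with ⟨h, -⟩ | ⟨-, h⟩
    · exfalso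
      rcases eq_or_ne Q P with rfl | hQ
      · have := h t (hmem t ht htP.le)
        rw [htP, Finsupp.sub_apply, Finsupp.single_eq_same, exp_le_exp] at this; omega
      · obtain ⟨u, hu, huP, huQ⟩ := hsep Q hQ
        have := h u (hmem u hu ((lt_exp_iff_le P u _).1 huP))
        rw [huQ, Finsupp.sub_apply, Finsupp.single_eq_of_ne hQ, sub_zero, exp_le_exp] at this; omega
    · omega
  · intro h
    have key : ∀ Q : Place k K, ∃ v ∈ W ⊓ L (E - Finsupp.single P 1), Q.1 v = exp ((E - Finsupp.single P 1 : Divisor k K) Q) := fun Q => by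
      rcases finrank_inf_succ hK W (E - Finsupp.single P 1) Q with ⟨-, h'⟩ | ⟨h', -⟩
      · have := h Q; omega
      · exact h'
    refine ⟨fun Q hQ => ?_, ?_⟩
    · obtain ⟨v, hv, hvQ⟩ := key Q
      refine ⟨v, (Submodule.mem_inf.1 hv).1, ?_, ?_⟩
      · have := (Submodule.mem_inf.1 hv).2 P
        rw [Finsupp.sub_apply, Finsupp.single_eq_same] at this
        exact this.trans_lt (exp_lt_exp.2 (by omega))
      · rwa [Finsupp.sub_apply, Finsupp.single_eq_of_ne hQ, sub_zero] at hvQ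
    · obtain ⟨v, hv, hvP⟩ := key P
      exact ⟨v, (Submodule.mem_inf.1 hv).1, by rwa [Finsupp.sub_apply, Finsupp.single_eq_same] at hvP⟩

theorem exact_L_of_large [IsAlgClosed k] (hK : IsFunctionField k K) {D : Divisor k K}
    (h : ∀ Q : Place k K, ell (D - Finsupp.single Q 1) < ell D) : Exact (L D) D := by
  refine ⟨fun v hv Q => hv Q, fun Q => ?_⟩
  haveI := finite_L hK.1 D
  rcases finrank_inf_succ hK (L D) D Q with ⟨-, h'⟩ | ⟨⟨v, hv, hvQ⟩, -⟩
  · exfalso
    rw [inf_idem, inf_eq_right.2 (L_mono fun R => by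
      classical
      rw [Finsupp.sub_apply, Finsupp.single_apply]; split_ifs <;> omega)] at h'
    have := h Q
    simp only [ell] at this
    omega
  · exact ⟨v, (Submodule.mem_inf.1 hv).1, hvQ⟩

theorem exact_unique {W : Submodule k K} {E E' : Divisor k K} (h : Exact W E) (h' : Exact W E') : E = E' :=
  Finsupp.ext fun Q => by
    obtain ⟨v, hv, hvQ⟩ := h.2 Q
    obtain ⟨v', hv', hvQ'⟩ := h'.2 Q
    have a := h'.1 v hv Q
    have b := h.1 v' hv' Q
    rw [hvQ, exp_le_exp] at a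
    rw [hvQ', exp_le_exp] at b
    omega

theorem nonsingular_of_ell [IsAlgClosed k] {ι : Type*} [Fintype ι] [Nonempty ι] (hK : IsFunctionField k K) (φ : ι → K)
    (hφ : ∀ i, φ i ≠ 0) {D : Divisor k K} (hspan : Submodule.span k (Set.range φ) = L D)
    (h1 : ∀ Q : Place k K, ell (D - Finsupp.single Q 1) < ell D)
    (h2 : ∀ P Q : Place k K, ell (D - Finsupp.single P 1 - Finsupp.single Q 1) + 2 = ell D) (P : Place k K) :
    IsNonsingularAt φ P := by
  haveI := finite_L hK.1 D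
  have hE := mapDiv_exact hK.1 φ (Or.inl hφ)
  rw [hspan] at hE
  have hD : mapDiv k φ = D := exact_unique hE (exact_L_of_large hK h1)
  refine nonsingular_of_cond hK φ (Or.inl hφ) ?_
  rw [hspan, hD, cond_iff_codim hK (hD ▸ hE)]
  intro Q
  rw [inf_eq_right.2 (L_mono fun R => by
    classical
    rw [Finsupp.sub_apply, Finsupp.sub_apply, Finsupp.single_apply, Finsupp.single_apply]; split_ifs <;> omega)]
  exact h2 P Q

end Groth.Agent.FunFldLib
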