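import Groth.Agent.FunFldLib.Taylor
import Groth.Agent.FunFldLib.Gaps
import Mathlib.LinearAlgebra.Matrix.Block
import Mathlib.LinearAlgebra.Matrix.NonsingularInverse
import Mathlib.LinearAlgebra.Basis.VectorSpace

/-! Jump indices, order sequences and Wronskians of projective maps. -/

set_option autoImplicit false

open WithZero

namespace Groth.Agent.FunFldLib

open FunFld

section Jumps

variable {R M : Type*} [Field R] [AddCommGroup M] [Module R M]

theorem span_Iio_succ (c : ℕ → M) (m : ℕ) :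
    Submodule.span R (c '' Set.Iio (m + 1)) = Submodule.span R (c '' Set.Iio m) ⊔ Submodule.span R {c m} := by
  rw [← Submodule.span_union]
  congr 1
  ext v
  simp only [Set.mem_image, Set.mem_Iio, Set.mem_union, Set.mem_singleton_iff]
  constructor
  · rintro ⟨j, hj, rfl⟩
    rcases Nat.lt_succ_iff_lt_or_eq.1 hj with h | rfl
    · exact Or.inl ⟨j, h, rfl⟩
    · exact Or.inr rfl
  · rintro (⟨j, hj, rfl⟩ | rfl)
    · exact ⟨j, by omega, rfl⟩
    · exact ⟨m, by omega, rfl⟩

theorem span_jumps (c : ℕ → M) (m : ℕ) :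
    Submodule.span R (c '' Set.Iio m) = Submodule.span R (c '' {j | j < m ∧ IsJump R c j}) := by
  induction m with
  | zero => simp
  | succ m ih =>
    refine le_antisymm ?_ (Submodule.span_mono (Set.image_mono fun j hj => hj.1))
    rw [span_Iio_succ]
    have hmono : Submodule.span R (c '' {j | j < m ∧ IsJump R c j}) ≤ Submodule.span R (c '' {j | j < m + 1 ∧ IsJump R c j}) :=
      Submodule.span_mono (Set.image_mono fun j hj => ⟨Nat.lt_succ_of_lt hj.1, hj.2⟩)
    refine sup_le (ih.le.trans hmono) ((Submodule.span_singleton_le_iff_mem _ _).2 ?_)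
    by_cases h : IsJump R c m
    · exact Submodule.subset_span ⟨m, ⟨Nat.lt_succ_self m, h⟩, rfl⟩
    · exact hmono (ih ▸ not_not.1 h)

theorem span_range_jumps (c : ℕ → M) : Submodule.span R (Set.range c) = Submodule.span R (c '' {j | IsJump R c j}) := by
  refine le_antisymm (Submodule.span_le.2 ?_) (Submodule.span_mono (Set.image_subset_range _ _))
  rintro _ ⟨j, rfl⟩
  have : c j ∈ Submodule.span R (c '' Set.Iio (j + 1)) := Submodule.subset_span ⟨j, Nat.lt_succ_self j, rfl⟩
  rw [span_jumps] at this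
  exact Submodule.span_mono (Set.image_mono fun i hi => hi.2) this

theorem linearIndepOn_jumps (c : ℕ → M) : LinearIndepOn R c {j | IsJump R c j} := by
  have key : ∀ m, LinearIndepOn R c {j | j < m ∧ IsJump R c j} := by
    intro m
    induction m with
    | zero => convert linearIndepOn_empty R c; ext j; simp
    | succ m ih =>
      by_cases h : IsJump R c m
      · rw [show {j | j < m + 1 ∧ IsJump R c j} = insert m {j | j < m ∧ IsJump R c j} by
          ext j; simp only [Set.mem_ofPred_eq, Set.mem_insert_iff, Nat.lt_succ_iff_lt_or_eq]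
          constructor
          · rintro ⟨h1 | h1, h2⟩ <;> tauto
          · rintro (rfl | ⟨h1, h2⟩) <;> tauto]
        exact ih.insert (by rw [← span_jumps]; exact h)
      · rw [show {j | j < m + 1 ∧ IsJump R c j} = {j | j < m ∧ IsJump R c j} by
          ext j; simp only [Set.mem_ofPred_eq, Nat.lt_succ_iff_lt_or_eq]
          constructor
          · rintro ⟨h1 | rfl, h2⟩ <;> tauto
          · tauto]
        exact ih
  refine linearIndepOn_of_finite _ fun t ht hfin => ?_
  obtain ⟨m, hm⟩ := hfin.bddAbove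
  exact (key (m + 1)).mono fun j hj => ⟨Nat.lt_succ_of_le (hm hj), ht hj⟩

theorem isJump_congr {M' : Type*} [AddCommGroup M'] [Module R M'] (g : M →ₗ[R] M') (hg : Function.Injective g) (c : ℕ → M) (j : ℕ) :
    IsJump R (fun i => g (c i)) j ↔ IsJump R c j := by
  rw [IsJump, IsJump, not_iff_not, show (fun i => g (c i)) '' Set.Iio j = g '' (c '' Set.Iio j) from Set.image_comp g c _,
    Submodule.span_image, Submodule.mem_map]
  exact ⟨fun ⟨x, hx, he⟩ => hg he ▸ hx, fun h => ⟨_, h, rfl⟩⟩

theorem isJump_of_span_eq {c c' : ℕ → M} (h : ∀ m, Submodule.span R (c' '' Set.Iio m) = Submodule.span R (c '' Set.Iio m))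
    (j : ℕ) : IsJump R c' j ↔ IsJump R c j := by
  have key : ∀ d : ℕ → M, d j ∈ Submodule.span R (d '' Set.Iio j) ↔
      Submodule.span R (d '' Set.Iio (j + 1)) = Submodule.span R (d '' Set.Iio j) := fun d => by
    rw [span_Iio_succ, sup_eq_left, Submodule.span_singleton_le_iff_mem]
  rw [IsJump, IsJump, key, key, h, h]

theorem span_eq_of_triangular {c c' : ℕ → M} {a : ℕ → R} (ha : ∀ j, a j ≠ 0)
    (h : ∀ j, c' j - a j • c j ∈ Submodule.span R (c '' Set.Iio j)) (m : ℕ) :
    Submodule.span R (c' '' Set.Iio m) = Submodule.span R (c '' Set.Iio m) := by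
  induction m with
  | zero => simp
  | succ m ih =>
    rw [span_Iio_succ, span_Iio_succ, ih]
    refine le_antisymm (sup_le le_sup_left ((Submodule.span_singleton_le_iff_mem _ _).2 ?_))
      (sup_le le_sup_left ((Submodule.span_singleton_le_iff_mem _ _).2 ?_))
    · rw [← sub_add_cancel (c' m) (a m • c m)]
      exact add_mem (Submodule.mem_sup_left (h m))
        (Submodule.smul_mem _ _ (Submodule.mem_sup_right (Submodule.mem_span_singleton_self _)))
    · have h1 : a m • c m ∈ Submodule.span R (c '' Set.Iio m) ⊔ Submodule.span R {c' m} := by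
        rw [show a m • c m = c' m - (c' m - a m • c m) by abel]
        exact sub_mem (Submodule.mem_sup_right (Submodule.mem_span_singleton_self _)) (Submodule.mem_sup_left (h m))
      exact (Submodule.smul_mem_iff _ (ha m)).1 h1

theorem isOrders_congr {c : ℕ → M} {M' : Type*} [AddCommGroup M'] [Module R M'] {c' : ℕ → M'}
    (h : ∀ j, IsJump R c' j ↔ IsJump R c j) {n : ℕ} (J : Fin n → ℕ) : IsOrders R c' J ↔ IsOrders R c J := by
  simp only [IsOrders, h]

/-- the index sequence `0, J₁ + 1, …, Jₙ + 1` -/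
def jidx {n : ℕ} (J : Fin n → ℕ) : Fin (n + 1) → ℕ := Fin.cases 0 fun l => J l + 1

@[simp] theorem jidx_zero {n : ℕ} (J : Fin n → ℕ) : jidx J 0 = 0 := rfl
@[simp] theorem jidx_succ {n : ℕ} (J : Fin n → ℕ) (l : Fin n) : jidx J l.succ = J l + 1 := rfl

theorem jidx_strictMono {n : ℕ} {J : Fin n → ℕ} (hJ : StrictMono J) : StrictMono (jidx J) := by
  intro a b h
  induction b using Fin.cases with
  | zero => exact absurd h (Fin.not_lt_zero a)
  | succ b =>
    induction a using Fin.cases with
    | zero => simp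
    | succ a => simpa using hJ (Fin.succ_lt_succ_iff.1 h)

theorem IsOrders.jumps {c : ℕ → M} (hc : c 0 ≠ 0) {n : ℕ} {J : Fin n → ℕ} (hJ : IsOrders R c J) :
    {j | IsJump R c j} = Set.range (jidx J) := by
  ext j
  rcases j with _ | j
  · simp only [Set.mem_ofPred_eq, Set.mem_range]
    exact ⟨fun _ => ⟨0, rfl⟩, fun _ => by simp [IsJump, hc]⟩
  · rw [Set.mem_ofPred_eq, ← hJ.2 j, Set.mem_range, Set.mem_range, Fin.exists_fin_succ]
    simp

theorem IsOrders.linearIndependent {c : ℕ → M} (hc : c 0 ≠ 0) {n : ℕ} {J : Fin n → ℕ} (hJ : IsOrders R c J) :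
    LinearIndependent R (c ∘ jidx J) := by
  have := linearIndepOn_jumps (R := R) c
  rw [IsOrders.jumps hc hJ] at this
  exact (linearIndepOn_range_iff (jidx_strictMono hJ.1).injective c).1 this

theorem IsOrders.span_lt {c : ℕ → M} (hc : c 0 ≠ 0) {n : ℕ} {J : Fin n → ℕ} (hJ : IsOrders R c J) (i : Fin (n + 1)) :
    Submodule.span R (c '' Set.Iio (jidx J i)) = Submodule.span R ((c ∘ jidx J) '' Set.Iio i) := by
  rw [span_jumps, Set.image_comp]
  congr 2
  ext j
  have hm : j ∈ {j | IsJump R c j} ↔ j ∈ Set.range (jidx J) := by rw [IsOrders.jumps hc hJ]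
  simp only [Set.mem_ofPred_eq] at hm
  simp only [Set.mem_ofPred_eq, Set.mem_image, Set.mem_Iio, hm, Set.mem_range]
  constructor
  · rintro ⟨h, l, rfl⟩
    exact ⟨l, (jidx_strictMono hJ.1).lt_iff_lt.1 h, rfl⟩
  · rintro ⟨l, h, rfl⟩
    exact ⟨jidx_strictMono hJ.1 h, l, rfl⟩

theorem orders_unique {c : ℕ → M} {n : ℕ} {J J' : Fin n → ℕ} (hJ : IsOrders R c J) (hJ' : IsOrders R c J') : J = J' :=
  (hJ.1.range_inj hJ'.1).1 (Set.ext fun j => (hJ.2 j).trans (hJ'.2 j).symm)

theorem exists_orders [FiniteDimensional R M] {c : ℕ → M} (hc : c 0 ≠ 0) (hspan : Submodule.span R (Set.range c) = ⊤) {n : ℕ}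
    (hd : Module.finrank R M = n + 1) : ∃ J : Fin n → ℕ, IsOrders R c J := by
  classical
  have hli := linearIndepOn_jumps (R := R) c
  have hfin : {j | IsJump R c j}.Finite := hli.linearIndependent.finite_of_le_span_finite |> fun _ => by
    haveI := hli.linearIndependent.finite
    exact Set.toFinite _
  have hcard : hfin.toFinset.card = n + 1 := by
    haveI : Fintype {j | IsJump R c j} := hfin.fintype
    have h1 := finrank_span_eq_card hli.linearIndependent
    rw [show Set.range (fun x : {j | IsJump R c j} => c x) = c '' {j | IsJump R c j} from (Set.image_eq_range _ _).symm,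
      ← span_range_jumps, hspan, finrank_top, hd] at h1
    rw [Set.Finite.card_toFinset, h1]
  have h0 : (0 : ℕ) ∈ hfin.toFinset := by simp [IsJump, hc]
  let T : Finset ℕ := (hfin.toFinset.erase 0).image fun j => j - 1
  have hinj : Set.InjOn (fun j : ℕ => j - 1) ↑(hfin.toFinset.erase 0) := fun a ha b hb h => by
    simp only [Finset.coe_erase, Set.mem_diff, Set.mem_singleton_iff] at ha hb
    have := ha.2; have := hb.2; simp only at h; omega
  have hT : T.card = n := by rw [Finset.card_image_of_injOn hinj, Finset.card_erase_of_mem h0, hcard]; omega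
  refine ⟨T.orderEmbOfFin hT, (T.orderEmbOfFin hT).strictMono, fun j => ?_⟩
  rw [Finset.range_orderEmbOfFin, Finset.mem_coe, Finset.mem_image]
  constructor
  · rintro ⟨i, hi, rfl⟩
    rw [Finset.mem_erase, Set.Finite.mem_toFinset] at hi
    rw [show i - 1 + 1 = i by omega]; exact hi.2
  · intro h
    exact ⟨j + 1, Finset.mem_erase.2 ⟨by omega, hfin.mem_toFinset.2 h⟩, rfl⟩

/-- minimality of the order sequence -/
theorem orders_le_of_indep {c : ℕ → M} (hc : c 0 ≠ 0) {n : ℕ} {J : Fin n → ℕ} (hJ : IsOrders R c J) {b : ℕ} {l : Fin n}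
    {ι : Type*} [Fintype ι] (e : ι → ℕ) (he : ∀ i, e i ≤ b + 1) (hli : LinearIndependent R (c ∘ e))
    (hcard : (l : ℕ) + 2 ≤ Fintype.card ι) : J l ≤ b := by
  classical
  by_contra hlt
  have hle : Submodule.span R (Set.range (c ∘ e)) ≤ Submodule.span R ((c ∘ jidx J) '' Set.Iio l.succ) := by
    rw [← IsOrders.span_lt hc hJ, Submodule.span_le]
    rintro _ ⟨i, rfl⟩
    refine Submodule.subset_span ⟨e i, ?_, rfl⟩
    have := he i
    simp only [Set.mem_Iio, jidx_succ]; omega
  have h1 := finrank_span_eq_card hli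
  haveI : FiniteDimensional R (Submodule.span R ((c ∘ jidx J) '' Set.Iio l.succ)) :=
    FiniteDimensional.span_of_finite R ((Set.toFinite _).image _)
  have h2 := Submodule.finrank_mono hle
  have h3 : Module.finrank R (Submodule.span R ((c ∘ jidx J) '' Set.Iio l.succ)) ≤ (l : ℕ) + 1 := by
    refine (finrank_span_le_card _).trans ?_
    rw [Set.toFinset_card]
    refine le_trans (le_of_eq (Nat.card_eq_fintype_card).symm) ((Nat.card_image_le (Set.toFinite _)).trans ?_)
    rw [Nat.card_eq_fintype_card, Fintype.card_ofFinset]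
    simp
  omega

theorem orders_le {c : ℕ → M} (hc : c 0 ≠ 0) {n : ℕ} {J J' : Fin n → ℕ} (hJ : IsOrders R c J) (hJ' : StrictMono J')
    (hli : LinearIndependent R (c ∘ jidx J')) (l : Fin n) : J l ≤ J' l := by
  have hl : (l : ℕ) + 2 ≤ n + 1 := by have := l.isLt; omega
  refine orders_le_of_indep hc hJ (ι := Fin (l + 2)) (fun i => jidx J' (Fin.castLE hl i)) (fun i => ?_)
    (hli.comp _ (Fin.castLE_injective _)) (by simp)
  rw [← jidx_succ J' l]
  refine (jidx_strictMono hJ').monotone ?_
  rw [Fin.le_def]; simp only [Fin.val_castLE, Fin.val_succ]; omega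

theorem isJump_iff_dual {ι : Type*} [Fintype ι] (c : ℕ → ι → R) (j : ℕ) :
    IsJump R c j ↔ ∃ v : ι → R, (∀ i < j, ∑ a, v a * c i a = 0) ∧ ∑ a, v a * c j a ≠ 0 := by
  classical
  constructor
  · intro h
    obtain ⟨f, hf, hle⟩ := Submodule.exists_le_ker_of_notMem h
    have hfv : ∀ x : ι → R, f x = ∑ a, f (Pi.single a 1) * x a := fun x => by
      conv_lhs => rw [← (Pi.basisFun R ι).sum_repr x]
      simp [map_sum, map_smul, mul_comm]
    refine ⟨fun a => f (Pi.single a 1), fun i hi => ?_, ?_⟩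
    · rw [← hfv]; exact LinearMap.mem_ker.1 (hle (Submodule.subset_span ⟨i, hi, rfl⟩))
    · rw [← hfv]; exact hf
  · rintro ⟨v, h1, h2⟩ hmem
    have key : ∀ x ∈ Submodule.span R (c '' Set.Iio j), ∑ a, v a * x a = 0 := fun x hx => by
      induction hx using Submodule.span_induction with
      | mem x hx => obtain ⟨i, hi, rfl⟩ := hx; exact h1 i hi
      | zero => simp
      | add x y _ _ hx hy => simp [mul_add, Finset.sum_add_distrib, hx, hy]
      | smul r x _ hx => simp [mul_left_comm, ← Finset.mul_sum, hx]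
    exact h2 (key _ hmem)

theorem span_range_eq_top {ι : Type*} [Fintype ι] (c : ℕ → ι → R) (h : ∀ v : ι → R, (∀ i, ∑ a, v a * c i a = 0) → v = 0) :
    Submodule.span R (Set.range c) = ⊤ := by
  classical
  by_contra hne
  obtain ⟨x, -, hx⟩ := SetLike.exists_of_lt (lt_top_iff_ne_top.2 hne)
  obtain ⟨f, hf, hle⟩ := Submodule.exists_le_ker_of_notMem hx
  have hfv : ∀ y : ι → R, f y = ∑ a, f (Pi.single a 1) * y a := fun y => by
    conv_lhs => rw [← (Pi.basisFun R ι).sum_repr y]
    simp [map_sum, map_smul, mul_comm]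
  have h0 := h (fun a => f (Pi.single a 1)) fun i => by
    rw [← hfv]; exact LinearMap.mem_ker.1 (hle (Submodule.subset_span ⟨i, rfl⟩))
  exact hf (by rw [hfv]; exact Finset.sum_eq_zero fun a _ => by rw [show f (Pi.single a 1) = 0 from congrFun h0 a, zero_mul])

end Jumps

variable {k K : Type*} [Field k] [Field K] [Algebra k K]

theorem wrMat_eq {n : ℕ} (τ : K →ₐ[k] K) (H : K →ₐ[k] PowerSeries K) (φ : Fin (n + 1) → K) (I : Fin n → ℕ) (i c : Fin (n + 1)) :
    wrMat τ H φ I i c = hcol τ H φ (jidx I c) i := by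
  induction c using Fin.cases with
  | zero => rfl
  | succ l => rfl

theorem det_wrMat_ne_zero_iff {n : ℕ} (τ : K →ₐ[k] K) (H : K →ₐ[k] PowerSeries K) (φ : Fin (n + 1) → K) (I : Fin n → ℕ) :
    (wrMat τ H φ I).det ≠ 0 ↔ LinearIndependent K (hcol τ H φ ∘ jidx I) := by
  rw [← isUnit_iff_ne_zero, ← Matrix.isUnit_iff_isUnit_det, ← Matrix.linearIndependent_cols_iff_isUnit]
  have : (wrMat τ H φ I).col = hcol τ H φ ∘ jidx I := funext fun c => funext fun i => wrMat_eq τ H φ I i c
  rw [this]

theorem hcol_zero_ne {n : ℕ} {φ : Fin (n + 1) → K} (hφ : LinearIndependent k φ) (τ : K →ₐ[k] K) (H : K →ₐ[k] PowerSeries K) :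
    hcol τ H φ 0 ≠ 0 := fun h => by
  have := congrFun h 0
  simp only [hcol, Pi.zero_apply] at this
  exact hφ.ne_zero 0 (τ.toRingHom.injective (this.trans (map_zero τ).symm))

theorem exists_residue_const [IsAlgClosed k] (hK : IsFunctionField k K) (P : Place k K)
    (r : IsLocalRing.ResidueField P.O) : ∃ c : k, algebraMap k (IsLocalRing.ResidueField P.O) c = r := by
  obtain ⟨⟨z, hz⟩, rfl⟩ := IsLocalRing.residue_surjective r
  have hz' : P.1 z ≤ 1 := (Valuation.mem_valuationSubring_iff _ _).1 hz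
  obtain ⟨c, hc⟩ := exists_const hK P hz'
  exact ⟨c, by rw [← evalP_eq_const hc, evalP_of_le hz']⟩

theorem evalP_sum {P : Place k K} {ι : Type*} (s : Finset ι) (f : ι → K) (h : ∀ i ∈ s, P.1 (f i) ≤ 1) :
    evalP P (∑ i ∈ s, f i) = ∑ i ∈ s, evalP P (f i) := by
  classical
  induction s using Finset.induction_on with
  | empty => simp only [Finset.sum_empty]; exact (evalP_eq_zero_iff (by simp)).2 (by simp)
  | insert a s ha ih =>
    rw [Finset.sum_insert ha, Finset.sum_insert ha, evalP_add (h a (Finset.mem_insert_self a s))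
      (Valuation.map_sum_le _ fun i hi => h i (Finset.mem_insert_of_mem hi)), ih fun i hi => h i (Finset.mem_insert_of_mem hi)]

theorem evalP_smul {P : Place k K} (c : k) {z : K} (hz : P.1 z ≤ 1) :
    evalP P (c • z) = algebraMap k (IsLocalRing.ResidueField P.O) c * evalP P z := by
  rw [Algebra.smul_def, evalP_mul (P.2.1 c) hz, evalP_algebraMap]

theorem evalP_hasseD_sum [IsAlgClosed k] (hK : IsFunctionField k K) {P : Place k K} {t : K} (ht : P.1 t = exp (-1))
    {H : K →ₐ[k] PowerSeries K} (hH : LocRes.IsHasseFamily t H) {ι : Type*} [Fintype ι] (φ : ι → K)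
    (hint : ∀ i, P.1 (φ i) ≤ 1) (c : ι → k) (j : ℕ) :
    evalP P (LocRes.hasseD H j (∑ a, c a • φ a)) =
      ∑ a, algebraMap k (IsLocalRing.ResidueField P.O) (c a) * evalP P (LocRes.hasseD H j (φ a)) := by
  simp only [hasseD_sum, hasseD_smul]
  rw [evalP_sum _ _ fun a _ => (val_smul_le P _ _).trans (hasseD_integral hK ht hH j (hint a))]
  exact Finset.sum_congr rfl fun a _ => evalP_smul _ (hasseD_integral hK ht hH j (hint a))

theorem indep_evalP [IsAlgClosed k] (hK : IsFunctionField k K) {P : Place k K} {t : K} (ht : P.1 t = exp (-1))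
    {H : K →ₐ[k] PowerSeries K} (hH : LocRes.IsHasseFamily t H) {ι : Type*} [Fintype ι] {φ : ι → K}
    (hφ : LinearIndependent k φ) (hint : ∀ i, P.1 (φ i) ≤ 1) :
    LinearIndependent (IsLocalRing.ResidueField P.O)
      (fun i : ι => fun j : ℕ => evalP P (LocRes.hasseD H j (φ i))) := by
  rw [Fintype.linearIndependent_iff]
  intro g hg
  choose c hc using fun i => exists_residue_const hK P (g i)
  have hy : P.1 (∑ a, c a • φ a) ≤ 1 := Valuation.map_sum_le _ fun a _ => (val_smul_le P _ _).trans (hint a)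
  have h0 : ∑ a, c a • φ a = 0 := eq_zero_of_val_le P fun m => (val_le_exp_iff_hasseD hK ht hH hy m).2 fun j _ => by
    rw [← evalP_eq_zero_iff (hasseD_integral hK ht hH j hy), evalP_hasseD_sum hK ht hH φ hint]
    simpa [hc] using congrFun hg j
  intro i
  rw [← hc i, Fintype.linearIndependent_iff.1 hφ c h0 i, map_zero]

theorem exists_place_integral (hK : IsFunctionField k K) {ι : Type*} [Fintype ι] (φ : ι → K) :
    ∃ P : Place k K, ∀ i, P.1 (φ i) ≤ 1 := by
  classical
  obtain ⟨x, hx⟩ := exists_transcendental hK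
  have hbad : ∀ i, {P : Place k K | P.1 (φ i) > 1}.Finite := fun i => by
    refine (finite_support_ord' hK.1 (φ i)).subset fun P hP => ?_
    simp only [Set.mem_ofPred_eq, Function.mem_support] at hP ⊢
    intro h0
    have hne : φ i ≠ 0 := fun h => by simp [h] at hP
    exact hP.ne' ((val_eq_one_iff P hne).2 h0)
  by_contra! hall
  have hsub : (Set.univ : Set (Place k K)) ⊆ ⋃ i, {P : Place k K | P.1 (φ i) > 1} := fun P _ => by
    obtain ⟨i, hi⟩ := hall P
    exact Set.mem_iUnion.2 ⟨i, hi⟩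
  have hfin := (Set.finite_iUnion hbad).subset hsub
  choose u hu0 hu1 using fun P : Place k K => exists_val_eq P (-1)
  obtain ⟨z, hz⟩ := exists_approx hfin.toFinset u (fun _ => -2)
  have hord : ∀ P : Place k K, P.ord z = 1 := fun P => by
    have h1 := hz P (hfin.mem_toFinset.2 trivial)
    have h2 : P.1 z = exp (-1) := by
      rw [show z = u P + (z - u P) by ring, Valuation.map_add_eq_of_lt_left _ (h1.trans_lt (by rw [hu1 P, exp_lt_exp]; omega)),
        hu1 P]
    exact (ord_param h2).2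
  obtain ⟨P0, -⟩ := exists_place_val_lt_one hK.1 hx
  have hpos : (0 : Divisor k K) ≤ div k z := fun P => by
    rw [div_apply hK.1, hord P]; exact zero_le_one
  have := congrArg (· P0) (eq_zero_of_deg_nonpos hK.1 hpos (deg_div hK.1 z).le)
  simp only [div_apply hK.1, hord P0, Finsupp.zero_apply] at this
  exact one_ne_zero this

theorem indep_hasse [IsAlgClosed k] (hK : IsFunctionField k K) {s : K} {H : K →ₐ[k] PowerSeries K}
    (hH : LocRes.IsHasseFamily s H) {ι : Type*} [Fintype ι] {φ : ι → K} (hφ : LinearIndependent k φ)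
    (v : ι → K) (hv : ∀ j, ∑ a, v a * LocRes.hasseD H j (φ a) = 0) : v = 0 := by
  classical
  by_contra hne
  obtain ⟨P, hP⟩ := exists_place_integral hK φ
  obtain ⟨t, ht0, -, htP⟩ := exists_uniformizer P
  have ht : P.1 t = exp (-1) := by rw [val_eq_exp P ht0, htP]
  obtain ⟨Ht, hHt⟩ := exists_family_param hK ht
  have h1 : ∑ a, PowerSeries.C (v a) * H (φ a) = 0 := by
    ext j; simpa [LocRes.hasseD_apply] using hv j
  have hc : PowerSeries.constantCoeff (Ht s - PowerSeries.C s) = 0 := by
    rw [map_sub, hHt.2, PowerSeries.constantCoeff_C, sub_self]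
  have hsub := PowerSeries.HasSubst.of_constantCoeff_zero' hc
  have h2 : ∑ a, PowerSeries.C (v a) * Ht (φ a) = 0 := by
    have := congrArg (PowerSeries.substAlgHom hsub) h1
    simp only [map_sum, map_mul, map_zero, PowerSeries.coe_substAlgHom, PowerSeries.subst_C] at this
    rw [← this]
    exact Finset.sum_congr rfl fun a _ => by rw [hasse_change hK hH hHt]; rfl
  obtain ⟨a0, ha0⟩ := Function.ne_iff.1 hne
  obtain ⟨a1, -, hmax⟩ := Finset.exists_max_image Finset.univ (fun a => P.1 (v a)) ⟨a0, Finset.mem_univ _⟩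
  have hv1 : v a1 ≠ 0 := fun h => by
    have := hmax a0 (Finset.mem_univ _)
    rw [h, map_zero] at this
    exact ha0 ((map_eq_zero P.1).1 (le_zero_iff.1 this))
  have hw : ∀ a, P.1 (v a / v a1) ≤ 1 := fun a => by
    rw [map_div₀, div_le_one₀ (zero_lt_iff.2 (val_ne_zero P hv1))]; exact hmax a (Finset.mem_univ _)
  have h3 : ∑ a, evalP P (v a / v a1) • (fun j : ℕ => evalP P (LocRes.hasseD Ht j (φ a))) = 0 := by
    funext j
    simp only [Finset.sum_apply, Pi.smul_apply, Pi.zero_apply, smul_eq_mul]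
    rw [Finset.sum_congr rfl fun a _ => (evalP_mul (hw a) (hasseD_integral hK ht hHt j (hP a))).symm,
      ← evalP_sum _ _ fun a _ => by rw [map_mul]; exact mul_le_one' (hw a) (hasseD_integral hK ht hHt j (hP a))]
    have h4 : ∑ a, v a * LocRes.hasseD Ht j (φ a) = 0 := by
      simpa [LocRes.hasseD_apply] using congrArg (PowerSeries.coeff j) h2
    rw [Finset.sum_congr rfl fun a _ => div_mul_eq_mul_div (v a) (v a1) (LocRes.hasseD Ht j (φ a)), ← Finset.sum_div, h4,
      zero_div]
    exact (evalP_eq_zero_iff (by simp)).2 (by simp)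
  have := Fintype.linearIndependent_iff.1 (indep_evalP hK ht hHt hφ hP) _ h3 a1
  rw [evalP_eq_zero_iff (hw a1), div_self hv1, map_one] at this
  exact lt_irrefl _ this

theorem exists_orders_hcol [IsAlgClosed k] (hK : IsFunctionField k K) {n : ℕ} {φ : Fin (n + 1) → K}
    (hφ : LinearIndependent k φ) (τ : K →ₐ[k] K) {s : K} {H : K →ₐ[k] PowerSeries K} (hH : LocRes.IsHasseFamily s H) :
    ∃ J : Fin n → ℕ, IsOrders K (hcol τ H φ) J :=
  exists_orders (hcol_zero_ne hφ τ H)
    (span_range_eq_top _ fun v hv => indep_hasse hK hH hφ v fun j => hv (j + 1)) (by simp)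

theorem det_ne_zero_of_orders {n : ℕ} {φ : Fin (n + 1) → K} (hφ : LinearIndependent k φ) {τ : K →ₐ[k] K}
    {H : K →ₐ[k] PowerSeries K} {J : Fin n → ℕ} (hJ : IsOrders K (hcol τ H φ) J) : (wrMat τ H φ J).det ≠ 0 :=
  (det_wrMat_ne_zero_iff τ H φ J).2 (IsOrders.linearIndependent (hcol_zero_ne hφ τ H) hJ)

theorem det_triangular {n : ℕ} {φ φ' : Fin (n + 1) → K} (hφ : LinearIndependent k φ) {τ : K →ₐ[k] K}
    {H H' : K →ₐ[k] PowerSeries K} {a : ℕ → K}
    (h : ∀ j, hcol τ H' φ' j - a j • hcol τ H φ j ∈ Submodule.span K (hcol τ H φ '' Set.Iio j))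
    {J : Fin n → ℕ} (hJ : IsOrders K (hcol τ H φ) J) :
    (wrMat τ H' φ' J).det = (∏ c, a (jidx J c)) * (wrMat τ H φ J).det := by
  classical
  set v : Fin (n + 1) → Fin (n + 1) → K := hcol τ H φ ∘ jidx J with hvdef
  have hT : ∀ c, ∃ T : Fin (n + 1) → K, (∀ i, c < i → T i = 0) ∧ T c = a (jidx J c) ∧
      hcol τ H' φ' (jidx J c) = ∑ i, T i • v i := by
    intro c
    have h1 := h (jidx J c)
    rw [IsOrders.span_lt (hcol_zero_ne hφ τ H) hJ, ← hvdef] at h1
    obtain ⟨l, hl, he⟩ := (Finsupp.mem_span_image_iff_linearCombination K).1 h1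
    have hl0 : ∀ i, c ≤ i → l i = 0 := fun i hi => by
      by_contra hne
      exact absurd (Finsupp.mem_supported _ _ |>.1 hl (Finsupp.mem_support_iff.2 hne)) (not_lt.2 hi)
    refine ⟨fun i => l i + if i = c then a (jidx J c) else 0, fun i hi => ?_, ?_, ?_⟩
    · simp [hl0 i hi.le, hi.ne']
    · simp [hl0 c le_rfl]
    · simp only [add_smul, Finset.sum_add_distrib, ite_smul, zero_smul, Finset.sum_ite_eq', Finset.mem_univ, if_true]
      rw [Finsupp.linearCombination_apply, Finsupp.sum_fintype _ _ (fun i => by simp)] at he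
      rw [he]; simp [v]
  choose T hT0 hTc hTe using hT
  have hM : wrMat τ H' φ' J = wrMat τ H φ J * Matrix.of (fun i c => T c i) := by
    ext r c
    rw [wrMat_eq, hTe c, Matrix.mul_apply, Finset.sum_apply]
    refine Finset.sum_congr rfl fun i _ => ?_
    rw [Pi.smul_apply, smul_eq_mul, wrMat_eq, mul_comm]; rfl
  have hU : (Matrix.of fun i c => T c i : Matrix (Fin (n + 1)) (Fin (n + 1)) K).IsUpperTriangular := fun i c hic => hT0 c i hic
  rw [hM, Matrix.det_mul, Matrix.det_of_isUpperTriangular hU, mul_comm]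
  simp [hTc]

theorem hcolAt_zero_eq {P : Place k K} {t : K} {H : K →ₐ[k] PowerSeries K} (hH : LocRes.IsHasseFamily t H)
    {ι : Type*} (φ : ι → K) : hcolAt P H φ 0 = hcolAt P H φ 1 := by
  funext i
  simp only [hcolAt]
  rw [hasseD_zero hH]

/-- orders at a place are the positive orders of functions in the span -/
theorem hcolAt_jump_iff [IsAlgClosed k] (hK : IsFunctionField k K) {P : Place k K} {t : K} (ht : P.1 t = exp (-1))
    {H : K →ₐ[k] PowerSeries K} (hH : LocRes.IsHasseFamily t H) {ι : Type*} [Fintype ι] {φ : ι → K}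
    (hint : ∀ i, P.1 (φ i) ≤ 1) (j : ℕ) :
    IsJump (IsLocalRing.ResidueField P.O) (hcolAt P H φ) (j + 1) ↔
      1 ≤ j ∧ ∃ f ∈ Submodule.span k (Set.range φ), P.1 f = exp (-(j : ℤ)) := by
  classical
  rcases Nat.eq_zero_or_pos j with rfl | hj
  · refine iff_of_false (fun h => h (Submodule.subset_span ⟨0, by simp, hcolAt_zero_eq hH φ⟩)) (by simp)
  rw [isJump_iff_dual]
  have hev : ∀ (c : ι → k) (i : ℕ), ∑ a, algebraMap k (IsLocalRing.ResidueField P.O) (c a) * hcolAt P H φ (i + 1) a =
      evalP P (LocRes.hasseD H i (∑ a, c a • φ a)) := fun c i => (evalP_hasseD_sum hK ht hH φ hint c i).symm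
  have hy : ∀ c : ι → k, P.1 (∑ a, c a • φ a) ≤ 1 := fun c => Valuation.map_sum_le _ fun a _ =>
    (val_smul_le P _ _).trans (hint a)
  constructor
  · rintro ⟨v, h1, h2⟩
    choose c hc using fun a => exists_residue_const hK P (v a)
    simp only [← hc] at h1 h2
    refine ⟨hj, ∑ a, c a • φ a, sum_mem fun a _ => Submodule.smul_mem _ _ (Submodule.subset_span ⟨a, rfl⟩), ?_⟩
    have hlow : ∀ i < j, P.1 (LocRes.hasseD H i (∑ a, c a • φ a)) < 1 := fun i hi => by
      rw [← evalP_eq_zero_iff (hasseD_integral hK ht hH i (hy c)), ← hev]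
      exact h1 (i + 1) (by omega)
    refine le_antisymm ((val_le_exp_iff_hasseD hK ht hH (hy c) j).2 hlow) (not_lt.1 fun hlt => h2 ?_)
    rw [hev, evalP_eq_zero_iff (hasseD_integral hK ht hH j (hy c))]
    refine (val_le_exp_iff_hasseD hK ht hH (hy c) (j + 1)).1 ?_ j (Nat.lt_succ_self j)
    rw [lt_exp_iff_le] at hlt
    refine hlt.trans ?_
    rw [exp_le_exp]; omega
  · rintro ⟨-, f, hf, hfv⟩
    obtain ⟨c, rfl⟩ := (Submodule.mem_span_range_iff_exists_fun k).1 hf
    refine ⟨fun a => algebraMap k (IsLocalRing.ResidueField P.O) (c a), fun i hi => ?_, ?_⟩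
    · rcases i with _ | i
      · rw [hcolAt_zero_eq hH, hev, evalP_eq_zero_iff (hasseD_integral hK ht hH 0 (hy c))]
        exact (val_le_exp_iff_hasseD hK ht hH (hy c) j).1 hfv.le 0 hj
      · rw [hev, evalP_eq_zero_iff (hasseD_integral hK ht hH i (hy c))]
        exact (val_le_exp_iff_hasseD hK ht hH (hy c) j).1 hfv.le i (by omega)
    · rw [hev, Ne, evalP_eq_zero_iff (hasseD_integral hK ht hH j (hy c))]
      intro hlt
      have : P.1 (∑ a, c a • φ a) ≤ exp (-((j + 1 : ℕ) : ℤ)) := (val_le_exp_iff_hasseD hK ht hH (hy c) (j + 1)).2 fun i hi => by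
        rcases Nat.lt_succ_iff_lt_or_eq.1 hi with h | rfl
        · exact (val_le_exp_iff_hasseD hK ht hH (hy c) j).1 hfv.le i h
        · exact hlt
      rw [hfv, exp_le_exp] at this
      omega

end Groth.Agent.FunFldLib
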