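import Groth.Agent.FunFldLib.Extension
import Mathlib.RingTheory.DedekindDomain.IntegralClosure
import Mathlib.RingTheory.DedekindDomain.AdicValuation
import Mathlib.LinearAlgebra.FreeModule.Norm
import Mathlib.RingTheory.IntegralClosure.IntegralRestrict

/-! The integral closure of a valuation ring of a place in a finite separable extension. -/

set_option autoImplicit false
set_option maxHeartbeats 1000000

open WithZero

namespace Groth.Agent.FunFldLib

open FunFld IsLocalRing

variable {k K K' : Type*} [Field k] [Field K] [Field K'] [Algebra k K] [Algebra K K'] [Algebra k K']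
  [IsScalarTower k K K'] [FiniteDimensional K K'] [Algebra.IsSeparable K K']

omit [Field K'] [Algebra K K'] [Algebra k K'] [IsScalarTower k K K'] [FiniteDimensional K K'] [Algebra.IsSeparable K K'] in
theorem isPID_O (P : Place k K) : IsPrincipalIdealRing P.O := by
  classical
  refine ⟨fun I => ?_⟩
  rcases eq_or_ne I ⊥ with rfl | hI
  · exact bot_isPrincipal
  obtain ⟨a₀, ha₀, ha₀0⟩ := Submodule.exists_mem_ne_zero_of_ne_bot hI
  have hne : ∀ a : P.O, a ≠ 0 → (a : K) ≠ 0 := fun a h h0 => h (Subtype.ext h0)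
  have hex : ∃ n : ℕ, ∃ a : P.O, a ∈ I ∧ a ≠ 0 ∧ P.ord (a : K) = n := by
    refine ⟨(P.ord (a₀ : K)).toNat, a₀, ha₀, ha₀0, (Int.toNat_of_nonneg ?_).symm⟩
    exact (val_le_one_iff P (hne _ ha₀0)).1 ((Valuation.mem_valuationSubring_iff P.1 _).1 a₀.2)
  obtain ⟨a, haI, ha0, han⟩ := Nat.find_spec hex
  refine ⟨⟨a, le_antisymm (fun b hb => ?_) ((Ideal.span_singleton_le_iff_mem I).2 haI)⟩⟩
  rcases eq_or_ne b 0 with rfl | hb0
  · exact zero_mem _
  have hmin : P.ord (a : K) ≤ P.ord (b : K) := by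
    have h0 := (val_le_one_iff P (hne _ hb0)).1 ((Valuation.mem_valuationSubring_iff P.1 _).1 b.2)
    have h1 := Nat.find_le (h := hex) (n := (P.ord (b : K)).toNat) ⟨b, hb, hb0, (Int.toNat_of_nonneg h0).symm⟩
    rw [han]; omega
  refine Ideal.mem_span_singleton.2 ⟨⟨(b : K) / a, ?_⟩, Subtype.ext ?_⟩
  · rw [Valuation.mem_valuationSubring_iff, val_le_one_iff P (div_ne_zero (hne _ hb0) (hne _ ha0)),
      ord_div P (hne _ hb0) (hne _ ha0)]
    omega
  · show (b : K) = (a : K) * ((b : K) / a)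
    rw [mul_div_cancel₀ _ (hne _ ha0)]

omit [Field K'] [Algebra K K'] [Algebra k K'] [IsScalarTower k K K'] [FiniteDimensional K K'] [Algebra.IsSeparable K K'] in
theorem exp_neg_one_le_one' : (exp (-1 : ℤ) : WithZero (Multiplicative ℤ)) ≤ 1 := by
  rw [← exp_zero, exp_le_exp]; norm_num

variable {P : Place k K} [Algebra P.O K'] [IsScalarTower P.O K K']

omit [FiniteDimensional K K'] [Algebra.IsSeparable K K'] in
theorem algebraMap_O (a : P.O) : algebraMap P.O K' a = algebraMap K K' (a : K) :=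
  IsScalarTower.algebraMap_apply P.O K K' a

omit [FiniteDimensional K K'] [Algebra.IsSeparable K K'] in
theorem integral_le_one {Q : Place k K'} {e : ℕ} (he : IsOverWith Q P e) {z : K'} (hz : IsIntegral P.O z) :
    Q.1 z ≤ 1 := by
  by_contra hgt
  rw [not_le] at hgt
  obtain ⟨p, hp, hpz⟩ := hz
  have hpz' : Polynomial.aeval z p = 0 := hpz
  rw [Polynomial.aeval_eq_sum_range, Finset.sum_range_succ, hp.coeff_natDegree, one_smul] at hpz'
  have hlt : Q.1 (∑ i ∈ Finset.range p.natDegree, p.coeff i • z ^ i) < Q.1 (z ^ p.natDegree) := by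
    refine Valuation.map_sum_lt _ ((Valuation.ne_zero_iff _).2 (pow_ne_zero _ fun h => by simp [h] at hgt)) fun i hi => ?_
    rw [Algebra.smul_def, map_mul, algebraMap_O, he, map_pow, map_pow]
    exact (mul_le_of_le_one_left' (pow_le_one₀ zero_le ((Valuation.mem_valuationSubring_iff P.1 _).1 (p.coeff i).2))).trans_lt
      (pow_lt_pow_right₀ hgt (Finset.mem_range.1 hi))
  rw [eq_neg_of_add_eq_zero_left hpz', Valuation.map_neg] at hlt
  exact lt_irrefl _ hlt

theorem integral_iff (hK : IsFF k K) (z : K') :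
    IsIntegral P.O z ↔ ∀ Q : Place k K', IsOver Q P → Q.1 z ≤ 1 := by
  refine ⟨fun h Q ⟨e, he⟩ => integral_le_one he h, fun h => ?_⟩
  haveI := isPID_O P
  set B := integralClosure P.O K'
  haveI : IsDedekindDomain P.O := inferInstance
  haveI : IsDedekindDomain B := IsIntegralClosure.isDedekindDomain P.O K K' B
  haveI : IsFractionRing B K' := IsIntegralClosure.isFractionRing_of_finite_extension P.O K K' B
  suffices hz : ∀ v : IsDedekindDomain.HeightOneSpectrum B, v.valuation K' z ≤ 1 by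
    obtain ⟨b, rfl⟩ := IsDedekindDomain.HeightOneSpectrum.mem_integers_of_valuation_le_one K' z hz
    exact b.2
  intro v
  have hO : ∀ a : P.O, v.valuation K' (algebraMap P.O K' a) ≤ 1 := fun a => by
    rw [IsScalarTower.algebraMap_apply P.O B K']
    exact v.valuation_le_one _
  have hsur : Function.Surjective (v.valuation K') := fun γ => by
    rcases eq_or_ne γ 0 with rfl | hγ
    · exact ⟨0, map_zero _⟩
    obtain ⟨π, hπ⟩ := v.valuation_exists_uniformizer K'
    refine ⟨π ^ (-WithZero.log γ), ?_⟩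
    rw [map_zpow₀, hπ, ← exp_zsmul, smul_eq_mul, neg_mul, mul_neg, mul_one, neg_neg, exp_log hγ]
  let Q : Place k K' := ⟨v.valuation K', fun c => by
    have h1 := hO (algebraMap k P.O c)
    rwa [algebraMap_O, show (((algebraMap k P.O c : P.O) : K)) = algebraMap k K c from rfl,
      ← IsScalarTower.algebraMap_apply] at h1, hsur⟩
  refine h Q ?_
  obtain ⟨P', e, he⟩ := exists_restrict hK Q
  have hPP : P = P' := eq_of_forall_le_one fun x hx => by
    have h1 := hO ⟨x, (Valuation.mem_valuationSubring_iff P.1 x).2 hx⟩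
    rw [algebraMap_O] at h1
    have h2 : P'.1 x ^ e ≤ 1 := (he x).symm.trans_le h1
    exact (pow_le_one_iff (by have := isOverWith_pos he; omega)).1 h2
  exact ⟨e, hPP ▸ he⟩

/-- the norm of an element with a single simple zero of degree one -/
theorem val_norm_eq (hK : IsFF k K) {Q : Place k K'} {e : ℕ} (he : IsOverWith Q P e) {s : K'}
    (hs : Q.1 s = exp (-1)) (hs' : ∀ Q' : Place k K', IsOver Q' P → Q' ≠ Q → Q'.1 s = 1)
    (hres : ∀ z : K', Q.1 z ≤ 1 → ∃ c : P.O, Q.1 (z - algebraMap P.O K' c) < 1) :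
    P.1 (Algebra.norm K s) = exp (-1) := by
  classical
  haveI := isPID_O P
  set B := integralClosure P.O K'
  haveI : IsDedekindDomain B := IsIntegralClosure.isDedekindDomain P.O K K' B
  haveI : IsFractionRing B K' := IsIntegralClosure.isFractionRing_of_finite_extension P.O K K' B
  haveI : Module.Finite P.O B := IsIntegralClosure.finite P.O K K' B
  haveI : Module.IsTorsionFree P.O K' := by
    refine Module.isTorsionFree_iff_algebraMap_injective.2 ?_
    intro a b hab
    rw [algebraMap_O, algebraMap_O] at hab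
    exact Subtype.ext ((algebraMap K K').injective hab)
  haveI : Module.IsTorsionFree P.O B := inferInstance
  haveI : Module.Free P.O B := Module.free_of_finite_type_torsion_free'
  let b := Module.Free.chooseBasis P.O B
  have hsle : ∀ Q' : Place k K', IsOver Q' P → Q'.1 s ≤ 1 := fun Q' hQ' => by
    rcases eq_or_ne Q' Q with rfl | h
    · rw [hs]; exact exp_neg_one_le_one'
    · exact (hs' Q' hQ' h).le
  let σ : B := ⟨s, (integral_iff hK s).2 hsle⟩
  have hs0 : s ≠ 0 := fun h => by rw [h, map_zero] at hs; exact exp_ne_zero hs.symm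
  have hσ0 : σ ≠ 0 := fun h => hs0 (congrArg Subtype.val h)
  have hmem : ∀ z : B, z ∈ Ideal.span {σ} ↔ Q.1 (z : K') < 1 := fun z => by
    constructor
    · intro hz
      obtain ⟨w, rfl⟩ := Ideal.mem_span_singleton.1 hz
      show Q.1 (s * (w : K')) < 1
      rw [map_mul, hs]
      exact (mul_le_of_le_one_right' (integral_le_one he w.2)).trans_lt (by rw [← exp_zero, exp_lt_exp]; norm_num)
    · intro hz
      have hint : IsIntegral P.O ((z : K') / s) := (integral_iff hK _).2 fun Q' hQ' => by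
        rw [map_div₀]
        rcases eq_or_ne Q' Q with rfl | h
        · rw [hs, div_le_one₀ exp_pos]
          rcases eq_or_ne (z : K') 0 with h0 | h0
          · rw [h0, map_zero]; exact zero_le
          have := (val_lt_one_iff Q' h0).1 hz
          rw [val_le_exp_iff Q' h0]; omega
        · obtain ⟨e', he'⟩ := hQ'
          rw [hs' Q' ⟨e', he'⟩ h, div_one]; exact integral_le_one he' z.2
      exact Ideal.mem_span_singleton.2 ⟨⟨_, hint⟩, Subtype.ext (show (z : K') = s * ((z : K') / s) by rw [mul_div_cancel₀ _ hs0])⟩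
  obtain ⟨t, ht0, htv⟩ := exists_val_eq P (-1)
  let τ : P.O := ⟨t, by rw [Valuation.mem_valuationSubring_iff, htv, ← exp_zero, exp_le_exp]; norm_num⟩
  have hI : Ideal.span {σ} ≠ ⊥ := Ideal.span_singleton_eq_bot.not.2 hσ0
  let q := Ideal.quotientEquivPiSpan (Ideal.span {σ}) b hI
  set a := Ideal.smithCoeffs b (Ideal.span {σ}) hI
  -- the quotient is cyclic and killed by `τ`
  have hcyc : ∀ x : B ⧸ Ideal.span {σ}, ∃ c : P.O, x = c • (1 : B ⧸ Ideal.span {σ}) := fun x => by
    obtain ⟨z, rfl⟩ := Ideal.Quotient.mk_surjective x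
    obtain ⟨c, hc⟩ := hres z (integral_le_one he z.2)
    refine ⟨c, ?_⟩
    show _ = Ideal.Quotient.mk _ (c • (1 : B))
    rw [Algebra.smul_def, mul_one, Ideal.Quotient.mk_eq_mk_iff_sub_mem, hmem]
    exact hc
  have hτker : ∀ c : P.O, c • (1 : B ⧸ Ideal.span {σ}) = 0 ↔ P.1 (c : K) < 1 := fun c => by
    show Ideal.Quotient.mk _ (c • (1 : B)) = 0 ↔ _
    rw [Algebra.smul_def, mul_one, Ideal.Quotient.eq_zero_iff_mem, hmem]
    show Q.1 (algebraMap P.O K' c) < 1 ↔ _
    rw [algebraMap_O, he, pow_lt_one_iff (by have := isOverWith_pos he; omega)]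
  have hdvd : ∀ i, a i ∣ τ := fun i => by
    obtain ⟨c, hc⟩ := hcyc (q.symm (Pi.single i 1))
    have h1 : τ • q.symm (Pi.single i 1) = 0 := by
      rw [hc, smul_comm, (hτker τ).2 (by rw [htv, ← exp_zero, exp_lt_exp]; norm_num), smul_zero]
    rw [← map_smul, LinearEquiv.map_eq_zero_iff] at h1
    have h2 := congrFun h1 i
    simp only [Pi.smul_apply, Pi.single_eq_same, Pi.zero_apply, Algebra.smul_def, mul_one] at h2
    exact Ideal.mem_span_singleton.1 (Ideal.Quotient.eq_zero_iff_mem.1 h2)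
  have hunit : ∀ c : P.O, IsUnit c ↔ P.1 (c : K) = 1 := fun c => by
    constructor
    · rintro ⟨u, rfl⟩
      refine le_antisymm ((Valuation.mem_valuationSubring_iff P.1 _).1 (u : P.O).2) ?_
      have h1 : ((u : P.O) : K) * ((u⁻¹ : P.Oˣ) : P.O) = 1 := congrArg Subtype.val u.mul_inv
      calc (1 : WithZero (Multiplicative ℤ)) = P.1 ((u : P.O) : K) * P.1 ((u⁻¹ : P.Oˣ) : P.O) := by
            rw [← map_mul, h1, map_one]
        _ ≤ _ := mul_le_of_le_one_right' ((Valuation.mem_valuationSubring_iff P.1 _).1 ((u⁻¹ : P.Oˣ) : P.O).2)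
    · intro h
      have hc0 : (c : K) ≠ 0 := fun h0 => by rw [h0, map_zero] at h; exact zero_ne_one h
      refine IsUnit.of_mul_eq_one ⟨(c : K)⁻¹, by rw [Valuation.mem_valuationSubring_iff, map_inv₀, h, inv_one]⟩
        (Subtype.ext (mul_inv_cancel₀ hc0))
  obtain ⟨i₀, hi₀⟩ : ∃ i, ¬ IsUnit (a i) := by
    by_contra! hall
    have h1 : (1 : P.O) • (1 : B ⧸ Ideal.span {σ}) = 0 := by
      refine q.injective (funext fun i => ?_)
      haveI := Ideal.Quotient.subsingleton_iff.2 (Ideal.span_singleton_eq_top.2 (hall i))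
      exact Subsingleton.elim _ _
    have h2 := (hτker 1).1 h1
    simp at h2
  have hothers : ∀ i, i ≠ i₀ → IsUnit (a i) := fun i hi => by
    by_contra hni
    obtain ⟨c, hc⟩ := hcyc (q.symm (Pi.single i₀ 1))
    obtain ⟨d, hd⟩ := hcyc (q.symm (Pi.single i 1))
    have e0 : Pi.single i₀ 1 = c • q (1 : B ⧸ Ideal.span {σ}) := by
      rw [← map_smul, ← hc, LinearEquiv.apply_symm_apply]
    have e1 : Pi.single i 1 = d • q (1 : B ⧸ Ideal.span {σ}) := by
      rw [← map_smul, ← hd, LinearEquiv.apply_symm_apply]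
    have a0 := congrFun e0 i₀
    have a1 := congrFun e0 i
    have b1 := congrFun e1 i
    rw [Pi.single_eq_same, Pi.smul_apply] at a0 b1
    rw [Pi.single_eq_of_ne hi, Pi.smul_apply] at a1
    have hcu : IsUnit c := by
      rw [hunit]
      refine le_antisymm ((Valuation.mem_valuationSubring_iff P.1 _).1 c.2) (not_lt.1 fun hlt => ?_)
      rw [(hτker c).2 hlt] at hc
      have h3 := congrArg q hc
      rw [LinearEquiv.apply_symm_apply, map_zero] at h3
      have h4 := congrFun h3 i₀
      rw [Pi.single_eq_same] at h4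
      exact hi₀ (isUnit_of_dvd_one (Ideal.mem_span_singleton.1 (Ideal.Quotient.eq_zero_iff_mem.1 h4)))
    obtain ⟨u, rfl⟩ := hcu
    have hg : q (1 : B ⧸ Ideal.span {σ}) i = 0 := by
      have := congrArg (fun r => ((u⁻¹ : P.Oˣ) : P.O) • r) a1
      simp only [smul_zero, smul_smul, Units.inv_mul, one_smul] at this
      exact this.symm
    rw [hg, smul_zero] at b1
    exact hni (isUnit_of_dvd_one (Ideal.mem_span_singleton.1 (Ideal.Quotient.eq_zero_iff_mem.1 b1)))
  have hv : P.1 ((∏ i, a i : P.O) : K) = exp (-1) := by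
    rw [← Finset.mul_prod_erase _ _ (Finset.mem_univ i₀)]
    have h1 : P.1 ((∏ i ∈ Finset.univ.erase i₀, a i : P.O) : K) = 1 :=
      (hunit _).1 (IsUnit.prod_iff.2 fun i hi => hothers i (Finset.ne_of_mem_erase hi))
    show P.1 ((a i₀ : K) * ((∏ i ∈ Finset.univ.erase i₀, a i : P.O) : K)) = _
    rw [map_mul, h1, mul_one]
    obtain ⟨r, hr⟩ := hdvd i₀
    have h2 : exp (-1 : ℤ) = P.1 (a i₀ : K) * P.1 (r : K) := by
      rw [← htv, ← map_mul]; exact congrArg P.1 (congrArg Subtype.val hr)
    have h3 : P.1 (a i₀ : K) < 1 := lt_of_le_of_ne ((Valuation.mem_valuationSubring_iff P.1 _).1 (a i₀).2)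
      fun h => hi₀ ((hunit _).2 h)
    have h4 : exp (-1 : ℤ) ≤ P.1 (a i₀ : K) :=
      h2 ▸ mul_le_of_le_one_right' ((Valuation.mem_valuationSubring_iff P.1 _).1 r.2)
    have hne : P.1 (a i₀ : K) ≠ 0 := (exp_pos.trans_le h4).ne'
    rw [← exp_log hne] at h3 h4 ⊢
    have h5 := exp_lt_exp.1 (h3.trans_eq exp_zero.symm)
    rw [exp_le_exp] at h4
    rw [exp_inj]; omega
  obtain ⟨u, hu⟩ := associated_norm_prod_smith b hσ0
  have h6 : Algebra.norm K s = ((Algebra.norm P.O σ : P.O) : K) := by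
    rw [← Algebra.intNorm_eq_norm P.O B]
    exact (Algebra.algebraMap_intNorm (A := P.O) (K := K) (L := K') (B := B) σ).symm
  rw [h6]
  have h7 := congrArg (fun r : P.O => P.1 (r : K)) hu
  rw [← hv]
  refine Eq.trans ?_ h7
  show _ = P.1 ((Algebra.norm P.O σ : K) * ((u : P.O) : K))
  rw [map_mul, (hunit _).1 u.isUnit, mul_one]

end Groth.Agent.FunFldLib
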