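import Groth.Agent.S12572
import Groth.Agent.FunFldLib.PlaceIntClosure
import Mathlib.RingTheory.DedekindDomain.Different

/-! The local ring of a place of residue degree one above, and the local different. -/

set_option autoImplicit false
set_option maxHeartbeats 800000

open WithZero Polynomial Pointwise

universe u v

namespace Groth.Agent.FunFldLib

open FunFld

variable {k : Type u} {K K' : Type v} [Field k] [Field K] [Field K'] [Algebra k K] [Algebra K K'] [Algebra k K']
  [IsScalarTower k K K'] [FiniteDimensional K K'] [Algebra.IsSeparable K K'] {P : Place k K} [Algebra P.O K']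
  [IsScalarTower P.O K K']

theorem exists_special (hK : IsFF k K) {Q : Place k K'} (hQ : IsOver Q P) :
    ∃ s : K', Q.1 s = exp (-1) ∧ ∀ Q' : Place k K', IsOver Q' P → Q' ≠ Q → Q'.1 s = 1 := by
  classical
  obtain ⟨s₀, -, hs₀⟩ := exists_val_eq Q (-1)
  obtain ⟨s, hs⟩ := exists_approx (finite_over (K' := K') hK P).toFinset (fun R => if R = Q then s₀ else 1) (fun _ => -2)
  refine ⟨s, ?_, fun Q' hQ' hne => ?_⟩
  · have h := hs Q (by rw [Set.Finite.mem_toFinset]; exact hQ)
    rw [if_pos rfl] at h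
    have h2 : Q.1 (s - s₀) < Q.1 s₀ := h.trans_lt (by rw [hs₀, exp_lt_exp]; norm_num)
    have h3 := Valuation.map_add_eq_of_lt_left Q.1 h2
    rw [add_sub_cancel] at h3
    rw [h3, hs₀]
  · have h := hs Q' (by rw [Set.Finite.mem_toFinset]; exact hQ')
    rw [if_neg hne] at h
    have h2 : Q'.1 (s - 1) < 1 := h.trans_lt (by rw [← exp_zero, exp_lt_exp]; norm_num)
    have h3 := val_one_add_of_lt_one Q' h2
    rwa [add_sub_cancel] at h3

theorem adjoin_integral {s : K'} (hs : IsIntegral P.O s) {x : K'} (hx : x ∈ Algebra.adjoin P.O ({s} : Set K')) :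
    IsIntegral P.O x :=
  (Algebra.adjoin_le (S := integralClosure P.O K') (by rintro _ rfl; exact hs)) hx

theorem frac_adjoin {s : K'} (hgen : IntermediateField.adjoin K ({s} : Set K') = ⊤) (z : K') :
    ∃ a ∈ Algebra.adjoin P.O ({s} : Set K'), ∃ c ∈ Algebra.adjoin P.O ({s} : Set K'), c ≠ 0 ∧ z * c = a := by
  have hz : z ∈ IntermediateField.adjoin K ({s} : Set K') := hgen ▸ trivial
  let T := Algebra.adjoin P.O ({s} : Set K')
  have hK : ∀ r : K, ∃ a ∈ T, ∃ c ∈ T, c ≠ 0 ∧ algebraMap K K' r * c = a := fun r => by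
    rcases le_total (P.1 r) 1 with h | h
    · refine ⟨_, T.algebraMap_mem ⟨r, (Valuation.mem_valuationSubring_iff P.1 r).2 h⟩, 1, T.one_mem, one_ne_zero, ?_⟩
      rw [mul_one, IsScalarTower.algebraMap_apply P.O K K']; rfl
    · have hr : r ≠ 0 := fun h0 => by simp [h0] at h
      refine ⟨1, T.one_mem, _, T.algebraMap_mem ⟨r⁻¹, (Valuation.mem_valuationSubring_iff P.1 _).2
        (by rw [map_inv₀]; exact inv_le_one_of_one_le₀ h)⟩, ?_, ?_⟩
      · rw [algebraMap_O]; exact (_root_.map_ne_zero _).2 (inv_ne_zero hr)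
      · rw [algebraMap_O]; show algebraMap K K' r * algebraMap K K' r⁻¹ = 1
        rw [← map_mul, mul_inv_cancel₀ hr, map_one]
  induction hz using IntermediateField.adjoin_induction with
  | mem x hx =>
    rw [Set.mem_singleton_iff] at hx
    exact ⟨x, hx ▸ Algebra.subset_adjoin rfl, 1, T.one_mem, one_ne_zero, mul_one _⟩
  | algebraMap r => exact hK r
  | add x y _ _ hx hy =>
    obtain ⟨a, ha, c, hc, hc0, e⟩ := hx
    obtain ⟨a', ha', c', hc', hc0', e'⟩ := hy
    exact ⟨a * c' + a' * c, add_mem (mul_mem ha hc') (mul_mem ha' hc), c * c', mul_mem hc hc', mul_ne_zero hc0 hc0',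
      by rw [← e, ← e']; ring⟩
  | inv x _ hx =>
    obtain ⟨a, ha, c, hc, hc0, e⟩ := hx
    rcases eq_or_ne x 0 with h0 | h0
    · exact ⟨0, T.zero_mem, 1, T.one_mem, one_ne_zero, by simp [h0]⟩
    · exact ⟨c, hc, a, ha, e ▸ mul_ne_zero h0 hc0, by rw [← e]; field_simp⟩
  | mul x y _ _ hx hy =>
    obtain ⟨a, ha, c, hc, hc0, e⟩ := hx
    obtain ⟨a', ha', c', hc', hc0', e'⟩ := hy
    exact ⟨a * a', mul_mem ha ha', c * c', mul_mem hc hc', mul_ne_zero hc0 hc0', by rw [← e, ← e']; ring⟩

/-- `O_Q` is the localisation of `O_P[s]` at `Q` -/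
theorem local_frac {Q : Place k K'} {e : ℕ} (he : IsOverWith Q P e) {s : K'} (hs : Q.1 s = exp (-1))
    (hgen : IntermediateField.adjoin K ({s} : Set K') = ⊤) (hsi : IsIntegral P.O s)
    (hcoef : ∀ i, P.1 ((minpoly K s).coeff i) ≤ 1) (h0 : P.1 ((minpoly K s).coeff 0) = exp (-1))
    {z : K'} (hz : Q.1 z ≤ 1) :
    ∃ a ∈ Algebra.adjoin P.O ({s} : Set K'), ∃ c ∈ Algebra.adjoin P.O ({s} : Set K'), Q.1 c = 1 ∧ z * c = a := by
  set T := Algebra.adjoin P.O ({s} : Set K') with hT
  have hs0 : s ≠ 0 := fun h => by rw [h, map_zero] at hs; exact exp_ne_zero hs.symm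
  have hsT : s ∈ T := Algebra.subset_adjoin rfl
  set f := minpoly K s
  have hcT : ∀ i, algebraMap K K' (f.coeff i) ∈ T := fun i => by
    have := T.algebraMap_mem ⟨f.coeff i, (Valuation.mem_valuationSubring_iff P.1 _).2 (hcoef i)⟩
    rwa [algebraMap_O] at this
  obtain ⟨w, hwT, hw⟩ : ∃ w ∈ T, algebraMap K K' (f.coeff 0) = s * w := by
    refine ⟨-aeval s f.divX, neg_mem ?_, ?_⟩
    · rw [aeval_eq_sum_range]
      exact sum_mem fun i _ => by rw [Algebra.smul_def, coeff_divX]; exact mul_mem (hcT _) (pow_mem hsT i)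
    · have h := minpoly.aeval K s
      rw [← divX_mul_X_add (minpoly K s), map_add, map_mul, aeval_X, aeval_C] at h
      linear_combination h
  have hstep : ∀ x ∈ T, Q.1 x < 1 → ∃ x' ∈ T, x = s * x' := by
    intro x hx hlt
    rw [hT, Algebra.adjoin_singleton_eq_range_aeval] at hx
    obtain ⟨p, rfl⟩ := hx
    have hdiv : aeval s p.divX ∈ T := by rw [hT]; exact aeval_mem_adjoin_singleton _ _
    have e1 : aeval s p = s * aeval s p.divX + algebraMap P.O K' (p.coeff 0) := by
      have h := congrArg (aeval s) (divX_mul_X_add p)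
      rw [map_add, map_mul, aeval_X, aeval_C] at h
      rw [← h]; ring
    set c0 : P.O := p.coeff 0
    have hc0 : P.1 (c0 : K) < 1 := by
      have h1 : Q.1 (algebraMap P.O K' c0) < 1 := by
        rw [show algebraMap P.O K' c0 = aeval s p - s * aeval s p.divX by rw [e1]; ring]
        refine (Q.1.map_sub _ _).trans_lt (max_lt hlt ?_)
        rw [map_mul]
        exact (mul_le_of_le_one_right' (integral_le_one he (adjoin_integral hsi hdiv))).trans_lt
          (by rw [hs, ← exp_zero, exp_lt_exp]; norm_num)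
      rw [algebraMap_O, he] at h1
      exact not_le.1 fun hle => h1.not_ge (one_le_pow₀ hle)
    have hf0 : f.coeff 0 ≠ 0 := fun h => by rw [h, map_zero] at h0; exact exp_ne_zero h0.symm
    have hr : P.1 ((c0 : K) / f.coeff 0) ≤ 1 := by
      rw [map_div₀, h0, div_le_one₀ exp_pos]
      exact (lt_one_iff_le P _).1 hc0
    set r : P.O := ⟨(c0 : K) / f.coeff 0, (Valuation.mem_valuationSubring_iff P.1 _).2 hr⟩
    refine ⟨aeval s p.divX + w * algebraMap P.O K' r, add_mem hdiv (mul_mem hwT (T.algebraMap_mem r)), ?_⟩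
    have e2 : algebraMap P.O K' c0 = s * w * algebraMap P.O K' r := by
      rw [← hw, algebraMap_O, algebraMap_O, ← map_mul]
      congr 1
      show (c0 : K) = f.coeff 0 * ((c0 : K) / f.coeff 0)
      rw [mul_div_cancel₀ _ hf0]
    show (aeval s) p = _
    rw [e1, e2]; ring
  have hfac : ∀ (n : ℕ) (x : K'), x ∈ T → x ≠ 0 → Q.ord x ≤ n → ∃ x' ∈ T, ∃ j : ℕ, Q.1 x' = 1 ∧ x = s ^ j * x' := by
    intro n
    induction n with
    | zero =>
      intro x hx hx0 hn
      have := (val_le_one_iff Q hx0).1 (integral_le_one he (adjoin_integral hsi hx))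
      exact ⟨x, hx, 0, (val_eq_one_iff Q hx0).2 (by omega), by rw [pow_zero, one_mul]⟩
    | succ n ih =>
      intro x hx hx0 hn
      rcases (integral_le_one he (adjoin_integral hsi hx)).lt_or_eq with hlt | heq
      · obtain ⟨x', hx', rfl⟩ := hstep x hx hlt
        have hx'0 := right_ne_zero_of_mul hx0
        rw [ord_mul Q hs0 hx'0, show Q.ord s = 1 from (ord_param hs).2] at hn
        obtain ⟨y, hy, j, hj, rfl⟩ := ih x' hx' hx'0 (by omega)
        exact ⟨y, hy, j + 1, hj, by ring⟩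
      · exact ⟨x, hx, 0, heq, by rw [pow_zero, one_mul]⟩
  rcases eq_or_ne z 0 with rfl | hz0
  · exact ⟨0, T.zero_mem, 1, T.one_mem, map_one _, zero_mul _⟩
  obtain ⟨a, ha, c, hc, hc0, e1⟩ := frac_adjoin (P := P) hgen z
  have ha0 : a ≠ 0 := e1 ▸ mul_ne_zero hz0 hc0
  obtain ⟨a', ha', i, hi, rfl⟩ := hfac (Q.ord a).toNat a ha ha0 (Int.self_le_toNat _)
  obtain ⟨c', hc', j, hj, rfl⟩ := hfac (Q.ord c).toNat c hc hc0 (Int.self_le_toNat _)
  have hji : j ≤ i := by
    by_contra hlt
    have h := congrArg Q.1 e1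
    simp only [map_mul, map_pow, hi, hj, hs, mul_one] at h
    have h2 : Q.1 z * exp (-1) ^ j ≤ exp (-1) ^ j := mul_le_of_le_one_left' hz
    rw [h, ← exp_nsmul, ← exp_nsmul, exp_le_exp, nsmul_eq_mul, nsmul_eq_mul] at h2
    omega
  obtain ⟨m, rfl⟩ := Nat.exists_eq_add_of_le hji
  refine ⟨s ^ m * a', mul_mem (pow_mem hsT m) ha', c', hc', hj, ?_⟩
  rw [pow_add] at e1
  exact mul_left_cancel₀ (pow_ne_zero j hs0) (by linear_combination e1)

theorem dual_adjoin {y : K'} (hgen : IntermediateField.adjoin K ({y} : Set K') = ⊤) (hyi : IsIntegral P.O y) {x : K'} :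
    (∀ w ∈ Algebra.adjoin P.O ({y} : Set K'), P.1 (Algebra.trace K K' (x * w)) ≤ 1) ↔
      x * aeval y (derivative (minpoly K y)) ∈ Algebra.adjoin P.O ({y} : Set K') := by
  haveI := isPID_O P
  have hadj : Algebra.adjoin K ({y} : Set K') = ⊤ := by
    rw [← IntermediateField.adjoin_simple_toSubalgebra_of_isAlgebraic (Algebra.IsAlgebraic.isAlgebraic y), hgen,
      IntermediateField.top_toSubalgebra]
  have hne : aeval y (derivative (minpoly K y)) ≠ 0 :=
    (Algebra.IsSeparable.isSeparable K y).aeval_derivative_ne_zero (minpoly.aeval _ _)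
  set g' := aeval y (derivative (minpoly K y))
  have hmem : x * g' ∈ Algebra.adjoin P.O ({y} : Set K') ↔
      x ∈ g'⁻¹ • Subalgebra.toSubmodule (Algebra.adjoin P.O ({y} : Set K')) := by
    rw [← Subalgebra.mem_toSubmodule, Submodule.mem_smul_pointwise_iff_exists]
    constructor
    · intro h; exact ⟨x * g', h, by rw [smul_eq_mul]; field_simp⟩
    · rintro ⟨r, hr, rfl⟩; rwa [smul_eq_mul, mul_comm g'⁻¹ r, mul_assoc, inv_mul_cancel₀ hne, mul_one]
  rw [hmem, ← traceForm_dualSubmodule_adjoin P.O K hadj hyi, LinearMap.BilinForm.mem_dualSubmodule]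
  refine forall₂_congr fun w _ => ?_
  rw [Algebra.traceForm_apply, Submodule.mem_one]
  constructor
  · intro h; exact ⟨⟨_, (Valuation.mem_valuationSubring_iff P.1 _).2 h⟩, rfl⟩
  · rintro ⟨r, hr⟩; rw [← hr]; exact (Valuation.mem_valuationSubring_iff P.1 _).1 r.2

theorem trace_le_one (hK : IsFF k K) {x : K'} (hx : IsIntegral P.O x) : P.1 (Algebra.trace K K' x) ≤ 1 := by
  haveI := isPID_O P
  obtain ⟨r, hr⟩ := IsIntegrallyClosed.isIntegral_iff.1 (Algebra.isIntegral_trace (L := K) (R := P.O) hx)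
  rw [← hr]
  exact (Valuation.mem_valuationSubring_iff P.1 _).1 r.2

/-- an element of `O_P[s]`, a unit at `Q`, that carries the integral closure into `O_P[s]` -/
theorem exists_clear (hK : IsFF k K) {Q : Place k K'} {e : ℕ} (he : IsOverWith Q P e) {s : K'}
    (hfrac : ∀ z : K', Q.1 z ≤ 1 → ∃ a ∈ Algebra.adjoin P.O ({s} : Set K'), ∃ c ∈ Algebra.adjoin P.O ({s} : Set K'),
      Q.1 c = 1 ∧ z * c = a) :
    ∃ c ∈ Algebra.adjoin P.O ({s} : Set K'), Q.1 c = 1 ∧
      ∀ b : K', IsIntegral P.O b → b * c ∈ Algebra.adjoin P.O ({s} : Set K') := by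
  classical
  haveI := isPID_O P
  haveI : Module.Finite P.O (integralClosure P.O K') := IsIntegralClosure.finite P.O K K' _
  obtain ⟨S, hS⟩ := Module.Finite.fg_top (R := P.O) (M := integralClosure P.O K')
  choose a ha c hc hc1 he' using fun b : integralClosure P.O K' => hfrac b (integral_le_one he b.2)
  refine ⟨∏ b ∈ S, c b, prod_mem fun b _ => hc b, by rw [map_prod]; exact Finset.prod_eq_one fun b _ => hc1 b,
    fun b hb => ?_⟩
  have hmem : (⟨b, hb⟩ : integralClosure P.O K') ∈ Submodule.span P.O (S : Set (integralClosure P.O K')) :=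
    hS ▸ Submodule.mem_top
  suffices H : ∀ x ∈ Submodule.span P.O (S : Set (integralClosure P.O K')),
      (x : K') * ∏ b ∈ S, c b ∈ Algebra.adjoin P.O ({s} : Set K') from H _ hmem
  intro x hx
  induction hx using Submodule.span_induction with
  | mem x hx =>
    rw [← Finset.mul_prod_erase _ _ (Finset.mem_coe.1 hx), ← mul_assoc, he']
    exact mul_mem (ha x) (prod_mem fun b _ => hc b)
  | zero => rw [ZeroMemClass.coe_zero, zero_mul]; exact zero_mem _
  | add x y _ _ hx hy => rw [AddMemClass.coe_add, add_mul]; exact add_mem hx hy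
  | smul r x _ hx => rw [SetLike.val_smul, smul_mul_assoc]; exact Subalgebra.smul_mem _ hx r

end Groth.Agent.FunFldLib
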