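import Groth.Agent.FunFldLib.Nonsingular

/-! Plane models: monomial spaces, relations and degrees. -/

set_option autoImplicit false

open WithZero Polynomial

namespace Groth.Agent.FunFldLib

open FunFld

variable {k K : Type*} [Field k] [Field K] [Algebra k K]

theorem mv_totalDegree_aeval_le {σ τ R : Type*} [CommRing R] (g : σ → MvPolynomial τ R)
    (hg : ∀ i, (g i).totalDegree ≤ 1) (f : MvPolynomial σ R) :
    (MvPolynomial.aeval g f).totalDegree ≤ f.totalDegree := by
  conv_lhs => rw [MvPolynomial.as_sum f]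
  rw [map_sum]
  refine (MvPolynomial.totalDegree_finsetSum _ _).trans (Finset.sup_le fun d hd => ?_)
  rw [MvPolynomial.aeval_monomial, Finsupp.prod]
  refine (MvPolynomial.totalDegree_mul _ _).trans ?_
  rw [MvPolynomial.algebraMap_eq, MvPolynomial.totalDegree_C, zero_add]
  refine (MvPolynomial.totalDegree_finsetProd _ _).trans (le_trans ?_ (MvPolynomial.le_totalDegree hd))
  rw [Finsupp.sum]
  exact Finset.sum_le_sum fun i _ => (MvPolynomial.totalDegree_pow _ _).trans (by nlinarith [hg i])

theorem val_aeval_of_one_lt (P : Place k K) {z : K} (h : 1 < P.1 z) :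
    ∀ {p : k[X]}, p ≠ 0 → P.1 (aeval z p) = P.1 z ^ p.natDegree := by
  intro p hp
  induction hn : p.natDegree generalizing p with
  | zero =>
    obtain ⟨c, rfl⟩ : ∃ c, C c = p := ⟨_, (eq_C_of_natDegree_eq_zero hn).symm⟩
    rw [aeval_C, pow_zero, val_algebraMap P (fun hc => hp (by rw [hc, map_zero]))]
  | succ n ih =>
    have hq : p.divX ≠ 0 := fun h0 => by
      have := natDegree_divX_eq_natDegree_tsub_one (p := p)
      have h1 := p.X_mul_divX_add
      rw [h0, mul_zero, zero_add] at h1
      rw [← h1, natDegree_C] at hn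
      omega
    have hd : p.divX.natDegree = n := by rw [natDegree_divX_eq_natDegree_tsub_one, hn]; omega
    have h1 := ih hq hd
    conv_lhs => rw [← p.X_mul_divX_add]
    rw [map_add, map_mul, aeval_X, aeval_C, Valuation.map_add_eq_of_lt_left, map_mul, h1, pow_succ']
    rw [map_mul, h1]
    calc P.1 (algebraMap k K (p.coeff 0)) ≤ 1 := P.2.1 _
      _ < P.1 z := h
      _ ≤ P.1 z * P.1 z ^ n := le_mul_of_one_le_right' (one_le_pow_of_one_le' h.le n)

theorem aeval_injective {z : K} (hz : Transcendental k z) : Function.Injective (aeval z : k[X] →ₐ[k] K) :=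
  transcendental_iff_injective.1 hz

theorem finrank_pair (hK : IsFunctionField k K) {z w : K} (hz : Transcendental k z)
    (hgen : IntermediateField.adjoin k ({z, w} : Set K) = ⊤) :
    LinearIndependent (IntermediateField.adjoin k ({z} : Set K))
      (fun j : Fin (Module.finrank (IntermediateField.adjoin k ({z} : Set K)) K) => w ^ (j : ℕ)) := by
  set F := IntermediateField.adjoin k ({z} : Set K) with hF
  haveI : FiniteDimensional F K := finite_adjoin hK.1 hz
  have hw : IsIntegral F w := IsIntegral.of_finite F w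
  have htop : IntermediateField.adjoin F ({w} : Set K) = ⊤ := by
    apply IntermediateField.restrictScalars_injective k
    rw [IntermediateField.restrictScalars_top, eq_top_iff, ← hgen, IntermediateField.adjoin_le_iff]
    rintro v (rfl | rfl)
    · exact (IntermediateField.adjoin F ({w} : Set K)).algebraMap_mem ⟨_, IntermediateField.mem_adjoin_simple_self k v⟩
    · exact IntermediateField.mem_adjoin_simple_self F v
  have hd : (minpoly F w).natDegree = Module.finrank F K := by
    rw [← IntermediateField.adjoin.finrank hw, htop, IntermediateField.finrank_top']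
  exact (_root_.linearIndependent_pow (K := F) w).comp (Fin.cast hd.symm) (Fin.cast_injective _)

theorem coords_unique (hK : IsFunctionField k K) {z w : K} (hz : Transcendental k z)
    (hgen : IntermediateField.adjoin k ({z, w} : Set K) = ⊤)
    (p q : Fin (Module.finrank (IntermediateField.adjoin k ({z} : Set K)) K) → k[X])
    (h : ∑ j, aeval z (p j) * w ^ (j : ℕ) = ∑ j, aeval z (q j) * w ^ (j : ℕ)) : p = q := by
  have hz' : z ∈ IntermediateField.adjoin k ({z} : Set K) := IntermediateField.mem_adjoin_simple_self k z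
  have hv : ∀ r : k[X], ((aeval (⟨z, hz'⟩ : IntermediateField.adjoin k ({z} : Set K)) r :
      IntermediateField.adjoin k ({z} : Set K)) : K) = aeval z r := fun r =>
    (IntermediateField.aeval_coe (IntermediateField.adjoin k ({z} : Set K)) ⟨z, hz'⟩ r).symm
  funext j
  refine aeval_injective hz ?_
  have := (Fintype.linearIndependent_iff.1 (finrank_pair hK hz hgen))
    (fun i => aeval (⟨z, hz'⟩ : IntermediateField.adjoin k ({z} : Set K)) (p i) - aeval (⟨z, hz'⟩ : IntermediateField.adjoin k ({z} : Set K)) (q i)) (by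
      simp only [IntermediateField.smul_def, smul_eq_mul, AddSubgroupClass.coe_sub, hv, sub_mul,
        Finset.sum_sub_distrib, h, sub_self]) j
  rw [sub_eq_zero] at this
  rw [← hv, ← hv, this]

/-- the monic relation with polynomial coefficients -/
theorem exists_monic_rel [IsAlgClosed k] (hK : IsFunctionField k K) {z w : K} (hz : Transcendental k z)
    (hgen : IntermediateField.adjoin k ({z, w} : Set K) = ⊤) (hw : InB ((-div k z) ⊔ 0) w) :
    ∃ q : Fin (Module.finrank (IntermediateField.adjoin k ({z} : Set K)) K) → k[X],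
      w ^ Module.finrank (IntermediateField.adjoin k ({z} : Set K)) K = ∑ j, aeval z (q j) * w ^ (j : ℕ) := by
  classical
  set E : Divisor k K := (-div k z) ⊔ 0 with hEdef
  have hnn : ∀ Q, 0 ≤ E Q := fun Q => by rw [hEdef, Finsupp.sup_apply, Finsupp.zero_apply]; exact le_max_right _ _
  haveI := finite_adjoin hK.1 hz
  have hdeg := deg_poles hK.1 hz
  set F := IntermediateField.adjoin k ({z} : Set K) with hF
  set d := Module.finrank F K with hd
  have hd0 : 0 < d := Module.finrank_pos
  have hE0 : E ≠ 0 := fun h => by rw [← hEdef, h, deg_zero] at hdeg; omega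
  have hz0 : z ≠ 0 := fun h => hz (h ▸ isAlgebraic_zero)
  obtain ⟨r, e, heB, hspan⟩ := exists_span_B hK hnn hE0 hz0 rfl
  letI : Algebra k[X] K := (aeval z : k[X] →ₐ[k] K).toRingHom.toAlgebra
  have hsm : ∀ (p : k[X]) (v : K), p • v = aeval z p * v := fun p v => rfl
  have hinj : Function.Injective (algebraMap k[X] K) := aeval_injective hz
  haveI : FaithfulSMul k[X] K := (faithfulSMul_iff_algebraMap_injective _ _).2 hinj
  have hzE : InB E z := fun Q hQ => by
    have h1 : max (-Q.ord z) 0 ≤ 0 := by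
      have := hQ
      rw [hEdef, Finsupp.sup_apply, Finsupp.neg_apply, Finsupp.zero_apply, div_apply hK.1] at this
      exact this
    exact (val_le_one_iff Q hz0).2 (by have := le_max_left (-Q.ord z) 0; omega)
  have haev : ∀ p : k[X], InB E (aeval z p) := fun p => by
    induction p using Polynomial.induction_on' with
    | add a b ha hb => rw [map_add]; exact ha.add hb
    | monomial n c =>
      rw [aeval_monomial]
      exact (subB E).mul_mem ((subB E).algebraMap_mem c) ((subB E).pow_mem hzE n)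
  let S : Subalgebra k[X] K :=
    { carrier := {f | InB E f}
      algebraMap_mem' := haev
      zero_mem' := fun Q _ => by simp
      one_mem' := fun Q _ => by simp
      add_mem' := InB.add
      mul_mem' := InB.mul }
  have hS : S.toSubmodule.FG := by
    refine ⟨Finset.univ.image e, ?_⟩
    rw [Finset.coe_image, Finset.coe_univ, Set.image_univ]
    refine le_antisymm (Submodule.span_le.2 (by rintro _ ⟨i, rfl⟩; exact heB i)) fun f hf => ?_
    obtain ⟨α, hα⟩ := hspan f hf
    rw [Submodule.mem_span_range_iff_exists_fun]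
    have : ∀ i, ∃ p : k[X], aeval z p = (α i : K) := fun i => by
      obtain ⟨p, hp⟩ := (AlgHom.mem_range _).1 ((Algebra.adjoin_singleton_eq_range_aeval k z).le (α i).2)
      exact ⟨p, hp⟩
    choose p hp using this
    exact ⟨p, by simp only [hsm, hp]; exact hα.symm⟩
  have hint : IsIntegral k[X] w := IsIntegral.of_mem_of_fg S hS w hw
  set m := minpoly k[X] w with hm
  have hmm : m.Monic := minpoly.monic hint
  have hsum : aeval z (1 : k[X]) * w ^ m.natDegree + ∑ i ∈ Finset.range m.natDegree, aeval z (m.coeff i) * w ^ i = 0 := by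
    have h1 := minpoly.aeval k[X] w
    rw [← hm, aeval_eq_sum_range, Finset.sum_range_succ, hmm.coeff_natDegree] at h1
    simp only [hsm] at h1
    rw [add_comm]; exact h1
  -- a relation of degree at most d
  have hle : m.natDegree ≤ d := by
    have hwint : IsIntegral F w := IsIntegral.of_finite F w
    have hden : ∀ c : F, ∃ p s : k[X], aeval z s ≠ 0 ∧ (c : K) * aeval z s = aeval z p := fun c => by
      obtain ⟨p, s, hps⟩ := (IntermediateField.mem_adjoin_simple_iff k (c : K)).1 c.2
      by_cases hs : aeval z s = 0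
      · exact ⟨0, 1, by simp, by rw [hps, hs, div_zero]; simp⟩
      · exact ⟨p, s, hs, by rw [hps, div_mul_cancel₀ _ hs]⟩
    choose p s hs0 hps using fun i : Fin (d + 1) => hden ((minpoly F w).coeff i)
    let P : (k[X])[X] := ∑ i : Fin (d + 1), monomial (i : ℕ) (p i * ∏ l ∈ Finset.univ.erase i, s l)
    have hdF : (minpoly F w).natDegree ≤ d := minpoly.natDegree_le w
    have hPe : aeval w P = 0 := by
      have h1 := minpoly.aeval F w
      rw [aeval_eq_sum_range' (show (minpoly F w).natDegree < d + 1 by omega),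
        ← Fin.sum_univ_eq_sum_range (fun i => (minpoly F w).coeff i • w ^ i)] at h1
      simp only [P, map_sum, aeval_monomial]
      have h2 : (∏ l, aeval z (s l)) * ∑ i : Fin (d + 1), ((minpoly F w).coeff i : K) * w ^ (i : ℕ) = 0 := by
        simp only [IntermediateField.smul_def, smul_eq_mul] at h1
        rw [h1, mul_zero]
      rw [← h2, Finset.mul_sum]
      refine Finset.sum_congr rfl fun i _ => ?_
      change aeval z (p i * ∏ l ∈ Finset.univ.erase i, s l) * w ^ (i : ℕ) = _
      rw [map_mul, map_prod, ← hps, ← Finset.mul_prod_erase _ _ (Finset.mem_univ i)]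
      ring
    have hPd : P.natDegree ≤ d := natDegree_sum_le_of_forall_le _ _ fun i _ =>
      (natDegree_monomial_le _).trans (by omega)
    have hP0 : P ≠ 0 := fun h0 => by
      let i0 : Fin (d + 1) := ⟨(minpoly F w).natDegree, by omega⟩
      have h1 : P.coeff i0 = p i0 * ∏ l ∈ Finset.univ.erase i0, s l := by
        simp only [P, finsetSum_coeff, coeff_monomial]
        rw [Finset.sum_eq_single i0] <;> simp +contextual [Fin.val_inj]
      rw [h0, coeff_zero] at h1
      have h2 := congrArg (aeval z) h1.symm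
      rw [map_mul, map_prod, map_zero, ← hps] at h2
      simp only [i0, (minpoly.monic hwint).coeff_natDegree, OneMemClass.coe_one, one_mul, mul_eq_zero,
        Finset.prod_eq_zero_iff] at h2
      rcases h2 with h2 | ⟨l, -, h2⟩ <;> exact hs0 _ h2
    have := minpoly.IsIntegrallyClosed.degree_le_of_ne_zero (R := k[X]) hP0 hPe
    exact (natDegree_le_natDegree this).trans hPd
  have hge : ¬ m.natDegree < d := by
    intro hlt
    let p : Fin d → k[X] := fun j => m.coeff j
    have h0 : ∑ j : Fin d, aeval z (p j) * w ^ (j : ℕ) = ∑ j : Fin d, aeval z ((fun _ => (0 : k[X])) j) * w ^ (j : ℕ) := by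
      simp only [p, map_zero, zero_mul, Finset.sum_const_zero]
      rw [Fin.sum_univ_eq_sum_range (fun i => aeval z (m.coeff i) * w ^ i)]
      rw [← Finset.sum_subset (Finset.range_subset_range.2 (show m.natDegree + 1 ≤ d by omega)) (fun i _ hi => by
        rw [coeff_eq_zero_of_natDegree_lt (by simpa using hi), map_zero, zero_mul]),
        Finset.sum_range_succ, hmm.coeff_natDegree, add_comm]
      exact hsum
    have := congrFun (coords_unique hK hz hgen _ _ h0) ⟨m.natDegree, hlt⟩
    simp only [p, hmm.coeff_natDegree] at this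
    exact one_ne_zero this
  have heq : m.natDegree = d := by omega
  refine ⟨fun j => -m.coeff j, ?_⟩
  rw [heq, map_one, one_mul] at hsum
  rw [Fin.sum_univ_eq_sum_range (fun i => aeval z (-m.coeff i) * w ^ i)]
  simp only [map_neg, neg_mul, Finset.sum_neg_distrib]
  linear_combination hsum

/-- A plane model in the coordinates `(z, w)` with `z` having the pole divisor `E`. -/
structure PairData (k K : Type*) [Field k] [Field K] [Algebra k K] where
  z : K
  w : K
  E : Divisor k K
  trans : Transcendental k z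
  poles : (-div k z) ⊔ 0 = E
  gen : IntermediateField.adjoin k ({z, w} : Set K) = ⊤
  wle : ∀ Q : Place k K, Q.1 w ≤ exp (E Q)

namespace PairData

variable (D : PairData k K)

noncomputable abbrev d : ℕ := Module.finrank (IntermediateField.adjoin k ({D.z} : Set K)) K

theorem z_ne_zero : D.z ≠ 0 := fun h => D.trans (h ▸ isAlgebraic_zero)

theorem E_apply (hK : IsFF k K) (Q : Place k K) : D.E Q = max (-Q.ord D.z) 0 := by
  rw [← D.poles, Finsupp.sup_apply, Finsupp.neg_apply, Finsupp.zero_apply, div_apply hK]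

theorem deg_E (hK : IsFF k K) : D.E.deg = D.d := by rw [← D.poles]; exact deg_poles hK D.trans

theorem d_pos (hK : IsFF k K) : 0 < D.d := by
  haveI := finite_adjoin hK D.trans
  exact Module.finrank_pos

theorem inB_w (hK : IsFF k K) : InB D.E D.w := fun Q hQ => by
  have := D.wle Q
  rwa [le_antisymm hQ (by rw [E_apply D hK]; exact le_max_right _ _), exp_zero] at this

/-- relation of total degree `d` -/
theorem exists_rel [IsAlgClosed k] (hK : IsFunctionField k K) :
    ∃ q : Fin D.d → k[X], (∀ (j : Fin D.d) (i : ℕ), D.d < i + (j : ℕ) → (q j).coeff i = 0) ∧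
      D.w ^ D.d = ∑ j, aeval D.z (q j) * D.w ^ (j : ℕ) := by
  classical
  obtain ⟨q, hq⟩ := exists_monic_rel hK D.trans D.gen (by rw [D.poles]; exact D.inB_w hK.1)
  refine ⟨q, fun j i hi => ?_, hq⟩
  by_contra hne
  -- the other chart
  have hz0 := D.z_ne_zero
  have hz' : Transcendental k D.z⁻¹ := fun h => D.trans (by
    have := h.inv
    rwa [inv_inv] at this)
  have hgen' : IntermediateField.adjoin k ({D.z⁻¹, D.w / D.z} : Set K) = ⊤ := by
    rw [eq_top_iff, ← D.gen, IntermediateField.adjoin_le_iff]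
    have h1 : D.z ∈ IntermediateField.adjoin k ({D.z⁻¹, D.w / D.z} : Set K) := by
      have := inv_mem (IntermediateField.subset_adjoin k ({D.z⁻¹, D.w / D.z} : Set K) (Set.mem_insert _ _))
      rwa [inv_inv] at this
    rintro v (rfl | rfl)
    · exact h1
    · have h2 := mul_mem (IntermediateField.subset_adjoin k ({D.z⁻¹, D.w / D.z} : Set K) (Set.mem_insert_of_mem _ (Set.mem_singleton _))) h1
      rwa [div_mul_cancel₀ _ hz0] at h2
  have hFeq : IntermediateField.adjoin k ({D.z⁻¹} : Set K) = IntermediateField.adjoin k ({D.z} : Set K) := by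
    refine le_antisymm ?_ ?_ <;> rw [IntermediateField.adjoin_le_iff, Set.singleton_subset_iff]
    · exact inv_mem (IntermediateField.mem_adjoin_simple_self k D.z)
    · have := inv_mem (IntermediateField.mem_adjoin_simple_self k D.z⁻¹)
      rwa [inv_inv] at this
  have hwB' : InB ((-div k D.z⁻¹) ⊔ 0) (D.w / D.z) := fun Q hQ => by
    rw [Finsupp.sup_apply, Finsupp.neg_apply, Finsupp.zero_apply, div_apply hK.1, ord_inv, neg_neg] at hQ
    have hord : Q.ord D.z ≤ 0 := le_trans (le_max_left _ _) hQ
    have h1 := D.wle Q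
    rw [E_apply D hK.1, max_eq_left (by omega)] at h1
    rw [map_div₀, div_le_one₀ (zero_lt_iff.2 (val_ne_zero Q hz0)), val_eq_exp Q hz0]
    exact h1
  have hfr : Module.finrank (IntermediateField.adjoin k ({D.z⁻¹} : Set K)) K = D.d :=
    congrArg (fun G : IntermediateField k K => Module.finrank G K) hFeq
  have transfer : ∀ n : ℕ, n = D.d →
      (∃ p : Fin n → k[X], (D.w / D.z) ^ n = ∑ l, aeval D.z⁻¹ (p l) * (D.w / D.z) ^ (l : ℕ)) →
      ∃ p : Fin D.d → k[X], (D.w / D.z) ^ D.d = ∑ l, aeval D.z⁻¹ (p l) * (D.w / D.z) ^ (l : ℕ) := by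
    rintro n rfl h
    exact h
  obtain ⟨p, hp⟩ := transfer _ hfr (exists_monic_rel hK hz' hgen' hwB')
  -- compare coordinates over k(z)
  have hzF : D.z ∈ IntermediateField.adjoin k ({D.z} : Set K) := IntermediateField.mem_adjoin_simple_self k D.z
  have hzi : D.z⁻¹ ∈ IntermediateField.adjoin k ({D.z} : Set K) := inv_mem hzF
  have hv : ∀ (r : k[X]) (y : K) (hy : y ∈ IntermediateField.adjoin k ({D.z} : Set K)), ((aeval (⟨y, hy⟩ : (IntermediateField.adjoin k ({D.z} : Set K))) r : (IntermediateField.adjoin k ({D.z} : Set K))) : K) = aeval y r := fun r y hy =>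
    (IntermediateField.aeval_coe (IntermediateField.adjoin k ({D.z} : Set K)) ⟨y, hy⟩ r).symm
  have hkey := Fintype.linearIndependent_iff.1 (finrank_pair hK D.trans D.gen)
    (fun l => aeval (⟨D.z⁻¹, hzi⟩ : (IntermediateField.adjoin k ({D.z} : Set K))) (p l) * (⟨D.z, hzF⟩ : (IntermediateField.adjoin k ({D.z} : Set K))) ^ (D.d - (l : ℕ))
      - aeval (⟨D.z, hzF⟩ : (IntermediateField.adjoin k ({D.z} : Set K))) (q l)) (by
      simp only [IntermediateField.smul_def, smul_eq_mul, AddSubgroupClass.coe_sub, MulMemClass.coe_mul,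
        SubmonoidClass.coe_pow, hv, sub_mul, Finset.sum_sub_distrib]
      rw [sub_eq_zero, ← hq]
      calc _ = (∑ l : Fin D.d, aeval D.z⁻¹ (p l) * (D.w / D.z) ^ (l : ℕ)) * D.z ^ D.d := by
            rw [Finset.sum_mul]
            refine Finset.sum_congr rfl fun l _ => ?_
            rw [div_pow, pow_sub₀ _ hz0 (Nat.le_of_lt l.2)]
            field_simp
        _ = D.w ^ D.d := by rw [← hp, div_pow, div_mul_cancel₀ _ (pow_ne_zero _ hz0)]) j
  rw [sub_eq_zero] at hkey
  have hkey' := congrArg (fun x : IntermediateField.adjoin k ({D.z} : Set K) => (x : K)) hkey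
  simp only [MulMemClass.coe_mul, SubmonoidClass.coe_pow, hv] at hkey'
  -- evaluate at a pole of z
  obtain ⟨Q, hQ⟩ : ∃ Q : Place k K, Q.ord D.z < 0 := by
    by_contra! hall
    have h0 : D.E = 0 := Finsupp.ext fun Q => by
      rw [E_apply D hK.1, Finsupp.zero_apply]; exact max_eq_right (by have := hall Q; omega)
    have := D.deg_E hK.1
    rw [h0, deg_zero] at this
    have := D.d_pos hK.1
    omega
  have hz1 : 1 < Q.1 D.z := not_le.1 fun h => by have := (val_le_one_iff Q hz0).1 h; omega
  have hqj : q j ≠ 0 := fun h => hne (by rw [h, coeff_zero])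
  have h3 := congrArg Q.1 hkey'
  rw [val_aeval_of_one_lt Q hz1 hqj, map_mul, map_pow] at h3
  have h4 : Q.1 D.z ^ (q j).natDegree ≤ Q.1 D.z ^ (D.d - (j : ℕ)) := by
    rw [← h3]
    refine mul_le_of_le_one_left' (val_aeval_le_one Q.1 Q.2.1 ?_ _)
    rw [map_inv₀]
    exact inv_le_one_of_one_le₀ hz1.le
  have h5 := (pow_le_pow_iff_right₀ hz1).1 h4
  have h6 := le_natDegree_of_ne_zero hne
  omega

/-- the monomials of total degree at most `N` -/
noncomputable def T (N : ℕ) : Submodule k K where
  carrier := {u | ∃ q : Fin D.d → k[X], (∀ (j : Fin D.d) (i : ℕ), N < i + (j : ℕ) → (q j).coeff i = 0) ∧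
    u = ∑ j, aeval D.z (q j) * D.w ^ (j : ℕ)}
  zero_mem' := ⟨0, fun _ _ _ => rfl, by simp⟩
  add_mem' := by
    rintro _ _ ⟨p, hp, rfl⟩ ⟨q, hq, rfl⟩
    exact ⟨p + q, fun j i h => by simp [hp j i h, hq j i h], by simp [add_mul, Finset.sum_add_distrib]⟩
  smul_mem' := by
    rintro c _ ⟨q, hq, rfl⟩
    exact ⟨c • q, fun j i h => by simp [hq j i h], by simp [Finset.smul_sum]⟩

theorem T_mono {N M : ℕ} (h : N ≤ M) : D.T N ≤ D.T M := fun _ ⟨q, hq, e⟩ => ⟨q, fun j i hi => hq j i (by omega), e⟩

theorem single_mem_T {N : ℕ} (p : k[X]) (j : ℕ) (hj : j < D.d) (hp : ∀ i, N < i + j → p.coeff i = 0) :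
    aeval D.z p * D.w ^ j ∈ D.T N := by
  classical
  refine ⟨fun l => if (l : ℕ) = j then p else 0, fun l i hi => ?_, ?_⟩
  · dsimp only
    split_ifs with h
    · exact hp i (h ▸ hi)
    · exact coeff_zero i
  · rw [Finset.sum_eq_single (⟨j, hj⟩ : Fin D.d)]
    · simp
    · intro b _ hb
      dsimp only
      rw [if_neg (fun h => hb (Fin.ext h)), map_zero, zero_mul]
    · simp

theorem mul_z_mem {N : ℕ} {u : K} (hu : u ∈ D.T N) : D.z * u ∈ D.T (N + 1) := by
  obtain ⟨q, hq, rfl⟩ := hu
  refine ⟨fun j => X * q j, fun j i hi => ?_, ?_⟩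
  · rcases i with _ | i
    · exact mul_coeff_zero _ _ |>.trans (by simp)
    · rw [coeff_X_mul]; exact hq j i (by omega)
  · rw [Finset.mul_sum]
    exact Finset.sum_congr rfl fun j _ => by rw [map_mul, aeval_X, mul_assoc]

theorem mul_w_mem [IsAlgClosed k] (hK : IsFunctionField k K) {N : ℕ} {u : K} (hu : u ∈ D.T N) :
    D.w * u ∈ D.T (N + 1) := by
  obtain ⟨q, hq, rfl⟩ := hu
  obtain ⟨r, hr, hrel⟩ := D.exists_rel hK
  rw [Finset.mul_sum]
  refine sum_mem fun j _ => ?_
  rw [mul_left_comm, ← pow_succ']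
  rcases Nat.lt_or_ge ((j : ℕ) + 1) D.d with h | h
  · exact D.single_mem_T _ _ h fun i hi => hq j i (by omega)
  · have hj : (j : ℕ) + 1 = D.d := by omega
    rw [hj, hrel, Finset.mul_sum]
    refine sum_mem fun l _ => ?_
    rw [← mul_assoc, ← map_mul]
    refine D.single_mem_T _ _ l.2 fun i hi => ?_
    rw [coeff_mul]
    refine Finset.sum_eq_zero fun ab hab => ?_
    rw [Finset.HasAntidiagonal.mem_antidiagonal] at hab
    rcases Nat.lt_or_ge N (ab.1 + j) with h1 | h1
    · rw [hq j _ h1, zero_mul]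
    · rw [hr l _ (by omega), mul_zero]

theorem mul_T [IsAlgClosed k] (hK : IsFunctionField k K) {N M : ℕ} {u v : K} (hu : u ∈ D.T N) (hv : v ∈ D.T M) :
    v * u ∈ D.T (N + M) := by
  obtain ⟨q, hq, rfl⟩ := hv
  rw [Finset.sum_mul]
  refine sum_mem fun j _ => ?_
  conv in aeval D.z (q j) => rw [Polynomial.as_sum_range_C_mul_X_pow (q j)]
  rw [map_sum, Finset.sum_mul, Finset.sum_mul]
  refine sum_mem fun i _ => ?_
  rcases Nat.lt_or_ge M (i + (j : ℕ)) with h | h
  · rw [hq j i h]; simp
  have hz' : ∀ (n : ℕ) {u : K} {N : ℕ}, u ∈ D.T N → D.z ^ n * u ∈ D.T (N + n) := by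
    intro n
    induction n with
    | zero => intro u N hu; simpa using hu
    | succ n ih => intro u N hu; rw [pow_succ', mul_assoc, ← add_assoc]; exact D.mul_z_mem (ih hu)
  have hw' : ∀ (n : ℕ) {u : K} {N : ℕ}, u ∈ D.T N → D.w ^ n * u ∈ D.T (N + n) := by
    intro n
    induction n with
    | zero => intro u N hu; simpa using hu
    | succ n ih => intro u N hu; rw [pow_succ', mul_assoc, ← add_assoc]; exact D.mul_w_mem hK (ih hu)
  rw [map_mul, aeval_C, map_pow, aeval_X, mul_assoc, mul_assoc, ← Algebra.smul_def]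
  exact Submodule.smul_mem _ _ (D.T_mono (by omega) (hz' i (hw' j hu)))

theorem one_mem_T (hK : IsFF k K) : (1 : K) ∈ D.T 0 := by
  have := D.single_mem_T (N := 0) 1 0 (D.d_pos hK) fun i hi => by
    rw [coeff_one, if_neg (by omega)]
  simpa using this

theorem linearIndependent_mono (hK : IsFunctionField k K) (N : ℕ) :
    LinearIndependent k fun p : (Σ j : Fin D.d, Fin (N + 1 - j)) => D.z ^ (p.2 : ℕ) * D.w ^ (p.1 : ℕ) := by
  have h := linearIndependent_smul (linearIndependent_pow D.trans (N + 1)) (finrank_pair hK D.trans D.gen)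
  let f : (Σ j : Fin D.d, Fin (N + 1 - j)) → Fin (N + 1) × Fin D.d := fun p => (⟨p.2, by omega⟩, p.1)
  have hf : Function.Injective f := fun ⟨j, i⟩ ⟨j', i'⟩ e => by
    simp only [f, Prod.mk.injEq, Fin.mk.injEq] at e
    obtain ⟨e1, rfl⟩ := e
    exact congrArg _ (Fin.ext e1)
  exact h.comp f hf

theorem mono_mem_T {N : ℕ} (p : Σ j : Fin D.d, Fin (N + 1 - j)) : D.z ^ (p.2 : ℕ) * D.w ^ (p.1 : ℕ) ∈ D.T N := by
  have := D.single_mem_T (N := N) (X ^ (p.2 : ℕ)) p.1 p.1.2 fun i hi => by
    rw [coeff_X_pow, if_neg (by have := p.2.2; omega)]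
  simpa using this

theorem T_eq_span (N : ℕ) :
    D.T N = Submodule.span k (Set.range fun p : (Σ j : Fin D.d, Fin (N + 1 - j)) => D.z ^ (p.2 : ℕ) * D.w ^ (p.1 : ℕ)) := by
  refine le_antisymm ?_ (Submodule.span_le.2 (by rintro _ ⟨p, rfl⟩; exact D.mono_mem_T p))
  rintro _ ⟨q, hq, rfl⟩
  refine sum_mem fun j _ => ?_
  conv in aeval D.z (q j) => rw [Polynomial.as_sum_range_C_mul_X_pow (q j)]
  rw [map_sum, Finset.sum_mul]
  refine sum_mem fun i _ => ?_
  rcases Nat.lt_or_ge N (i + (j : ℕ)) with h | h
  · rw [hq j i h]; simp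
  rw [map_mul, aeval_C, map_pow, aeval_X, mul_assoc, ← Algebra.smul_def]
  exact Submodule.smul_mem _ _ (Submodule.subset_span ⟨⟨j, ⟨i, by omega⟩⟩, rfl⟩)

theorem finrank_T (hK : IsFunctionField k K) (N : ℕ) (hN : D.d ≤ N) :
    FiniteDimensional k (D.T N) ∧ 2 * (Module.finrank k (D.T N) : ℤ) = D.d * (2 * N + 3 - D.d) := by
  rw [D.T_eq_span N]
  refine ⟨FiniteDimensional.span_of_finite k (Set.finite_range _), ?_⟩
  rw [finrank_span_eq_card (D.linearIndependent_mono hK N), Fintype.card_sigma]
  simp only [Fintype.card_fin]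
  have : ∀ e : ℕ, e ≤ N + 1 → 2 * ((∑ j : Fin e, (N + 1 - (j : ℕ)) : ℕ) : ℤ) = e * (2 * N + 3 - e) := by
    intro e
    induction e with
    | zero => simp
    | succ e ih =>
      intro he
      rw [Fin.sum_univ_castSucc]
      simp only [Fin.val_castSucc, Fin.val_last]
      have h1 := ih (by omega)
      rw [Nat.cast_add, Nat.cast_sub (show e ≤ N + 1 by omega), mul_add, h1]
      push_cast
      ring
  exact this D.d (by omega)

theorem T_le_L (hK : IsFF k K) (N : ℕ) : D.T N ≤ L (N • D.E) := by
  rw [D.T_eq_span, Submodule.span_le]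
  rintro _ ⟨⟨j, i⟩, rfl⟩
  intro Q
  have hE : 0 ≤ D.E Q := by rw [E_apply D hK]; exact le_max_right _ _
  have hz : Q.1 D.z ≤ exp (D.E Q) := by
    rw [val_eq_exp Q D.z_ne_zero, exp_le_exp, E_apply D hK]; exact le_max_left _ _
  rw [map_mul, map_pow, map_pow]
  refine (mul_le_mul' (pow_le_pow_left₀ zero_le hz _) (pow_le_pow_left₀ zero_le (D.wle Q) _)).trans ?_
  rw [← exp_nsmul, ← exp_nsmul, ← exp_add, ← add_nsmul, exp_le_exp, Finsupp.smul_apply]
  exact nsmul_le_nsmul_left hE (by have := i.2; omega)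

end PairData

end Groth.Agent.FunFldLib
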