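import Groth.Agent.FunFldLib.PlaneModel

/-! Plane models: genus equality, nonsingularity, degree. -/

set_option autoImplicit false

open WithZero Polynomial

namespace Groth.Agent.FunFldLib

open FunFld

variable {k K : Type*} [Field k] [Field K] [Algebra k K]

/-- pair data adapted to the model `(1 : x : y)` with the substitutions in both directions -/
theorem exists_pair [IsAlgClosed k] (hK : IsFunctionField k K) (x y : K)
    (hxy : IntermediateField.adjoin k ({x, y} : Set K) = ⊤) :
    ∃ D : PairData k K, D.E = mapDiv k ![(1 : K), x, y] ∧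
      Submodule.span k (Set.range ![(1 : K), x, y]) = Submodule.span k {1, D.z, D.w} ∧
      ∃ s t : Fin 2 → MvPolynomial (Fin 2) k, (∀ i, (s i).totalDegree ≤ 1) ∧ (∀ i, (t i).totalDegree ≤ 1) ∧
        (∀ i, MvPolynomial.aeval ![D.z, D.w] (s i) = ![x, y] i) ∧
        (∀ i, MvPolynomial.aeval ![x, y] (t i) = ![D.z, D.w] i) ∧
        (∀ i, MvPolynomial.aeval t (s i) = MvPolynomial.X i) ∧
        ∀ i, MvPolynomial.aeval s (t i) = MvPolynomial.X i := by
  classical
  have h0 : (∀ i, ![(1 : K), x, y] i ≠ 0) ∨ ∃ i, ![(1 : K), x, y] i = 1 := Or.inr ⟨0, rfl⟩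
  have hE := mapDiv_exact hK.1 _ h0
  set W := Submodule.span k (Set.range ![(1 : K), x, y]) with hW
  set E := mapDiv k ![(1 : K), x, y]
  have h1 : (1 : K) ∈ W := Submodule.subset_span ⟨0, rfl⟩
  have hx : x ∈ W := Submodule.subset_span ⟨1, rfl⟩
  have hy : y ∈ W := Submodule.subset_span ⟨2, rfl⟩
  have hE0 : E ≠ 0 := by
    intro hzero
    obtain ⟨u, hu⟩ := exists_transcendental hK
    have hconst : ∀ v ∈ W, v ∈ (⊥ : IntermediateField k K) := fun v hv => by
      have hv' : v ∈ L (0 : Divisor k K) := fun Q => hzero ▸ hE.1 v hv Q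
      rw [L_zero' hK] at hv'
      obtain ⟨c, rfl⟩ := hv'
      exact IntermediateField.algebraMap_mem _ c
    have hle : IntermediateField.adjoin k ({x, y} : Set K) ≤ ⊥ := IntermediateField.adjoin_le_iff.2 (by
      rintro v (rfl | rfl)
      · exact hconst _ hx
      · exact hconst _ hy)
    obtain ⟨c, rfl⟩ := IntermediateField.mem_bot.1 (hle (hxy ▸ IntermediateField.mem_top : u ∈ _))
    exact hu (isAlgebraic_algebraMap c)
  obtain ⟨z, hz, htr, hp⟩ := exists_z hK hE h1 hE0
  obtain ⟨a, ha⟩ := (Submodule.mem_span_range_iff_exists_fun k).1 hz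
  rw [Fin.sum_univ_three] at ha
  simp only [Matrix.cons_val_zero, Matrix.cons_val_one, Matrix.cons_val_two, Matrix.head_cons, Matrix.tail_cons,
    Matrix.cons_val] at ha
  -- exchange one coordinate for z
  have build : ∀ (u v : K), u ∈ W → v ∈ W → (∀ e ∈ ({x, y} : Set K), e ∈ Submodule.span k {1, u, v}) →
      Submodule.span k (Set.range ![(1 : K), x, y]) = Submodule.span k {1, u, v} ∧
        IntermediateField.adjoin k ({u, v} : Set K) = ⊤ := by
    intro u v hu hv hin
    refine ⟨le_antisymm (Submodule.span_le.2 ?_) (Submodule.span_le.2 ?_), ?_⟩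
    · rintro _ ⟨i, rfl⟩
      fin_cases i
      · exact Submodule.subset_span (Set.mem_insert _ _)
      · exact hin x (Set.mem_insert _ _)
      · exact hin y (Set.mem_insert_of_mem _ rfl)
    · rintro e (rfl | rfl | rfl)
      · exact h1
      · exact hu
      · exact hv
    · rw [eq_top_iff, ← hxy, IntermediateField.adjoin_le_iff]
      intro e he
      have hle : Submodule.span k ({1, u, v} : Set K) ≤
          Subalgebra.toSubmodule (IntermediateField.adjoin k ({u, v} : Set K)).toSubalgebra := by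
        refine Submodule.span_le.2 ?_
        rintro e (rfl | rfl | rfl)
        · exact one_mem (IntermediateField.adjoin k ({u, v} : Set K))
        · exact IntermediateField.subset_adjoin k _ (Set.mem_insert _ _)
        · exact IntermediateField.subset_adjoin k _ (Set.mem_insert_of_mem _ rfl)
      exact hle (hin e he)
  by_cases hc : a 2 = 0
  · have hb : a 1 ≠ 0 := by
      intro hb
      rw [hb, hc, zero_smul, zero_smul, add_zero, add_zero] at ha
      exact htr (ha ▸ by rw [← Algebra.algebraMap_eq_smul_one]; exact isAlgebraic_algebraMap (a 0))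
    rw [hc, zero_smul, add_zero] at ha
    have hxe : x = (a 1)⁻¹ • z + (-(a 1)⁻¹ * a 0) • (1 : K) := by
      rw [← ha, smul_add, smul_smul, smul_smul, inv_mul_cancel₀ hb, one_smul, neg_mul, neg_smul]; abel
    obtain ⟨hspan, hgen⟩ := build z y hz hy (by
      rintro e (rfl | rfl)
      · rw [hxe]
        exact add_mem (Submodule.smul_mem _ _ (Submodule.subset_span (by simp))) (Submodule.smul_mem _ _ (Submodule.subset_span (by simp)))
      · exact Submodule.subset_span (by simp))
    refine ⟨⟨z, y, E, htr, hp, hgen, fun Q => hE.1 y hy Q⟩, rfl, hspan,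
      ![MvPolynomial.C (a 1)⁻¹ * MvPolynomial.X 0 + MvPolynomial.C (-(a 1)⁻¹ * a 0), MvPolynomial.X 1],
      ![MvPolynomial.C (a 0) + MvPolynomial.C (a 1) * MvPolynomial.X 0, MvPolynomial.X 1], ?_, ?_, ?_, ?_, ?_, ?_⟩
    · intro i; fin_cases i
      · refine (MvPolynomial.totalDegree_add _ _).trans (max_le ((MvPolynomial.totalDegree_mul _ _).trans ?_) ?_) <;> simp [← MvPolynomial.C_mul, -map_mul]
      · simp
    · intro i; fin_cases i
      · refine (MvPolynomial.totalDegree_add _ _).trans (max_le ?_ ((MvPolynomial.totalDegree_mul _ _).trans ?_)) <;> simp [← MvPolynomial.C_mul, -map_mul]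
      · simp
    · intro i; fin_cases i
      · rw [hxe]; simp [Algebra.smul_def]
      · simp
    · intro i; fin_cases i
      · simp only [← ha]; simp [Algebra.smul_def]
      · simp
    · intro i; fin_cases i
      · simp only [Matrix.cons_val_zero, Fin.zero_eta, map_add, map_mul, MvPolynomial.aeval_C, MvPolynomial.aeval_X,
          MvPolynomial.algebraMap_eq]
        have hcc : MvPolynomial.C (a 1)⁻¹ * MvPolynomial.C (a 1) = (1 : MvPolynomial (Fin 2) k) := by
          rw [← MvPolynomial.C_mul, inv_mul_cancel₀ hb, MvPolynomial.C_1]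
        simp only [map_mul, map_neg]
        linear_combination MvPolynomial.X 0 * hcc
      · simp
    · intro i; fin_cases i
      · simp only [Matrix.cons_val_zero, Fin.zero_eta, map_add, map_mul, MvPolynomial.aeval_C, MvPolynomial.aeval_X,
          MvPolynomial.algebraMap_eq]
        have hcc : MvPolynomial.C (a 1) * MvPolynomial.C (a 1)⁻¹ = (1 : MvPolynomial (Fin 2) k) := by
          rw [← MvPolynomial.C_mul, mul_inv_cancel₀ hb, MvPolynomial.C_1]
        simp only [map_mul, map_neg]
        linear_combination (MvPolynomial.X 0 - MvPolynomial.C (a 0)) * hcc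
      · simp
  · have hye : y = (a 2)⁻¹ • z + (-(a 2)⁻¹ * a 1) • x + (-(a 2)⁻¹ * a 0) • (1 : K) := by
      rw [← ha, smul_add, smul_add, smul_smul, smul_smul, smul_smul, inv_mul_cancel₀ hc, one_smul, neg_mul, neg_mul,
        neg_smul, neg_smul]
      abel
    obtain ⟨hspan, hgen⟩ := build z x hz hx (by
      rintro e (rfl | rfl)
      · exact Submodule.subset_span (by simp)
      · rw [hye]
        exact add_mem (add_mem (Submodule.smul_mem _ _ (Submodule.subset_span (by simp)))
          (Submodule.smul_mem _ _ (Submodule.subset_span (by simp)))) (Submodule.smul_mem _ _ (Submodule.subset_span (by simp))))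
    refine ⟨⟨z, x, E, htr, hp, hgen, fun Q => hE.1 x hx Q⟩, rfl, hspan,
      ![MvPolynomial.X 1, MvPolynomial.C (a 2)⁻¹ * MvPolynomial.X 0 + MvPolynomial.C (-(a 2)⁻¹ * a 1) * MvPolynomial.X 1 +
        MvPolynomial.C (-(a 2)⁻¹ * a 0)],
      ![MvPolynomial.C (a 0) + MvPolynomial.C (a 1) * MvPolynomial.X 0 + MvPolynomial.C (a 2) * MvPolynomial.X 1,
        MvPolynomial.X 0], ?_, ?_, ?_, ?_, ?_, ?_⟩
    · intro i; fin_cases i
      · simp
      · refine (MvPolynomial.totalDegree_add _ _).trans (max_le ((MvPolynomial.totalDegree_add _ _).trans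
          (max_le ((MvPolynomial.totalDegree_mul _ _).trans ?_) ((MvPolynomial.totalDegree_mul _ _).trans ?_))) ?_) <;> simp [← MvPolynomial.C_mul, -map_mul]
    · intro i; fin_cases i
      · refine (MvPolynomial.totalDegree_add _ _).trans (max_le ((MvPolynomial.totalDegree_add _ _).trans
          (max_le ?_ ((MvPolynomial.totalDegree_mul _ _).trans ?_))) ((MvPolynomial.totalDegree_mul _ _).trans ?_)) <;> simp [← MvPolynomial.C_mul, -map_mul]
      · simp
    · intro i; fin_cases i
      · simp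
      · rw [hye]; simp [Algebra.smul_def]
    · intro i; fin_cases i
      · simp only [← ha]; simp [Algebra.smul_def]
      · simp
    · intro i; fin_cases i
      · simp
      · simp only [Matrix.cons_val_zero, Matrix.cons_val_one, Fin.mk_one, map_add, map_mul, MvPolynomial.aeval_C,
          MvPolynomial.aeval_X, MvPolynomial.algebraMap_eq]
        have hcc : MvPolynomial.C (a 2)⁻¹ * MvPolynomial.C (a 2) = (1 : MvPolynomial (Fin 2) k) := by
          rw [← MvPolynomial.C_mul, inv_mul_cancel₀ hc, MvPolynomial.C_1]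
        simp only [map_mul, map_neg]
        linear_combination MvPolynomial.X 1 * hcc
    · intro i; fin_cases i
      · simp only [Matrix.cons_val_zero, Matrix.cons_val_one, Fin.zero_eta, map_add, map_mul, MvPolynomial.aeval_C,
          MvPolynomial.aeval_X, MvPolynomial.algebraMap_eq]
        have hcc : MvPolynomial.C (a 2) * MvPolynomial.C (a 2)⁻¹ = (1 : MvPolynomial (Fin 2) k) := by
          rw [← MvPolynomial.C_mul, mul_inv_cancel₀ hc, MvPolynomial.C_1]
        simp only [map_mul, map_neg]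
        linear_combination (MvPolynomial.X 0 - MvPolynomial.C (a 1) * MvPolynomial.X 1 - MvPolynomial.C (a 0)) * hcc
      · simp

namespace PairData

variable (D : PairData k K)

theorem exists_mem_T [IsAlgClosed k] (hK : IsFunctionField k K) {a : K}
    (ha : a ∈ Algebra.adjoin k ({D.z, D.w} : Set K)) : ∃ N, a ∈ D.T N := by
  refine Algebra.adjoin_induction (fun v hv => ⟨1, ?_⟩) (fun c => ⟨0, ?_⟩) (fun u v _ _ => ?_) (fun u v _ _ => ?_) ha
  · rcases hv with rfl | rfl
    · simpa using D.mul_z_mem (D.one_mem_T hK.1)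
    · simpa using D.mul_w_mem hK (D.one_mem_T hK.1)
  · rw [Algebra.algebraMap_eq_smul_one]; exact Submodule.smul_mem _ _ (D.one_mem_T hK.1)
  · rintro ⟨N, hu⟩ ⟨M, hv⟩
    exact ⟨max N M, add_mem (D.T_mono (le_max_left N M) hu) (D.T_mono (le_max_right N M) hv)⟩
  · rintro ⟨N, hu⟩ ⟨M, hv⟩
    exact ⟨M + N, D.mul_T hK hv hu⟩

theorem z_pow_mem [IsAlgClosed k] (hK : IsFunctionField k K) (n : ℕ) : D.z ^ n ∈ D.T n := by
  induction n with
  | zero => simpa using D.one_mem_T hK.1
  | succ n ih => rw [pow_succ']; exact D.mul_z_mem ih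

theorem exists_mem_T' [IsAlgClosed k] (hK : IsFunctionField k K) {a : K}
    (ha : a ∈ Algebra.adjoin k ({D.z⁻¹, D.w / D.z} : Set K)) : ∃ N, a * D.z ^ N ∈ D.T N := by
  refine Algebra.adjoin_induction (fun v hv => ⟨1, ?_⟩) (fun c => ⟨0, ?_⟩) (fun u v _ _ => ?_) (fun u v _ _ => ?_) ha
  · rcases hv with rfl | rfl
    · rw [pow_one, inv_mul_cancel₀ D.z_ne_zero]; exact D.T_mono zero_le_one (D.one_mem_T hK.1)
    · rw [pow_one, div_mul_cancel₀ _ D.z_ne_zero]; simpa using D.mul_w_mem hK (D.one_mem_T hK.1)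
  · rw [Algebra.algebraMap_eq_smul_one, pow_zero, mul_one]; exact Submodule.smul_mem _ _ (D.one_mem_T hK.1)
  · rintro ⟨N, hu⟩ ⟨M, hv⟩
    refine ⟨N + M, ?_⟩
    rw [add_mul]
    refine add_mem ?_ ?_
    · rw [pow_add, ← mul_assoc, add_comm N M]
      rw [mul_comm (u * D.z ^ N)]
      exact D.T_mono (by omega) (D.mul_T hK hu (D.z_pow_mem hK M))
    · rw [pow_add, mul_comm (D.z ^ N), ← mul_assoc, mul_comm (v * D.z ^ M)]
      exact D.T_mono (by omega) (D.mul_T hK hv (D.z_pow_mem hK N))
  · rintro ⟨N, hu⟩ ⟨M, hv⟩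
    refine ⟨N + M, ?_⟩
    rw [show u * v * D.z ^ (N + M) = (u * D.z ^ N) * (v * D.z ^ M) by ring]
    exact D.T_mono (by omega) (D.mul_T hK hv hu)

theorem mem_T_of_mul [IsAlgClosed k] (hK : IsFunctionField k K) {N M : ℕ} {u : K} (hu : u ∈ D.T M)
    (huz : D.z * u ∈ D.T (N + 1)) : u ∈ D.T N := by
  obtain ⟨p, -, rfl⟩ := hu
  obtain ⟨r, hr, he⟩ := huz
  have h := coords_unique hK D.trans D.gen (fun j => X * p j) r (by
    rw [← he, Finset.mul_sum]
    exact Finset.sum_congr rfl fun j _ => by rw [map_mul, aeval_X, mul_assoc])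
  refine ⟨p, fun j i hi => ?_, rfl⟩
  have := hr j (i + 1) (by omega)
  rwa [← congrFun h j, coeff_X_mul] at this

theorem exact_W (hK : IsFunctionField k K) {x y : K} (hE : D.E = mapDiv k ![(1 : K), x, y])
    (hspan : Submodule.span k (Set.range ![(1 : K), x, y]) = Submodule.span k {1, D.z, D.w}) :
    Exact (Submodule.span k ({1, D.z, D.w} : Set K)) D.E := by
  rw [hE, ← hspan]
  exact mapDiv_exact hK.1 _ (Or.inr ⟨0, rfl⟩)

/-- nonsingular models: every function in `L(m E)` is a form of degree `m` -/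
theorem L_le_T [IsAlgClosed k] (hK : IsFunctionField k K)
    (hW : Exact (Submodule.span k ({1, D.z, D.w} : Set K)) D.E)
    (hc : ∀ P : Place k K, Cond (Submodule.span k ({1, D.z, D.w} : Set K)) D.E P) (m : ℕ) :
    L (m • D.E) ≤ D.T m := by
  intro u hu
  set W := Submodule.span k ({1, D.z, D.w} : Set K) with hWdef
  have hz0 := D.z_ne_zero
  have h1W : (1 : K) ∈ W := Submodule.subset_span (Set.mem_insert _ _)
  have hnn := hW.nonneg h1W
  have hE0 : D.E ≠ 0 := fun h => by
    have := D.deg_E hK.1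
    rw [h, deg_zero] at this
    have := D.d_pos hK.1
    omega
  -- the affine chart
  set A := Algebra.adjoin k ({D.z, D.w} : Set K) with hA
  have hWA : ∀ v ∈ W, v ∈ A := fun v hv => by
    have hle : W ≤ A.toSubmodule := Submodule.span_le.2 (by
      rintro e (rfl | rfl | rfl)
      · exact one_mem A
      · exact Algebra.subset_adjoin (Set.mem_insert _ _)
      · exact Algebra.subset_adjoin (Set.mem_insert_of_mem _ rfl))
    exact hle hv
  have hAB : ∀ a ∈ A, InB D.E a := fun a ha => adjoin_le_subB hW h1W (Algebra.adjoin_mono (by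
    rintro e (rfl | rfl)
    · exact Submodule.subset_span (by simp)
    · exact Submodule.subset_span (by simp)) ha)
  have huA : u ∈ A := inB_mem_of_forall hK hW h1W hE0 A hAB
    (fun P hP => (conductor_of_cond hK hW h1W A hWA hAB hP (hc P)).2) (mem_L_nsmul_inB hnn hu)
  obtain ⟨M, hM⟩ := D.exists_mem_T hK huA
  -- the chart at infinity
  have hW' := hW.scale hK.1 hz0
  set W' := W.map (LinearMap.mulLeft k D.z⁻¹) with hW'def
  set E' := D.E + FunFld.div k D.z with hE'
  have h1W' : (1 : K) ∈ W' := ⟨D.z, Submodule.subset_span (by simp), inv_mul_cancel₀ hz0⟩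
  set A' := Algebra.adjoin k ({D.z⁻¹, D.w / D.z} : Set K) with hA'
  have hW'A : ∀ v ∈ W', v ∈ A' := fun v hv => by
    have hle : W' ≤ A'.toSubmodule := by
      rw [hW'def, hWdef, Submodule.map_span, Submodule.span_le]
      rintro _ ⟨e, (rfl | rfl | rfl), rfl⟩
      · rw [LinearMap.mulLeft_apply, mul_one]; exact Algebra.subset_adjoin (Set.mem_insert _ _)
      · rw [LinearMap.mulLeft_apply, inv_mul_cancel₀ hz0]; exact one_mem A'
      · rw [LinearMap.mulLeft_apply, ← div_eq_inv_mul]; exact Algebra.subset_adjoin (Set.mem_insert_of_mem _ rfl)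
    exact hle hv
  have hA'B : ∀ a ∈ A', InB E' a := fun a ha => adjoin_le_subB hW' h1W' (Algebra.adjoin_mono (by
    rintro e (rfl | rfl)
    · exact ⟨1, h1W, mul_one _⟩
    · exact ⟨D.w, Submodule.subset_span (by simp), (div_eq_inv_mul D.w D.z).symm⟩) ha)
  have hE'0 : E' ≠ 0 := fun h => by
    have := D.deg_E hK.1
    have h2 : E'.deg = 0 := by rw [h, deg_zero]
    rw [hE', deg_add, deg_div hK.1, add_zero] at h2
    have := D.d_pos hK.1
    omega
  have huB' : InB E' (u / D.z ^ m) := fun Q hQ => by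
    have h1 := hu Q
    rw [Finsupp.smul_apply, nsmul_eq_mul] at h1
    rw [hE', Finsupp.add_apply, div_apply hK.1] at hQ
    rw [map_div₀, map_pow, div_le_one₀ (pow_pos (zero_lt_iff.2 (val_ne_zero Q hz0)) m), val_eq_exp Q hz0, ← exp_nsmul,
      nsmul_eq_mul]
    refine h1.trans (exp_le_exp.2 ?_)
    nlinarith [Int.natCast_nonneg m]
  have huA' : u / D.z ^ m ∈ A' := inB_mem_of_forall hK hW' h1W' hE'0 A' hA'B
    (fun P hP => (conductor_of_cond hK hW' h1W' A' hW'A hA'B hP ((hc P).scale hK.1 hz0)).2) huB'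
  obtain ⟨N, hN⟩ := D.exists_mem_T' hK huA'
  have hNm : u * D.z ^ N ∈ D.T (N + m) := by
    have := D.mul_T hK hN (D.z_pow_mem hK m)
    rw [show D.z ^ m * (u / D.z ^ m * D.z ^ N) = u * D.z ^ N by field_simp] at this
    exact this
  suffices H : ∀ N : ℕ, u * D.z ^ N ∈ D.T (N + m) → u ∈ D.T m from H N hNm
  intro N
  induction N with
  | zero => simp
  | succ N ih =>
    intro h
    refine ih (D.mem_T_of_mul hK (M := M + N) ?_ ?_)
    · rw [mul_comm]; exact D.T_mono (by omega) (D.mul_T hK hM (D.z_pow_mem hK N))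
    · rw [show D.z * (u * D.z ^ N) = u * D.z ^ (N + 1) by ring, show N + m + 1 = N + 1 + m by omega]; exact h

theorem L_eq_T_iff [IsAlgClosed k] (hK : IsFunctionField k K) (m : ℕ) (hm : 2 * genus k K + D.d ≤ m) :
    L (m • D.E) ≤ D.T m ↔ 2 * (genus k K : ℤ) = ((D.d : ℤ) - 1) * ((D.d : ℤ) - 2) := by
  obtain ⟨hfin, hcard⟩ := D.finrank_T hK m (by omega)
  have hd := D.d_pos hK.1
  have hl : (ell (m • D.E) : ℤ) = m * D.d + 1 - genus k K := by
    rw [ell_large hK (by rw [deg_nsmul, D.deg_E hK.1]; nlinarith), deg_nsmul, D.deg_E hK.1]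
  haveI := finite_L hK.1 (m • D.E)
  have e6 : Module.finrank k (L (m • D.E)) = ell (m • D.E) := rfl
  constructor
  · intro h
    have h2 := Submodule.finrank_mono h
    have h3 := Submodule.finrank_mono (D.T_le_L hK.1 m)
    rw [e6] at h2 h3
    have : Module.finrank k (D.T m) = ell (m • D.E) := le_antisymm h3 h2
    rw [this, hl] at hcard
    linarith
  · intro h
    refine (Submodule.eq_of_le_of_finrank_le (D.T_le_L hK.1 m) ?_).ge
    rw [e6]
    zify
    linarith

theorem genus_le [IsAlgClosed k] (hK : IsFunctionField k K) :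
    2 * (genus k K : ℤ) ≤ ((D.d : ℤ) - 1) * ((D.d : ℤ) - 2) := by
  obtain ⟨hfin, hcard⟩ := D.finrank_T hK (2 * genus k K + D.d) (by omega)
  set m := 2 * genus k K + D.d with hm
  have hd := D.d_pos hK.1
  have hl : (ell (m • D.E) : ℤ) = m * D.d + 1 - genus k K := by
    rw [ell_large hK (by rw [deg_nsmul, D.deg_E hK.1]; nlinarith), deg_nsmul, D.deg_E hK.1]
  haveI := finite_L hK.1 (m • D.E)
  have h3 : (Module.finrank k (D.T m) : ℤ) ≤ ell (m • D.E) := by exact_mod_cast Submodule.finrank_mono (D.T_le_L hK.1 m)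
  linarith

theorem nonsingular_of_L_le_T [IsAlgClosed k] (hK : IsFunctionField k K) {x y : K}
    (hE : D.E = mapDiv k ![(1 : K), x, y])
    (hspan : Submodule.span k (Set.range ![(1 : K), x, y]) = Submodule.span k {1, D.z, D.w})
    (h : ∀ m : ℕ, 2 * genus k K + D.d ≤ m → L (m • D.E) ≤ D.T m) (P : Place k K) :
    IsNonsingularAt ![(1 : K), x, y] P := by
  classical
  intro u hu
  obtain ⟨j, hj0, hjP, hj⟩ := exists_chart hK.1 ![(1 : K), x, y] (Or.inr ⟨0, rfl⟩) P
  rw [← hE] at hjP
  set φ := ![(1 : K), x, y]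
  set A := Algebra.adjoin k (Set.range fun i => φ i / φ j) with hA
  have hT : ∀ (m : ℕ), ∀ v ∈ D.T m, v / φ j ^ m ∈ A := by
    intro m v hv
    rw [D.T_eq_span] at hv
    have hbase : ∀ e ∈ ({1, D.z, D.w} : Set K), e / φ j ∈ A := fun e he => Algebra.span_le_adjoin k _ (by
      rw [← map_span_ratio φ j]
      exact ⟨e, hspan ▸ Submodule.subset_span he, (div_eq_inv_mul e (φ j)).symm⟩)
    refine Submodule.span_induction ?_ ?_ ?_ ?_ hv
    · rintro _ ⟨⟨l, i⟩, rfl⟩
      obtain ⟨r, hr⟩ : ∃ r, m = (i : ℕ) + (l : ℕ) + r := ⟨m - ((i : ℕ) + l), by have := i.2; omega⟩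
      have : D.z ^ (i : ℕ) * D.w ^ (l : ℕ) / φ j ^ m = (D.z / φ j) ^ (i : ℕ) * (D.w / φ j) ^ (l : ℕ) * (1 / φ j) ^ r := by
        rw [show φ j ^ m = φ j ^ ((i : ℕ) + (l : ℕ) + r) from congrArg (φ j ^ ·) hr, div_pow, div_pow, div_pow, one_pow,
          pow_add, pow_add]
        field_simp
      change D.z ^ (i : ℕ) * D.w ^ (l : ℕ) / φ j ^ m ∈ A
      rw [this]
      exact A.mul_mem (A.mul_mem (A.pow_mem (hbase _ (by simp)) _) (A.pow_mem (hbase _ (by simp)) _))
        (A.pow_mem (hbase _ (by simp)) _)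
    · rw [zero_div]; exact A.zero_mem
    · intro a b _ _ ha hb; rw [add_div]; exact A.add_mem ha hb
    · intro c a _ ha; rw [Algebra.smul_def, mul_div_assoc, ← Algebra.smul_def]; exact A.smul_mem ha c
  rcases eq_or_ne u 0 with rfl | hu0
  · exact inLoc_of_chart φ P hj0 hj A.zero_mem
  set N : Divisor k K := (-FunFld.div k u) ⊔ 0 with hN
  have hNval : ∀ Q, N Q = max (-Q.ord u) 0 := fun Q => by
    rw [hN, Finsupp.sup_apply, Finsupp.neg_apply, Finsupp.zero_apply, div_apply hK.1]
  obtain ⟨m, hm1, hm2⟩ : ∃ m : ℕ, 2 * genus k K + D.d ≤ m ∧ 2 * (genus k K : ℤ) + N.deg ≤ m := by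
    refine ⟨2 * genus k K + D.d + (2 * (genus k K : ℤ) + N.deg).toNat, by omega, ?_⟩
    push_cast
    omega
  have hd := D.d_pos hK.1
  have hmd : (m : ℤ) ≤ m * D.d := le_mul_of_one_le_right (by omega) (by omega)
  haveI := finite_L hK.1 (m • D.E - N)
  have e1 : (ell (m • D.E - N) : ℤ) = m * D.d - N.deg + 1 - genus k K := by
    rw [ell_large hK (by rw [deg_sub, deg_nsmul, D.deg_E hK.1]; omega), deg_sub, deg_nsmul, D.deg_E hK.1]
  have e2 : (ell (m • D.E - N - Finsupp.single P 1) : ℤ) = m * D.d - N.deg - 1 + 1 - genus k K := by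
    rw [ell_large hK (by rw [deg_sub, deg_sub, deg_nsmul, D.deg_E hK.1, deg_single, deg_eq_one hK P]; omega), deg_sub,
      deg_sub, deg_nsmul, D.deg_E hK.1, deg_single, deg_eq_one hK P]
    push_cast; ring
  rcases finrank_inf_succ hK (L (m • D.E - N)) (m • D.E - N) P with ⟨-, hr⟩ | ⟨⟨w0, hw0, hw0P⟩, -⟩
  · exfalso
    rw [inf_idem, inf_eq_right.2 (L_mono fun R => by
      rw [Finsupp.sub_apply, Finsupp.single_apply]; split_ifs <;> omega)] at hr
    change ell _ = ell _ at hr
    omega
  have hw0L := (Submodule.mem_inf.1 hw0).2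
  have hw : w0 ∈ L (m • D.E) := L_mono (fun R => by
    rw [Finsupp.sub_apply, hNval]; have := le_max_right (-R.ord u) 0; omega) hw0L
  have huw : u * w0 ∈ L (m • D.E) := fun R => by
    have h1 := hw0L R
    rw [map_mul, val_eq_exp R hu0]
    rw [Finsupp.sub_apply, hNval] at h1
    refine (mul_le_mul' le_rfl h1).trans ?_
    rw [← exp_add, exp_le_exp]
    have := le_max_left (-R.ord u) 0
    omega
  have hNP : N P = 0 := by
    rw [hNval]; exact max_eq_right (by have := (val_le_one_iff P hu0).1 hu; omega)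
  refine ⟨j, hj0, hj, u * w0 / φ j ^ m, hT m _ (h m hm1 huw), w0 / φ j ^ m, hT m _ (h m hm1 hw), ?_, by rw [mul_div_assoc]⟩
  rw [map_div₀, map_pow, hjP, hw0P, Finsupp.sub_apply, Finsupp.smul_apply, hNP, sub_zero, ← exp_nsmul,
    div_self exp_ne_zero]

end PairData

end Groth.Agent.FunFldLib
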