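import Groth.Agent.FunFldLib.Hasse
import Groth.Agent.FunFldLib.Embedding
import Groth.Prelude.Def_W4bk4goldsch45p2
import Mathlib.FieldTheory.SeparablyGenerated

/-! Hasse derivatives at a place: integrality, Taylor coefficients, expansions. -/

set_option autoImplicit false

open WithZero Polynomial

namespace Groth.Agent.FunFldLib

open FunFld

variable {k K : Type*} [Field k] [Field K] [Algebra k K]

theorem val_natCast_le (P : Place k K) (n : ℕ) : P.1 (n : K) ≤ 1 := by
  rw [← map_natCast (algebraMap k K) n]; exact P.2.1 _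

theorem hasseD_pow_self {t : K} {H : K →ₐ[k] PowerSeries K} (hH : LocRes.IsHasseFamily t H) (m l : ℕ) :
    LocRes.hasseD H l (t ^ m) = t ^ (m - l) * (m.choose l : K) := by
  rw [LocRes.hasseD_apply, map_pow, hH.1, show (PowerSeries.C t + PowerSeries.X) ^ m =
    (((X + C t) ^ m : K[X]) : PowerSeries K) by rw [Polynomial.coe_pow, Polynomial.coe_add, Polynomial.coe_X,
      Polynomial.coe_C, add_comm], Polynomial.coeff_coe, coeff_X_add_C_pow]

theorem hasseD_smul {H : K →ₐ[k] PowerSeries K} (j : ℕ) (c : k) (y : K) :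
    LocRes.hasseD H j (c • y) = c • LocRes.hasseD H j y := by
  rw [LocRes.hasseD_apply, LocRes.hasseD_apply, Algebra.smul_def, map_mul, AlgHom.commutes, PowerSeries.algebraMap_apply,
    PowerSeries.coeff_C_mul, Algebra.smul_def]

theorem hasseD_add {H : K →ₐ[k] PowerSeries K} (j : ℕ) (y z : K) :
    LocRes.hasseD H j (y + z) = LocRes.hasseD H j y + LocRes.hasseD H j z := by
  simp [LocRes.hasseD_apply]

theorem hasseD_sum {ι : Type*} {H : K →ₐ[k] PowerSeries K} (j : ℕ) (s : Finset ι) (f : ι → K) :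
    LocRes.hasseD H j (∑ i ∈ s, f i) = ∑ i ∈ s, LocRes.hasseD H j (f i) := by
  simp [LocRes.hasseD_apply]

theorem eq_zero_of_val_le (P : Place k K) {x : K} (h : ∀ m : ℕ, P.1 x ≤ exp (-(m : ℤ))) : x = 0 := by
  by_contra hx
  have := (val_le_exp_iff P hx _).1 (h ((P.ord x).toNat + 1))
  omega

theorem ord_param {P : Place k K} {t : K} (ht : P.1 t = exp (-1)) : t ≠ 0 ∧ P.ord t = 1 := by
  have h0 : t ≠ 0 := fun h => exp_ne_zero (a := (-1 : ℤ)) (by rw [← ht, h, map_zero])
  refine ⟨h0, ?_⟩
  rw [val_eq_exp P h0, exp_inj] at ht; omega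

theorem val_param_pow {P : Place k K} {t : K} (ht : P.1 t = exp (-1)) (m : ℕ) : P.1 (t ^ m) = exp (-(m : ℤ)) := by
  rw [map_pow, ht, ← exp_nsmul]; simp

theorem param_le_one {P : Place k K} {t : K} (ht : P.1 t = exp (-1)) : P.1 t ≤ 1 := ht ▸ exp_neg_one_lt_one.le

theorem hasseD_bounded [IsAlgClosed k] (hK : IsFunctionField k K) {P : Place k K} {x : K} {H : K →ₐ[k] PowerSeries K}
    (hH : LocRes.IsHasseFamily x H) (j : ℕ) :
    ∃ M : ℕ, ∀ y : K, P.1 y ≤ 1 → ∀ i ≤ j, P.1 (LocRes.hasseD H i y) ≤ exp ((i * M : ℕ) : ℤ) := by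
  classical
  obtain ⟨t, ht0, -, htP⟩ := exists_uniformizer P
  have hT := transcendental_of_ord_ne_zero hK (P := P) (x := t) (by omega)
  set E : Divisor k K := (-FunFld.div k t) ⊔ 0 with hEdef
  have hnn : ∀ Q, 0 ≤ E Q := fun Q => by rw [hEdef, Finsupp.sup_apply, Finsupp.zero_apply]; exact le_max_right _ _
  have hPE : E P = 0 := by
    rw [hEdef, Finsupp.sup_apply, Finsupp.neg_apply, Finsupp.zero_apply, div_apply hK.1, htP]; rfl
  have hE0 : E ≠ 0 := fun h => by
    have h1 := deg_poles hK.1 hT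
    rw [← hEdef, h, deg_zero] at h1
    haveI := finite_adjoin hK.1 hT
    have := Module.finrank_pos (R := IntermediateField.adjoin k ({t} : Set K)) (M := K)
    omega
  obtain ⟨r, e, heB, hspan⟩ := exists_span_B hK hnn hE0 ht0 rfl
  let gens : Finset K := insert t (Finset.univ.image e)
  have hgens : ∀ g ∈ gens, P.1 g ≤ 1 := by
    intro g hg
    rcases Finset.mem_insert.1 hg with rfl | hg
    · exact (val_le_one_iff P ht0).2 (by omega)
    · obtain ⟨i, -, rfl⟩ := Finset.mem_image.1 hg
      exact heB i P hPE.le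
  let M : ℕ := ∑ g ∈ gens, ∑ i ∈ Finset.range (j + 1), (P.ord (LocRes.hasseD H i g)).natAbs
  let S : Subalgebra k K :=
    { carrier := {f | ∀ i ≤ j, P.1 (LocRes.hasseD H i f) ≤ exp ((i * M : ℕ) : ℤ)}
      algebraMap_mem' := fun c i _ => by
        rw [hasseD_algebraMap]
        split_ifs with h
        · subst h; rw [Nat.zero_mul, Nat.cast_zero, exp_zero]; exact P.2.1 c
        · simp
      zero_mem' := fun i _ => by simp [LocRes.hasseD_apply]
      one_mem' := fun i _ => by
        rw [← map_one (algebraMap k K), hasseD_algebraMap]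
        split_ifs with h
        · subst h; simp
        · simp
      add_mem' := fun {f g} hf hg i hi => by
        rw [hasseD_add]; exact (P.1.map_add _ _).trans (max_le (hf i hi) (hg i hi))
      mul_mem' := fun {f g} hf hg i hi => by
        rw [hasseD_mul]
        refine Valuation.map_sum_le _ fun p hp => ?_
        rw [Finset.HasAntidiagonal.mem_antidiagonal] at hp
        rw [map_mul, ← hp, add_mul, Nat.cast_add, exp_add]
        exact mul_le_mul' (hf _ (by omega)) (hg _ (by omega)) }
  have hgS : ∀ g ∈ gens, g ∈ S := fun g hg i hi => by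
    rcases Nat.eq_zero_or_pos i with rfl | hi0
    · rw [hasseD_zero hH, Nat.zero_mul, Nat.cast_zero, exp_zero]; exact hgens g hg
    rcases eq_or_ne (LocRes.hasseD H i g) 0 with h | h
    · rw [h]; simp
    rw [val_le_exp_iff P h]
    have h1 : (P.ord (LocRes.hasseD H i g)).natAbs ≤ M :=
      le_trans (Finset.single_le_sum (f := fun i => (P.ord (LocRes.hasseD H i g)).natAbs) (fun _ _ => Nat.zero_le _)
        (Finset.mem_range.2 (show i < j + 1 by omega)))
        (Finset.single_le_sum (f := fun g => ∑ i ∈ Finset.range (j + 1), (P.ord (LocRes.hasseD H i g)).natAbs)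
          (fun _ _ => Nat.zero_le _) hg)
    have h2 : M ≤ i * M := Nat.le_mul_of_pos_left M hi0
    omega
  have hadj : Algebra.adjoin k ({t} : Set K) ≤ S := Algebra.adjoin_le (Set.singleton_subset_iff.2
    (hgS t (Finset.mem_insert_self _ _)))
  have hB : ∀ f, InB E f → f ∈ S := fun f hf => by
    obtain ⟨α, hα⟩ := hspan f hf
    rw [hα]
    exact S.sum_mem fun i _ => S.mul_mem (hadj (α i).2)
      (hgS _ (Finset.mem_insert_of_mem (Finset.mem_image_of_mem e (Finset.mem_univ i))))
  refine ⟨M, fun y hy => ?_⟩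
  obtain ⟨w, hw, hw1, hyw⟩ := num_den hK hnn hE0 hPE hy
  have hw0 : w ≠ 0 := fun h => by simp [h] at hw1
  have hinv : w⁻¹ ∈ S := by
    intro i
    induction i using Nat.strong_induction_on with
    | _ i ih =>
      intro hi
      rcases Nat.eq_zero_or_pos i with rfl | hi0
      · rw [hasseD_zero hH, Nat.zero_mul, Nat.cast_zero, exp_zero, map_inv₀, hw1, inv_one]
      have h1 : LocRes.hasseD H i (w * w⁻¹) = 0 := by
        rw [mul_inv_cancel₀ hw0, ← map_one (algebraMap k K), hasseD_algebraMap, if_neg hi0.ne']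
      rw [hasseD_mul, ← Finset.add_sum_erase _ _ (show ((0, i) : ℕ × ℕ) ∈ Finset.HasAntidiagonal.antidiagonal i by simp),
        hasseD_zero hH, add_eq_zero_iff_eq_neg] at h1
      have h2 : P.1 (w * LocRes.hasseD H i w⁻¹) ≤ exp ((i * M : ℕ) : ℤ) := by
        rw [h1, Valuation.map_neg]
        refine Valuation.map_sum_le _ fun p hp => ?_
        rw [Finset.mem_erase, Finset.HasAntidiagonal.mem_antidiagonal] at hp
        have hp1 : p.1 ≠ 0 := fun h => hp.1 (Prod.ext h (by omega))
        rw [map_mul, ← hp.2, add_mul, Nat.cast_add, exp_add]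
        exact mul_le_mul' (hB w hw _ (by omega)) (ih _ (by omega) (by omega))
      rwa [map_mul, hw1, one_mul] at h2
  have : y = y * w * w⁻¹ := by rw [mul_inv_cancel_right₀ hw0]
  rw [this]
  exact S.mul_mem (hB _ hyw) hinv

theorem taylor [IsAlgClosed k] (hK : IsFunctionField k K) {P : Place k K} {t : K} (ht : P.1 t = exp (-1)) {y : K}
    (hy : P.1 y ≤ 1) (m : ℕ) :
    ∃ (c : ℕ → k) (z : K), P.1 z ≤ 1 ∧ y = ∑ i ∈ Finset.range m, c i • t ^ i + t ^ m * z := by
  induction m with
  | zero => exact ⟨fun _ => 0, y, hy, by simp⟩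
  | succ m ih =>
    obtain ⟨c, z, hz, he⟩ := ih
    obtain ⟨c0, hc0⟩ := exists_const hK P hz
    refine ⟨Function.update c m c0, (z - algebraMap k K c0) / t, ?_, ?_⟩
    · rw [map_div₀, ht, div_le_one₀ exp_pos]; exact (lt_one_iff_le P _).1 hc0
    · rw [Finset.sum_range_succ, Function.update_self, Finset.sum_congr rfl fun i hi => by
          rw [Function.update_of_ne (Finset.mem_range.1 hi).ne], he, pow_succ, Algebra.smul_def c0]
      have := (ord_param ht).1
      field_simp
      ring

theorem val_hasseD_pow_le {P : Place k K} {t : K} (ht : P.1 t = exp (-1)) {H : K →ₐ[k] PowerSeries K}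
    (hH : LocRes.IsHasseFamily t H) (m l : ℕ) : P.1 (LocRes.hasseD H l (t ^ m)) ≤ exp (-((m - l : ℕ) : ℤ)) := by
  rw [hasseD_pow_self hH, map_mul, val_param_pow ht]
  exact mul_le_of_le_one_right' (val_natCast_le P _)

theorem hasseD_integral [IsAlgClosed k] (hK : IsFunctionField k K) {P : Place k K} {t : K} (ht : P.1 t = exp (-1))
    {H : K →ₐ[k] PowerSeries K} (hH : LocRes.IsHasseFamily t H) (j : ℕ) {y : K} (hy : P.1 y ≤ 1) :
    P.1 (LocRes.hasseD H j y) ≤ 1 := by
  obtain ⟨M, hM⟩ := hasseD_bounded hK (P := P) hH j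
  obtain ⟨c, z, hz, he⟩ := taylor hK ht hy (j + j * M)
  rw [he, hasseD_add, hasseD_sum]
  refine (P.1.map_add _ _).trans (max_le (Valuation.map_sum_le _ fun i _ => ?_) ?_)
  · rw [hasseD_smul]
    refine (val_smul_le P _ _).trans ((val_hasseD_pow_le ht hH i j).trans ?_)
    rw [← exp_zero, exp_le_exp]; omega
  · rw [hasseD_mul]
    refine Valuation.map_sum_le _ fun p hp => ?_
    rw [Finset.HasAntidiagonal.mem_antidiagonal] at hp
    rw [map_mul]
    refine (mul_le_mul' (val_hasseD_pow_le ht hH _ _) (hM z hz p.2 (by omega))).trans ?_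
    rw [← exp_add, ← exp_zero, exp_le_exp]
    have : p.2 * M ≤ j * M := Nat.mul_le_mul_right M (by omega)
    omega

theorem hasseD_congr [IsAlgClosed k] (hK : IsFunctionField k K) {P : Place k K} {t : K} (ht : P.1 t = exp (-1))
    {H : K →ₐ[k] PowerSeries K} (hH : LocRes.IsHasseFamily t H) {y z : K} {c : ℕ → k} {m : ℕ} (hz : P.1 z ≤ 1)
    (he : y = ∑ i ∈ Finset.range m, c i • t ^ i + t ^ m * z) {j : ℕ} (hj : j < m) :
    P.1 (LocRes.hasseD H j y - algebraMap k K (c j)) < 1 := by
  rw [he, hasseD_add, hasseD_sum, ← Finset.add_sum_erase _ _ (Finset.mem_range.2 hj), hasseD_smul, hasseD_pow_self hH,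
    Nat.sub_self, pow_zero, Nat.choose_self, Nat.cast_one, one_mul, ← Algebra.algebraMap_eq_smul_one, add_assoc,
    add_sub_cancel_left]
  refine (P.1.map_add _ _).trans_lt (max_lt (Valuation.map_sum_lt _ one_ne_zero fun i hi => ?_) ?_)
  · rw [Finset.mem_erase] at hi
    rw [hasseD_smul]
    refine (val_smul_le P _ _).trans_lt ?_
    rcases Nat.lt_or_ge i j with h | h
    · rw [hasseD_pow_self hH, Nat.choose_eq_zero_of_lt h, Nat.cast_zero, mul_zero, map_zero]; exact zero_lt_one
    · refine (val_hasseD_pow_le ht hH i j).trans_lt ?_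
      rw [← exp_zero, exp_lt_exp]; omega
  · rw [hasseD_mul]
    refine Valuation.map_sum_lt _ one_ne_zero fun p hp => ?_
    rw [Finset.HasAntidiagonal.mem_antidiagonal] at hp
    rw [map_mul]
    refine (mul_le_of_le_one_right' (hasseD_integral hK ht hH p.2 hz)).trans_lt ((val_hasseD_pow_le ht hH _ _).trans_lt ?_)
    rw [← exp_zero, exp_lt_exp]; omega

theorem val_le_exp_iff_hasseD [IsAlgClosed k] (hK : IsFunctionField k K) {P : Place k K} {t : K} (ht : P.1 t = exp (-1))
    {H : K →ₐ[k] PowerSeries K} (hH : LocRes.IsHasseFamily t H) {y : K} (hy : P.1 y ≤ 1) (m : ℕ) :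
    P.1 y ≤ exp (-(m : ℤ)) ↔ ∀ j < m, P.1 (LocRes.hasseD H j y) < 1 := by
  obtain ⟨c, z, hz, he⟩ := taylor hK ht hy m
  constructor
  · intro h j hj
    let z' := y / t ^ m
    have hz' : P.1 z' ≤ 1 := by rw [map_div₀, val_param_pow ht, div_le_one₀ exp_pos]; exact h
    have he' : y = ∑ i ∈ Finset.range m, (0 : k) • t ^ i + t ^ m * z' := by
      simp [z', mul_div_cancel₀ _ (pow_ne_zero m (ord_param ht).1)]
    have := hasseD_congr hK ht hH (c := fun _ => 0) hz' he' hj
    simpa using this
  · intro h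
    have hc : ∀ j < m, c j = 0 := fun j hj => const_unique (P := P) (y := LocRes.hasseD H j y)
      (hasseD_congr hK ht hH hz he hj) (by simpa using h j hj)
    rw [he, Finset.sum_eq_zero fun i hi => by rw [hc i (Finset.mem_range.1 hi), zero_smul], zero_add, map_mul,
      val_param_pow ht]
    exact mul_le_of_le_one_right' hz

theorem evalP_of_le {P : Place k K} {z : K} (h : P.1 z ≤ 1) :
    evalP P z = IsLocalRing.residue P.O ⟨z, (Valuation.mem_valuationSubring_iff P.1 z).mpr h⟩ := dif_pos h

theorem evalP_eq_zero_iff {P : Place k K} {z : K} (h : P.1 z ≤ 1) : evalP P z = 0 ↔ P.1 z < 1 := by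
  rw [evalP_of_le h]; exact residue_eq_zero_iff_val P _

theorem evalP_add {P : Place k K} {y z : K} (hy : P.1 y ≤ 1) (hz : P.1 z ≤ 1) :
    evalP P (y + z) = evalP P y + evalP P z := by
  rw [evalP_of_le hy, evalP_of_le hz, evalP_of_le ((P.1.map_add y z).trans (max_le hy hz)), ← map_add]; rfl

theorem evalP_mul {P : Place k K} {y z : K} (hy : P.1 y ≤ 1) (hz : P.1 z ≤ 1) :
    evalP P (y * z) = evalP P y * evalP P z := by
  rw [evalP_of_le hy, evalP_of_le hz, evalP_of_le ((map_mul P.1 y z).le.trans (mul_le_one' hy hz))]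
  exact map_mul (IsLocalRing.residue P.O) ⟨y, _⟩ ⟨z, _⟩

theorem evalP_algebraMap (P : Place k K) (c : k) :
    evalP P (algebraMap k K c) = algebraMap k (IsLocalRing.ResidueField P.O) c := by
  rw [evalP_of_le (P.2.1 c)]; rfl

theorem evalP_eq_const {P : Place k K} {z : K} {c : k} (h : P.1 (z - algebraMap k K c) < 1) :
    evalP P z = algebraMap k (IsLocalRing.ResidueField P.O) c := by
  have h2 : P.1 z ≤ 1 := by
    rw [show z = (z - algebraMap k K c) + algebraMap k K c by ring]
    exact (P.1.map_add _ _).trans (max_le h.le (P.2.1 c))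
  conv_lhs => rw [show z = (z - algebraMap k K c) + algebraMap k K c by ring]
  rw [evalP_add h.le (P.2.1 c), (evalP_eq_zero_iff h.le).2 h, evalP_algebraMap, zero_add]

theorem hasseD_one_chain [PerfectField k] (hK : IsFunctionField k K) {s t : K} {Hs Ht : K →ₐ[k] PowerSeries K}
    (hs : LocRes.IsHasseFamily s Hs) (ht : LocRes.IsHasseFamily t Ht) (y : K) :
    LocRes.hasseD Ht 1 y = LocRes.hasseD Hs 1 y * LocRes.hasseD Ht 1 s := by
  have hc : PowerSeries.constantCoeff (Ht s - PowerSeries.C s) = 0 := by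
    rw [map_sub, ht.2, PowerSeries.constantCoeff_C, sub_self]
  rw [LocRes.hasseD_apply, hasse_change hK hs ht y,
    PowerSeries.coeff_subst' (PowerSeries.HasSubst.of_constantCoeff_zero' hc),
    finsum_eq_single _ 1 fun d hd => ?_]
  · simp [LocRes.hasseD_apply, PowerSeries.coeff_C]
  · rcases d with _ | _ | d
    · simp
    · exact absurd rfl hd
    · rw [PowerSeries.coeff_one_pow, hc, zero_pow (by omega), mul_zero, smul_zero]

theorem hasseD_one_ne_zero [PerfectField k] (hK : IsFunctionField k K) {s t : K} {Hs Ht : K →ₐ[k] PowerSeries K}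
    (hs : LocRes.IsHasseFamily s Hs) (ht : LocRes.IsHasseFamily t Ht) : LocRes.hasseD Ht 1 s ≠ 0 := fun h => by
  have := hasseD_one_chain hK hs ht t
  rw [h, mul_zero, hasseD_self ht, if_neg one_ne_zero, if_pos rfl] at this
  exact one_ne_zero this

theorem exists_separating_var [PerfectField k] (hK : IsFunctionField k K) :
    ∃ (s : K) (H : K →ₐ[k] PowerSeries K), LocRes.IsHasseFamily s H := by
  classical
  obtain ⟨x, hx, hfin⟩ := hK.1
  set F := IntermediateField.adjoin k ({x} : Set K) with hF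
  haveI : Algebra.IsAlgebraic F K := Algebra.IsAlgebraic.of_finite F K
  have htr : Algebra.trdeg k K = 1 := by
    have h1 : IsTranscendenceBasis k ((↑) : ({x} : Set K) → K) := by
      refine (algebraicIndependent_unique_type_iff.2 (by simpa using hx)).isTranscendenceBasis_iff_isAlgebraic.2 ?_
      rw [Subtype.range_coe]
      exact IntermediateField.isAlgebraic_adjoin_iff_top.1 inferInstance
    simpa using h1.cardinalMk_eq_trdeg.symm
  haveI : Algebra.EssFiniteType k K := by
    haveI : Algebra.EssFiniteType k F :=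
      IntermediateField.essFiniteType_iff.2 (by rw [hF, ← Finset.coe_singleton]; exact IntermediateField.fg_adjoin_finset _)
    exact Algebra.EssFiniteType.comp k F K
  obtain ⟨S, hS, hsep⟩ := exists_isTranscendenceBasis_and_isSeparable_of_perfectField k K
  have hcard : S.card = 1 := by
    have := hS.cardinalMk_eq_trdeg
    rw [htr, Cardinal.mk_coe_finset] at this
    exact_mod_cast this
  obtain ⟨s, rfl⟩ := Finset.card_eq_one.1 hcard
  have hs : Transcendental k s := by
    simpa using hS.1.transcendental ⟨s, Finset.mem_singleton_self s⟩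
  rw [Finset.coe_singleton] at hsep
  haveI := finite_adjoin hK.1 hs
  exact ⟨s, exists_family s hs⟩

/-- a local parameter is separating -/
theorem exists_family_param [IsAlgClosed k] (hK : IsFunctionField k K) {P : Place k K} {t : K} (ht : P.1 t = exp (-1)) :
    ∃ H : K →ₐ[k] PowerSeries K, LocRes.IsHasseFamily t H := by
  obtain ⟨s, Hs, hHs⟩ := exists_separating_var hK
  have hT := transcendental_of_ord_ne_zero hK (P := P) (x := t) (by rw [(ord_param ht).2]; omega)
  haveI := finite_adjoin hK.1 hT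
  have hne : LocRes.hasseD Hs 1 t ≠ 0 := by
    intro h0
    obtain ⟨M, hM⟩ := hasseD_bounded hK (P := P) hHs 1
    have hDpow : ∀ m, LocRes.hasseD Hs 1 (t ^ m) = 0 := fun m => by
      induction m with
      | zero => rw [pow_zero, ← map_one (algebraMap k K), hasseD_algebraMap, if_neg one_ne_zero]
      | succ m ih => rw [pow_succ, hasseD_one_mul hHs, ih, h0, mul_zero, mul_zero, add_zero]
    have hint : ∀ y, P.1 y ≤ 1 → LocRes.hasseD Hs 1 y = 0 := fun y hy => by
      refine eq_zero_of_val_le P fun m => ?_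
      obtain ⟨c, z, hz, he⟩ := taylor hK ht hy (m + M)
      rw [he, hasseD_add, hasseD_sum, Finset.sum_eq_zero fun i _ => by rw [hasseD_smul, hDpow, smul_zero], zero_add,
        hasseD_one_mul hHs, hDpow, mul_zero, add_zero, map_mul, val_param_pow ht]
      refine (mul_le_mul' le_rfl (hM z hz 1 le_rfl)).trans ?_
      rw [← exp_add, exp_le_exp]; omega
    have h1 := hasseD_self hHs 1
    rw [if_neg one_ne_zero, if_pos rfl] at h1
    rcases le_total (P.1 s) 1 with h | h
    · rw [hint s h] at h1; exact zero_ne_one h1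
    · have hs0 : s ≠ 0 := fun h' => by simp [h'] at h
      have h2 := hasseD_one_mul hHs s s⁻¹
      rw [mul_inv_cancel₀ hs0, hint s⁻¹ (by rw [map_inv₀]; exact inv_le_one_of_one_le₀ h), ← map_one (algebraMap k K),
        hasseD_algebraMap, if_neg one_ne_zero, h1, mul_one, mul_zero, zero_add] at h2
      exact inv_ne_zero hs0 h2.symm
  haveI : Algebra.IsSeparable (IntermediateField.adjoin k ({t} : Set K)) K :=
    isSeparable_of_derivation hK hT ((LocRes.hasseD Hs 1 t)⁻¹ • hasseDer hHs) (by
      rw [Derivation.smul_apply, hasseDer_apply, smul_eq_mul, inv_mul_cancel₀ hne])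
  exact exists_family t hT

section Expansion

variable {F : Type*} [Field F] [Algebra k F]

theorem val_D_le_one {f : LaurentSeries F} (h : Valued.v f ≤ 1) : Valued.v (LocRes.D F f) ≤ 1 := by
  rw [← exp_zero, ← neg_zero, LaurentSeries.valuation_le_iff_coeff_lt_eq_zero] at h ⊢
  intro n hn
  rw [LocRes.D_coeff]
  rcases eq_or_ne n (-1) with rfl | hne
  · simp
  · rw [h (n + 1) (by omega), smul_zero]

theorem val_D_param {f : LaurentSeries F} (h : Valued.v f = exp (-1)) : Valued.v (LocRes.D F f) = 1 := by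
  have h1 : Valued.v f ≤ exp (-(1 : ℤ)) := h.le
  refine le_antisymm (val_D_le_one (h1.trans (by rw [← exp_zero, exp_le_exp]; omega))) (not_lt.1 fun hlt => ?_)
  have hle : Valued.v (LocRes.D F f) ≤ exp (-(1 : ℤ)) := by
    rcases eq_or_ne (Valued.v (LocRes.D F f)) 0 with h0 | h0
    · rw [h0]; exact zero_le
    · rw [← exp_log h0, ← exp_zero, exp_lt_exp] at hlt
      rw [← exp_log h0, exp_le_exp]; omega
  have h2 := LaurentSeries.valuation_le_iff_coeff_lt_eq_zero (K := F) |>.1 hle 0 (by omega)
  rw [LocRes.D_coeff, zero_add, one_smul] at h2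
  have h3 : Valued.v f ≤ exp (-(2 : ℤ)) := (LaurentSeries.valuation_le_iff_coeff_lt_eq_zero (K := F)).2 fun n hn => by
    rcases eq_or_ne n 1 with rfl | hne
    · exact h2
    · exact LaurentSeries.valuation_le_iff_coeff_lt_eq_zero (K := F) |>.1 h1 n (by omega)
  rw [h, exp_le_exp] at h3; omega

/-- differentiation of an expansion is differentiation with respect to the parameter -/
theorem D_expansion [IsAlgClosed k] (hK : IsFunctionField k K) {P : Place k K} {φ : K →ₐ[k] LaurentSeries F}
    (hφ : LocRes.IsExpansionAt P.1 φ) {t : K} (ht : P.1 t = exp (-1))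
    {H : K →ₐ[k] PowerSeries K} (hH : LocRes.IsHasseFamily t H) (y : K) :
    LocRes.D F (φ y) = φ (LocRes.hasseD H 1 y) * LocRes.D F (φ t) := by
  let δ : K → LaurentSeries F := fun y => LocRes.D F (φ y) - φ (LocRes.hasseD H 1 y) * LocRes.D F (φ t)
  have hadd : ∀ a b, δ (a + b) = δ a + δ b := fun a b => by
    simp only [δ, map_add, hasseD_add]; ring
  have hmul : ∀ a b, δ (a * b) = φ a * δ b + φ b * δ a := fun a b => by
    simp only [δ, map_mul, Derivation.leibniz, hasseD_one_mul hH, map_add, smul_eq_mul]; ring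
  have hconst : ∀ c : k, δ (algebraMap k K c) = 0 := fun c => by
    simp only [δ, hasseD_algebraMap, if_neg one_ne_zero, map_zero, zero_mul, sub_zero, LocRes.map_algebraMap]
    rw [LocRes.D_apply, LocRes.derivative_C]
  have hδt : δ t = 0 := by
    simp only [δ, hasseD_self hH, if_neg one_ne_zero, if_true, map_one, one_mul, sub_self]
  have hDt : Valued.v (LocRes.D F (φ t)) = 1 := val_D_param (by rw [hφ.1, ht])
  suffices H' : ∀ y, P.1 y ≤ 1 → δ y = 0 by
    rw [← sub_eq_zero]
    change δ y = 0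
    rcases le_total (P.1 y) 1 with h | h
    · exact H' y h
    · have hy0 : y ≠ 0 := fun h0 => by simp [h0] at h
      have h1 := hmul y y⁻¹
      rw [mul_inv_cancel₀ hy0, H' y⁻¹ (by rw [map_inv₀]; exact inv_le_one_of_one_le₀ h), mul_zero, zero_add,
        ← map_one (algebraMap k K), hconst] at h1
      refine (mul_eq_zero.1 h1.symm).resolve_left ?_
      exact (map_ne_zero_iff _ φ.toRingHom.injective).2 (inv_ne_zero hy0)
  intro y hy
  have hint : ∀ a, P.1 a ≤ 1 → Valued.v (δ a) ≤ 1 := fun a ha => by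
    refine (Valuation.map_sub _ _ _).trans (max_le (val_D_le_one (by rw [hφ.1]; exact ha)) ?_)
    rw [map_mul, hDt, mul_one, hφ.1]
    exact hasseD_integral hK ht hH 1 ha
  have hle : ∀ m : ℕ, Valued.v (δ y) ≤ exp (-(m : ℤ)) := fun m => by
    obtain ⟨c, z, hz, he⟩ := taylor hK ht hy m
    let δh : K →+ LaurentSeries F := AddMonoidHom.mk' δ hadd
    have hpow : ∀ i, δ (t ^ i) = 0 := fun i => by
      induction i with
      | zero => rw [pow_zero, ← map_one (algebraMap k K)]; exact hconst 1
      | succ i ih => rw [pow_succ, hmul, ih, hδt, mul_zero, mul_zero, add_zero]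
    rw [he, hadd, show δ (∑ i ∈ Finset.range m, c i • t ^ i) = 0 by
      change δh _ = 0
      rw [map_sum]
      refine Finset.sum_eq_zero fun i _ => ?_
      change δ _ = 0
      rw [Algebra.smul_def, hmul, hpow, hconst, mul_zero, mul_zero, add_zero], zero_add, hmul, hpow, mul_zero, add_zero,
      map_mul, hφ.1, val_param_pow ht]
    exact mul_le_of_le_one_right' (hint z hz)
  by_contra hne
  have h0 : Valued.v (δ y) ≠ 0 := (Valuation.ne_zero_iff _).2 hne
  have := hle ((-WithZero.log (Valued.v (δ y))).toNat + 1)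
  rw [← log_le_log h0 exp_ne_zero, log_exp] at this
  omega

theorem ordDiff_eq [IsAlgClosed k] (hK : IsFunctionField k K) {P : Place k K} {φ : K →ₐ[k] LaurentSeries F}
    (hφ : LocRes.IsExpansionAt P.1 φ) {t : K} (ht : P.1 t = exp (-1))
    {H : K →ₐ[k] PowerSeries K} (hH : LocRes.IsHasseFamily t H) (u v : K) :
    LocRes.ordDiff φ u v = P.ord (u * LocRes.hasseD H 1 v) := by
  rw [LocRes.ordDiff, LocRes.vDiff, D_expansion hK hφ ht hH v, ← mul_assoc, map_mul, ← map_mul φ,
    val_D_param (by rw [hφ.1, ht]), mul_one, hφ.1]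
  rfl

end Expansion

end Groth.Agent.FunFldLib
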