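import Groth.Agent.FunFldLib.Nonsingular
import Groth.Agent.FunFldLib.Taylor
import Mathlib.Algebra.MvPolynomial.PDeriv
import Mathlib.FieldTheory.IntermediateField.Adjoin.Basic

/-! Points of plane curves: nonsingularity and the order of `dx / f_y`. -/

set_option autoImplicit false

open WithZero MvPolynomial

namespace Groth.Agent.FunFldLib

open FunFld

variable {k K : Type*} [Field k] [Field K] [Algebra k K]

/-- membership in the local ring of the affine plane model `(a, b)` at `P` -/
def InPt (P : Place k K) (a b z : K) : Prop :=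
  ∃ u w : MvPolynomial (Fin 2) k, P.1 (aeval ![a, b] w) = 1 ∧ z * aeval ![a, b] w = aeval ![a, b] u

/-- exchange of the two variables -/
noncomputable def swapP : MvPolynomial (Fin 2) k →ₐ[k] MvPolynomial (Fin 2) k := aeval ![X 1, X 0]

theorem aeval_swapP {A : Type*} [CommRing A] [Algebra k A] (a b : A) (f : MvPolynomial (Fin 2) k) :
    aeval ![a, b] (swapP f) = aeval ![b, a] f := by
  rw [swapP, comp_aeval_apply]
  congr 1
  refine MvPolynomial.algHom_ext fun i => ?_
  fin_cases i <;> simp

theorem swapP_swapP (f : MvPolynomial (Fin 2) k) : swapP (swapP f) = f := by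
  conv_rhs => rw [← aeval_X_left_apply f]
  rw [swapP, comp_aeval_apply]
  congr 1
  refine MvPolynomial.algHom_ext fun i => ?_
  fin_cases i <;> simp

theorem InPt.swap {P : Place k K} {a b z : K} (h : InPt P a b z) : InPt P b a z := by
  obtain ⟨u, w, hw, h⟩ := h
  exact ⟨swapP u, swapP w, by rwa [aeval_swapP], by rwa [aeval_swapP, aeval_swapP]⟩

theorem val_aeval_le_one' {ι : Type*} (P : Place k K) {g : ι → K} (hg : ∀ i, P.1 (g i) ≤ 1)
    (r : MvPolynomial ι k) : P.1 (aeval g r) ≤ 1 := by
  induction r using MvPolynomial.induction_on with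
  | C c => rw [aeval_C]; exact P.2.1 c
  | add p q hp hq => rw [map_add]; exact (P.1.map_add _ _).trans (max_le hp hq)
  | mul_X p i hp => rw [map_mul, aeval_X, map_mul]; exact mul_le_one₀ hp zero_le (hg i)

theorem val_aeval_sub_const {ι : Type*} (P : Place k K) {g : ι → K} (hg : ∀ i, P.1 (g i) < 1)
    (r : MvPolynomial ι k) : P.1 (aeval g r - algebraMap k K (constantCoeff r)) < 1 := by
  induction r using MvPolynomial.induction_on with
  | C c => simp
  | add p q hp hq =>
    rw [map_add, map_add, map_add,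
      show aeval g p + aeval g q - (algebraMap k K (constantCoeff p) + algebraMap k K (constantCoeff q)) =
        (aeval g p - algebraMap k K (constantCoeff p)) + (aeval g q - algebraMap k K (constantCoeff q)) by ring]
    exact (P.1.map_add _ _).trans_lt (max_lt hp hq)
  | mul_X p i _ =>
    rw [map_mul, map_mul, aeval_X, constantCoeff_X, mul_zero, map_zero, sub_zero, map_mul]
    exact (mul_le_of_le_one_left' (val_aeval_le_one' P (fun j => (hg j).le) p)).trans_lt (hg i)

theorem val_aeval_eq_one {ι : Type*} (P : Place k K) {g : ι → K} (hg : ∀ i, P.1 (g i) < 1)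
    {r : MvPolynomial ι k} (hr : constantCoeff r ≠ 0) : P.1 (aeval g r) = 1 :=
  val_eq_one_of_sub (val_aeval_sub_const P hg r) hr

theorem constantCoeff_eq_zero {ι : Type*} (P : Place k K) {g : ι → K} (hg : ∀ i, P.1 (g i) < 1)
    {r : MvPolynomial ι k} (hr : P.1 (aeval g r) < 1) : constantCoeff r = 0 := by
  by_contra h
  rw [val_aeval_eq_one P hg h] at hr
  exact lt_irrefl _ hr

theorem exists_decomp (f : MvPolynomial (Fin 2) k) :
    ∃ (c : k) (G H : MvPolynomial (Fin 2) k), f = C c + X 0 * G + X 1 * H := by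
  induction f using MvPolynomial.induction_on with
  | C c => exact ⟨c, 0, 0, by simp⟩
  | add p q hp hq =>
    obtain ⟨c, G, H, rfl⟩ := hp
    obtain ⟨c', G', H', rfl⟩ := hq
    exact ⟨c + c', G + G', H + H', by rw [map_add]; ring⟩
  | mul_X p i hp =>
    obtain ⟨c, G, H, rfl⟩ := hp
    fin_cases i
    · exact ⟨0, C c + X 0 * G + X 1 * H, 0, by simp; ring⟩
    · exact ⟨0, 0, C c + X 0 * G + X 1 * H, by simp; ring⟩

theorem grad_decomp (c : k) (G H : MvPolynomial (Fin 2) k) :
    constantCoeff (pderiv 0 (C c + X 0 * G + X 1 * H)) = constantCoeff G ∧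
      constantCoeff (pderiv 1 (C c + X 0 * G + X 1 * H)) = constantCoeff H := by
  constructor <;> simp [Derivation.leibniz]

theorem two_val_lt {P : Place k K} {a b : K} (ha : P.1 a < 1) (hb : P.1 b < 1) :
    ∀ i, P.1 (![a, b] i) < 1 := by
  intro i; fin_cases i <;> assumption

/-- at a point with `∂f/∂Y ≠ 0` the first coordinate is a parameter and the local ring is everything -/
theorem inPt_of_grad {P : Place k K} {a b : K} (ha : P.1 a < 1) (hb : P.1 b < 1)
    (hgen : IntermediateField.adjoin k ({a, b} : Set K) = ⊤) {f : MvPolynomial (Fin 2) k}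
    (hf : aeval ![a, b] f = 0) (hy : constantCoeff (pderiv 1 f) ≠ 0) :
    P.1 a = exp (-1) ∧ ∀ z : K, P.1 z ≤ 1 → InPt P a b z := by
  have hab := two_val_lt ha hb
  obtain ⟨c, G, H, rfl⟩ := exists_decomp f
  rw [(grad_decomp c G H).2] at hy
  set g := aeval ![a, b] G with hg
  set h := aeval ![a, b] H with hh
  have hh1 : P.1 h = 1 := val_aeval_eq_one P hab hy
  have hc : c = 0 := by
    have := constantCoeff_eq_zero P hab (r := C c + X 0 * G + X 1 * H) (by simp [hf])
    simpa using this
  have hrel : a * g + b * h = 0 := by simpa [hc, hg, hh] using hf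
  have hgen' : ∀ z : K, ∃ r s : MvPolynomial (Fin 2) k, z = aeval ![a, b] r / aeval ![a, b] s := fun z => by
    have hz : z ∈ IntermediateField.adjoin k (Set.range ![a, b]) := by
      rw [Matrix.range_cons_cons_empty, hgen]; trivial
    exact (IntermediateField.mem_adjoin_range_iff k _ _).1 hz
  -- every nonzero polynomial value is a power of `a` times a unit
  have key : ∀ (n : ℕ) (r : MvPolynomial (Fin 2) k), exp (-(n : ℤ)) ≤ P.1 (aeval ![a, b] r) →
      ∃ (m : ℕ) (u w : MvPolynomial (Fin 2) k), P.1 (aeval ![a, b] u) = 1 ∧ P.1 (aeval ![a, b] w) = 1 ∧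
        aeval ![a, b] r * aeval ![a, b] w = a ^ m * aeval ![a, b] u := by
    intro n
    induction n with
    | zero =>
      intro r hr
      refine ⟨0, r, 1, le_antisymm (val_aeval_le_one' P (fun i => (hab i).le) r) ?_, by simp, by simp⟩
      simpa using hr
    | succ n ih =>
      intro r hr
      by_cases h1 : P.1 (aeval ![a, b] r) = 1
      · exact ⟨0, r, 1, h1, by simp, by simp⟩
      have hlt := lt_of_le_of_ne (val_aeval_le_one' P (fun i => (hab i).le) r) h1
      obtain ⟨c', G', H', rfl⟩ := exists_decomp r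
      have hc' : c' = 0 := by simpa using constantCoeff_eq_zero P hab hlt
      set r' : MvPolynomial (Fin 2) k := G' * H - G * H' with hr'
      have he : aeval ![a, b] (C c' + X 0 * G' + X 1 * H') * h = a * aeval ![a, b] r' := by
        simp only [hc', hr', map_zero, map_add, map_sub, map_mul, aeval_X, Matrix.cons_val_zero,
          Matrix.cons_val_one, zero_add, ← hg, ← hh]
        linear_combination aeval ![a, b] H' * hrel
      have hv : exp (-(n : ℤ)) ≤ P.1 (aeval ![a, b] r') := by
        have e1 := congrArg P.1 he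
        rw [map_mul, hh1, mul_one, map_mul] at e1
        rw [e1] at hr
        have h2 : P.1 a * P.1 (aeval ![a, b] r') ≤ exp (-1) * P.1 (aeval ![a, b] r') :=
          mul_le_mul' ((lt_one_iff_le P a).1 ha) le_rfl
        have h3 := hr.trans h2
        rw [show (-((n + 1 : ℕ) : ℤ)) = -1 + -(n : ℤ) by push_cast; ring, exp_add] at h3
        exact le_of_mul_le_mul_left h3 (zero_lt_iff.2 exp_ne_zero)
      obtain ⟨m, u, w, hu, hw, huw⟩ := ih r' hv
      refine ⟨m + 1, u, H * w, hu, by rw [map_mul, map_mul, ← hh, hh1, hw, mul_one], ?_⟩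
      rw [map_mul, ← hh, ← mul_assoc, he, mul_assoc, huw, pow_succ]
      ring
  have key' : ∀ r : MvPolynomial (Fin 2) k, aeval ![a, b] r ≠ 0 →
      ∃ (m : ℕ) (u w : MvPolynomial (Fin 2) k), P.1 (aeval ![a, b] u) = 1 ∧ P.1 (aeval ![a, b] w) = 1 ∧
        aeval ![a, b] r * aeval ![a, b] w = a ^ m * aeval ![a, b] u := fun r hr => by
    refine key (P.ord (aeval ![a, b] r)).toNat r ?_
    rw [val_eq_exp P hr, exp_le_exp]
    omega
  have ha0 : a ≠ 0 := by
    intro h0
    obtain ⟨t, ht0, ht⟩ := exists_val_eq P (-1)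
    obtain ⟨r, s, hz⟩ := hgen' t
    have hr : aeval ![a, b] r ≠ 0 := fun h' => ht0 (by rw [hz, h', zero_div])
    have hs : aeval ![a, b] s ≠ 0 := fun h' => ht0 (by rw [hz, h', div_zero])
    have hone : ∀ r : MvPolynomial (Fin 2) k, aeval ![a, b] r ≠ 0 → P.1 (aeval ![a, b] r) = 1 := by
      intro r hr
      obtain ⟨m, u, w, hu, hw, huw⟩ := key' r hr
      have hm : m = 0 := by
        by_contra hm
        rw [show a ^ m = 0 by rw [h0, zero_pow hm], zero_mul] at huw
        rw [(mul_eq_zero.1 huw).resolve_left hr, map_zero] at hw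
        exact zero_ne_one hw
      have := congrArg P.1 huw
      rwa [map_mul, hw, mul_one, hm, pow_zero, one_mul, hu] at this
    rw [hz, map_div₀, hone r hr, hone s hs, div_one] at ht
    exact exp_neg_one_lt_one.ne ht.symm
  have main : ∀ z : K, z ≠ 0 → ∃ (m : ℤ) (u w : MvPolynomial (Fin 2) k), P.1 (aeval ![a, b] u) = 1 ∧
      P.1 (aeval ![a, b] w) = 1 ∧ z * aeval ![a, b] w = a ^ m * aeval ![a, b] u := by
    intro z hz0
    obtain ⟨r, s, hz⟩ := hgen' z
    have hr : aeval ![a, b] r ≠ 0 := fun h' => hz0 (by rw [hz, h', zero_div])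
    have hs : aeval ![a, b] s ≠ 0 := fun h' => hz0 (by rw [hz, h', div_zero])
    obtain ⟨m, u, w, hu, hw, huw⟩ := key' r hr
    obtain ⟨m', u', w', hu', hw', huw'⟩ := key' s hs
    refine ⟨(m : ℤ) - m', u * w', w * u', by rw [map_mul, map_mul, hu, hw', mul_one],
      by rw [map_mul, map_mul, hw, hu', mul_one], ?_⟩
    rw [hz, map_mul, map_mul, zpow_sub₀ ha0, zpow_natCast, zpow_natCast, div_mul_eq_mul_div,
      div_eq_iff hs, div_mul_eq_mul_div, div_mul_eq_mul_div, eq_div_iff (pow_ne_zero _ ha0)]
    linear_combination (aeval ![a, b] u' * a ^ m') * huw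
      - (a ^ m * aeval ![a, b] u) * huw'
  have hval : P.1 a = exp (-1) := by
    obtain ⟨t, ht0, ht⟩ := exists_val_eq P (-1)
    obtain ⟨m, u, w, hu, hw, huw⟩ := main t ht0
    have h1 := congrArg P.1 huw
    rw [map_mul, map_mul, map_zpow₀, ht, hu, hw, mul_one, mul_one, val_eq_exp P ha0, ← exp_zsmul,
      exp_inj, smul_eq_mul] at h1
    have hpos : 0 < P.ord a := (val_lt_one_iff P ha0).1 ha
    have h2 : m * P.ord a = 1 := by linarith
    rw [val_eq_exp P ha0, Int.eq_one_of_mul_eq_one_left hpos.le h2]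
  refine ⟨hval, fun z hz => ?_⟩
  rcases eq_or_ne z 0 with rfl | hz0
  · exact ⟨0, 1, by simp, by simp⟩
  obtain ⟨m, u, w, hu, hw, huw⟩ := main z hz0
  have hm : 0 ≤ m := by
    have h1 := congrArg P.1 huw
    rw [map_mul, hw, mul_one, map_mul, hu, mul_one, map_zpow₀, hval, ← exp_zsmul, smul_eq_mul] at h1
    rw [h1, ← exp_zero, exp_le_exp] at hz
    linarith
  obtain ⟨m, rfl⟩ := Int.eq_ofNat_of_zero_le hm
  exact ⟨X 0 ^ m * u, w, hw, by rw [huw, map_mul, map_pow, aeval_X, zpow_natCast]; simp⟩

/-- a nonsingular point has a nonzero gradient -/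
theorem grad_of_inPt {P : Place k K} {a b : K} (ha : P.1 a < 1) (hb : P.1 b < 1) (hne : a ≠ 0 ∨ b ≠ 0)
    {f : MvPolynomial (Fin 2) k}
    (hker : ∀ g, aeval ![a, b] g = 0 → f ∣ g) (hf : aeval ![a, b] f = 0)
    (h : ∀ z : K, P.1 z ≤ 1 → InPt P a b z) :
    constantCoeff (pderiv 0 f) ≠ 0 ∨ constantCoeff (pderiv 1 f) ≠ 0 := by
  have hab := two_val_lt ha hb
  have hf0 : constantCoeff f = 0 := constantCoeff_eq_zero P hab (by simp [hf])
  rcases le_total (P.1 b) (P.1 a) with hle | hle
  · have ha0 : a ≠ 0 := fun h0 => by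
      rw [h0, map_zero, le_zero_iff, Valuation.zero_iff] at hle
      exact hne.elim (fun h' => h' h0) fun h' => h' hle
    obtain ⟨u, w, hw, huw⟩ := h (b / a) (by
      rw [map_div₀]; exact div_le_one_of_le₀ hle zero_le)
    obtain ⟨q, hq⟩ := hker (X 1 * w - X 0 * u) (by
      simp only [map_sub, map_mul, aeval_X, Matrix.cons_val_zero, Matrix.cons_val_one]
      rw [← huw]; field_simp; ring)
    have hw0 : constantCoeff w ≠ 0 := fun h0 => by
      have := val_aeval_sub_const P hab w
      rw [h0, map_zero, sub_zero, hw] at this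
      exact lt_irrefl _ this
    refine Or.inr fun h1 => hw0 ?_
    have := congrArg (fun g => constantCoeff (pderiv 1 g)) hq
    simpa [Derivation.leibniz, hf0, h1] using this
  · have hb0 : b ≠ 0 := fun h0 => by
      rw [h0, map_zero, le_zero_iff, Valuation.zero_iff] at hle
      exact hne.elim (fun h' => h' hle) fun h' => h' h0
    obtain ⟨u, w, hw, huw⟩ := h (a / b) (by
      rw [map_div₀]; exact div_le_one_of_le₀ hle zero_le)
    obtain ⟨q, hq⟩ := hker (X 0 * w - X 1 * u) (by
      simp only [map_sub, map_mul, aeval_X, Matrix.cons_val_zero, Matrix.cons_val_one]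
      rw [← huw]; field_simp; ring)
    have hw0 : constantCoeff w ≠ 0 := fun h0 => by
      have := val_aeval_sub_const P hab w
      rw [h0, map_zero, sub_zero, hw] at this
      exact lt_irrefl _ this
    refine Or.inl fun h1 => hw0 ?_
    have := congrArg (fun g => constantCoeff (pderiv 0 g)) hq
    simpa [Derivation.leibniz, hf0, h1] using this

/-- the chain rule through an expansion -/
theorem D_aeval {ι : Type*} [Fintype ι] (Φ : K →ₐ[k] LaurentSeries k) (g : ι → K) (f : MvPolynomial ι k) :
    LocRes.D k (Φ (aeval g f)) = ∑ i, Φ (aeval g (pderiv i f)) * LocRes.D k (Φ (g i)) := by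
  classical
  induction f using MvPolynomial.induction_on with
  | C c =>
    rw [aeval_C, LocRes.map_algebraMap, LocRes.D_apply, LocRes.derivative_C]
    simp
  | add p q hp hq => simp only [map_add, hp, hq, add_mul, Finset.sum_add_distrib]
  | mul_X p j hp =>
    have e : ∀ i, Φ (aeval g (pderiv i (p * X j))) * LocRes.D k (Φ (g i)) =
        Φ (g j) * (Φ (aeval g (pderiv i p)) * LocRes.D k (Φ (g i))) +
          if i = j then Φ (aeval g p) * LocRes.D k (Φ (g j)) else 0 := fun i => by
      rw [Derivation.leibniz, pderiv_X]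
      simp only [smul_eq_mul, map_add, map_mul, aeval_X]
      split_ifs with h
      · subst h; simp; ring
      · simp [Pi.single_eq_of_ne (Ne.symm h)]; ring
    rw [map_mul, aeval_X, map_mul, Derivation.leibniz, smul_eq_mul, smul_eq_mul, hp,
      Finset.sum_congr rfl fun i _ => e i, Finset.sum_add_distrib, Finset.sum_ite_eq', Finset.mul_sum]
    simp [add_comm]

/-- `w` represents `dX / f_Y = -dY / f_X` -/
def IsOm (Φ : K →ₐ[k] LaurentSeries k) (f : MvPolynomial (Fin 2) k) (a b : K) (w : LaurentSeries k) : Prop :=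
  LocRes.D k (Φ a) = w * Φ (aeval ![a, b] (pderiv 1 f)) ∧
    LocRes.D k (Φ b) = -(w * Φ (aeval ![a, b] (pderiv 0 f)))

theorem D_aeval_two (Φ : K →ₐ[k] LaurentSeries k) (a b : K) (f : MvPolynomial (Fin 2) k) :
    LocRes.D k (Φ (aeval ![a, b] f)) = Φ (aeval ![a, b] (pderiv 0 f)) * LocRes.D k (Φ a) +
      Φ (aeval ![a, b] (pderiv 1 f)) * LocRes.D k (Φ b) := by
  rw [D_aeval, Fin.sum_univ_two]; rfl

theorem pderiv_swapP (f : MvPolynomial (Fin 2) k) :
    pderiv 0 (swapP f) = swapP (pderiv 1 f) ∧ pderiv 1 (swapP f) = swapP (pderiv 0 f) := by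
  induction f using MvPolynomial.induction_on with
  | C c => simp [swapP]
  | add p q hp hq => simp only [map_add, hp.1, hp.2, hq.1, hq.2, and_self]
  | mul_X p j hp =>
    simp only [map_mul, Derivation.leibniz, smul_eq_mul, hp.1, hp.2, map_add]
    constructor <;> fin_cases j <;> simp [swapP]

theorem IsOm.swap {Φ : K →ₐ[k] LaurentSeries k} {f : MvPolynomial (Fin 2) k} {a b : K} {w : LaurentSeries k}
    (h : IsOm Φ f a b w) : IsOm Φ (swapP f) b a (-w) := by
  refine ⟨?_, ?_⟩
  · rw [(pderiv_swapP f).2, aeval_swapP, neg_mul]; exact h.2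
  · rw [(pderiv_swapP f).1, aeval_swapP, neg_mul, neg_neg]; exact h.1

theorem grad_swapP (f : MvPolynomial (Fin 2) k) :
    constantCoeff (pderiv 0 (swapP f)) = constantCoeff (pderiv 1 f) ∧
      constantCoeff (pderiv 1 (swapP f)) = constantCoeff (pderiv 0 f) := by
  have hc : ∀ g : MvPolynomial (Fin 2) k, constantCoeff (swapP g) = constantCoeff g := fun g => by
    induction g using MvPolynomial.induction_on with
    | C c => simp [swapP]
    | add p q hp hq => simp [hp, hq]
    | mul_X p j _ => fin_cases j <;> simp [swapP]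
  rw [(pderiv_swapP f).1, (pderiv_swapP f).2, hc, hc]
  exact ⟨rfl, rfl⟩

/-- symmetric form -/
theorem inPt_of_grad' {P : Place k K} {a b : K} (ha : P.1 a < 1) (hb : P.1 b < 1)
    (hgen : IntermediateField.adjoin k ({a, b} : Set K) = ⊤) {f : MvPolynomial (Fin 2) k}
    (hf : aeval ![a, b] f = 0)
    (h : constantCoeff (pderiv 0 f) ≠ 0 ∨ constantCoeff (pderiv 1 f) ≠ 0) :
    ∀ z : K, P.1 z ≤ 1 → InPt P a b z := by
  rcases h with h | h
  · exact fun z hz => ((inPt_of_grad hb ha (by rwa [Set.pair_comm]) (f := swapP f) (by rwa [aeval_swapP])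
      (by rwa [(grad_swapP f).2])).2 z hz).swap
  · exact (inPt_of_grad ha hb hgen hf h).2

theorem om_nonsingular {P : Place k K} {Φ : K →ₐ[k] LaurentSeries k} (hΦ : LocRes.IsExpansionAt P.1 Φ)
    {a b : K} (ha : P.1 a < 1) (hb : P.1 b < 1)
    (hgen : IntermediateField.adjoin k ({a, b} : Set K) = ⊤) {f : MvPolynomial (Fin 2) k}
    (hf : aeval ![a, b] f = 0) (hy : constantCoeff (pderiv 1 f) ≠ 0)
    {w : LaurentSeries k} (hw : IsOm Φ f a b w) : Valued.v w = 1 := by
  have h1 : Valued.v (LocRes.D k (Φ a)) = 1 :=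
    val_D_param (by rw [hΦ.1, (inPt_of_grad ha hb hgen hf hy).1])
  rw [hw.1, map_mul, hΦ.1, val_aeval_eq_one P (two_val_lt ha hb) hy, mul_one] at h1
  exact h1

theorem pderiv_aeval_two (i : Fin 2) (v : Fin 2 → MvPolynomial (Fin 2) k) (q : MvPolynomial (Fin 2) k) :
    pderiv i (aeval v q) =
      aeval v (pderiv 0 q) * pderiv i (v 0) + aeval v (pderiv 1 q) * pderiv i (v 1) := by
  induction q using MvPolynomial.induction_on with
  | C e => rw [aeval_C, MvPolynomial.algebraMap_eq, pderiv_C, pderiv_C, pderiv_C, map_zero]; ring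
  | add p q hp hq => simp only [map_add, hp, hq]; ring
  | mul_X p j hp =>
    have l : ∀ (u : Fin 2) (x y : MvPolynomial (Fin 2) k), pderiv u (x * y) = x * pderiv u y + y * pderiv u x :=
      fun u x y => by rw [Derivation.leibniz]; rfl
    rw [map_mul, aeval_X, l, hp, l 0, l 1, map_add, map_add, map_mul, map_mul, map_mul, map_mul, aeval_X,
      pderiv_X, pderiv_X]
    fin_cases j <;> simp <;> ring

/-- all terms of degree at least two can be divided by the square of the first coordinate on the blow-up -/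
theorem exists_blowup {f : MvPolynomial (Fin 2) k}
    (h : ∀ s ∈ f.support, 2 ≤ s 0 + s 1) :
    ∃ f1 : MvPolynomial (Fin 2) k, aeval ![X 0, X 0 * X 1] f = (X 0 : MvPolynomial (Fin 2) k) ^ 2 * f1 := by
  refine ⟨∑ s ∈ f.support, C (coeff s f) * X 0 ^ (s 0 + s 1 - 2) * X 1 ^ (s 1), ?_⟩
  conv_lhs => rw [f.as_sum]
  rw [map_sum, Finset.mul_sum]
  refine Finset.sum_congr rfl fun s hs => ?_
  rw [aeval_monomial, Finsupp.prod_fintype _ _ (fun i => pow_zero _), Fin.prod_univ_two]
  simp only [Matrix.cons_val_zero, Matrix.cons_val_one, MvPolynomial.algebraMap_eq, mul_pow]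
  have e : (X 0 : MvPolynomial (Fin 2) k) ^ (s 0 + s 1) = X 0 ^ 2 * X 0 ^ (s 0 + s 1 - 2) := by
    rw [← pow_add, Nat.add_sub_cancel' (h s hs)]
  rw [pow_add] at e
  linear_combination (C (coeff s f) * X 1 ^ s 1) * e

theorem two_le_of_singular {f : MvPolynomial (Fin 2) k} (h0 : constantCoeff f = 0)
    (hx : constantCoeff (pderiv 0 f) = 0) (hy : constantCoeff (pderiv 1 f) = 0) :
    ∀ s ∈ f.support, 2 ≤ s 0 + s 1 := by
  intro s hs
  rw [mem_support_iff] at hs
  by_contra hlt
  apply hs
  have hcases : s = 0 ∨ s = Finsupp.single 0 1 ∨ s = Finsupp.single 1 1 := by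
    rcases (by omega : (s 0 = 0 ∧ s 1 = 0) ∨ (s 0 = 1 ∧ s 1 = 0) ∨ (s 0 = 0 ∧ s 1 = 1)) with ⟨h1, h2⟩ | ⟨h1, h2⟩ | ⟨h1, h2⟩
    · exact Or.inl (Finsupp.ext fun i => by fin_cases i <;> simp [h1, h2])
    · exact Or.inr (Or.inl (Finsupp.ext fun i => by fin_cases i <;> simp [h1, h2]))
    · exact Or.inr (Or.inr (Finsupp.ext fun i => by fin_cases i <;> simp [h1, h2]))
  rw [constantCoeff_eq] at h0 hx hy
  rw [coeff_pderiv] at hx hy
  rcases hcases with rfl | rfl | rfl
  · exact h0
  · simpa using hx
  · simpa using hy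

/-- the order of `dX / f_Y` at a finite place: zero exactly when the point is nonsingular -/
theorem om_val [IsAlgClosed k] (hK : IsFunctionField k K) {P : Place k K}
    {Φ : K →ₐ[k] LaurentSeries k} (hΦ : LocRes.IsExpansionAt P.1 Φ) (N : ℕ) :
    ∀ (f : MvPolynomial (Fin 2) k) (a b : K) (w : LaurentSeries k), P.1 a < 1 → P.1 b < 1 →
      IntermediateField.adjoin k ({a, b} : Set K) = ⊤ → aeval ![a, b] f = 0 → w ≠ 0 →
      IsOm Φ f a b w →
      exp (-(N : ℤ)) ≤ max (P.1 (aeval ![a, b] (pderiv 0 f))) (P.1 (aeval ![a, b] (pderiv 1 f))) →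
      1 ≤ Valued.v w ∧ (Valued.v w = 1 ↔
        constantCoeff (pderiv 0 f) ≠ 0 ∨ constantCoeff (pderiv 1 f) ≠ 0) := by
  induction N using Nat.strong_induction_on with
  | _ N ih =>
    intro f a b w ha hb hgen hf hw0 hw hN
    by_cases hns : constantCoeff (pderiv 0 f) ≠ 0 ∨ constantCoeff (pderiv 1 f) ≠ 0
    · have h1 : Valued.v w = 1 := by
        rcases hns with h | h
        · have := om_nonsingular hΦ hb ha (by rwa [Set.pair_comm]) (f := swapP f) (by rwa [aeval_swapP])
            (by rwa [(grad_swapP f).2]) hw.swap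
          rwa [Valuation.map_neg] at this
        · exact om_nonsingular hΦ ha hb hgen hf h hw
      exact ⟨h1.ge, by simp only [h1, true_iff]; exact hns⟩
    simp only [not_or, not_not] at hns
    wlog hle : P.1 b ≤ P.1 a generalizing f a b w
    · have := this (swapP f) b a (-w) hb ha (by rwa [Set.pair_comm]) (by rwa [aeval_swapP]) (neg_ne_zero.2 hw0)
        hw.swap (by rwa [(pderiv_swapP f).1, (pderiv_swapP f).2, aeval_swapP, aeval_swapP, max_comm])
        ⟨by rw [(grad_swapP f).1]; exact hns.2, by rw [(grad_swapP f).2]; exact hns.1⟩ (le_of_not_ge hle)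
      rw [Valuation.map_neg, (grad_swapP f).1, (grad_swapP f).2, Or.comm] at this
      exact this
    suffices 1 < Valued.v w from ⟨this.le, iff_of_false this.ne' (by simp [hns])⟩
    have ha0 : a ≠ 0 := fun h0 => by
      rw [h0, map_zero, le_zero_iff, Valuation.zero_iff] at hle
      have : IntermediateField.adjoin k ({a, b} : Set K) ≤ ⊥ :=
        IntermediateField.adjoin_le_iff.2 (by rintro v (rfl | rfl) <;> simp [h0, hle])
      obtain ⟨u, hu⟩ := exists_transcendental hK
      obtain ⟨c, hc⟩ := IntermediateField.mem_bot.1 (this (hgen ▸ IntermediateField.mem_top : u ∈ _))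
      exact hu (hc ▸ isAlgebraic_algebraMap c)
    have hf0 : constantCoeff f = 0 := constantCoeff_eq_zero P (two_val_lt ha hb) (by simp [hf])
    obtain ⟨f1, hf1⟩ := exists_blowup (two_le_of_singular hf0 hns.1 hns.2)
    obtain ⟨c, hc⟩ := exists_const hK P (y := b / a) (by rw [map_div₀]; exact div_le_one_of_le₀ hle zero_le)
    set b1 := b / a - algebraMap k K c with hb1
    clear_value b1
    set g : MvPolynomial (Fin 2) k := aeval ![X 0, X 1 + C c] f1 with hg
    have hid : aeval ![X 0, X 0 * (X 1 + C c)] f = (X 0 : MvPolynomial (Fin 2) k) ^ 2 * g := by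
      have := congrArg (aeval (![X 0, X 1 + C c] : Fin 2 → MvPolynomial (Fin 2) k)) hf1
      rw [map_mul, map_pow, aeval_X, comp_aeval_apply] at this
      convert this using 2
      · congr 1
        funext i; fin_cases i <;> simp
      · simp
    have hba : b = a * (b1 + algebraMap k K c) := by rw [hb1]; field_simp; ring
    have hsub : ∀ q : MvPolynomial (Fin 2) k,
        aeval ![a, b1] (aeval ![X 0, X 0 * (X 1 + C c)] q) = aeval ![a, b] q := fun q => by
      rw [comp_aeval_apply]
      congr 1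
      refine MvPolynomial.algHom_ext fun i => ?_
      fin_cases i <;> simp [hba]
    have hg0 : aeval ![a, b1] g = 0 := by
      have := hsub f
      rw [hid, hf, map_mul, map_pow, aeval_X] at this
      exact (mul_eq_zero.1 this).resolve_left (pow_ne_zero _ (by simpa using ha0))
    have hgen1 : IntermediateField.adjoin k ({a, b1} : Set K) = ⊤ := by
      rw [eq_top_iff, ← hgen, IntermediateField.adjoin_le_iff]
      have hA : a ∈ IntermediateField.adjoin k ({a, b1} : Set K) :=
        IntermediateField.subset_adjoin k _ (Set.mem_insert _ _)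
      rintro v (rfl | rfl)
      · exact hA
      · rw [hba]
        exact mul_mem hA (add_mem (IntermediateField.subset_adjoin k _ (Set.mem_insert_of_mem _ rfl))
          (IntermediateField.algebraMap_mem _ c))
    -- derivatives through the chain rule for polynomials
    have hd : ∀ i, pderiv i (aeval ![X 0, X 0 * (X 1 + C c)] f) =
        aeval ![X 0, X 0 * (X 1 + C c)] (pderiv 0 f) * pderiv i (X 0 : MvPolynomial (Fin 2) k) +
          aeval ![X 0, X 0 * (X 1 + C c)] (pderiv 1 f) * pderiv i (X 0 * (X 1 + C c)) := fun i =>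
      pderiv_aeval_two i (![X 0, X 0 * (X 1 + C c)]) f
    have e1 := congrArg (aeval ![a, b1]) (hd 1)
    have e0 := congrArg (aeval ![a, b1]) (hd 0)
    rw [hid] at e1 e0
    simp [-MvPolynomial.aeval_eq_bind₁, Derivation.leibniz, hsub, hg0] at e1 e0
    set A := aeval ![a, b] (pderiv 0 f)
    set B := aeval ![a, b] (pderiv 1 f)
    set A1 := aeval ![a, b1] (pderiv 0 g)
    set B1 := aeval ![a, b1] (pderiv 1 g)
    have hB : B = a * B1 := by
      apply mul_left_cancel₀ ha0
      linear_combination -e1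
    have hA : A = a ^ 2 * A1 - (b1 + algebraMap k K c) * (a * B1) := by
      rw [← hB]; linear_combination -e0
    have hDb : LocRes.D k (Φ b) = (Φ b1 + Φ (algebraMap k K c)) * LocRes.D k (Φ a) +
        Φ a * LocRes.D k (Φ b1) := by
      rw [hba, map_mul, map_add, Derivation.leibniz, map_add, LocRes.map_algebraMap, LocRes.D_apply,
        LocRes.D_apply, LocRes.D_apply, LocRes.derivative_C, smul_eq_mul, smul_eq_mul]
      ring
    set w1 := w * Φ a with hw1
    have hPa : Φ a ≠ 0 := (map_ne_zero_iff _ Φ.toRingHom.injective).2 ha0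
    have hom : IsOm Φ g a b1 w1 := by
      constructor
      · rw [hw.1, hw1]
        change w * Φ B = _
        rw [hB, map_mul]; ring
      · apply mul_left_cancel₀ hPa
        have h2 := hw.2
        change LocRes.D k (Φ b) = -(w * Φ A) at h2
        rw [hDb, hw.1] at h2
        change _ * (w * Φ B) + _ = _ at h2
        rw [hB, hA, map_mul, map_sub, map_mul, map_pow, map_mul, map_add, map_mul] at h2
        change Φ a * LocRes.D k (Φ b1) = Φ a * -(w1 * Φ A1)
        rw [hw1]
        linear_combination h2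
    -- the measure drops
    have hval : max (P.1 A) (P.1 B) ≤ P.1 a * max (P.1 A1) (P.1 B1) := by
      refine max_le ?_ ?_
      · rw [hA]
        refine (P.1.map_sub _ _).trans (max_le ?_ ?_)
        · rw [map_mul, map_pow, sq, mul_assoc]
          exact mul_le_mul' le_rfl ((mul_le_of_le_one_left' ha.le).trans (le_max_left _ _))
        · rw [map_mul, map_mul]
          refine (mul_le_of_le_one_left' ?_).trans (mul_le_mul' le_rfl (le_max_right _ _))
          rw [hb1, sub_add_cancel, map_div₀]
          exact div_le_one_of_le₀ hle zero_le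
      · rw [hB, map_mul]; exact mul_le_mul' le_rfl (le_max_right _ _)
    rcases Nat.eq_zero_or_pos N with rfl | hNpos
    · exfalso
      have h0 : P.1 A < 1 := by
        have := val_aeval_sub_const P (two_val_lt ha hb) (pderiv 0 f)
        rwa [hns.1, map_zero, sub_zero] at this
      have h1 : P.1 B < 1 := by
        have := val_aeval_sub_const P (two_val_lt ha hb) (pderiv 1 f)
        rwa [hns.2, map_zero, sub_zero] at this
      rw [Nat.cast_zero, neg_zero, exp_zero] at hN
      exact absurd hN (not_le.2 (max_lt h0 h1))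
    have hN' : exp (-((N - 1 : ℕ) : ℤ)) ≤ max (P.1 A1) (P.1 B1) := by
      have h3 := (hN.trans hval).trans (mul_le_mul' ((lt_one_iff_le P a).1 ha) le_rfl)
      rw [show (-(N : ℤ)) = -1 + -((N - 1 : ℕ) : ℤ) by omega, exp_add] at h3
      exact le_of_mul_le_mul_left h3 (zero_lt_iff.2 exp_ne_zero)
    have := (ih (N - 1) (by omega) g a b1 w1 ha hc hgen1 hg0 (mul_ne_zero hw0 hPa) hom hN').1
    rw [hw1, map_mul, hΦ.1] at this
    by_contra hcon
    exact absurd (this.trans_lt ((mul_le_of_le_one_left' (not_lt.1 hcon)).trans_lt ha)) (lt_irrefl _)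

end Groth.Agent.FunFldLib
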