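import Groth.Agent.FunFldLib.Cor

/-! At most one rational subfield of index two in genus at least two. -/

set_option autoImplicit false

open WithZero Polynomial

namespace Groth.Agent.FunFldLib

open FunFld

variable {k K : Type*} [Field k] [Field K] [Algebra k K]

theorem adjoin_le_of_index_two (hK : IsFunctionField k K) (hg : 2 ≤ genus k K) {x x' : K}
    (hx : Module.finrank (IntermediateField.adjoin k ({x} : Set K)) K = 2)
    (hx' : Module.finrank (IntermediateField.adjoin k ({x'} : Set K)) K = 2) :
    x' ∈ IntermediateField.adjoin k ({x} : Set K) := by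
  classical
  have htr : ∀ z : K, Module.finrank (IntermediateField.adjoin k ({z} : Set K)) K = 2 → Transcendental k z := by
    intro z hz halg
    obtain ⟨c, rfl⟩ := hK.2 z halg
    rw [IntermediateField.adjoin_simple_eq_bot_iff.2 (IntermediateField.algebraMap_mem _ c)] at hz
    haveI : FiniteDimensional (⊥ : IntermediateField k K) K := Module.finite_of_finrank_eq_succ hz
    haveI : FiniteDimensional k K := Module.Finite.trans (⊥ : IntermediateField k K) K
    obtain ⟨w, hw, -⟩ := hK.1
    exact hw (Algebra.IsAlgebraic.isAlgebraic w)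
  have hT := htr x hx
  have hT' := htr x' hx'
  by_contra hmem
  set D : Divisor k K := (-FunFld.div k x) ⊔ 0 with hDdef
  set D' : Divisor k K := (-FunFld.div k x') ⊔ 0 with hD'def
  have hD : D.deg = 2 := by rw [hDdef, deg_poles hK.1 hT, hx]; rfl
  have hD' : D'.deg = 2 := by rw [hD'def, deg_poles hK.1 hT', hx']; rfl
  set m := genus k K with hm
  set E : Divisor k K := m • D + D' with hE
  have hEdeg : E.deg = 2 * (m : ℤ) + 2 := by rw [hE, deg_add, deg_nsmul, hD, hD']; ring
  have hpole : ∀ (z : K) (P : Place k K), P.1 z ≤ exp (((-FunFld.div k z) ⊔ 0 : Divisor k K) P) := fun z P => by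
    rcases eq_or_ne z 0 with rfl | hz
    · rw [map_zero]; exact zero_le
    rw [val_eq_exp P hz, exp_le_exp, Finsupp.sup_apply, Finsupp.neg_apply, div_apply hK.1]
    exact le_max_left _ _
  have hnn : ∀ (z : K) (P : Place k K), 0 ≤ ((-FunFld.div k z) ⊔ 0 : Divisor k K) P := fun z P => by
    rw [Finsupp.sup_apply, Finsupp.zero_apply]; exact le_max_right _ _
  have hmemL : ∀ (i j : ℕ), i ≤ m → j ≤ 1 → x ^ i * x' ^ j ∈ L E := fun i j hi hj P => by
    rw [map_mul, map_pow, map_pow, hE, Finsupp.add_apply, Finsupp.smul_apply, nsmul_eq_mul, exp_add]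
    refine mul_le_mul' ((pow_le_pow_left₀ zero_le (hpole x P) i).trans ?_)
      ((pow_le_pow_left₀ zero_le (hpole x' P) j).trans ?_) <;> rw [← exp_nsmul, exp_le_exp, nsmul_eq_mul]
    · exact mul_le_mul_of_nonneg_right (by exact_mod_cast hi) (hnn x P)
    · calc _ ≤ (1 : ℤ) * D' P := mul_le_mul_of_nonneg_right (by exact_mod_cast hj) (hnn x' P)
        _ = _ := one_mul _
  let v : Fin (m + 1) ⊕ Fin (m + 1) → K := Sum.elim (fun i => x ^ (i : ℕ)) (fun i => x ^ (i : ℕ) * x')
  have hv : LinearIndependent k v := by
    rw [Fintype.linearIndependent_iff]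
    intro c hc
    rw [Fintype.sum_sum_type] at hc
    set a : k[X] := ∑ i : Fin (m + 1), C (c (.inl i)) * X ^ (i : ℕ) with ha
    set b : k[X] := ∑ i : Fin (m + 1), C (c (.inr i)) * X ^ (i : ℕ) with hb
    have hae : aeval x a + aeval x b * x' = 0 := by
      rw [← hc, ha, hb, map_sum, map_sum, Finset.sum_mul]
      simp [v, Algebra.smul_def, mul_assoc]
    have hb0 : b = 0 := by
      by_contra hne
      have hbx : aeval x b ≠ 0 := fun h => hne (transcendental_iff_injective.1 hT (h.trans (map_zero _).symm))
      refine hmem ((IntermediateField.mem_adjoin_simple_iff k x').2 ⟨-a, b, ?_⟩)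
      rw [map_neg, eq_div_iff hbx]
      linear_combination hae
    rw [hb0, map_zero, zero_mul, add_zero] at hae
    have ha0 : a = 0 := transcendental_iff_injective.1 hT (hae.trans (map_zero _).symm)
    have hcoef : ∀ (g : Fin (m + 1) → k) (i : Fin (m + 1)),
        (∑ l : Fin (m + 1), C (g l) * X ^ (l : ℕ)).coeff i = g i := fun g i => by
      rw [finsetSum_coeff, Finset.sum_eq_single i]
      · simp
      · intro l _ hl
        rw [coeff_C_mul, coeff_X_pow, if_neg (fun h => hl (Fin.ext h.symm)), mul_zero]
      · simp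
    rintro (i | i)
    · have := hcoef (fun l => c (.inl l)) i; rw [← ha, ha0, coeff_zero] at this; exact this.symm
    · have := hcoef (fun l => c (.inr l)) i; rw [← hb, hb0, coeff_zero] at this; exact this.symm
  have hvL : ∀ s, v s ∈ L E := by
    rintro (i | i)
    · simpa [v] using hmemL i 0 (Fin.is_le i) (by norm_num)
    · simpa [v] using hmemL i 1 (Fin.is_le i) le_rfl
  haveI := finite_L hK.1 E
  have hli : LinearIndependent k (fun s => (⟨v s, hvL s⟩ : L E)) := LinearIndependent.of_comp (L E).subtype hv
  have hle := hli.fintype_card_le_finrank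
  simp only [Fintype.card_sum, Fintype.card_fin] at hle
  have hrr := ell_large hK (D := E) (by rw [hEdeg, hm]; omega)
  rw [hEdeg] at hrr
  simp only [ell] at hrr
  omega

theorem adjoin_eq_of_index_two (hK : IsFunctionField k K) (hg : 2 ≤ genus k K) {x x' : K}
    (hx : Module.finrank (IntermediateField.adjoin k ({x} : Set K)) K = 2)
    (hx' : Module.finrank (IntermediateField.adjoin k ({x'} : Set K)) K = 2) :
    IntermediateField.adjoin k ({x} : Set K) = IntermediateField.adjoin k ({x'} : Set K) :=
  le_antisymm (IntermediateField.adjoin_simple_le_iff.2 (adjoin_le_of_index_two hK hg hx' hx))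
    (IntermediateField.adjoin_simple_le_iff.2 (adjoin_le_of_index_two hK hg hx hx'))

end Groth.Agent.FunFldLib
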