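import Groth.Agent.FunFldLib.FundEq
import Groth.Agent.FunFldLib.QuadPlace

/-! Ramification groups of a place in a Galois extension. -/

set_option autoImplicit false

open WithZero Polynomial

namespace Groth.Agent.FunFldLib

open FunFld IsLocalRing

variable {k K K' : Type*} [Field k] [Field K] [Field K'] [Algebra k K] [Algebra K K'] [Algebra k K']
  [IsScalarTower k K K']

/-- `σ` moves integral elements by at most `exp (-j)` -/
def InG (Q : Place k K') (j : ℕ) (σ : K' ≃ₐ[K] K') : Prop :=
  ∀ x : K', Q.1 x ≤ 1 → Q.1 (σ x - x) ≤ exp (-(j : ℤ))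

variable {Q : Place k K'}

theorem InG.mono {i j : ℕ} {σ : K' ≃ₐ[K] K'} (h : InG Q j σ) (hij : i ≤ j) : InG Q i σ :=
  fun x hx => (h x hx).trans (exp_le_exp.2 (by omega))

theorem InG.twist_eq {j : ℕ} {σ : K' ≃ₐ[K] K'} (h : InG Q j σ) : twist σ Q = Q := by
  refine (eq_of_forall_le_one fun x hx => ?_).symm
  rw [twist_val, show σ x = (σ x - x) + x by ring]
  refine Valuation.map_add_le _ ((h x hx).trans ?_) hx
  rw [← exp_zero, exp_le_exp]; omega

theorem InG.val_apply {j : ℕ} {σ : K' ≃ₐ[K] K'} (h : InG Q j σ) (x : K') : Q.1 (σ x) = Q.1 x := by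
  rw [← twist_val, h.twist_eq]

theorem InG.val_sub_le {j : ℕ} {σ : K' ≃ₐ[K] K'} (h : InG Q j σ) (hj : 1 ≤ j) :
    ∀ (i : ℕ), 1 ≤ i → ∀ z : K', Q.1 z ≤ exp (-(i : ℤ)) → Q.1 (σ z - z) ≤ exp (-((i : ℤ) + j - 1)) := by
  intro i hi
  obtain ⟨t, ht0, ht⟩ := exists_val_eq Q (-1)
  induction i, hi using Nat.le_induction with
  | base =>
    intro z hz
    refine (h z (hz.trans ?_)).trans (exp_le_exp.2 (by omega))
    rw [← exp_zero, exp_le_exp]; omega
  | succ n hn ih =>
    intro z hz
    obtain ⟨w, rfl⟩ : ∃ w, z = t * w := ⟨z / t, (mul_div_cancel₀ _ ht0).symm⟩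
    have hw : Q.1 w ≤ exp (-(n : ℤ)) := by
      rw [map_mul, ht] at hz
      refine le_of_mul_le_mul_left ?_ (exp_pos (a := (-1 : ℤ)))
      refine hz.trans ?_
      rw [← exp_add, exp_le_exp]; push_cast; omega
    rw [map_mul, show σ t * σ w - t * w = (σ t - t) * σ w + t * (σ w - w) by ring]
    refine Valuation.map_add_le _ ?_ ?_
    · rw [map_mul, h.val_apply w]
      refine (mul_le_mul' (h t ?_) hw).trans ?_
      · rw [ht, ← exp_zero, exp_le_exp]; omega
      · rw [← exp_add, exp_le_exp]; push_cast; omega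
    · rw [map_mul, ht]
      refine (mul_le_mul' le_rfl (ih w hw)).trans ?_
      rw [← exp_add, exp_le_exp]; push_cast; omega

theorem InG.mul {j : ℕ} {σ τ : K' ≃ₐ[K] K'} (hσ : InG Q j σ) (hτ : InG Q j τ) : InG Q j (σ * τ) := fun x hx => by
  rw [AlgEquiv.mul_apply, show σ (τ x) - x = σ (τ x - x) + (σ x - x) by rw [map_sub]; ring]
  exact Valuation.map_add_le _ ((hσ.val_apply _).trans_le (hτ x hx)) (hσ x hx)

theorem InG.inv {j : ℕ} {σ : K' ≃ₐ[K] K'} (hσ : InG Q j σ) : InG Q j σ⁻¹ := fun x hx => by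
  have h1 : σ (σ⁻¹ x) = x := σ.apply_symm_apply x
  have h2 : Q.1 (σ⁻¹ x) ≤ 1 := by rw [← hσ.val_apply, h1]; exact hx
  have := hσ _ h2
  rw [h1] at this
  rwa [← Valuation.map_neg, neg_sub]

theorem InG.of_param [Algebra.IsSeparable k (ResidueField Q.O)] (hK' : IsFF k K') {σ : K' ≃ₐ[K] K'}
    (hσ : InG Q 1 σ) {t : K'} (ht : Q.1 t = exp (-1)) {j : ℕ} (hj : 1 ≤ j)
    (htj : Q.1 (σ t - t) ≤ exp (-(j : ℤ))) : InG Q j σ := by
  induction j, hj using Nat.le_induction with
  | base => exact hσ
  | succ n hn ih =>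
    have hn' := ih (htj.trans (exp_le_exp.2 (by omega)))
    haveI := finite_residue hK' Q
    have ht0 : t ≠ 0 := fun h => by rw [h, map_zero] at ht; exact exp_ne_zero ht.symm
    have hmax : ∀ y : K', Q.1 y < 1 → Q.1 (σ y - y) ≤ exp (-((n + 1 : ℕ) : ℤ)) := fun y hy => by
      obtain ⟨u, rfl⟩ : ∃ u, y = t * u := ⟨y / t, (mul_div_cancel₀ _ ht0).symm⟩
      have hu : Q.1 u ≤ 1 := by
        rcases eq_or_ne u 0 with h0 | h0
        · rw [h0, map_zero]; exact zero_le
        have := (val_lt_one_iff Q (mul_ne_zero ht0 h0)).1 hy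
        rw [ord_mul Q ht0 h0, show Q.ord t = 1 by simp [Place.ord, ht]] at this
        rw [val_le_one_iff Q h0]; omega
      rw [map_mul, show σ t * σ u - t * u = (σ t - t) * σ u + t * (σ u - u) by ring]
      refine Valuation.map_add_le _ ?_ ?_
      · rw [map_mul, hn'.val_apply u]
        exact (mul_le_of_le_one_right' hu).trans htj
      · rw [map_mul, ht]
        refine (mul_le_mul' le_rfl (hn' u hu)).trans ?_
        rw [← exp_add, exp_le_exp]; push_cast; omega
    intro x hx
    set xO : Q.O := ⟨x, (Valuation.mem_valuationSubring_iff Q.1 x).2 hx⟩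
    set r := residue Q.O xO
    set p := minpoly k r
    set P := p.map (algebraMap k Q.O)
    have hPx : residue Q.O (P.eval xO) = 0 := by
      rw [← eval₂_at_apply, ← eval_map, Polynomial.map_map]
      exact (eval_map_algebraMap _ _).trans (minpoly.aeval k r)
    have hPd : residue Q.O ((derivative P).eval xO) ≠ 0 := by
      rw [← eval₂_at_apply, ← eval_map, derivative_map, Polynomial.map_map]
      rw [show (residue Q.O).comp (algebraMap k Q.O) = algebraMap k (ResidueField Q.O) from rfl, eval_map_algebraMap]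
      exact (Algebra.IsSeparable.isSeparable k r).aeval_derivative_ne_zero (minpoly.aeval k r)
    set y : K' := ((P.eval xO : Q.O) : K')
    have hy : Q.1 y < 1 := (residue_eq_zero_iff_val Q _).1 hPx
    have hδO : Q.1 (σ x - x) ≤ 1 := (hσ x hx).trans (by rw [← exp_zero, exp_le_exp]; norm_num)
    set δ : Q.O := ⟨σ x - x, (Valuation.mem_valuationSubring_iff Q.1 _).2 hδO⟩
    obtain ⟨c, hc⟩ := Polynomial.binomExpansion P xO δ
    have hev : σ y = ((P.eval (xO + δ) : Q.O) : K') := by
      have h1 : ∀ z : Q.O, ((P.eval z : Q.O) : K') = aeval (z : K') p := fun z => by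
        show Q.O.subtype (P.eval z) = _
        rw [← eval₂_at_apply, ← eval_map, Polynomial.map_map]
        exact eval_map_algebraMap p _
      show σ ((P.eval xO : Q.O) : K') = _
      rw [h1, h1]
      show σ (aeval x p) = aeval (x + (σ x - x)) p
      rw [add_sub_cancel]
      exact (aeval_algHom_apply (σ.restrictScalars k) x p).symm
    rw [hc] at hev
    have hunit : Q.1 ((((derivative P).eval xO : Q.O)) : K') = 1 :=
      le_antisymm ((Valuation.mem_valuationSubring_iff Q.1 _).1 ((derivative P).eval xO).2)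
        (not_lt.1 fun h => hPd ((residue_eq_zero_iff_val Q _).2 h))
    have heq : (((derivative P).eval xO : Q.O) : K') * (σ x - x) = (σ y - y) + -((c : K') * (σ x - x) ^ 2) := by
      rw [hev]; push_cast; ring
    have hbound : Q.1 ((((derivative P).eval xO : Q.O) : K') * (σ x - x)) ≤ exp (-((n + 1 : ℕ) : ℤ)) := by
      rw [heq]
      refine Valuation.map_add_le _ (hmax y hy) ?_
      rw [Valuation.map_neg, map_mul, map_pow]
      refine (mul_le_of_le_one_left' ((Valuation.mem_valuationSubring_iff Q.1 _).1 c.2)).trans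
        ((pow_le_pow_left₀ zero_le (hn' x hx) 2).trans ?_)
      rw [← exp_nsmul, exp_le_exp, nsmul_eq_mul]; push_cast; omega
    rwa [map_mul, hunit, one_mul] at hbound

theorem inertia_iff {σ : K' ≃ₐ[K] K'} :
    σ ∈ (Q.O.inertiaSubgroup K).map (Q.O.decompositionSubgroup K).subtype ↔ InG Q 1 σ := by
  constructor
  · rintro ⟨g, hg, rfl⟩ x hx
    have h := DFunLike.congr_fun (MonoidHom.mem_ker.1 hg) (residue Q.O ⟨x, (Valuation.mem_valuationSubring_iff Q.1 x).2 hx⟩)
    have h' : residue Q.O (g • (⟨x, (Valuation.mem_valuationSubring_iff Q.1 x).2 hx⟩ : Q.O)) =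
        residue Q.O ⟨x, (Valuation.mem_valuationSubring_iff Q.1 x).2 hx⟩ := h
    rw [← sub_eq_zero, ← map_sub, residue_eq_zero_iff_val] at h'
    exact (lt_exp_iff_le Q _ 0).1 (h'.trans_eq exp_zero.symm)
  · intro h
    refine ⟨⟨σ, twist_eq_of_mem_decomposition.2 h.twist_eq⟩, MonoidHom.mem_ker.2 (RingEquiv.ext fun r => ?_), rfl⟩
    obtain ⟨z, rfl⟩ := residue_surjective r
    show residue Q.O ((⟨σ, twist_eq_of_mem_decomposition.2 h.twist_eq⟩ : Q.O.decompositionSubgroup K) • z) = residue Q.O z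
    rw [← sub_eq_zero, ← map_sub, residue_eq_zero_iff_val]
    exact (h _ ((Valuation.mem_valuationSubring_iff Q.1 _).1 z.2)).trans_lt (by rw [← exp_zero, exp_lt_exp]; norm_num)

theorem fixed_residue [FiniteDimensional K K'] [IsGalois K K'] (hK : IsFF k K) {P : Place k K} {e : ℕ}
    (he : IsOverWith Q P e) [Algebra.IsSeparable k (ResidueField Q.O)] {r : ResidueField Q.O}
    (hr : ∀ g : Q.O.decompositionSubgroup K, g • r = r) : r ∈ (resMap he).fieldRange := by
  classical
  rcases eq_or_ne r 0 with rfl | hr0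
  · exact zero_mem _
  obtain ⟨z, hz⟩ := residue_surjective r
  have hzv : Q.1 (z : K') ≤ 1 := (Valuation.mem_valuationSubring_iff Q.1 _).1 z.2
  set S : Finset (Place k K') := Finset.univ.image fun σ : K' ≃ₐ[K] K' => twist σ Q
  obtain ⟨w, hw⟩ := exists_approx S (fun R => if R = Q then (z : K') else 0) (fun _ => -1)
  have hlt : (exp (-1 : ℤ) : WithZero (Multiplicative ℤ)) < 1 := by rw [← exp_zero, exp_lt_exp]; norm_num
  have hmem : ∀ σ : K' ≃ₐ[K] K', twist σ Q ∈ S := fun σ => Finset.mem_image_of_mem _ (Finset.mem_univ σ)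
  have hwQ : Q.1 (w - z) < 1 := by
    have := hw Q (by simpa [twist_one] using hmem 1)
    rw [if_pos rfl] at this
    exact this.trans_lt hlt
  have hσw : ∀ σ : K' ≃ₐ[K] K', ∃ v : Q.O, (v : K') = σ w ∧ (residue Q.O v = r ∨ residue Q.O v = 0) := by
    intro σ
    by_cases hσ : twist σ Q = Q
    · have h1 : Q.1 (σ w) ≤ 1 := by
        rw [← twist_val, hσ, show w = (w - z) + z by ring]
        exact Valuation.map_add_le _ hwQ.le hzv
      refine ⟨⟨σ w, (Valuation.mem_valuationSubring_iff Q.1 _).2 h1⟩, rfl, Or.inl ?_⟩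
      have h2 := hr ⟨σ, twist_eq_of_mem_decomposition.2 hσ⟩
      rw [← hz, ← ResidueField.residue_smul, hz] at h2
      rw [← h2, ← sub_eq_zero, ← map_sub, residue_eq_zero_iff_val]
      show Q.1 (σ w - σ z) < 1
      rw [← map_sub, ← twist_val, hσ]; exact hwQ
    · have h1 : Q.1 (σ w) < 1 := by
        have := hw _ (hmem σ)
        rw [if_neg hσ, sub_zero] at this
        exact this.trans_lt hlt
      exact ⟨⟨σ w, (Valuation.mem_valuationSubring_iff Q.1 _).2 h1.le⟩, rfl,
        Or.inr ((residue_eq_zero_iff_val Q _).2 h1)⟩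
  choose v hv hvr using hσw
  set g : Polynomial Q.O := ∏ σ : K' ≃ₐ[K] K', (X - C (v σ))
  set gb : Polynomial (ResidueField Q.O) := g.map (residue Q.O)
  have hcoef : ∀ i, gb.coeff i ∈ (resMap he).fieldRange := fun i => by
    have hg : g.map Q.O.subtype = ∏ σ : K' ≃ₐ[K] K', (X - C (σ w)) := by
      rw [Polynomial.map_prod]
      exact Finset.prod_congr rfl fun σ _ => by rw [Polynomial.map_sub, map_X, map_C]; simp [hv]
    obtain ⟨a, ha⟩ : ((g.coeff i : Q.O) : K') ∈ Set.range (algebraMap K K') := by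
      rw [IsGalois.mem_range_algebraMap_iff_fixed]
      intro τ
      have h1 : (g.map Q.O.subtype).map (τ : K' →+* K') = g.map Q.O.subtype := by
        rw [hg, Polynomial.map_prod]
        exact Fintype.prod_equiv (Equiv.mulLeft τ) _ _ fun σ => by rw [Polynomial.map_sub, map_X, map_C]; rfl
      have h2 := congrArg (fun q => Polynomial.coeff q i) h1
      rwa [coeff_map, coeff_map] at h2
    have ha1 : P.1 a ≤ 1 := by
      have h1 := (Valuation.mem_valuationSubring_iff Q.1 _).1 (g.coeff i).2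
      rw [← ha, he] at h1
      exact (pow_le_one_iff (Nat.one_le_iff_ne_zero.1 (isOverWith_pos he))).1 h1
    refine ⟨residue P.O ⟨a, (Valuation.mem_valuationSubring_iff P.1 _).2 ha1⟩, ?_⟩
    rw [coeff_map]
    exact congrArg (residue Q.O) (Subtype.ext ha)
  have hgb : gb = ∏ σ : K' ≃ₐ[K] K', (X - C (residue Q.O (v σ))) := by
    simp [gb, g, Polynomial.map_prod]
  have hroot : gb.IsRoot r := by
    rw [hgb, IsRoot, eval_prod]
    refine Finset.prod_eq_zero (Finset.mem_univ 1) ?_
    rw [eval_sub, eval_X, eval_C, sub_eq_zero, ← hz, ← sub_eq_zero, ← map_sub, residue_eq_zero_iff_val]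
    show Q.1 ((z : K') - v 1) < 1
    rw [hv, Valuation.map_sub_swap]; exact hwQ
  set L := (resMap he).fieldRange
  obtain ⟨q, hq⟩ := (lifts_iff_coeff_lifts (f := algebraMap L (ResidueField Q.O)) gb).2 fun i => ⟨⟨_, hcoef i⟩, rfl⟩
  haveI := finite_residue (isFF_extension (K' := K') hK) Q
  haveI : Algebra.IsSeparable L (ResidueField Q.O) := Algebra.isSeparable_tower_top_of_isSeparable k L _
  set m := minpoly L r
  have hdvd : m.map (algebraMap L (ResidueField Q.O)) ∣ gb := by
    rw [← hq]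
    refine Polynomial.map_dvd _ (minpoly.dvd L r ?_)
    rw [← eval_map_algebraMap, ← coe_mapRingHom, hq]; exact hroot
  have hm0 : m ≠ 0 := minpoly.ne_zero (Algebra.IsIntegral.isIntegral r)
  have hgb0 : gb ≠ 0 := hgb ▸ Finset.prod_ne_zero_iff.2 fun σ _ => X_sub_C_ne_zero _
  have hs : (m.map (algebraMap L (ResidueField Q.O))).Splits :=
    Splits.of_dvd (hgb ▸ Splits.prod fun σ _ => Splits.X_sub_C _) hgb0 hdvd
  have hnd : (m.map (algebraMap L (ResidueField Q.O))).roots.Nodup :=
    nodup_roots (Polynomial.Separable.map (Algebra.IsSeparable.isSeparable L r))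
  have hsub : ∀ a ∈ (m.map (algebraMap L (ResidueField Q.O))).roots, a = r := fun a ha => by
    rw [mem_roots (map_ne_zero hm0)] at ha
    have h1 := ha.dvd hdvd
    rw [hgb, IsRoot, eval_prod, Finset.prod_eq_zero_iff] at h1
    obtain ⟨σ, -, h2⟩ := h1
    rw [eval_sub, eval_X, eval_C, sub_eq_zero] at h2
    rcases hvr σ with h | h
    · rw [h2, h]
    · exfalso
      rw [h2, h, IsRoot, ← coeff_zero_eq_eval_zero, coeff_map, _root_.map_eq_zero] at ha
      exact minpoly.coeff_zero_ne_zero (Algebra.IsIntegral.isIntegral r) hr0 ha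
  have hcard : (m.map (algebraMap L (ResidueField Q.O))).roots.card ≤ 1 := by
    rw [← Multiset.toFinset_card_of_nodup hnd]
    exact Finset.card_le_one.2 fun a ha b hb =>
      (hsub a (Multiset.mem_toFinset.1 ha)).trans (hsub b (Multiset.mem_toFinset.1 hb)).symm
  rw [← hs.natDegree_eq_card_roots, natDegree_map] at hcard
  have hdeg : m.natDegree = 1 := le_antisymm hcard (minpoly.natDegree_pos (Algebra.IsIntegral.isIntegral r))
  obtain ⟨⟨a, ha⟩, hra⟩ := minpoly.natDegree_eq_one_iff.1 hdeg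
  exact hra ▸ ha

set_option backward.isDefEq.respectTransparency false in
theorem card_inertia [FiniteDimensional K K'] [IsGalois K K'] (hK : IsFF k K) {P : Place k K} {e : ℕ}
    (he : IsOverWith Q P e) [Algebra.IsSeparable k (ResidueField Q.O)] :
    Nat.card (Q.O.inertiaSubgroup K) = e := by
  classical
  haveI := finite_residue (isFF_extension (K' := K') hK) Q
  haveI := finite_residue hK P
  let φ : Q.O.decompositionSubgroup K →* (ResidueField Q.O ≃ₐ[k] ResidueField Q.O) :=
    { toFun := fun g => AlgEquiv.ofRingEquiv (f := MulSemiringAction.toRingAut (Q.O.decompositionSubgroup K) (ResidueField Q.O) g)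
        (fun c => congrArg (residue Q.O) (Subtype.ext (show (g : K' ≃ₐ[K] K') (algebraMap k K' c) = algebraMap k K' c by
          rw [IsScalarTower.algebraMap_apply k K K', AlgEquiv.commutes])))
      map_one' := AlgEquiv.ext fun r => (show (1 : Q.O.decompositionSubgroup K) • r = r from one_smul _ r)
      map_mul' := fun a b => AlgEquiv.ext fun r => mul_smul a b r }
  have hker : φ.ker = Q.O.inertiaSubgroup K := by
    ext g
    rw [MonoidHom.mem_ker]
    exact ⟨fun h => MonoidHom.mem_ker.2 (RingEquiv.ext fun r => AlgEquiv.congr_fun h r),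
      fun h => AlgEquiv.ext fun r => DFunLike.congr_fun (MonoidHom.mem_ker.1 h) r⟩
  have hfix : IntermediateField.fixedField φ.range = (resMap he).fieldRange := by
    refine le_antisymm (fun r hr => fixed_residue hK he fun g => hr ⟨φ g, g, rfl⟩) ?_
    rintro _ ⟨c, rfl⟩ ⟨_, g, rfl⟩
    obtain ⟨a, rfl⟩ := residue_surjective c
    exact congrArg (residue Q.O) (Subtype.ext ((g : K' ≃ₐ[K] K').commutes (a : K)))
  have h1 := IntermediateField.finrank_fixedField_eq_card φ.range
  rw [hfix] at h1
  have h2 := Module.finrank_mul_finrank k (resMap he).fieldRange (ResidueField Q.O)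
  have h4 : Module.finrank k (resMap he).fieldRange = Module.finrank k (ResidueField P.O) :=
    (AlgEquiv.ofInjectiveField (resMap he)).toLinearEquiv.finrank_eq.symm
  rw [h1, h4, ← Subgroup.index_ker, hker] at h2
  have h3 := card_decomposition_mul_deg' hK he
  rw [← Subgroup.card_mul_index (Q.O.inertiaSubgroup K), mul_assoc, mul_comm _ P.deg] at h3
  simp only [Place.deg] at h3
  rw [h2] at h3
  exact Nat.eq_of_mul_eq_mul_right (deg_pos (isFF_extension (K' := K') hK) Q) h3

end Groth.Agent.FunFldLib
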