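import Groth.Prelude.Def_LocRes

/-! residues of logarithmic and exact differentials of Laurent series -/

set_option autoImplicit false

open WithZero LaurentSeries

namespace Groth.Agent.FunFldLib

theorem res_pow_mul_D {F : Type*} [Field F] (g : LaurentSeries F) (m : ℕ) :
    LocRes.res F (g ^ m * LocRes.D F g) = 0 := by
  classical
  let R := MvPolynomial F ℤ
  let f : R →+* F := MvPolynomial.eval₂Hom (Int.castRingHom F) id
  let G : LaurentSeries R :=
    { coeff := fun i => if g.coeff i = 0 then 0 else MvPolynomial.X (g.coeff i)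
      isPWO_support' := g.isPWO_support.mono fun i hi => by
        simp only [Function.mem_support, ne_eq, ite_eq_left_iff, not_forall] at hi
        exact hi.1 }
  have hG : G.map f = g := by
    ext i
    simp only [HahnSeries.map_coeff, G]
    split_ifs with h
    · rw [map_zero, h]
    · exact MvPolynomial.eval₂Hom_X' _ _ _
  have hD : (LocRes.D R G).map f = LocRes.D F g := by
    ext i
    simp only [HahnSeries.map_coeff, LocRes.D_coeff, map_zsmul]
    rw [← hG, HahnSeries.map_coeff]
  have hpow : ∀ j : ℕ, (G ^ j).map f = g ^ j := by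
    intro j
    induction j with
    | zero => ext i; simp [HahnSeries.coeff_one, apply_ite f]
    | succ j ih =>
      rw [pow_succ, pow_succ, ← ih, ← hG]
      exact HahnSeries.map_mul f.toNonUnitalRingHom
  have hfin : (G ^ m * LocRes.D R G).map f = g ^ m * LocRes.D F g := by
    rw [← hpow, ← hD]
    exact HahnSeries.map_mul f.toNonUnitalRingHom
  rw [← hfin, LocRes.res_apply, HahnSeries.map_coeff]
  suffices h : (G ^ m * LocRes.D R G).coeff (-1) = 0 by rw [h, map_zero]
  have h1 := congrArg (fun s : LaurentSeries R => s.coeff (-1)) ((LocRes.D R).leibniz_pow G (m + 1))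
  simp only [LocRes.D_coeff, neg_add_cancel, zero_smul, Nat.add_sub_cancel, smul_eq_mul, HahnSeries.coeff_smul,
    nsmul_eq_mul] at h1
  have h2 : ((m + 1 : ℕ) : R) ≠ 0 := Nat.cast_ne_zero.2 (Nat.succ_ne_zero m)
  refine (mul_eq_zero.1 ?_).resolve_left h2
  rw [h1]
  rw [← nsmul_eq_mul, ← nsmul_eq_mul, HahnSeries.coeff_smul]

theorem val_eq_exp_neg {F : Type*} [Field F] (a : ℤ) {u : PowerSeries F} (hu : PowerSeries.constantCoeff u ≠ 0) :
    Valued.v (HahnSeries.single a (1 : F) * (u : LaurentSeries F)) = exp (-a) := by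
  have h1 : Valued.v (u : LaurentSeries F) = (1 : ℤᵐ⁰) := by
    refine le_antisymm ((LaurentSeries.val_le_one_iff_eq_coe F _).2 ⟨u, rfl⟩) (not_lt.1 fun hlt => hu ?_)
    have hle : Valued.v (u : LaurentSeries F) ≤ exp (-(1 : ℤ)) := by
      rcases eq_or_ne (Valued.v (u : LaurentSeries F)) 0 with h0 | h0
      · rw [h0]; exact zero_le
      · rw [← exp_log h0, ← exp_zero, exp_lt_exp] at hlt
        rw [← exp_log h0, exp_le_exp]; omega
    have := LaurentSeries.valuation_le_iff_coeff_lt_eq_zero (K := F) |>.1 hle 0 (by omega)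
    simpa [PowerSeries.coeff_coe] using this
  rw [map_mul, LaurentSeries.valuation_single_zpow, h1, mul_one]

theorem res_inv_mul_D {F : Type*} [Field F] {g : LaurentSeries F} (hg : g ≠ 0) :
    LocRes.res F (g⁻¹ * LocRes.D F g) = ((-WithZero.log (Valued.v g) : ℤ) : F) := by
  obtain ⟨a, u, hu, rfl⟩ : ∃ (a : ℤ) (u : PowerSeries F), PowerSeries.constantCoeff u ≠ 0 ∧
      g = HahnSeries.single a 1 * (u : LaurentSeries F) := by
    refine ⟨g.order, g.powerSeriesPart, ?_, g.single_order_mul_powerSeriesPart.symm⟩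
    rw [← PowerSeries.coeff_zero_eq_constantCoeff_apply, LaurentSeries.powerSeriesPart_coeff]
    simpa [HahnSeries.coeff_order_eq_zero] using hg
  have hinv : (u : LaurentSeries F)⁻¹ = ((u⁻¹ : PowerSeries F) : LaurentSeries F) := by
    refine inv_eq_of_mul_eq_one_right ?_
    rw [← PowerSeries.coe_mul, PowerSeries.mul_inv_cancel _ hu, PowerSeries.coe_one]
  rw [val_eq_exp_neg a hu, log_exp, neg_neg, (LocRes.D F).leibniz, smul_eq_mul, smul_eq_mul, mul_inv, mul_add]
  have hne : (u : LaurentSeries F) ≠ 0 := fun h => hu (by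
    have := congrArg (fun s : LaurentSeries F => s.coeff 0) h
    simpa [PowerSeries.coeff_coe] using this)
  have hs : HahnSeries.single a (1 : F) ≠ 0 := HahnSeries.single_ne_zero one_ne_zero
  rw [show (HahnSeries.single a (1 : F))⁻¹ * (u : LaurentSeries F)⁻¹ * (HahnSeries.single a 1 * LocRes.D F (u : LaurentSeries F)) =
    (u : LaurentSeries F)⁻¹ * LocRes.D F (u : LaurentSeries F) by field_simp,
    show (HahnSeries.single a (1 : F))⁻¹ * (u : LaurentSeries F)⁻¹ * ((u : LaurentSeries F) * LocRes.D F (HahnSeries.single a 1)) =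
    (HahnSeries.single a (1 : F))⁻¹ * LocRes.D F (HahnSeries.single a 1) by field_simp]
  rw [hinv, LocRes.D_coe, ← PowerSeries.coe_mul, HahnSeries.inv_single, inv_one]
  have hD : LocRes.D F (HahnSeries.single a (1 : F)) = HahnSeries.single (a - 1) (a : F) := by
    have := LocRes.derivative_single_mul F a 1 1
    rw [mul_one, mul_one, show LaurentSeries.derivative F (1 : LaurentSeries F) = 0 from (LocRes.D F).map_one_eq_zero,
      mul_zero, zero_add, zsmul_one] at this
    exact this
  rw [hD, HahnSeries.single_mul_single, one_mul, map_add, LocRes.res_apply, LocRes.res_apply, PowerSeries.coeff_coe,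
    if_pos (by norm_num), zero_add, show -a + (a - 1) = -1 by ring, HahnSeries.coeff_single_same]

theorem res_mul_D_eq_zero {F : Type*} [Field F] {y x : LaurentSeries F} (hy : Valued.v y ≤ (1 : ℤᵐ⁰))
    (hx : Valued.v x ≤ (1 : ℤᵐ⁰)) : LocRes.res F (y * LocRes.D F x) = 0 := by
  obtain ⟨Y, rfl⟩ := (LaurentSeries.val_le_one_iff_eq_coe F _).1 hy
  obtain ⟨X, rfl⟩ := (LaurentSeries.val_le_one_iff_eq_coe F _).1 hx
  rw [LocRes.D_coe, ← PowerSeries.coe_mul, LocRes.res_apply, PowerSeries.coeff_coe, if_pos (by norm_num)]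

end Groth.Agent.FunFldLib
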