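import Groth.Agent.FunFldLib.PlaceIntClosure
import Mathlib.RingTheory.DedekindDomain.Different

/-! Monogenic criterion at a place where the derivative of a generator is a unit. -/

set_option autoImplicit false
set_option maxHeartbeats 800000

open WithZero Polynomial Pointwise

namespace Groth.Agent.FunFldLib

open FunFld

theorem good_monogenic {k K K' : Type*} [Field k] [Field K] [Field K'] [Algebra k K] [Algebra K K'] [Algebra k K']
    [IsScalarTower k K K'] [FiniteDimensional K K'] [Algebra.IsSeparable K K'] (hK : IsFF k K) {P : Place k K}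
    [Algebra P.O K'] [IsScalarTower P.O K K']
    {y : K'} (hgen : IntermediateField.adjoin K ({y} : Set K') = ⊤)
    (hc : ∀ i, P.1 ((minpoly K y).coeff i) ≤ 1)
    (hd : ∀ Q : Place k K', IsOver Q P → Q.1 (aeval y (derivative (minpoly K y))) = 1)
    : ∃ f : Polynomial P.O, f.Monic ∧ aeval y f = 0 ∧ (f.map (IsLocalRing.residue P.O)).Separable ∧
      ∀ z : K', IsIntegral P.O z → ∃ G : Polynomial P.O, aeval y G = z := by
  classical
  haveI := isPID_O P
  have hmy : (minpoly K y).Monic := minpoly.monic (Algebra.IsIntegral.isIntegral y)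
  obtain ⟨f, hf, -, hfm⟩ : ∃ f : Polynomial P.O, f.map (algebraMap P.O K) = minpoly K y ∧
      f.degree = (minpoly K y).degree ∧ f.Monic :=
    lifts_and_degree_eq_and_monic (f := algebraMap P.O K)
    ((lifts_iff_coeff_lifts _).2 fun i => ⟨⟨_, (Valuation.mem_valuationSubring_iff P.1 _).2 (hc i)⟩, rfl⟩) hmy
  have hfy : aeval y f = 0 := by rw [← aeval_map_algebraMap K y f, hf, minpoly.aeval]
  have hyi : IsIntegral P.O y := ⟨f, hfm, hfy⟩
  have hdvd : ∀ G : Polynomial P.O, aeval y G = 0 → f ∣ G := fun G hG => by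
    rw [← map_dvd_map (algebraMap P.O K) (fun a b h => Subtype.ext h) hfm, hf]
    exact minpoly.dvd K y (by rw [aeval_map_algebraMap, hG])
  set g' := aeval y (derivative (minpoly K y)) with hg'
  have hne : g' ≠ 0 :=
    (Algebra.IsSeparable.isSeparable K y).aeval_derivative_ne_zero (minpoly.aeval _ _)
  have hadj : Algebra.adjoin K ({y} : Set K') = ⊤ := by
    rw [← IntermediateField.adjoin_simple_toSubalgebra_of_isAlgebraic (Algebra.IsAlgebraic.isAlgebraic y), hgen,
      IntermediateField.top_toSubalgebra]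
  set A := Algebra.adjoin P.O ({y} : Set K')
  have hAint : ∀ w ∈ A, IsIntegral P.O w := fun w hw =>
    (Algebra.adjoin_le (S := integralClosure P.O K') (by rintro _ rfl; exact hyi)) hw
  have hdual : ∀ z : K', IsIntegral P.O z → z * g' ∈ A := fun z hz => by
    have h1 : z ∈ g'⁻¹ • Subalgebra.toSubmodule A := by
      rw [← traceForm_dualSubmodule_adjoin P.O K hadj hyi, LinearMap.BilinForm.mem_dualSubmodule]
      intro w hw
      rw [Algebra.traceForm_apply, Submodule.mem_one]
      exact IsIntegrallyClosed.isIntegral_iff.1 (Algebra.isIntegral_trace (hz.mul (hAint w hw)))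
    rw [Submodule.mem_smul_pointwise_iff_exists] at h1
    obtain ⟨r, hr, rfl⟩ := h1
    rwa [smul_eq_mul, mul_comm g'⁻¹ r, mul_assoc, inv_mul_cancel₀ hne, mul_one]
  have hgi : IsIntegral P.O g'⁻¹ := (integral_iff hK _).2 fun Q' hQ' => by rw [map_inv₀, hd Q' hQ', inv_one]
  have hginv : g'⁻¹ ∈ A := by
    have := hdual _ (hgi.pow 2)
    rwa [sq, mul_assoc, inv_mul_cancel₀ hne, mul_one] at this
  have hall : ∀ z : K', IsIntegral P.O z → z ∈ A := fun z hz => by
    have := A.mul_mem (hdual z hz) hginv
    rwa [mul_assoc, mul_inv_cancel₀ hne, mul_one] at this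
  have hrep : ∀ z ∈ A, ∃ G : Polynomial P.O, aeval y G = z := fun z hz => by
    have hz' : z ∈ Algebra.adjoin P.O ({y} : Set K') := hz
    rw [Algebra.adjoin_singleton_eq_range_aeval] at hz'
    exact hz'
  set φ := IsLocalRing.residue P.O
  have hsep : (f.map φ).Separable := by
    obtain ⟨U, hU⟩ := hrep _ hginv
    have h1 : aeval y (U * derivative f - 1) = 0 := by
      rw [map_sub, map_mul, map_one, hU, ← aeval_map_algebraMap K y (derivative f), ← derivative_map, hf, ← hg',
        inv_mul_cancel₀ hne, sub_self]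
    obtain ⟨W, hW⟩ := hdvd _ h1
    refine (separable_def' _).2 ⟨-(W.map φ), U.map φ, ?_⟩
    have h2 := congrArg (Polynomial.map φ) hW
    rw [Polynomial.map_sub, Polynomial.map_mul, Polynomial.map_mul, Polynomial.map_one, ← derivative_map] at h2
    linear_combination h2
  exact ⟨f, hfm, hfy, hsep, fun z hz => hrep z (hall z hz)⟩

end Groth.Agent.FunFldLib
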