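import Groth.Agent.FunFldLib.Orders
import Groth.Agent.FunFldLib.Nonsingular
import Mathlib.LinearAlgebra.Matrix.Determinant.Basic

/-! The local Wronskian computation at a fixed place. -/

set_option autoImplicit false

open WithZero Polynomial

namespace Groth.Agent.FunFldLib

open FunFld

variable {k K : Type*} [Field k] [Field K] [Algebra k K]

theorem val_sub_comm_lt {P : Place k K} {a b : K} (h : P.1 (a - b) < 1) : P.1 (b - a) < 1 := by
  rw [← neg_sub, Valuation.map_neg]; exact h

theorem det_congr {P : Place k K} {m : ℕ} (N : Matrix (Fin m) (Fin m) K) (c : Matrix (Fin m) (Fin m) k)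
    (h : ∀ r s, P.1 (N r s - algebraMap k K (c r s)) < 1) :
    P.1 (N.det - algebraMap k K c.det) < 1 := by
  classical
  have hN : ∀ r s, P.1 (N r s) ≤ 1 := fun r s => by
    rw [show N r s = (N r s - algebraMap k K (c r s)) + algebraMap k K (c r s) by ring]
    exact (P.1.map_add _ _).trans (max_le (h r s).le (P.2.1 _))
  let N0 : Matrix (Fin m) (Fin m) P.O := Matrix.of fun r s => ⟨N r s, (Valuation.mem_valuationSubring_iff _ _).2 (hN r s)⟩
  let C0 : Matrix (Fin m) (Fin m) P.O :=
    Matrix.of fun r s => ⟨algebraMap k K (c r s), (Valuation.mem_valuationSubring_iff _ _).2 (P.2.1 _)⟩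
  have h1 : P.O.subtype.mapMatrix N0 = N := by ext r s; rfl
  have h2 : P.O.subtype.mapMatrix C0 = (algebraMap k K).mapMatrix c := by ext r s; rfl
  have h3 : (IsLocalRing.residue P.O).mapMatrix N0 = (IsLocalRing.residue P.O).mapMatrix C0 := by
    ext r s
    simp only [RingHom.mapMatrix_apply, Matrix.map_apply]
    rw [← sub_eq_zero, ← map_sub]
    exact (residue_eq_zero_iff_val P _).2 (h r s)
  have h4 := congrArg Matrix.det h3
  rw [← RingHom.map_det, ← RingHom.map_det, ← sub_eq_zero, ← map_sub, residue_eq_zero_iff_val] at h4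
  have e1 : ((N0.det : P.O) : K) = N.det := by rw [← h1, ← RingHom.map_det]; rfl
  have e2 : ((C0.det : P.O) : K) = algebraMap k K c.det := by rw [RingHom.map_det (algebraMap k K), ← h2, ← RingHom.map_det]; rfl
  simpa [e1, e2] using h4

theorem fixed_int [IsAlgClosed k] (hK : IsFunctionField k K) {τ : K →ₐ[k] K} {P : Place k K} (hP : IsFixedPt τ P) {u : K}
    (hu : P.1 u ≤ 1) : P.1 (τ u) ≤ 1 := by
  obtain ⟨c, hc⟩ := exists_const hK P hu
  rw [show u = (u - algebraMap k K c) + algebraMap k K c by ring, map_add, τ.commutes]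
  exact (P.1.map_add _ _).trans (max_le (hP _ hc).le (P.2.1 c))

theorem isFixedPt_of_strong {τ : K →ₐ[k] K} {P : Place k K} (hP : IsStrongFixedPt τ P) : IsFixedPt τ P := fun z hz =>
  (hP z hz).trans_lt (by rw [← exp_zero, exp_lt_exp]; omega)

theorem isFixedPt_id (P : Place k K) : IsFixedPt (AlgHom.id k K) P := fun z hz => hz

theorem wr_core [IsAlgClosed k] (hK : IsFunctionField k K) {τ : K →ₐ[k] K} {P : Place k K} (hP : IsFixedPt τ P) {n : ℕ}
    {f : Fin (n + 1) → K} (hf0 : f 0 = 1) {t : K} (ht : P.1 t = exp (-1)) {H : K →ₐ[k] PowerSeries K}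
    (hH : LocRes.IsHasseFamily t H) {J : Fin n → ℕ} (hJ1 : ∀ l, 1 ≤ J l)
    (hf : ∀ l, P.1 (f l.succ / t ^ J l - 1) < 1) {I : Fin n → ℕ} (hI : StrictMono I) :
    P.1 (wrMat τ H f I).det ≤ exp (-(∑ l, ((J l : ℤ) - I l))) ∧
    (((∀ l, 0 < I l) ∨ IsStrongFixedPt τ P) →
      (P.1 (wrMat τ H f I).det = exp (-(∑ l, ((J l : ℤ) - I l))) ↔ (binomMat k J I).det ≠ 0)) := by
  classical
  have ht0 := (ord_param ht).1
  set u : Fin n → K := fun l => f l.succ / t ^ J l with hu
  have hfu : ∀ l, f l.succ = t ^ J l * u l := fun l => by rw [hu]; field_simp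
  have hu1 : ∀ l, P.1 (u l) ≤ 1 := fun l => by
    rw [show u l = (u l - 1) + 1 by ring]; exact (P.1.map_add _ _).trans (max_le (hf l).le (map_one P.1).le)
  let δ : Fin n → K := fun s => if I s = 0 then 1 else 0
  let N : Matrix (Fin n) (Fin n) K := Matrix.of fun r s => LocRes.hasseD H (I s) (f r.succ) - τ (f r.succ) * δ s
  let N' : Matrix (Fin n) (Fin n) K := Matrix.of fun r s => (t ^ J r)⁻¹ * (N r s * t ^ I s)
  have hrow : ∀ s : Fin n, LocRes.hasseD H (I s) (f 0) = δ s := fun s => by
    rw [hf0, ← map_one (algebraMap k K), hasseD_algebraMap]; simp [δ]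
  have hdetN : (wrMat τ H f I).det = N.det := by
    let c : Fin (n + 1) → K := Fin.cases 0 fun r => τ (f r.succ)
    let B : Matrix (Fin (n + 1)) (Fin (n + 1)) K := Matrix.of fun i j => wrMat τ H f I i j - c i * wrMat τ H f I 0 j
    have hB0 : ∀ j, B 0 j = wrMat τ H f I 0 j := fun j => by simp [B, c]
    rw [Matrix.det_eq_of_forall_row_eq_smul_add_const (A := wrMat τ H f I) (B := B) c 0 rfl fun i j => by
      rw [hB0]; simp [B], Matrix.det_succ_column_zero, Fin.sum_univ_succ]
    have h00 : B 0 0 = 1 := by rw [hB0, wrMat_eq]; simp [hcol, hf0]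
    have hr0 : ∀ r : Fin n, B r.succ 0 = 0 := fun r => by simp [B, c, wrMat_eq, hcol, hf0]
    simp only [h00, hr0, Fin.val_zero, pow_zero, one_mul, mul_zero, zero_mul, Finset.sum_const_zero, add_zero, Fin.succAbove_zero]
    congr 1
    ext r s
    simp only [Matrix.submatrix_apply, B, Matrix.of_apply, c, Fin.cases_succ, N, wrMat_eq, jidx_succ, hcol, hrow]
  have hscale : N'.det * ((∏ r, t ^ J r) / ∏ s, t ^ I s) = N.det := by
    have hN' : N' = Matrix.of fun r s => (t ^ J r)⁻¹ * (Matrix.of fun r s => t ^ I s * N r s : Matrix (Fin n) (Fin n) K) r s := by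
      ext r s; simp [N', mul_comm (N r s)]
    rw [hN', Matrix.det_mul_column, Matrix.det_mul_row, Finset.prod_inv_distrib]
    have h1 : ∏ r, t ^ J r ≠ 0 := Finset.prod_ne_zero_iff.2 fun _ _ => pow_ne_zero _ ht0
    have h2 : ∏ s, t ^ I s ≠ 0 := Finset.prod_ne_zero_iff.2 fun _ _ => pow_ne_zero _ ht0
    field_simp
  have hD : ∀ r s, P.1 ((t ^ J r)⁻¹ * (LocRes.hasseD H (I s) (f r.succ) * t ^ I s) -
      algebraMap k K (((J r).choose (I s) : ℕ) : k)) < 1 := by
    intro r s
    rw [hfu, hasseD_mul, Finset.sum_mul, Finset.mul_sum,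
      ← Finset.add_sum_erase _ _ (show ((I s, 0) : ℕ × ℕ) ∈ Finset.HasAntidiagonal.antidiagonal (I s) by simp),
      hasseD_zero hH, hasseD_pow_self hH, map_natCast]
    rw [add_sub_right_comm]
    refine (P.1.map_add _ _).trans_lt (max_lt ?_ (Valuation.map_sum_lt _ one_ne_zero fun p hp => ?_))
    · rcases Nat.lt_or_ge (J r) (I s) with h | h
      · rw [Nat.choose_eq_zero_of_lt h]; simp
      · have hpow : t ^ (J r - I s) * t ^ I s = t ^ J r := by rw [← pow_add, Nat.sub_add_cancel h]
        rw [show (t ^ J r)⁻¹ * (t ^ (J r - I s) * ((J r).choose (I s) : K) * u r * t ^ I s) - ((J r).choose (I s) : K) =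
          ((t ^ J r)⁻¹ * (t ^ (J r - I s) * t ^ I s) * u r - 1) * ((J r).choose (I s) : K) by ring, hpow,
          inv_mul_cancel₀ (pow_ne_zero _ ht0), one_mul, map_mul]
        exact (mul_le_of_le_one_right' (val_natCast_le P _)).trans_lt (hf r)
    · rw [Finset.mem_erase, Finset.HasAntidiagonal.mem_antidiagonal] at hp
      have hp1 : p.1 < I s := by
        by_contra hlt
        exact hp.1 (Prod.ext (show p.1 = I s by omega) (show p.2 = 0 by omega))
      rw [hasseD_pow_self hH, map_mul, map_mul, map_mul, map_mul, map_inv₀, val_param_pow ht, val_param_pow ht,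
        val_param_pow ht]
      rcases Nat.lt_or_ge (J r) p.1 with h | h
      · rw [Nat.choose_eq_zero_of_lt h, Nat.cast_zero, map_zero]; simp
      refine (mul_le_mul' le_rfl (mul_le_mul' (mul_le_mul' (mul_le_of_le_one_right' (val_natCast_le P _))
        (hasseD_integral hK ht hH _ (hu1 r))) le_rfl)).trans_lt ?_
      rw [mul_one, ← exp_neg, ← exp_add, ← exp_add, ← exp_zero, exp_lt_exp]
      omega
  have hτ : ∀ r s, P.1 ((t ^ J r)⁻¹ * (τ (f r.succ) * δ s * t ^ I s)) ≤ 1 ∧
      (((∀ l, 0 < I l) ∨ IsStrongFixedPt τ P) → P.1 ((t ^ J r)⁻¹ * (τ (f r.succ) * δ s * t ^ I s)) < 1) := by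
    intro r s
    by_cases h : I s = 0
    swap
    · simp [δ, h]
    simp only [δ, h, if_true, mul_one, pow_zero]
    rw [hfu, map_mul τ, map_pow τ, ← mul_assoc, ← inv_pow, ← mul_pow, map_mul P.1, map_pow P.1]
    have ht1 : P.1 (τ t) ≤ exp (-1) := (lt_one_iff_le P _).1 (hP t (by rw [ht]; exact exp_neg_one_lt_one))
    have hq : P.1 (t⁻¹ * τ t) ≤ 1 := by
      rw [map_mul, map_inv₀, ht]
      refine (mul_le_mul' le_rfl ht1).trans ?_
      rw [inv_mul_cancel₀ exp_ne_zero]
    refine ⟨mul_le_one' (pow_le_one' hq _) (fixed_int hK hP (hu1 r)), fun hor => ?_⟩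
    have hs : IsStrongFixedPt τ P := hor.resolve_left fun h' => absurd (h' s) (by omega)
    refine (mul_le_of_le_one_right' (fixed_int hK hP (hu1 r))).trans_lt (pow_lt_one₀ (zero_le) ?_ (by have := hJ1 r; omega))
    rw [map_mul, map_inv₀, ht]
    refine (mul_le_mul' le_rfl (hs t (by rw [ht]; exact exp_neg_one_lt_one))).trans_lt ?_
    rw [← exp_neg, ← exp_add, ← exp_zero, exp_lt_exp]; omega
  have hN' : ∀ r s, N' r s = (t ^ J r)⁻¹ * (LocRes.hasseD H (I s) (f r.succ) * t ^ I s) -
      (t ^ J r)⁻¹ * (τ (f r.succ) * δ s * t ^ I s) := fun r s => by simp [N', N]; ring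
  have hint : ∀ r s, P.1 (N' r s) ≤ 1 := fun r s => by
    rw [hN']
    refine (Valuation.map_sub _ _ _).trans (max_le ?_ (hτ r s).1)
    rw [show (t ^ J r)⁻¹ * (LocRes.hasseD H (I s) (f r.succ) * t ^ I s) = ((t ^ J r)⁻¹ * (LocRes.hasseD H (I s) (f r.succ) * t ^ I s) -
      algebraMap k K (((J r).choose (I s) : ℕ) : k)) + algebraMap k K (((J r).choose (I s) : ℕ) : k) by ring]
    exact (P.1.map_add _ _).trans (max_le (hD r s).le (P.2.1 _))
  have hscaleval : P.1 ((∏ r, t ^ J r) / ∏ s, t ^ I s) = exp (-(∑ l, ((J l : ℤ) - I l))) := by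
    rw [map_div₀, Finset.prod_pow_eq_pow_sum, Finset.prod_pow_eq_pow_sum, val_param_pow ht, val_param_pow ht, ← exp_sub]
    congr 1
    push_cast
    rw [Finset.sum_sub_distrib]
    ring
  have hdetle : P.1 N'.det ≤ 1 := by
    choose c hc using fun r s => exists_const hK P (hint r s)
    have := det_congr N' (Matrix.of c) hc
    rw [show N'.det = (N'.det - algebraMap k K (Matrix.of c).det) + algebraMap k K (Matrix.of c).det by ring]
    exact (P.1.map_add _ _).trans (max_le this.le (P.2.1 _))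
  rw [hdetN, ← hscale, map_mul, hscaleval]
  refine ⟨mul_le_of_le_one_left' hdetle, fun hor => ?_⟩
  have hc := det_congr (P := P) N' (binomMat k J I) fun r s => by
    rw [hN', sub_right_comm]
    exact (Valuation.map_sub _ _ _).trans_lt (max_lt (hD r s) ((hτ r s).2 hor))
  rw [mul_eq_right₀ exp_ne_zero]
  constructor
  · intro h1 h0
    rw [h0, map_zero, sub_zero, h1] at hc
    exact lt_irrefl _ hc
  · intro h0
    exact val_eq_one_of_sub hc h0

theorem exists_binom {n : ℕ} {J : Fin (n + 1) → ℕ} (hJ : StrictMono J) :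
    ∃ I : Fin (n + 1) → ℕ, StrictMono I ∧ (∀ l, I l + J 0 ≤ J (Fin.last n)) ∧ (binomMat k J I).det ≠ 0 := by
  classical
  set m := J (Fin.last n) - J 0 with hm
  let c : ℕ → Fin (n + 1) → k := fun i r => if i ≤ m then (((J r).choose i : ℕ) : k) else 0
  have hc0 : c 0 ≠ 0 := fun h => by simpa [c] using congrFun h 0
  have hspan : Submodule.span k (Set.range c) = ⊤ := span_range_eq_top c fun v hv => by
    let d : Fin (n + 1) → ℕ := fun r => J r - J 0
    have hle : ∀ r, J 0 ≤ J r := fun r => hJ.monotone (Fin.zero_le r)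
    let Q : k[X] := ∑ r, C (v r) * (X + 1) ^ d r
    have hP : X ^ (m + 1) ∣ (X + 1) ^ J 0 * Q := by
      have e : (X + 1) ^ J 0 * Q = ∑ r, C (v r) * (X + 1) ^ J r := by
        rw [Finset.mul_sum]
        refine Finset.sum_congr rfl fun r _ => ?_
        rw [mul_left_comm, ← pow_add, Nat.add_sub_cancel' (hle r)]
      rw [e, Polynomial.X_pow_dvd_iff]
      intro i hi
      have := hv i
      simp only [c, show i ≤ m by omega, if_true] at this
      simpa [finset_sum_coeff, Polynomial.coeff_X_add_one_pow] using this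
    have hQ0 : Q = 0 := by
      refine eq_zero_of_dvd_of_degree_lt (Polynomial.prime_X.pow_dvd_of_dvd_mul_left _ (fun h => ?_) hP) ?_
      · simpa [Polynomial.X_dvd_iff, Polynomial.coeff_zero_eq_eval_zero] using h
      · refine (degree_sum_le _ _).trans_lt ((Finset.sup_lt_iff (by simp)).2 fun r _ => ?_)
        refine (degree_mul_le _ _).trans_lt ?_
        refine (add_le_add degree_C_le ((degree_pow_le _ _).trans (nsmul_le_nsmul_right (degree_X_add_C (1 : k)).le _))).trans_lt ?_
        rw [Polynomial.degree_X_pow]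
        have := hJ.monotone (Fin.le_last r)
        simp only [zero_add, nsmul_one]
        exact_mod_cast (by simp only [d]; omega : d r < m + 1)
    have hcomp := congrArg (fun q : k[X] => q.comp (X - 1)) hQ0
    simp only [Q, Polynomial.sum_comp, mul_comp, C_comp, pow_comp, add_comp, X_comp, one_comp, sub_add_cancel, zero_comp] at hcomp
    funext r
    have hdinj : Function.Injective d := fun a b h => hJ.injective (by have := hle a; have := hle b; simp only [d] at h; omega)
    have := congrArg (fun q : k[X] => q.coeff (d r)) hcomp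
    simpa [finset_sum_coeff, Polynomial.coeff_X_pow, hdinj.eq_iff] using this
  obtain ⟨J'', hJ''⟩ := exists_orders hc0 hspan (n := n) (by simp)
  refine ⟨jidx J'', jidx_strictMono hJ''.1, fun l => ?_, ?_⟩
  · have hne : c (jidx J'' l) ≠ 0 := (IsOrders.linearIndependent hc0 hJ'').ne_zero l
    have : jidx J'' l ≤ m := by
      by_contra h
      exact hne (funext fun r => by simp [c, h])
    have := hJ.monotone (Fin.zero_le (Fin.last n))
    omega
  · rw [← isUnit_iff_ne_zero, ← Matrix.isUnit_iff_isUnit_det, ← Matrix.linearIndependent_cols_iff_isUnit]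
    have hcols : (binomMat k J (jidx J'')).col = c ∘ jidx J'' := by
      funext s r
      have hne : c (jidx J'' s) ≠ 0 := (IsOrders.linearIndependent hc0 hJ'').ne_zero s
      have hle : jidx J'' s ≤ m := by
        by_contra h
        exact hne (funext fun r => by simp [c, h])
      simp [binomMat, c, hle]
    rw [hcols]
    exact IsOrders.linearIndependent hc0 hJ''

theorem exists_adapted [IsAlgClosed k] (hK : IsFunctionField k K) {P : Place k K} {n : ℕ} {φ : Fin (n + 1) → K}
    (hφ : LinearIndependent k φ) (heff : (1 : K) ∈ Submodule.span k (Set.range φ)) (hnorm : ∀ i, P.1 (φ i) ≤ 1)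
    {t : K} (ht : P.1 t = exp (-1)) {H : K →ₐ[k] PowerSeries K} (hH : LocRes.IsHasseFamily t H) {J : Fin n → ℕ}
    (hJ : IsOrders (IsLocalRing.ResidueField P.O) (hcolAt P H φ) J) :
    (∀ l, 1 ≤ J l) ∧ ∃ (f : Fin (n + 1) → K) (A : Matrix (Fin (n + 1)) (Fin (n + 1)) k),
      f 0 = 1 ∧ (∀ l, P.1 (f l.succ / t ^ J l - 1) < 1) ∧ LinearIndependent k f ∧
      Submodule.span k (Set.range f) = Submodule.span k (Set.range φ) ∧ A.det ≠ 0 ∧ ∀ i, φ i = ∑ j, A i j • f j := by
  classical
  have h := fun l => (hcolAt_jump_iff hK ht hH hnorm (J l)).1 ((hJ.2 (J l)).1 ⟨l, rfl⟩)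
  refine ⟨fun l => (h l).1, ?_⟩
  choose g hg hgv using fun l => (h l).2
  have hq : ∀ l, P.1 (g l / t ^ J l) = 1 := fun l => by
    rw [map_div₀, hgv, val_param_pow ht, div_self exp_ne_zero]
  choose c hc using fun l => exists_const hK P (hq l).le
  have hc0 : ∀ l, c l ≠ 0 := fun l h0 => by
    have := hc l
    rw [h0, map_zero, sub_zero, hq] at this
    exact lt_irrefl _ this
  let f : Fin (n + 1) → K := Fin.cases 1 fun l => (c l)⁻¹ • g l
  have hf : ∀ l, P.1 (f l.succ / t ^ J l - 1) < 1 := fun l => by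
    have e : f l.succ / t ^ J l - 1 = (c l)⁻¹ • (g l / t ^ J l - algebraMap k K (c l)) := by
      simp only [f, Fin.cases_succ, Algebra.smul_def, mul_sub, ← map_mul, inv_mul_cancel₀ (hc0 l), map_one, mul_div_assoc]
    rw [e]
    exact (val_smul_le P _ _).trans_lt (hc l)
  have hval : ∀ l, P.1 (f l.succ) = exp (-(J l : ℤ)) := fun l => by
    simp only [f, Fin.cases_succ]
    rw [val_smul P (inv_ne_zero (hc0 l)), hgv]
  have hmem : ∀ i, f i ∈ Submodule.span k (Set.range φ) := fun i => by
    induction i using Fin.cases with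
    | zero => exact heff
    | succ l => exact Submodule.smul_mem _ _ (hg l)
  have hlif : LinearIndependent k f := by
    rw [Fintype.linearIndependent_iff]
    intro a ha
    by_contra! hne
    have hex : (Finset.univ.filter fun i => a i ≠ 0).Nonempty := by obtain ⟨i, hi⟩ := hne; exact ⟨i, by simp [hi]⟩
    obtain ⟨i0, hi0, hmin⟩ : ∃ i0, a i0 ≠ 0 ∧ ∀ i, a i ≠ 0 → i0 ≤ i := by
      refine ⟨_, (Finset.mem_filter.1 (Finset.min'_mem _ hex)).2, fun i hi => Finset.min'_le _ _ (by simp [hi])⟩
    have hv : ∀ i, P.1 (f i) = exp (-((Fin.cases 0 (fun l => J l) i : ℕ) : ℤ)) := fun i => by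
      induction i using Fin.cases with
      | zero => simp [f]
      | succ l => simpa using hval l
    have hmono : StrictMono (fun i : Fin (n + 1) => (Fin.cases 0 (fun l => J l) i : ℕ)) := by
      intro x y hxy
      induction y using Fin.cases with
      | zero => exact absurd hxy (Fin.not_lt_zero x)
      | succ y =>
        induction x using Fin.cases with
        | zero => simpa [Nat.lt_iff_add_one_le] using (h y).1
        | succ x => simpa using hJ.1 (Fin.succ_lt_succ_iff.1 hxy)
    have hlt : P.1 (∑ i ∈ Finset.univ.erase i0, a i • f i) < P.1 (a i0 • f i0) := by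
      rw [val_smul P hi0, hv]
      refine Valuation.map_sum_lt _ exp_ne_zero fun i hi => ?_
      rcases eq_or_ne (a i) 0 with h0 | h0
      · rw [h0, zero_smul, map_zero]; exact exp_pos
      rw [val_smul P h0, hv, exp_lt_exp]
      have := hmono (lt_of_le_of_ne (hmin i h0) (Finset.ne_of_mem_erase hi).symm)
      simp only at this; omega
    rw [← Finset.add_sum_erase _ _ (Finset.mem_univ i0)] at ha
    have h2 := Valuation.map_add_eq_of_lt_left _ hlt
    rw [ha, map_zero, val_smul P hi0, hv] at h2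
    exact exp_ne_zero h2.symm
  have hspan : Submodule.span k (Set.range f) = Submodule.span k (Set.range φ) := by
    haveI : FiniteDimensional k (Submodule.span k (Set.range φ)) := FiniteDimensional.span_of_finite k (Set.finite_range φ)
    refine Submodule.eq_of_le_of_finrank_eq (Submodule.span_le.2 ?_) ?_
    · rintro _ ⟨i, rfl⟩; exact hmem i
    · rw [finrank_span_eq_card hlif, finrank_span_eq_card hφ]
  choose A hA using fun i => (Submodule.mem_span_range_iff_exists_fun k).1 (hspan ▸ Submodule.subset_span ⟨i, rfl⟩ : φ i ∈ Submodule.span k (Set.range f))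
  refine ⟨f, Matrix.of A, rfl, hf, hlif, hspan, fun hdet => ?_, fun i => (hA i).symm⟩
  obtain ⟨v, hv0, hv⟩ := Matrix.exists_vecMul_eq_zero_iff.2 hdet
  refine hv0 (funext fun i => Fintype.linearIndependent_iff.1 hφ v ?_ i)
  simp only [← hA, Finset.smul_sum, smul_smul]
  rw [Finset.sum_comm]
  refine Finset.sum_eq_zero fun j _ => ?_
  rw [← Finset.sum_smul]
  have := congrFun hv j
  simp only [Matrix.vecMul, dotProduct, Matrix.of_apply, Pi.zero_apply] at this
  rw [this, zero_smul]

theorem hcol_basis_change {ι : Type*} [Fintype ι] (τ : K →ₐ[k] K) (H : K →ₐ[k] PowerSeries K) (φ f : ι → K)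
    (A : Matrix ι ι k) (hA : ∀ i, φ i = ∑ j, A i j • f j) (j : ℕ) :
    hcol τ H φ j = (A.map (algebraMap k K)).mulVec (hcol τ H f j) := by
  funext i
  rw [Matrix.mulVec, dotProduct]
  rcases j with _ | j
  · simp only [hcol, hA, map_sum, map_smul]; simp only [Matrix.map_apply, Algebra.smul_def]
  · simp only [hcol, hA, hasseD_sum, hasseD_smul]; simp only [Matrix.map_apply, Algebra.smul_def]

theorem wrMat_basis_change {n : ℕ} (τ : K →ₐ[k] K) (H : K →ₐ[k] PowerSeries K) (φ f : Fin (n + 1) → K)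
    (A : Matrix (Fin (n + 1)) (Fin (n + 1)) k) (hA : ∀ i, φ i = ∑ j, A i j • f j) (I : Fin n → ℕ) :
    (wrMat τ H φ I).det = algebraMap k K A.det * (wrMat τ H f I).det := by
  rw [RingHom.map_det, ← Matrix.det_mul]
  congr 1
  ext i c
  rw [wrMat_eq, hcol_basis_change τ H φ f A hA, Matrix.mul_apply, Matrix.mulVec, dotProduct]
  simp [wrMat_eq]

theorem isOrders_basis_change {n : ℕ} (τ : K →ₐ[k] K) (H : K →ₐ[k] PowerSeries K) (φ f : Fin (n + 1) → K)
    (A : Matrix (Fin (n + 1)) (Fin (n + 1)) k) (hdet : A.det ≠ 0) (hA : ∀ i, φ i = ∑ j, A i j • f j) (J : Fin n → ℕ) :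
    IsOrders K (hcol τ H φ) J ↔ IsOrders K (hcol τ H f) J := by
  have hinj : Function.Injective (A.map (algebraMap k K)).mulVecLin :=
    Matrix.mulVec_injective_iff_isUnit.2 ((Matrix.isUnit_iff_isUnit_det _).2 (isUnit_iff_ne_zero.2 (by
      rw [← RingHom.mapMatrix_apply, ← RingHom.map_det, _root_.map_ne_zero]; exact hdet)))
  refine isOrders_congr (fun j => ?_) J
  rw [show hcol τ H φ = fun j => (A.map (algebraMap k K)).mulVecLin (hcol τ H f j) from
    funext fun j => hcol_basis_change τ H φ f A hA j]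
  exact isJump_congr _ hinj _ j

end Groth.Agent.FunFldLib
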