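import Groth.Agent.FunFldLib.WDiv
import Groth.Agent.S12606
import Mathlib.RingTheory.Polynomial.Pochhammer
import Mathlib.Algebra.CharP.Defs

/-! Strong fixed places, classical order sequences. -/

set_option autoImplicit false

open WithZero Polynomial

namespace Groth.Agent.FunFldLib

open FunFld

variable {k K : Type*} [Field k] [Field K] [Algebra k K]

theorem natCast_inj_of_lt {B : ℕ} (h : ringChar k = 0 ∨ B < ringChar k) {a b : ℕ} (ha : a ≤ B) (hb : b ≤ B)
    (he : (a : k) = b) : a = b := by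
  rcases h with h | h
  · haveI := (ringChar.eq_iff).1 h
    haveI : CharZero k := CharP.charP_to_charZero k
    exact_mod_cast he
  · wlog hab : a ≤ b generalizing a b
    · exact (this hb ha he.symm (by omega)).symm
    have h0 : ((b - a : ℕ) : k) = 0 := by rw [Nat.cast_sub hab, he, sub_self]
    have hdvd := (ringChar.spec k (b - a)).1 h0
    rcases Nat.eq_zero_or_pos (b - a) with h1 | h1
    · omega
    · have := Nat.le_of_dvd h1 hdvd; omega

theorem factorial_ne_zero_of_le {B : ℕ} (h : ringChar k = 0 ∨ B < ringChar k) {m : ℕ} (hm : m ≤ B) : (m.factorial : k) ≠ 0 := by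
  induction m with
  | zero => simp
  | succ m ih =>
    rw [Nat.factorial_succ, Nat.cast_mul]
    refine mul_ne_zero (fun h0 => ?_) (ih (by omega))
    exact Nat.succ_ne_zero m (natCast_inj_of_lt h hm (Nat.zero_le B) (by simpa using h0))

/-- nonvanishing of the binomial determinants in the classical range -/
theorem binom_det_ne_zero {n : ℕ} {a : Fin n → ℕ} (ha : StrictMono a) (ha1 : ∀ r, 1 ≤ a r) {B : ℕ}
    (hB : ∀ r, a r ≤ B) (hchar : ringChar k = 0 ∨ B < ringChar k) {ε : ℕ} (hε : ε ≤ 1) :
    (binomMat k a (fun s : Fin n => (s : ℕ) + ε)).det ≠ 0 := by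
  classical
  intro h0
  obtain ⟨v, hv0, hv⟩ := Matrix.exists_mulVec_eq_zero_iff.2 h0
  have hsB : ∀ s : Fin n, (s : ℕ) + ε ≤ B := fun s => by
    have hn : 0 < n := Nat.lt_of_le_of_lt (Nat.zero_le _) s.isLt
    have hgrow : ∀ r : Fin n, (r : ℕ) + 1 ≤ a r := by
      rintro ⟨r, hr⟩
      induction r with
      | zero => exact ha1 _
      | succ r ih => have := ha (show (⟨r, by omega⟩ : Fin n) < ⟨r + 1, hr⟩ by simp); have := ih (by omega); simp only at *; omega
    have := hgrow s; have := hB s; omega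
  have hfac : ∀ s : Fin n, ((((s : ℕ) + ε).factorial : ℕ) : k) ≠ 0 := fun s => factorial_ne_zero_of_le hchar (hsB s)
  let Q : k[X] := ∑ s : Fin n, C (v s / ((((s : ℕ) + ε).factorial : ℕ) : k)) * descPochhammer k ((s : ℕ) + ε)
  have heval : ∀ r, Q.eval (a r : k) = 0 := fun r => by
    have h1 := congrFun hv r
    simp only [Matrix.mulVec, dotProduct, binomMat, Matrix.of_apply, Pi.zero_apply] at h1
    rw [← h1, eval_finsetSum]
    refine Finset.sum_congr rfl fun s _ => ?_
    rw [eval_mul, eval_C, descPochhammer_eval_eq_descFactorial, Nat.descFactorial_eq_factorial_mul_choose, Nat.cast_mul,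
      div_mul_eq_mul_div, mul_comm (v s), mul_div_assoc]
    have := hfac s
    field_simp
  have hdeg : ∀ m, (descPochhammer k m).natDegree = m := fun m => descPochhammer_natDegree k m
  -- the coefficients vanish
  have hQ : Q = 0 := by
    by_contra hQ0
    let roots : Finset k := (Finset.univ.image fun r => (a r : k)) ∪ (if ε = 1 then {0} else ∅)
    have hsub : roots ⊆ Q.roots.toFinset := by
      intro z hz
      rw [Multiset.mem_toFinset, mem_roots hQ0, IsRoot.def]
      rcases Finset.mem_union.1 hz with hz | hz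
      · obtain ⟨r, -, rfl⟩ := Finset.mem_image.1 hz; exact heval r
      · split_ifs at hz with he
        · rw [Finset.mem_singleton.1 hz, eval_finsetSum]
          refine Finset.sum_eq_zero fun s _ => ?_
          rw [eval_mul, ← Nat.cast_zero, descPochhammer_eval_eq_descFactorial, Nat.descFactorial_eq_zero_iff_lt.2 (by omega)]
          simp
        · simp at hz
    have hinj : Function.Injective fun r => (a r : k) := fun r r' h =>
      ha.injective (natCast_inj_of_lt hchar (hB r) (hB r') h)
    have hcard : n + ε ≤ roots.card := by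
      rcases Nat.le_one_iff_eq_zero_or_eq_one.1 hε with rfl | rfl
      · simp [roots, Finset.card_image_of_injective _ hinj]
      · simp only [roots, if_true]
        rw [Finset.card_union_of_disjoint, Finset.card_image_of_injective _ hinj]
        · simp
        · rw [Finset.disjoint_singleton_right, Finset.mem_image]
          rintro ⟨r, -, hr⟩
          have := natCast_inj_of_lt hchar (hB r) (Nat.zero_le B) (by simpa using hr)
          have := ha1 r; omega
    have h2 : Q.natDegree < n + ε := by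
      have hn : 0 < n := by
        by_contra h
        obtain rfl : n = 0 := by omega
        exact hv0 (funext fun i => i.elim0)
      refine Nat.lt_of_le_of_lt (natDegree_sum_le_of_forall_le _ _ fun s _ => (natDegree_C_mul_le _ _).trans
        (show (descPochhammer k ((s : ℕ) + ε)).natDegree ≤ n - 1 + ε by rw [hdeg]; have := s.isLt; omega)) (by omega)
    have := (Finset.card_le_card hsub).trans ((Multiset.toFinset_card_le _).trans (card_roots' Q))
    omega
  have hall : ∀ (m : ℕ) (s : Fin n), m + (s : ℕ) + 1 = n → v s = 0 := by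
    intro m
    induction m using Nat.strong_induction_on with
    | _ m ih =>
      intro s hs
      have h1 := congrArg (fun q : k[X] => q.coeff ((s : ℕ) + ε)) hQ
      simp only [Q, finsetSum_coeff, coeff_C_mul, coeff_zero] at h1
      rw [Finset.sum_eq_single s (fun t _ hts => ?_) (fun h => absurd (Finset.mem_univ s) h),
        show (descPochhammer k ((s : ℕ) + ε)).coeff ((s : ℕ) + ε) = 1 by
          have := (monic_descPochhammer k ((s : ℕ) + ε)).coeff_natDegree
          rwa [hdeg] at this, mul_one, div_eq_zero_iff] at h1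
      · exact h1.resolve_right (hfac s)
      · rcases lt_or_gt_of_ne hts with h | h
        · rw [coeff_eq_zero_of_natDegree_lt (by rw [hdeg]; exact Nat.add_lt_add_right h ε), mul_zero]
        · rw [ih (n - 1 - (t : ℕ)) (by have : (s : ℕ) < t := h; have := t.isLt; omega) t (by have := t.isLt; omega), zero_div, zero_mul]
  exact hv0 (funext fun s => hall (n - 1 - (s : ℕ)) s (by have := s.isLt; omega))

theorem pos_of_not_multiple {n : ℕ} {φ : Fin (n + 1) → K} (hφ : LinearIndependent k φ) (τ : K →ₐ[k] K)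
    (hτφ : ¬ ∃ y : K, ∀ i, τ (φ i) = y * φ i) : 0 < n := by
  by_contra h
  obtain rfl : n = 0 := by omega
  exact hτφ ⟨τ (φ 0) / φ 0, fun i => by rw [Fin.fin_one_eq_zero i, div_mul_cancel₀ _ (hφ.ne_zero 0)]⟩

theorem not_multiple_scale {n : ℕ} {φ : Fin (n + 1) → K} (τ : K →ₐ[k] K) (hτφ : ¬ ∃ y : K, ∀ i, τ (φ i) = y * φ i)
    {y : K} (hy : y ≠ 0) : ¬ ∃ z : K, ∀ i, τ ((y • φ) i) = z * (y • φ) i := fun ⟨z, hz⟩ => hτφ ⟨z * y / τ y, fun i => by
  have h := hz i
  simp only [Pi.smul_apply, smul_eq_mul, map_mul] at h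
  have hτy : τ y ≠ 0 := (map_ne_zero_iff _ τ.toRingHom.injective).2 hy
  field_simp
  linear_combination h⟩

theorem one_le_orders_at [IsAlgClosed k] (hK : IsFunctionField k K) {n : ℕ} {φ : Fin (n + 1) → K}
    {P : Place k K} (hnorm : ∀ i, P.1 (φ i) ≤ 1) {t : K} (ht : P.1 t = exp (-1)) {Ht : K →ₐ[k] PowerSeries K}
    (hHt : LocRes.IsHasseFamily t Ht) {J' : Fin n → ℕ}
    (hJ' : IsOrders (IsLocalRing.ResidueField P.O) (hcolAt P Ht φ) J') (l : Fin n) : 1 ≤ J' l :=
  ((hcolAt_jump_iff hK ht hHt hnorm _).1 ((hJ'.2 _).1 ⟨l, rfl⟩)).1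

theorem strong_weight [IsAlgClosed k] (hK : IsFunctionField k K) (τ : K →ₐ[k] K) {n : ℕ} {φ : Fin (n + 1) → K}
    (hφ : LinearIndependent k φ) (hτφ : ¬ ∃ y : K, ∀ i, τ (φ i) = y * φ i) {s : K} {H : K →ₐ[k] PowerSeries K}
    (hH : LocRes.IsHasseFamily s H) {J : Fin n → ℕ} (hJ : IsOrders K (hcol τ H φ) J) {P : Place k K}
    (hP : IsStrongFixedPt τ P) : (n : ℤ) ≤ wD hK τ hH φ J P := by
  obtain ⟨y, t, Ht, J', hHt, hy, ht, heff, hnorm, hli, hord, hJ', he⟩ := exists_local hK τ hφ hH hJ P
  rw [he]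
  refine le_trans ?_ (le_wD hK τ hli heff hnorm ht hHt hord hJ' (isFixedPt_of_strong hP)).1
  have hn := pos_of_not_multiple hφ τ hτφ
  have h1 := S12606.result k K hK τ P hP hn (y • φ) hli heff hnorm (not_multiple_scale τ hτφ hy) t ht Ht hHt J hord J' hJ'
  have h2 := one_le_orders_at hK hnorm ht hHt hJ' ⟨0, hn⟩
  calc (n : ℤ) = ∑ _l : Fin n, (1 : ℤ) := by simp
    _ ≤ _ := Finset.sum_le_sum fun l _ => by have := h1 l; omega

theorem strong_count [IsAlgClosed k] (hK : IsFunctionField k K) (τ : K →ₐ[k] K) {n : ℕ} {φ : Fin (n + 1) → K}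
    (hφ : LinearIndependent k φ) (hτφ : ¬ ∃ y : K, ∀ i, τ (φ i) = y * φ i) {s : K} {H : K →ₐ[k] PowerSeries K}
    (hH : LocRes.IsHasseFamily s H) {J : Fin n → ℕ} (hJ : IsOrders K (hcol τ H φ) J) :
    {P : Place k K | IsStrongFixedPt τ P}.Finite ∧
      (n : ℤ) * (Set.ncard {P : Place k K | IsStrongFixedPt τ P} : ℤ) ≤
        ((n : ℤ) + Module.finrank τ.fieldRange K) * (mapDiv k φ).deg + (2 * (genus k K : ℤ) - 2) * ∑ l, (J l : ℤ) := by
  classical
  have hn := pos_of_not_multiple hφ τ hτφ
  have hw := fun P (hP : IsStrongFixedPt τ P) => strong_weight hK τ hφ hτφ hH hJ hP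
  have hfin : {P : Place k K | IsStrongFixedPt τ P}.Finite := (wD hK τ hH φ J).support.finite_toSet.subset fun P hP => by
    have := hw P hP
    simp only [Finset.mem_coe, Finsupp.mem_support_iff]
    omega
  refine ⟨hfin, ?_⟩
  rw [add_comm (n : ℤ), ← deg_wD hK τ hH hφ J, Set.ncard_eq_toFinset_card _ hfin,
    deg_eq_sum _ ((wD hK τ hH φ J).support ∪ hfin.toFinset) Finset.subset_union_left]
  calc (n : ℤ) * (hfin.toFinset.card : ℤ) = ∑ _P ∈ hfin.toFinset, (n : ℤ) := by simp [mul_comm]
    _ ≤ ∑ P ∈ hfin.toFinset, wD hK τ hH φ J P * P.deg := Finset.sum_le_sum fun P hP => by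
        rw [deg_eq_one hK P, Nat.cast_one, mul_one]; exact hw P (hfin.mem_toFinset.1 hP)
    _ ≤ _ := Finset.sum_le_sum_of_subset_of_nonneg Finset.subset_union_right fun P _ _ =>
        mul_nonneg (wD_nonneg hK τ hφ hH hJ P) (Int.natCast_nonneg _)

theorem ord_le_deg [IsAlgClosed k] (hK : IsFunctionField k K) {V : Submodule k K} {E : Divisor k K} (hE : Exact V E)
    (h1 : (1 : K) ∈ V) {P : Place k K} (hP : E P = 0) {f : K} (hf : f ∈ V) (hf0 : f ≠ 0) : P.ord f ≤ E.deg := by
  classical
  have hpos : 0 ≤ E + FunFld.div k f := fun Q => by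
    have := (val_le_exp_iff Q hf0 _).1 (hE.1 f hf Q)
    rw [Finsupp.zero_apply, Finsupp.add_apply, div_apply hK.1]; omega
  have h := deg_eq_sum (E + FunFld.div k f) (insert P (E + FunFld.div k f).support) (Finset.subset_insert _ _)
  rw [deg_add, deg_div hK.1, add_zero] at h
  rw [h, ← Finset.add_sum_erase _ _ (Finset.mem_insert_self P _)]
  have h2 : (E + FunFld.div k f : Divisor k K) P = P.ord f := by rw [Finsupp.add_apply, hP, zero_add, div_apply hK.1]
  rw [h2, deg_eq_one hK P, Nat.cast_one, mul_one]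
  exact le_add_of_nonneg_right (Finset.sum_nonneg fun Q _ => mul_nonneg (hpos Q) (Int.natCast_nonneg _))

end Groth.Agent.FunFldLib
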