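import Groth.Agent.FunFldLib.WStrong
import Groth.Agent.FunFldLib.RR
import Groth.Agent.S12609

/-! Weierstrass points of the canonical map and automorphisms. -/

set_option autoImplicit false

open WithZero

namespace Groth.Agent.FunFldLib

open FunFld

variable {k K : Type*} [Field k] [Field K] [Algebra k K]

/-- pull-back of a place by an automorphism -/
noncomputable def pb (σ : K ≃ₐ[k] K) (P : Place k K) : Place k K :=
  ⟨P.1.comap (σ : K →+* K), fun c => by
    change P.1 (σ (algebraMap k K c)) ≤ 1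
    rw [σ.commutes]; exact P.2.1 c, fun x => by
    obtain ⟨z, hz⟩ := P.2.2 x
    exact ⟨σ.symm z, by
      change P.1 (σ (σ.symm z)) = x
      rw [AlgEquiv.apply_symm_apply]; exact hz⟩⟩

theorem pb_val (σ : K ≃ₐ[k] K) (P : Place k K) (f : K) : (pb σ P).1 f = P.1 (σ f) := rfl

theorem pb_symm (σ : K ≃ₐ[k] K) (P : Place k K) : pb σ (pb σ.symm P) = P :=
  Subtype.ext (Valuation.ext fun f => by
    change P.1 (σ.symm (σ f)) = P.1 f
    rw [AlgEquiv.symm_apply_apply])

theorem pb_inj (σ : K ≃ₐ[k] K) {P Q : Place k K} (h : pb σ P = pb σ Q) : P = Q := by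
  have h' := congrArg (pb σ.symm) h
  have e : ∀ R : Place k K, pb σ.symm (pb σ R) = R := fun R => by
    simpa using pb_symm σ.symm R
  rwa [e, e] at h'

theorem pb_trans (σ τ : K ≃ₐ[k] K) (P : Place k K) : pb τ (pb σ P) = pb (τ.trans σ) P := rfl

theorem isFixedPt_iff_pb [IsAlgClosed k] (hK : IsFunctionField k K) (σ : K ≃ₐ[k] K) (P : Place k K) :
    IsFixedPt (σ : K →ₐ[k] K) P ↔ pb σ P = P := by
  constructor
  · intro h
    exact (eq_of_forall_le_one fun x hx => fixed_int hK h hx).symm
  · intro h z hz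
    have : (pb σ P).1 z < 1 := by rwa [h]
    exact this

/-- a nontrivial automorphism fixes at most `2g + 2` places -/
theorem card_fixed_le [IsAlgClosed k] (hK : IsFunctionField k K) {σ : K ≃ₐ[k] K} (hσ : σ ≠ AlgEquiv.refl) :
    {P : Place k K | IsFixedPt (σ : K →ₐ[k] K) P}.Finite ∧
      Set.ncard {P : Place k K | IsFixedPt (σ : K →ₐ[k] K) P} ≤ 2 * genus k K + 2 := by
  classical
  have hcong : ∀ (P : Place k K) (f : K), IsFixedPt (σ : K →ₐ[k] K) P → P.1 f ≤ 1 → P.1 (f - σ f) < 1 := fun P f hP hf => by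
    obtain ⟨c, hc⟩ := exists_const hK P hf
    have h2 := hP _ hc
    change P.1 (σ (f - algebraMap k K c)) < 1 at h2
    rw [map_sub, σ.commutes] at h2
    rw [show f - σ f = (f - algebraMap k K c) - (σ f - algebraMap k K c) by ring]
    exact (Valuation.map_sub _ _ _).trans_lt (max_lt hc h2)
  obtain ⟨P0, hP0⟩ : ∃ P0 : Place k K, ¬ IsFixedPt (σ : K →ₐ[k] K) P0 := by
    by_contra! hall
    refine hσ (AlgEquiv.ext fun f => ?_)
    by_contra hne
    have hne' : f - σ f ≠ 0 := sub_ne_zero.2 (Ne.symm hne)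
    obtain ⟨P, hP⟩ := exists_place_integral hK ![f, (f - σ f)⁻¹]
    have h1 : P.1 (f - σ f)⁻¹ ≤ 1 := hP 1
    rw [map_inv₀] at h1
    exact absurd (hcong P f (hall P) (hP 0)) (not_lt.2 ((inv_le_one₀ (zero_lt_iff.2 (val_ne_zero P hne'))).1 h1))
  set g := genus k K
  set D : Divisor k K := Finsupp.single P0 ((g + 1 : ℕ) : ℤ) with hD
  haveI := finite_L hK.1 D
  have hell : 2 ≤ ell D := by
    have := delta_le_genus hK D
    simp only [delta, hD, deg_single, deg_eq_one hK P0] at this
    rw [← hD] at this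
    push_cast at this; omega
  obtain ⟨f, hf, hfc⟩ : ∃ f ∈ L D, f ∉ L (0 : Divisor k K) := by
    by_contra! hc
    haveI := (ell_zero hK).1
    have := Submodule.finrank_mono (show L D ≤ L (0 : Divisor k K) from hc)
    have h1 := (ell_zero hK).2
    simp only [ell] at hell h1
    omega
  have hf0 : f ≠ 0 := fun h => hfc (h ▸ zero_mem _)
  have hint : ∀ Q : Place k K, Q ≠ P0 → Q.1 f ≤ 1 := fun Q hQ => by
    have := hf Q; rwa [hD, Finsupp.single_eq_of_ne hQ, exp_zero] at this
  have hpole : 1 < P0.1 f := by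
    by_contra hle
    refine hfc fun Q => ?_
    rw [Finsupp.zero_apply, exp_zero]
    rcases eq_or_ne Q P0 with rfl | hQ
    · exact not_lt.1 hle
    · exact hint Q hQ
  set P1 := pb σ.symm P0 with hP1
  set E : Divisor k K := D + Finsupp.single P1 ((g + 1 : ℕ) : ℤ) with hE
  have hdegE : E.deg = 2 * g + 2 := by
    rw [hE, deg_add, hD, deg_single, deg_single, deg_eq_one hK, deg_eq_one hK]; push_cast; ring
  have hne : f - σ f ≠ 0 := fun h => by
    rw [sub_eq_zero] at h
    have h1 : 1 < (pb σ P0).1 f := by rw [pb_val, ← h]; exact hpole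
    have : pb σ P0 = P0 := by
      by_contra hq
      exact absurd (hint _ hq) (not_le.2 h1)
    exact hP0 ((isFixedPt_iff_pb hK σ P0).2 this)
  have hmem : f - σ f ∈ L E := fun Q => by
    have hE' : D Q ≤ E Q ∧ (if Q = P1 then ((g + 1 : ℕ) : ℤ) else 0) ≤ E Q := by
      rw [hE, Finsupp.add_apply, hD, Finsupp.single_apply, Finsupp.single_apply]
      constructor <;> split_ifs <;> first | omega | (subst_vars; simp_all)
    refine (Valuation.map_sub _ _ _).trans (max_le ((hf Q).trans (exp_le_exp.2 hE'.1)) ?_)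
    rw [← pb_val]
    refine le_trans ?_ (exp_le_exp.2 hE'.2)
    split_ifs with hQ
    · subst hQ
      rw [hP1, pb_symm]
      have := hf P0
      rwa [hD, Finsupp.single_eq_same] at this
    · rw [exp_zero]
      exact hint _ fun h => hQ (by rw [hP1, ← h]; exact pb_inj σ (by rw [pb_symm]))
  have hbound : ∀ s : Finset (Place k K), (∀ P ∈ s, IsFixedPt (σ : K →ₐ[k] K) P) → (s.card : ℤ) ≤ 2 * g + 2 := by
    intro s hs
    have hpos : 0 ≤ E + FunFld.div k (f - σ f) := fun Q => by
      have := (val_le_exp_iff Q hne _).1 (hmem Q)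
      rw [Finsupp.zero_apply, Finsupp.add_apply, div_apply hK.1]; omega
    have hd := deg_eq_sum (E + FunFld.div k (f - σ f)) (s ∪ (E + FunFld.div k (f - σ f)).support) Finset.subset_union_right
    rw [deg_add, deg_div hK.1, add_zero, hdegE] at hd
    rw [hd]
    refine le_trans ?_ (Finset.sum_le_sum_of_subset_of_nonneg Finset.subset_union_left fun Q _ _ =>
      mul_nonneg (hpos Q) (Int.natCast_nonneg _))
    rw [Finset.card_eq_sum_ones, Nat.cast_sum]
    refine Finset.sum_le_sum fun P hP => ?_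
    have hPf := hs P hP
    have hne0 : P ≠ P0 := fun h => hP0 (h ▸ hPf)
    have hne1 : P ≠ P1 := fun h => by
      have h2 := (isFixedPt_iff_pb hK σ P).1 hPf
      rw [h, hP1, pb_symm] at h2
      exact hne0 (h.trans (hP1.trans h2.symm))
    have h1 := (val_lt_one_iff P hne).1 (hcong P f hPf (hint P hne0))
    rw [deg_eq_one hK P, Finsupp.add_apply, div_apply hK.1, hE, Finsupp.add_apply, hD,
      Finsupp.single_eq_of_ne hne0, Finsupp.single_eq_of_ne hne1]
    push_cast; omega
  have hfin : {P : Place k K | IsFixedPt (σ : K →ₐ[k] K) P}.Finite := by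
    by_contra hinf
    obtain ⟨s, hs, hc⟩ := Set.Infinite.exists_subset_card_eq hinf (2 * g + 3)
    have := hbound s fun P hP => hs hP
    omega
  refine ⟨hfin, ?_⟩
  have := hbound hfin.toFinset fun P hP => hfin.mem_toFinset.1 hP
  rw [Set.ncard_eq_toFinset_card _ hfin]
  omega

/-- the canonical system has no base points -/
theorem mapDiv_canonical [IsAlgClosed k] (hK : IsFunctionField k K) (hg : 1 ≤ genus k K) {C : Divisor k K}
    (hC : IsCanonical k K C) {n : ℕ} {φ : Fin (n + 1) → K} (hφ : LinearIndependent k φ)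
    (hspan : Submodule.span k (Set.range φ) = L C) : mapDiv k φ = C := by
  refine exact_unique (hspan ▸ mapDiv_exact hK.1 φ (Or.inl fun i => hφ.ne_zero i)) (exact_L_of_large hK fun Q => ?_)
  have h1 := riemann_roch' hK hC (Finsupp.single Q 1)
  have h2 := (deg_canonical hK hC).2
  have h3 : ell (Finsupp.single Q (1 : ℤ) : Divisor k K) ≤ 1 := by
    by_contra hgt
    obtain ⟨x, hx, hne, hox⟩ := exists_mem_ord_eq hK (deg_eq_one hK Q) 1 (fun he => by
      have : ell (Finsupp.single Q (1 : ℤ)) = ell (Finsupp.single Q ((1 : ℤ) - 1)) := by rw [ell, ell, he]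
      rw [sub_self, Finsupp.single_zero, (ell_zero hK).2] at this
      omega)
    obtain ⟨-, -, -, -, hg0⟩ := exists_simple_pole_of_top hK
      (adjoin_eq_top_of_simple_pole hK (deg_eq_one hK Q) hox fun R hR => ((mem_L_single_iff Q hne 1).1 hx).2 R hR)
    omega
  simp only [delta, deg_single, deg_eq_one hK Q] at h1
  push_cast at h1
  omega

/-- a Weierstrass place: some nonconstant function has its only pole there, of order at most `g` -/
def IsWp (P : Place k K) : Prop := ∃ j : ℕ, 1 ≤ j ∧ j ≤ genus k K ∧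
  L (Finsupp.single P (j : ℤ)) ≠ L (Finsupp.single P ((j : ℤ) - 1))

theorem gap_pb (hK : IsFunctionField k K) (σ : K ≃ₐ[k] K) {P : Place k K} (hP : P.deg = 1) (j : ℕ)
    (h : L (Finsupp.single (pb σ P) (j : ℤ)) ≠ L (Finsupp.single (pb σ P) ((j : ℤ) - 1)))
    (hP' : (pb σ P).deg = 1) : L (Finsupp.single P (j : ℤ)) ≠ L (Finsupp.single P ((j : ℤ) - 1)) := by
  classical
  obtain ⟨x, hx, hne, hox⟩ := exists_mem_ord_eq hK hP' _ h
  intro he
  have hv : ∀ Q : Place k K, Q.ord (σ x) = (pb σ Q).ord x := fun Q => rfl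
  have hne' : σ x ≠ 0 := fun h0 => hne (σ.injective (h0.trans (map_zero σ).symm))
  rw [mem_L_single_iff _ hne] at hx
  have hmem : σ x ∈ L (Finsupp.single P (j : ℤ)) := (mem_L_single_iff P hne' _).2
    ⟨by rw [hv]; exact hx.1, fun Q hQ => by rw [hv]; exact hx.2 _ fun h => hQ (pb_inj σ h)⟩
  rw [he, mem_L_single_iff P hne' _, hv, hox] at hmem
  omega

theorem isWp_pb [IsAlgClosed k] (hK : IsFunctionField k K) (σ : K ≃ₐ[k] K) {P : Place k K} (h : IsWp (pb σ P)) : IsWp P := by
  obtain ⟨j, h1, h2, h3⟩ := h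
  exact ⟨j, h1, h2, gap_pb hK σ (deg_eq_one hK P) j h3 (deg_eq_one hK _)⟩

theorem two_mul_sum_succ (n : ℕ) : 2 * ∑ i ∈ Finset.range n, ((i + 1 : ℕ) : ℤ) = ((n + 1 : ℕ) : ℤ) * n := by
  induction n with
  | zero => simp
  | succ m ih => rw [Finset.sum_range_succ, mul_add, ih]; push_cast; ring

/-- the local weights of the canonical map in the classical range -/
theorem canonical_weights [IsAlgClosed k] (hK : IsFunctionField k K) (hg : 1 < genus k K)
    (hchar : ringChar k = 0 ∨ 2 * genus k K - 2 < ringChar k) {C : Divisor k K} (hC : IsCanonical k K C)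
    {n : ℕ} {φ : Fin (n + 1) → K} (hφ : LinearIndependent k φ) (hspan : Submodule.span k (Set.range φ) = L C)
    {s : K} {H : K →ₐ[k] PowerSeries K} (hH : LocRes.IsHasseFamily s H) {J : Fin n → ℕ}
    (hJ : IsOrders K (hcol (AlgHom.id k K) H φ) J) :
    n + 1 = genus k K ∧ (∀ l, J l = (l : ℕ) + 1) ∧ ∀ P : Place k K,
      (wD hK (AlgHom.id k K) hH φ J P ≠ 0 ↔ IsWp P) ∧
      2 * wD hK (AlgHom.id k K) hH φ J P ≤ (genus k K : ℤ) * (genus k K - 1) ∧
      (2 * wD hK (AlgHom.id k K) hH φ J P = (genus k K : ℤ) * (genus k K - 1) →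
        L (Finsupp.single P (2 : ℤ)) ≠ L (Finsupp.single P (1 : ℤ))) := by
  classical
  have hn : n + 1 = genus k K := by
    have h := (deg_canonical hK hC).2
    rw [ell, ← hspan, finrank_span_eq_card hφ, Fintype.card_fin] at h
    exact_mod_cast h
  have hmC := mapDiv_canonical hK hg.le hC hφ hspan
  have hloc : ∀ P : Place k K, ∃ J' : Fin n → ℕ, StrictMono J' ∧ (∀ l, 1 ≤ J' l) ∧
      (∀ j : ℕ, 1 ≤ j → (j ∈ Set.range J' ↔ L (Finsupp.single P ((j : ℤ) + 1)) = L (Finsupp.single P (j : ℤ)))) ∧
      (∀ l, J l ≤ (l : ℕ) + 1) ∧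
      ((∀ l, J l = (l : ℕ) + 1) → wD hK (AlgHom.id k K) hH φ J P = ∑ l, ((J' l : ℤ) - ((l : ℕ) + 1 : ℕ))) := by
    intro P
    obtain ⟨y, t, Ht, J', hHt, hy, ht, heff, hnorm, hli, hord, hJ', he⟩ := exists_local hK (AlgHom.id k K) hφ hH hJ P
    obtain ⟨hJ1, f, A, hf0, hf, -, -, hA, hAf⟩ := exists_adapted hK hli heff hnorm ht hHt hJ'
    have hjump : ∀ j : ℕ, 1 ≤ j → (j ∈ Set.range J' ↔ L (Finsupp.single P ((j : ℤ) + 1)) = L (Finsupp.single P (j : ℤ))) :=
      fun j hj => (hJ'.2 j).trans (S12609.result k K hK C hC φ hφ hspan P y hy heff hnorm t ht Ht hHt j hj)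
    have hub : ∀ r, J' r ≤ 2 * genus k K - 2 := fun r => by
      obtain ⟨g', hg', hgv⟩ := ((hcolAt_jump_iff hK ht hHt (φ := y • φ) hnorm _).1 ((hJ'.2 _).1 ⟨r, rfl⟩)).2
      have hg0 : g' ≠ 0 := fun h => by rw [h, map_zero] at hgv; exact exp_ne_zero hgv.symm
      have h1 := ord_le_deg hK (mapDiv_exact hK.1 (y • φ) (Or.inl fun i => hli.ne_zero i)) heff
        (mapDiv_normalized hK.1 hli heff hnorm) hg' hg0
      rw [mapDiv_scale hK.1 φ (y • φ) (Or.inl fun i => hφ.ne_zero i) (Or.inl fun i => hli.ne_zero i) hy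
        (span_scale hφ (A := 1) (by rw [Matrix.det_one]; exact one_ne_zero) hy (fun i => by simp [Matrix.one_apply])),
        deg_sub, deg_div hK.1, sub_zero, hmC, (deg_canonical hK hC).1] at h1
      rw [val_eq_exp P hg0, exp_inj, neg_inj] at hgv
      omega
    have hbin := binom_det_ne_zero (k := k) hJ'.1 hJ1 hub hchar (le_refl 1)
    have hI : StrictMono fun s : Fin n => (s : ℕ) + 1 := fun a b h => Nat.add_lt_add_right (show (a : ℕ) < b from h) 1
    have hval := ((wr_core hK (isFixedPt_id P) hf0 ht hHt hJ1 hf hI).2 (Or.inl fun l => Nat.succ_pos _)).2 hbin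
    refine ⟨J', hJ'.1, hJ1, hjump, fun l => ?_, fun heq => ?_⟩
    · refine orders_le (hcol_zero_ne hli _ Ht) hord hI ((det_wrMat_ne_zero_iff _ Ht (y • φ) _).1 fun h0 => ?_) l
      rw [wrMat_basis_change (AlgHom.id k K) Ht (y • φ) f A hAf, mul_eq_zero] at h0
      rcases h0 with h0 | h0
      · exact hA ((map_eq_zero _).1 h0)
      · rw [h0, map_zero] at hval; exact exp_ne_zero hval.symm
    · have hJeq : J = fun l : Fin n => (l : ℕ) + 1 := funext heq
      subst hJeq
      rw [he]
      exact ((le_wD hK _ hli heff hnorm ht hHt hord hJ' (isFixedPt_id P)).2 (Or.inl fun l => Nat.succ_pos _)).2 hbin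
  obtain ⟨P0, -⟩ := exists_place_integral hK φ
  have hJeq : ∀ l, J l = (l : ℕ) + 1 := by
    obtain ⟨J', -, -, -, hle, -⟩ := hloc P0
    intro l
    refine le_antisymm (hle l) ?_
    have hpos := orders_pos_id hH hJ
    have : ∀ (a : ℕ) (ha : a < n), a + 1 ≤ J ⟨a, ha⟩ := by
      intro a
      induction a with
      | zero => exact fun _ => hpos _
      | succ a ih => intro ha; have := hJ.1 (show (⟨a, by omega⟩ : Fin n) < ⟨a + 1, ha⟩ by simp); have := ih (by omega); omega
    exact this l l.isLt
  refine ⟨hn, hJeq, fun P => ?_⟩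
  obtain ⟨J', hmono, hJ1, hjump, -, hW⟩ := hloc P
  have hP1 := deg_eq_one hK P
  have hlower : ∀ (a : ℕ) (ha : a < n), a + 1 ≤ J' ⟨a, ha⟩ := by
    intro a
    induction a with
    | zero => exact fun _ => hJ1 _
    | succ a ih => intro ha; have := hmono (show (⟨a, by omega⟩ : Fin n) < ⟨a + 1, ha⟩ by simp); have := ih (by omega); omega
  -- gap bound
  have hgap : ∀ l, J' l ≤ 2 * ((l : ℕ) + 1) := fun l => by
    have h1 : L (Finsupp.single P ((J' l + 1 : ℕ) : ℤ)) = L (Finsupp.single P (((J' l + 1 : ℕ) : ℤ) - 1)) := by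
      rw [Nat.cast_add, Nat.cast_one, add_sub_cancel_right]; exact (hjump _ (hJ1 l)).1 ⟨l, rfl⟩
    have h2 := gap_pairs hK hP1 (J' l + 1) h1
    rw [Nat.add_sub_cancel] at h2
    have hsub : gapSet P (J' l) ⊆ insert 1 ((fun i => J' i + 1) '' Set.Iio l) := fun m hm => by
      obtain ⟨hm1, hm2, hm3⟩ := hm
      rcases Nat.lt_or_ge m 2 with h | h
      · exact Or.inl (by omega)
      refine Or.inr ?_
      obtain ⟨i, hi⟩ := (hjump (m - 1) (by omega)).2 (by
        rw [show ((m - 1 : ℕ) : ℤ) = (m : ℤ) - 1 by omega, sub_add_cancel]; exact hm3)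
      exact ⟨i, hmono.lt_iff_lt.1 (by omega), by simp only; omega⟩
    have h3 := Set.ncard_le_ncard hsub ((Set.toFinite _).image _ |>.insert 1)
    have h4 : (insert 1 ((fun i => J' i + 1) '' Set.Iio l)).ncard ≤ (l : ℕ) + 1 := by
      refine (Set.ncard_insert_le _ _).trans (Nat.add_le_add_right ((Set.ncard_image_le (Set.toFinite _)).trans ?_) 1)
      rw [Set.ncard_eq_toFinset_card' (Set.Iio l), Set.toFinset_Iio, Fin.card_Iio]
    omega
  rw [hW hJeq]
  have hWle : ∀ l, (J' l : ℤ) - ((l : ℕ) + 1 : ℕ) ≤ ((l : ℕ) + 1 : ℕ) := fun l => by have := hgap l; omega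
  have hWnn : ∀ l, (0 : ℤ) ≤ (J' l : ℤ) - ((l : ℕ) + 1 : ℕ) := fun l => by have := hlower l l.isLt; simp only [Fin.eta] at this; omega
  have hsum : 2 * ∑ l : Fin n, (((l : ℕ) + 1 : ℕ) : ℤ) = (genus k K : ℤ) * (genus k K - 1) := by
    rw [← hn, Fin.sum_univ_eq_sum_range (fun i => ((i + 1 : ℕ) : ℤ)), two_mul_sum_succ]
    push_cast; ring
  refine ⟨?_, ?_, fun heq => ?_⟩
  · rw [Ne, Finset.sum_eq_zero_iff_of_nonneg fun l _ => hWnn l]
    push Not
    constructor
    · rintro ⟨l, -, hl⟩
      by_contra hno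
      simp only [IsWp, not_exists, not_and, Ne, not_not] at hno
      have hsub : Finset.univ.image (fun i : Fin n => (i : ℕ) + 1) ⊆ Finset.univ.image J' := fun j hj => by
        obtain ⟨i, -, rfl⟩ := Finset.mem_image.1 hj
        obtain ⟨i', hi'⟩ := (hjump ((i : ℕ) + 1) (Nat.succ_pos _)).2 (by
          have := hno ((i : ℕ) + 2) (by omega) (by have := i.isLt; omega)
          push_cast at this ⊢
          rw [show (i : ℤ) + 1 + 1 = (i : ℤ) + 2 by ring, show (i : ℤ) + 1 = (i : ℤ) + 2 - 1 by ring]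
          exact this)
        exact Finset.mem_image.2 ⟨i', Finset.mem_univ _, hi'⟩
      have heq2 := Finset.eq_of_subset_of_card_le hsub (by
        rw [Finset.card_image_of_injective _ hmono.injective,
          Finset.card_image_of_injective _ (fun a b h => Fin.ext (by simpa using h))])
      have hJ'' : J' = fun i : Fin n => (i : ℕ) + 1 :=
        (hmono.range_inj (fun a b h => Nat.add_lt_add_right (show (a : ℕ) < b from h) 1)).1 (by
          have := congrArg (fun s : Finset ℕ => (s : Set ℕ)) heq2.symm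
          simpa only [Finset.coe_image, Finset.coe_univ, Set.image_univ] using this)
      exact hl (by rw [hJ'']; simp)
    · rintro ⟨j, hj1, hj2, hj3⟩
      by_contra! hall
      rcases Nat.lt_or_ge j 2 with h | h
      · obtain rfl : j = 1 := by omega
        obtain ⟨x, hx, hne, hox⟩ := exists_mem_ord_eq hK hP1 ((1 : ℕ) : ℤ) hj3
        obtain ⟨-, -, -, -, hg0⟩ := exists_simple_pole_of_top hK
          (adjoin_eq_top_of_simple_pole hK hP1 (by simpa using hox) fun R hR => ((mem_L_single_iff P hne _).1 hx).2 R hR)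
        omega
      · refine hj3 ?_
        have hlt : j - 2 < n := by omega
        have := (hjump (j - 1) (by omega)).1 ⟨⟨j - 2, hlt⟩, by
          have := hall ⟨j - 2, hlt⟩ (Finset.mem_univ _); simp only at this; omega⟩
        rw [show ((j - 1 : ℕ) : ℤ) = (j : ℤ) - 1 by omega, sub_add_cancel] at this
        exact this
  · rw [← hsum]
    exact mul_le_mul_of_nonneg_left (Finset.sum_le_sum fun l _ => hWle l) (by norm_num)
  · rw [← hsum] at heq
    have hn0 : 0 < n := by omega
    have hall := (Finset.sum_eq_sum_iff_of_le fun l _ => hWle l).1 (mul_left_cancel₀ two_ne_zero heq) ⟨0, hn0⟩ (Finset.mem_univ _)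
    intro h2
    obtain ⟨l, hl⟩ := (hjump 1 le_rfl).2 (by simpa [show ((1 : ℤ) + 1) = 2 by norm_num] using h2)
    have := hmono.monotone (show (⟨0, hn0⟩ : Fin n) ≤ l from Nat.zero_le _)
    simp only at hall
    omega

theorem finrank_fieldRange_id : Module.finrank (AlgHom.id k K).fieldRange K = 1 := by
  rw [← finrank_twist]
  have : Twist (AlgHom.id k K) = K := rfl
  exact (Algebra.finrank_eq_of_equiv_equiv (RingEquiv.refl K) (RingEquiv.refl K) (RingHom.ext fun _ => rfl)).trans
    (Module.finrank_self K)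

/-- a degree-two function on a curve of genus at least two generates all the others -/
theorem mem_adjoin_of_deg_two [IsAlgClosed k] (hK : IsFunctionField k K) (hg : 1 < genus k K) {P Q : Place k K} {x y : K}
    (hx : x ∈ L (Finsupp.single P (2 : ℤ))) (hxo : P.ord x = -2)
    (hy : y ∈ L (Finsupp.single Q (2 : ℤ))) (hyo : Q.ord y = -2) :
    y ∈ IntermediateField.adjoin k ({x} : Set K) := by
  classical
  by_contra hmem
  set F := IntermediateField.adjoin k ({x} : Set K)
  have hT := transcendental_of_ord_ne_zero hK (P := P) (x := x) (by omega)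
  set g := genus k K
  set D : Divisor k K := Finsupp.single P ((2 * g : ℕ) : ℤ) + Finsupp.single Q (2 : ℤ) with hD
  haveI := finite_L hK.1 D
  let v : Fin (g + 1) × Fin 2 → K := fun p => x ^ (p.1 : ℕ) * y ^ (p.2 : ℕ)
  have hli : LinearIndependent k v := by
    have h1 : LinearIndependent k fun i : Fin (g + 1) => (⟨x, IntermediateField.mem_adjoin_simple_self k x⟩ : F) ^ (i : ℕ) := by
      exact linearIndependent_pow hT (g + 1)
    have h2 : LinearIndependent F fun i : Fin 2 => y ^ (i : ℕ) := by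
      rw [Fintype.linearIndependent_iff]
      intro c hc
      rw [Fin.sum_univ_two] at hc
      simp only [Fin.val_zero, Fin.val_one, pow_zero, pow_one] at hc
      have hc1 : c 1 = 0 := by
        by_contra h
        refine hmem ?_
        have h' : (c 1 : K) ≠ 0 := fun h0 => h (Subtype.ext h0)
        have hc' : (c 0 : K) + (c 1 : K) * y = 0 := by
          rw [← hc]; simp [Algebra.smul_def]
        have : y = -(c 0 : K) / (c 1 : K) := by field_simp; linear_combination hc'
        rw [this]
        exact div_mem (neg_mem (c 0).2) (c 1).2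
      rw [hc1, zero_smul, add_zero] at hc
      rw [show c 0 • (1 : K) = (c 0 : K) * 1 from rfl, mul_one] at hc
      intro i
      fin_cases i
      · exact Subtype.ext hc
      · exact hc1
    have := linearIndependent_smul h1 h2
    exact this
  have hvmem : ∀ p, v p ∈ L D := fun p R => by
    have hxR := hx R
    have hyR := hy R
    simp only [v, map_mul, map_pow, hD, Finsupp.add_apply, exp_add]
    refine mul_le_mul' ?_ ?_
    · refine (pow_le_pow_left₀ zero_le hxR _).trans ?_
      rw [← exp_nsmul, exp_le_exp, nsmul_eq_mul, Finsupp.single_apply, Finsupp.single_apply]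
      split_ifs
      · push_cast; have := p.1.isLt; omega
      · simp
    · obtain ⟨p1, p2⟩ := p
      fin_cases p2
      · simp only [Finsupp.single_apply, pow_zero, map_one, Fin.isValue]
        rw [← exp_zero, exp_le_exp]; split_ifs <;> simp
      · simpa using hyR
  have hle : Fintype.card (Fin (g + 1) × Fin 2) ≤ ell D := by
    rw [← finrank_span_eq_card hli, ell]
    refine Submodule.finrank_mono (Submodule.span_le.2 ?_)
    rintro _ ⟨p, rfl⟩
    exact hvmem p
  have hlarge := ell_large hK (D := D) (by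
    rw [hD, deg_add, deg_single, deg_single, deg_eq_one hK, deg_eq_one hK]; push_cast; omega)
  rw [hD, deg_add, deg_single, deg_single, deg_eq_one hK, deg_eq_one hK] at hlarge
  simp only [Fintype.card_prod, Fintype.card_fin] at hle
  rw [hD] at hle
  push_cast at hle
  push_cast at hlarge
  omega

/-- Weierstrass points and the kernel of the action on them -/
theorem weierstrass_dichotomy [IsAlgClosed k] (hK : IsFunctionField k K) (hg : 1 < genus k K)
    (hchar : ringChar k = 0 ∨ 2 * genus k K - 2 < ringChar k) {C : Divisor k K} (hC : IsCanonical k K C)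
    {n : ℕ} {φ : Fin (n + 1) → K} (hφ : LinearIndependent k φ) (hspan : Submodule.span k (Set.range φ) = L C)
    {s : K} {H : K →ₐ[k] PowerSeries K} (hH : LocRes.IsHasseFamily s H) {J : Fin n → ℕ}
    (hJ : IsOrders K (hcol (AlgHom.id k K) H φ) J) :
    (2 * genus k K + 2 < Set.ncard {P : Place k K | wD hK (AlgHom.id k K) hH φ J P ≠ 0} ∧
      ∀ σ : K ≃ₐ[k] K, (∀ P : Place k K, wD hK (AlgHom.id k K) hH φ J P ≠ 0 →
        IsFixedPt (σ : K →ₐ[k] K) P) → σ = AlgEquiv.refl) ∨
    (Set.ncard {P : Place k K | wD hK (AlgHom.id k K) hH φ J P ≠ 0} = 2 * genus k K + 2 ∧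
      ∃ x : K, Module.finrank (IntermediateField.adjoin k ({x} : Set K)) K = 2 ∧
        ∀ σ : K ≃ₐ[k] K, (∀ P : Place k K, wD hK (AlgHom.id k K) hH φ J P ≠ 0 →
          IsFixedPt (σ : K →ₐ[k] K) P) ↔ σ x = x) := by
  classical
  obtain ⟨hn, hJeq, hW⟩ := canonical_weights hK hg hchar hC hφ hspan hH hJ
  set W := wD hK (AlgHom.id k K) hH φ J with hWdef
  set g := genus k K with hgdef
  have hdeg : W.deg = ((g : ℤ) - 1) * g * (g + 1) := by
    have h2 : (∑ l, (J l : ℤ)) * 2 = (g : ℤ) * (g - 1) := by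
      simp only [hJeq]
      rw [← hn, Fin.sum_univ_eq_sum_range (fun i => ((i + 1 : ℕ) : ℤ)), mul_comm, two_mul_sum_succ]
      push_cast; ring
    rw [hWdef, deg_wD hK _ hH hφ J, finrank_fieldRange_id, mapDiv_canonical hK hg.le hC hφ hspan, (deg_canonical hK hC).1]
    have hn' : (n : ℤ) = (g : ℤ) - 1 := by omega
    rw [hn', ← hgdef]
    push_cast
    linear_combination ((g : ℤ) - 1) * h2
  have hset : {P : Place k K | W P ≠ 0} = ↑W.support := Set.ext fun P => Finsupp.mem_support_iff.symm
  have hN : ((g : ℤ) - 1) * g * (2 * (g + 1)) ≤ (g : ℤ) * (g - 1) * W.support.card := by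
    rw [mul_comm ((g : ℤ) - 1) (g : ℤ), mul_comm _ (W.support.card : ℤ), mul_comm ((g : ℤ) * _) (2 * _)]
    have : (2 : ℤ) * W.deg ≤ W.support.card * ((g : ℤ) * (g - 1)) := by
      rw [deg_eq_sum W W.support subset_rfl, Finset.mul_sum]
      refine (Finset.sum_le_sum fun P _ => ?_).trans_eq (by rw [Finset.sum_const, nsmul_eq_mul])
      rw [deg_eq_one hK P, Nat.cast_one, mul_one]
      exact (hW P).2.1
    rw [hdeg] at this
    linarith
  have hgpos : (0 : ℤ) < (g : ℤ) * (g - 1) := mul_pos (by omega) (by omega)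
  have hge : 2 * g + 2 ≤ W.support.card := by
    have : (2 * ((g : ℤ) + 1)) ≤ (W.support.card : ℤ) := le_of_mul_le_mul_left (by linarith) hgpos
    omega
  rw [hset, Set.ncard_coe_finset]
  rcases Nat.lt_or_ge (2 * g + 2) W.support.card with hlt | hle
  · refine Or.inl ⟨hlt, fun σ hσ => ?_⟩
    by_contra hne
    obtain ⟨hfin, hcard⟩ := card_fixed_le hK hne
    have hsub : (↑W.support : Set (Place k K)) ⊆ {P | IsFixedPt (σ : K →ₐ[k] K) P} := fun P hP =>
      hσ P (Finsupp.mem_support_iff.1 hP)
    have := Set.ncard_le_ncard hsub hfin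
    rw [Set.ncard_coe_finset] at this
    omega
  have hcardeq : W.support.card = 2 * g + 2 := le_antisymm hle hge
  have hmax : ∀ P ∈ W.support, 2 * W P = (g : ℤ) * (g - 1) := by
    have htot : ∑ P ∈ W.support, 2 * W P = ∑ _P ∈ W.support, (g : ℤ) * (g - 1) := by
      rw [Finset.sum_const, nsmul_eq_mul, hcardeq, ← Finset.mul_sum]
      have h := hdeg
      rw [deg_eq_sum W W.support subset_rfl, Finset.sum_congr rfl fun P _ => by
        rw [deg_eq_one hK P, Nat.cast_one, mul_one]] at h
      rw [h]; push_cast; ring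
    exact (Finset.sum_eq_sum_iff_of_le fun P _ => (hW P).2.1).1 htot
  have htwo : ∀ P ∈ W.support, ∃ x : K, x ∈ L (Finsupp.single P (2 : ℤ)) ∧ x ≠ 0 ∧ P.ord x = -2 := fun P hP =>
    exists_mem_ord_eq hK (deg_eq_one hK P) 2 ((hW P).2.2 (hmax P hP))
  obtain ⟨P, hP⟩ : W.support.Nonempty := Finset.card_pos.1 (by omega)
  obtain ⟨x, hx, hx0, hxo⟩ := htwo P hP
  have hfr : Module.finrank (IntermediateField.adjoin k ({x} : Set K)) K = 2 := by
    have := finrank_eq_of_one_pole hK (by norm_num : (0 : ℤ) < 2) hx hxo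
    rw [deg_eq_one hK P] at this
    exact_mod_cast this
  refine Or.inr ⟨hcardeq, x, hfr, fun σ => ⟨fun hσ => ?_, fun hσ => ?_⟩⟩
  · -- `σ` acts on `L(2P)` affinely and fixes many values
    have hfix := fun Q (hQ : Q ∈ W.support) => (isFixedPt_iff_pb hK σ Q).1 (hσ Q (Finsupp.mem_support_iff.1 hQ))
    have hσx0 : σ x ≠ 0 := fun h => hx0 (σ.injective (h.trans (map_zero σ).symm))
    have hσxm : σ x ∈ L (Finsupp.single P (2 : ℤ)) := (mem_L_single_iff P hσx0 _).2 ⟨by
      have : P.ord (σ x) = (pb σ P).ord x := rfl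
      rw [this, hfix P hP, hxo], fun Q hQ => by
      have : Q.ord (σ x) = (pb σ Q).ord x := rfl
      rw [this]
      exact ((mem_L_single_iff P hx0 _).1 hx).2 _ fun h => hQ (pb_inj σ (h.trans (hfix P hP).symm))⟩
    haveI := finite_L hK.1 (Finsupp.single P (2 : ℤ) : Divisor k K)
    have hxl : LinearIndependent k ![1, x] := by
      refine LinearIndependent.pair_iff.2 fun a b hab => ?_
      rcases eq_or_ne b 0 with rfl | hb
      · simpa using hab
      exfalso
      have : x = algebraMap k K (-a / b) := by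
        rw [map_div₀, map_neg, eq_div_iff ((map_ne_zero _).2 hb)]
        rw [Algebra.smul_def, Algebra.smul_def, mul_one] at hab
        linear_combination hab
      rw [this, ord_algebraMap] at hxo; omega
    have hspan2 : Submodule.span k (Set.range ![1, x]) = L (Finsupp.single P (2 : ℤ)) := by
      refine Submodule.eq_of_le_of_finrank_le (Submodule.span_le.2 ?_) ?_
      · rintro _ ⟨i, rfl⟩
        fin_cases i
        · show (1 : K) ∈ L _
          intro R
          rw [map_one, ← exp_zero, exp_le_exp, Finsupp.single_apply]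
          split_ifs <;> norm_num
        · exact hx
      · rw [finrank_span_eq_card hxl, Fintype.card_fin]
        obtain ⟨-, h1, -⟩ := ell_step hK (deg_eq_one hK P) 2
        obtain ⟨-, h2, -⟩ := ell_step hK (deg_eq_one hK P) 1
        rw [sub_self, Finsupp.single_zero, (ell_zero hK).2] at h2
        norm_num at h1
        have h3 : ell (Finsupp.single P (1 : ℤ) : Divisor k K) ≤ 1 := by
          by_contra hgt
          obtain ⟨z, hz, hne, hoz⟩ := exists_mem_ord_eq hK (deg_eq_one hK P) 1 (fun he => by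
            have : ell (Finsupp.single P (1 : ℤ)) = ell (Finsupp.single P ((1 : ℤ) - 1)) := by rw [ell, ell, he]
            rw [sub_self, Finsupp.single_zero, (ell_zero hK).2] at this
            omega)
          obtain ⟨-, -, -, -, hg0⟩ := exists_simple_pole_of_top hK
            (adjoin_eq_top_of_simple_pole hK (deg_eq_one hK P) hoz fun R hR => ((mem_L_single_iff P hne 1).1 hz).2 R hR)
          omega
        simp only [ell] at h1 h3 ⊢
        omega
    obtain ⟨c, hc⟩ := (Submodule.mem_span_range_iff_exists_fun k).1 (hspan2 ▸ hσxm : σ x ∈ Submodule.span k (Set.range ![1, x]))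
    simp [Fin.sum_univ_two, Algebra.smul_def] at hc
    set others := W.support.erase P
    have hval : ∀ Q ∈ others, ∃ v : k, Q.1 (x - algebraMap k K v) < 1 := fun Q hQ => exists_const hK Q (by
      have := hx Q
      rwa [Finsupp.single_eq_of_ne (Finset.ne_of_mem_erase hQ), exp_zero] at this)
    choose! v hv using hval
    have hrel : ∀ Q ∈ others, v Q = c 0 + c 1 * v Q := fun Q hQ => by
      have hQs := Finset.mem_of_mem_erase hQ
      have h1 : Q.1 (σ x - algebraMap k K (v Q)) < 1 := by
        have : Q.1 (σ (x - algebraMap k K (v Q))) < 1 := by rw [← pb_val, hfix Q hQs]; exact hv Q hQ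
        rwa [map_sub, σ.commutes] at this
      refine const_unique h1 ?_
      rw [← hc, map_add, map_mul, show algebraMap k K (c 0) + algebraMap k K (c 1) * x -
        (algebraMap k K (c 0) + algebraMap k K (c 1) * algebraMap k K (v Q)) =
        algebraMap k K (c 1) * (x - algebraMap k K (v Q)) by ring, map_mul]
      exact (mul_le_of_le_one_left' (Q.2.1 _)).trans_lt (hv Q hQ)
    have hc1 : c 1 = 1 := by
      by_contra hne
      have hall : ∀ Q ∈ others, v Q = c 0 / (1 - c 1) := fun Q hQ => by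
        rw [eq_div_iff (sub_ne_zero.2 (Ne.symm hne))]; linear_combination hrel Q hQ
      have hT := transcendental_of_ord_ne_zero hK (P := P) (x := x) (by omega)
      have hz0 : x - algebraMap k K (c 0 / (1 - c 1)) ≠ 0 := fun h => hT (sub_eq_zero.1 h ▸ isAlgebraic_algebraMap _)
      have hzT : Transcendental k (x - algebraMap k K (c 0 / (1 - c 1))) := fun h => hT (by
        simpa using h.add (isAlgebraic_algebraMap (c 0 / (1 - c 1))))
      have hsum := sum_zeros hK hzT (finite_zeros hK.1 (x - algebraMap k K (c 0 / (1 - c 1)))).toFinset fun Q =>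
        Set.Finite.mem_toFinset _
      rw [adjoin_sub_const, hfr] at hsum
      have hsub : others ⊆ (finite_zeros hK.1 (x - algebraMap k K (c 0 / (1 - c 1)))).toFinset := fun Q hQ => by
        rw [Set.Finite.mem_toFinset]
        exact (val_lt_one_iff Q hz0).1 (hall Q hQ ▸ hv Q hQ)
      have hpos : ∀ Q ∈ (finite_zeros hK.1 (x - algebraMap k K (c 0 / (1 - c 1)))).toFinset,
          (1 : ℤ) ≤ Q.ord (x - algebraMap k K (c 0 / (1 - c 1))) := fun Q hQ => by rw [Set.Finite.mem_toFinset] at hQ; exact hQ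
      have h1 := Finset.card_le_card hsub
      have h2 := Finset.sum_le_sum hpos
      rw [hsum, Finset.sum_const, nsmul_eq_mul, mul_one] at h2
      have h3 : others.card = 2 * g + 1 := by rw [Finset.card_erase_of_mem hP, hcardeq]; omega
      omega
    obtain ⟨Q, hQ⟩ : others.Nonempty := Finset.card_pos.1 (by rw [Finset.card_erase_of_mem hP]; omega)
    have h0 := hrel Q hQ
    rw [hc1, one_mul] at h0
    have hc0 : c 0 = 0 := by linear_combination -h0
    rw [← hc, hc0, hc1]; simp
  · intro Q hQ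
    rw [isFixedPt_iff_pb hK]
    obtain ⟨y, hy, hy0, hyo⟩ := htwo Q (Finsupp.mem_support_iff.2 hQ)
    have hymem := mem_adjoin_of_deg_two hK hg hx hxo hy hyo
    have hσy : σ y = y := by
      clear hy hy0 hyo
      induction hymem using IntermediateField.adjoin_induction with
      | mem z hz => rw [Set.mem_singleton_iff.1 hz]; exact hσ
      | algebraMap c => exact σ.commutes c
      | add a b _ _ ha hb => rw [map_add, ha, hb]
      | inv a _ ha => rw [map_inv₀, ha]
      | mul a b _ _ ha hb => rw [map_mul, ha, hb]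
    by_contra hne
    have h1 := ((mem_L_single_iff Q hy0 _).1 hy).2 _ hne
    have : (pb σ Q).ord y = Q.ord (σ y) := rfl
    rw [this, hσy, hyo] at h1
    omega

/-- a set stable under automorphisms with finite kernel gives finitely many automorphisms -/
theorem finite_aut [IsAlgClosed k] (hK : IsFunctionField k K) (hg : 1 < genus k K)
    (hchar : ringChar k = 0 ∨ 2 * genus k K - 2 < ringChar k) : Finite (K ≃ₐ[k] K) := by
  classical
  obtain ⟨C, hC⟩ := exists_isCanonical hK
  haveI := finite_L hK.1 C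
  have hdim : Module.finrank k (L C) = (genus k K - 1) + 1 := by
    have := (deg_canonical hK hC).2; rw [ell] at this; omega
  let b := Module.finBasisOfFinrankEq k (L C) hdim
  let φ : Fin (genus k K - 1 + 1) → K := fun i => b i
  have hφ : LinearIndependent k φ := b.linearIndependent.map' (L C).subtype (Submodule.ker_subtype _)
  have hspan : Submodule.span k (Set.range φ) = L C := by
    rw [show φ = (L C).subtype ∘ b from rfl, Set.range_comp, Submodule.span_image, b.span_eq, Submodule.map_subtype_top]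
  obtain ⟨s, H, hH⟩ := exists_separating_var hK
  obtain ⟨J, hJ⟩ := exists_orders_hcol hK hφ (AlgHom.id k K) hH
  obtain ⟨-, -, hW⟩ := canonical_weights hK hg hchar hC hφ hspan hH hJ
  set W := wD hK (AlgHom.id k K) hH φ J
  have hstable : ∀ (σ : K ≃ₐ[k] K) (P : Place k K), P ∈ W.support → pb σ P ∈ W.support := fun σ P hP => by
    rw [Finsupp.mem_support_iff, (hW _).1] at hP ⊢
    refine isWp_pb hK σ.symm ?_
    have : pb σ.symm (pb σ P) = P := by simpa using pb_symm σ.symm P
    rwa [this]
  -- the kernel of the action is finite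
  obtain ⟨x, hker⟩ : ∃ x : K, Transcendental k x ∧ ∀ σ : K ≃ₐ[k] K, (∀ P ∈ W.support, pb σ P = P) → σ x = x := by
    rcases weierstrass_dichotomy hK hg hchar hC hφ hspan hH hJ with ⟨-, h⟩ | ⟨-, x, hx2, h⟩
    · obtain ⟨x, hx, -⟩ := hK.1
      refine ⟨x, hx, fun σ hσ => ?_⟩
      rw [h σ fun P hP => (isFixedPt_iff_pb hK σ P).2 (hσ P (Finsupp.mem_support_iff.2 hP))]
      rfl
    · refine ⟨x, fun halg => ?_, fun σ hσ => (h σ).1 fun P hP => (isFixedPt_iff_pb hK σ P).2 (hσ P (Finsupp.mem_support_iff.2 hP))⟩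
      obtain ⟨c, rfl⟩ := hK.2 x halg
      have htop : IntermediateField.adjoin k ({algebraMap k K c} : Set K) = ⊥ :=
        IntermediateField.adjoin_simple_eq_bot_iff.2 (IntermediateField.algebraMap_mem _ c)
      rw [htop, IntermediateField.finrank_bot'] at hx2
      obtain ⟨x', hx', -⟩ := hK.1
      haveI : FiniteDimensional k K := Module.finite_of_finrank_pos (by omega)
      exact hx' (Algebra.IsAlgebraic.isAlgebraic x')
  obtain ⟨hxT, hker⟩ := hker
  set F := IntermediateField.adjoin k ({x} : Set K)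
  haveI : FiniteDimensional F K := finite_adjoin hK.1 hxT
  let act : (K ≃ₐ[k] K) → (W.support → W.support) := fun σ P => ⟨pb σ P.1, hstable σ P.1 P.2⟩
  have hfib : ∀ a, Finite {σ : K ≃ₐ[k] K // act σ = a} := by
    intro a
    by_cases hne : ∃ σ0, act σ0 = a
    swap
    · push Not at hne
      exact @Finite.of_subsingleton _ ⟨fun u => absurd u.2 (hne u.1)⟩
    obtain ⟨σ0, hσ0⟩ := hne
    have hx : ∀ σ, act σ = a → (σ.trans σ0.symm) x = x := fun σ hσ => by
      refine hker _ fun P hP => ?_
      have h1 := congrArg Subtype.val (congrFun (hσ.trans hσ0.symm) ⟨pb σ0.symm P, hstable _ P hP⟩)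
      change pb σ (pb σ0.symm P) = pb σ0 (pb σ0.symm P) at h1
      rw [pb_symm] at h1
      rw [← pb_trans]
      exact h1
    let Ψ : {σ : K ≃ₐ[k] K // act σ = a} → (K →ₐ[F] K) := fun σ =>
      { (σ.1.trans σ0.symm).toAlgHom with
        commutes' := fun f => by
          obtain ⟨f, hf⟩ := f
          change (σ.1.trans σ0.symm) f = f
          induction hf using IntermediateField.adjoin_induction with
          | mem z hz => rw [Set.mem_singleton_iff.1 hz]; exact hx σ.1 σ.2
          | algebraMap c => exact (σ.1.trans σ0.symm).commutes c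
          | add a b _ _ ha hb => rw [map_add, ha, hb]
          | inv a _ ha => rw [map_inv₀, ha]
          | mul a b _ _ ha hb => rw [map_mul, ha, hb] }
    refine Finite.of_injective Ψ fun u v huv => Subtype.ext (AlgEquiv.ext fun z => ?_)
    have := DFunLike.congr_fun huv z
    exact σ0.symm.injective this
  exact Finite.of_equiv _ (Equiv.sigmaFiberEquiv act)

end Groth.Agent.FunFldLib
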